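import Cfsg.Agent.S0493
import Cfsg.Agent.Lib.Cores.Fitting

/-!
Groups of order sixty: simple, or with a normal Sylow 5-subgroup.
-/

set_option autoImplicit false

namespace Cfsg.Agent.Recognition.OrderSixty

theorem isSolvable_of_card_lt {G : Type*} [Group G] [Finite G] (h : Nat.card G < 60) : Group.IsSolvable G := by
  induction hn : Nat.card G using Nat.strong_induction_on generalizing G with
  | _ n ih =>
    subst hn
    rcases subsingleton_or_nontrivial G with hs | hs
    · exact isSolvable_of_comm fun a b => Subsingleton.elim _ _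
    by_cases hsimp : IsSimpleGroup G
    · by_cases hc : IsCyclic G
      · letI := IsCyclic.commGroup (α := G)
        exact isSolvable_of_comm fun a b => mul_comm a b
      · have := S0493.result hc (by omega)
        omega
    · obtain ⟨N, hN, hN0, hN1⟩ : ∃ N : Subgroup G, N.Normal ∧ N ≠ ⊥ ∧ N ≠ ⊤ := by
        by_contra hne
        push Not at hne
        exact hsimp ⟨fun N hN => (em (N = ⊥)).imp id fun h0 => hne N hN h0⟩
      have hmul := Subgroup.card_eq_card_quotient_mul_card_subgroup N
      have h1 : 1 < Nat.card N := (Subgroup.one_lt_card_iff_ne_bot N).2 hN0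
      have h2 : 1 < Nat.card (G ⧸ N) := by
        have h0 : N.index ≠ 0 := Subgroup.index_ne_zero_of_finite
        have h1 : N.index ≠ 1 := fun e => hN1 (Subgroup.index_eq_one.1 e)
        change 1 < N.index
        omega
      haveI : Group.IsSolvable N := ih _ (by nlinarith) (by nlinarith) rfl
      haveI : Group.IsSolvable (G ⧸ N) := ih _ (by nlinarith) (by nlinarith) rfl
      exact solvable_of_ker_le_range N.subtype (QuotientGroup.mk' N) (by simp)

/-- A group of order sixty is simple or has an abelian normal subgroup of index prime to five. -/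
theorem simple_or_exists_abelian {G : Type*} [Group G] [Finite G] (h : Nat.card G = 60) :
    IsSimpleGroup G ∨ ∃ A : Subgroup G, A.Normal ∧ (∀ a ∈ A, ∀ b ∈ A, a * b = b * a) ∧ ¬ 5 ∣ A.index := by
  haveI : Nontrivial G := Finite.one_lt_card_iff_nontrivial.1 (by omega)
  by_cases hsimp : IsSimpleGroup G
  · exact Or.inl hsimp
  right
  obtain ⟨N, hN, hN0, hN1⟩ : ∃ N : Subgroup G, N.Normal ∧ N ≠ ⊥ ∧ N ≠ ⊤ := by
    by_contra hne
    push Not at hne
    exact hsimp ⟨fun N hN => (em (N = ⊥)).imp id fun h0 => hne N hN h0⟩
  have hmul := Subgroup.card_eq_card_quotient_mul_card_subgroup N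
  have h1 : 1 < Nat.card N := (Subgroup.one_lt_card_iff_ne_bot N).2 hN0
  have h2 : 1 < Nat.card (G ⧸ N) := by
    have h0 : N.index ≠ 0 := Subgroup.index_ne_zero_of_finite
    have h1 : N.index ≠ 1 := fun e => hN1 (Subgroup.index_eq_one.1 e)
    change 1 < N.index
    omega
  haveI : Group.IsSolvable N := isSolvable_of_card_lt (by nlinarith)
  haveI : Group.IsSolvable (G ⧸ N) := isSolvable_of_card_lt (by nlinarith)
  haveI : Group.IsSolvable G := solvable_of_ker_le_range N.subtype (QuotientGroup.mk' N) (by simp)
  set F := Cfsg.fittingSubgroup G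
  haveI hFn : F.Normal := Cores.fittingSubgroup_normal
  haveI hFnil : Group.IsNilpotent F := Cores.fittingSubgroup_isNilpotent
  haveI : Fact (Nat.Prime 5) := ⟨by norm_num⟩
  -- a Sylow five subgroup
  obtain ⟨Q, hQ⟩ := Sylow.exists_subgroup_card_pow_prime (G := G) 5 (n := 1) (by rw [h]; norm_num)
  rw [pow_one] at hQ
  have hmem : ∀ y : G, orderOf y = 5 → y ∈ F := by
    intro y hy
    by_contra hyF
    have h5 : ¬ 5 ∣ Nat.card F := by
      intro hd
      obtain ⟨P⟩ : Nonempty (Sylow 5 F) := inferInstance
      haveI hPn : (P : Subgroup F).Normal := inferInstance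
      haveI : (P : Subgroup F).Characteristic := P.characteristic_of_normal hPn
      haveI hQn : ((P : Subgroup F).map F.subtype).Normal := ConjAct.normal_of_characteristic_of_normal
      set P' := (P : Subgroup F).map F.subtype
      have hPc : 5 ∣ Nat.card P' := by
        rw [Subgroup.card_map_of_injective F.subtype_injective]
        exact P.dvd_card_of_dvd_card hd
      apply hyF
      refine (Subgroup.map_subtype_le _ : P' ≤ F) ((QuotientGroup.eq_one_iff y).1 ?_)
      rw [← orderOf_eq_one_iff]
      refine Nat.eq_one_of_dvd_coprimes (show Nat.Coprime 5 12 by norm_num)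
        (by have := orderOf_map_dvd (QuotientGroup.mk' P') y; rwa [hy] at this) ((orderOf_dvd_natCard _).trans ?_)
      obtain ⟨c, hc⟩ := hPc
      refine ⟨c, ?_⟩
      have hm := Subgroup.card_eq_card_quotient_mul_card_subgroup P'
      rw [h, hc] at hm
      linarith
    apply hyF
    apply Cores.centralizer_fittingSubgroup_le (G := G)
    -- `y` fixes each Sylow subgroup of `F`
    set C := (Subgroup.centralizer ({y} : Set G)).subgroupOf F with hC
    suffices hCtop : C = ⊤ by
      refine Subgroup.mem_centralizer_iff.2 fun f hf => ?_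
      have : (⟨f, hf⟩ : F) ∈ C := hCtop ▸ Subgroup.mem_top _
      exact (Subgroup.mem_centralizer_singleton_iff.1 this)
    refine Subgroup.eq_top_of_card_eq _ (Nat.dvd_antisymm (Subgroup.card_subgroup_dvd_card _) ?_)
    have hsub : ∀ r k : ℕ, r.Prime → r ^ k ∣ Nat.card F → r ^ k ∣ Nat.card C := by
      intro r k hr hd
      haveI := Fact.mk hr
      obtain ⟨R⟩ : Nonempty (Sylow r F) := inferInstance
      haveI hRn : (R : Subgroup F).Normal := inferInstance
      haveI : (R : Subgroup F).Characteristic := R.characteristic_of_normal hRn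
      haveI hRn' : ((R : Subgroup F).map F.subtype).Normal := ConjAct.normal_of_characteristic_of_normal
      set R' := (R : Subgroup F).map F.subtype
      have hR' : Nat.card R' = Nat.card R := Subgroup.card_map_of_injective F.subtype_injective
      have hlt : Nat.card R < 5 := by
        obtain ⟨j, hj⟩ := IsPGroup.iff_card.1 R.isPGroup'
        have hd60 : Nat.card F ∣ 12 := by
          have h60 : Nat.card F ∣ 5 * 12 := by have := Subgroup.card_subgroup_dvd_card F; rwa [h] at this
          exact (((Nat.Prime.coprime_iff_not_dvd (show Nat.Prime 5 by norm_num)).2 h5).symm).dvd_of_dvd_mul_left h60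
        have h12 : r ^ j ∣ 12 := hj ▸ (Subgroup.card_subgroup_dvd_card (R : Subgroup F)).trans hd60
        have hle : r ^ j ≤ 12 := Nat.le_of_dvd (by norm_num) h12
        rw [hj]
        by_contra hge
        push Not at hge
        have hmem : r ^ j = 6 ∨ r ^ j = 12 := by
          have : r ^ j ∈ Nat.divisors 12 := Nat.mem_divisors.2 ⟨h12, by norm_num⟩
          rw [show Nat.divisors 12 = {1, 2, 3, 4, 6, 12} from by decide] at this
          simp only [Finset.mem_insert, Finset.mem_singleton] at this
          omega
        have h2 : 2 ∣ r := (show Nat.Prime 2 by norm_num).dvd_of_dvd_pow (n := j) (by rcases hmem with e | e <;> rw [e] <;> norm_num)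
        have h3 : 3 ∣ r := (show Nat.Prime 3 by norm_num).dvd_of_dvd_pow (n := j) (by rcases hmem with e | e <;> rw [e] <;> norm_num)
        have e2 := (Nat.prime_dvd_prime_iff_eq (by norm_num) hr).1 h2
        have e3 := (Nat.prime_dvd_prime_iff_eq (by norm_num) hr).1 h3
        omega
      have hfix : ∀ x ∈ R', y * x * y⁻¹ = x := by
        intro x hx
        letI : MulAction (Subgroup.zpowers y) R' :=
          MulAction.compHom R' ((MulAut.conjNormal (H := R')).comp (Subgroup.zpowers y).subtype)
        have hp5 : IsPGroup 5 (Subgroup.zpowers y) := IsPGroup.of_card (n := 1) (by rw [Nat.card_zpowers, hy, pow_one])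
        obtain ⟨j, hj⟩ := hp5.card_orbit (⟨x, hx⟩ : R')
        have hle : Nat.card (MulAction.orbit (Subgroup.zpowers y) (⟨x, hx⟩ : R')) ≤ Nat.card R' :=
          Nat.card_le_card_of_injective _ Subtype.val_injective
        have hj0 : j = 0 := by
          by_contra hj0
          have : 5 ≤ 5 ^ j := Nat.le_self_pow hj0 5
          omega
        rw [hj0, pow_zero, Nat.card_eq_one_iff_unique] at hj
        have := hj.1.elim ⟨_, MulAction.mem_orbit (⟨x, hx⟩ : R') (⟨y, Subgroup.mem_zpowers y⟩ : Subgroup.zpowers y)⟩
          ⟨_, MulAction.mem_orbit_self _⟩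
        exact congrArg Subtype.val (congrArg Subtype.val this)
      have hRC : (R : Subgroup F) ≤ C := by
        intro x hx
        rw [hC, Subgroup.mem_subgroupOf, Subgroup.mem_centralizer_singleton_iff]
        exact (mul_inv_eq_iff_eq_mul.1 (hfix x ⟨x, hx, rfl⟩)).symm
      exact (R.pow_dvd_card_of_pow_dvd_card hd).trans (Subgroup.card_dvd_of_le hRC)
    exact (Nat.dvd_iff_prime_pow_dvd_dvd _ _).2 hsub
  haveI : Fintype G := Fintype.ofFinite G
  obtain ⟨y, hy⟩ := exists_prime_orderOf_dvd_card' (G := G) 5 (by rw [h]; norm_num)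
  have hyF := hmem y hy
  obtain ⟨P⟩ : Nonempty (Sylow 5 F) := inferInstance
  haveI hPn : (P : Subgroup F).Normal := inferInstance
  haveI : (P : Subgroup F).Characteristic := P.characteristic_of_normal hPn
  haveI hQn : ((P : Subgroup F).map F.subtype).Normal := ConjAct.normal_of_characteristic_of_normal
  set P' := (P : Subgroup F).map F.subtype
  obtain ⟨k, hk⟩ := IsPGroup.iff_card.1 P.isPGroup'
  have h5d : 5 ∣ Nat.card F := by
    have := orderOf_dvd_natCard (⟨y, hyF⟩ : F)
    rwa [Subgroup.orderOf_mk, hy] at this
  have hk1 : 5 ∣ Nat.card P := P.dvd_card_of_dvd_card h5d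
  have hk2 : Nat.card P ∣ 60 := h ▸ (Subgroup.card_subgroup_dvd_card (P : Subgroup F)).trans (Subgroup.card_subgroup_dvd_card F)
  have hPc : Nat.card P' = 5 := by
    rw [Subgroup.card_map_of_injective F.subtype_injective]
    rw [hk] at hk1 hk2 ⊢
    match k with
    | 0 => omega
    | 1 => rfl
    | k + 2 =>
      exfalso
      have : 25 ∣ 60 := (Nat.pow_dvd_pow 5 (show 2 ≤ k + 2 by omega)).trans hk2
      norm_num at this
  refine ⟨P', hQn, ?_, ?_⟩
  · haveI : IsCyclic P' := isCyclic_of_prime_card hPc
    letI := IsCyclic.commGroup (α := P')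
    exact fun a ha b hb => congrArg Subtype.val (mul_comm (⟨a, ha⟩ : P') ⟨b, hb⟩)
  · have hm := Subgroup.card_mul_index P'
    rw [hPc, h] at hm
    omega

end Cfsg.Agent.Recognition.OrderSixty
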