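import Mathlib

/-!
Orders of two by two matrices over a finite field of odd order, modulo scalars.
-/

set_option autoImplicit false

namespace Cfsg.Agent.Recognition.TwoByTwo

open Matrix

universe u

variable {F : Type u} [Field F]

theorem cayley_two (M : Matrix (Fin 2) (Fin 2) F) :
    M * M = (M 0 0 + M 1 1) • M - M.det • 1 := by
  rw [Matrix.det_fin_two]
  ext i j
  fin_cases i <;> fin_cases j <;> simp [Matrix.mul_apply, Fin.sum_univ_two] <;> ring

/-- A matrix over a field of odd order `q` satisfies one of three power identities. -/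
theorem pow_cases [Fintype F] {p n : ℕ} [Fact p.Prime] [CharP F p] (hq : Fintype.card F = p ^ n)
    (hp2 : p ≠ 2) (M : Matrix (Fin 2) (Fin 2) F) :
    M ^ (p ^ n) = M ∨ M ^ (p ^ n) = (M 0 0 + M 1 1) • 1 - M ∨
      ∃ c : F, M ^ p = c • 1 := by
  classical
  set T := M 0 0 + M 1 1 with hT
  set d := T ^ 2 - 4 * M.det with hd
  have hN2 : ((2 : F) • M - T • 1) ^ 2 = d • 1 := by
    rw [pow_two, Matrix.sub_mul, Matrix.mul_sub, Matrix.mul_sub, Matrix.smul_mul, Matrix.mul_smul,
      Matrix.smul_mul, Matrix.mul_smul, Matrix.mul_one, Matrix.smul_mul, Matrix.one_mul,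
      Matrix.smul_mul, Matrix.one_mul, cayley_two, ← hT]
    simp only [hd]
    module
  have h2 : (2 : F) ≠ 0 := by
    intro h
    have : p ∣ 2 := (CharP.cast_eq_zero_iff F p 2).1 (by exact_mod_cast h)
    exact hp2 ((Nat.prime_dvd_prime_iff_eq Fact.out Nat.prime_two).1 this)
  have hcomm : Commute ((2 : F) • M) (T • (1 : Matrix (Fin 2) (Fin 2) F)) :=
    (Commute.one_right _).smul_right T
  haveI : CharP (Matrix (Fin 2) (Fin 2) F) p := inferInstance
  haveI : ExpChar (Matrix (Fin 2) (Fin 2) F) p := ExpChar.prime Fact.out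
  by_cases h0 : d = 0
  · refine Or.inr (Or.inr ⟨(2 : F)⁻¹ ^ p * T ^ p, ?_⟩)
    have hz : ((2 : F) • M - T • 1) ^ p = 0 := by
      obtain ⟨m, hm⟩ := Nat.exists_eq_add_of_le (Fact.out : p.Prime).two_le
      rw [hm, pow_add, hN2, h0, zero_smul, zero_mul]
    rw [sub_pow_char_of_commute p hcomm, _root_.smul_pow, _root_.smul_pow, one_pow, sub_eq_zero] at hz
    rw [mul_smul, ← hz, smul_smul, ← mul_pow, inv_mul_cancel₀ h2, one_pow, one_smul]
  · have hodd : Odd (p ^ n) := ((Fact.out : p.Prime).odd_of_ne_two hp2).pow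
    obtain ⟨k, hk⟩ := hodd
    have hz : ((2 : F) • M - T • 1) ^ (p ^ n) = d ^ k • ((2 : F) • M - T • 1) := by
      rw [hk, pow_succ, pow_mul, hN2, _root_.smul_pow, one_pow, Matrix.smul_mul, Matrix.one_mul]
    rw [sub_pow_char_pow_of_commute p n hcomm, _root_.smul_pow, _root_.smul_pow, one_pow, ← hq,
      FiniteField.pow_card, FiniteField.pow_card, hq] at hz
    have he : d ^ k = 1 ∨ d ^ k = -1 := by
      have h1 : (d ^ k) ^ 2 = 1 := by
        have := FiniteField.pow_card_sub_one_eq_one d h0
        rw [hq, hk, Nat.add_sub_cancel] at this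
        rwa [← pow_mul, mul_comm k 2]
      have h1' : (d ^ k - 1) * (d ^ k + 1) = 0 := by linear_combination h1
      rcases mul_eq_zero.1 h1' with h | h
      · exact Or.inl (sub_eq_zero.1 h)
      · exact Or.inr (eq_neg_of_add_eq_zero_left h)
    rcases he with he | he
    · refine Or.inl ?_
      rw [he, one_smul, sub_left_inj] at hz
      exact smul_right_injective _ h2 hz
    · refine Or.inr (Or.inl ?_)
      rw [he, neg_smul, one_smul] at hz
      apply smul_right_injective _ h2
      show (2 : F) • M ^ p ^ n = (2 : F) • (T • 1 - M)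
      rw [sub_eq_iff_eq_add] at hz
      rw [hz]
      module

theorem isScalar_pow [Fintype F] {p n : ℕ} [Fact p.Prime] [CharP F p]
    (hq : Fintype.card F = p ^ n) (hp2 : p ≠ 2) (M : Matrix (Fin 2) (Fin 2) F) (hM : M.det ≠ 0) :
    (∃ c : F, M ^ (p ^ n - 1) = c • 1) ∨ (∃ c : F, M ^ (p ^ n + 1) = c • 1) ∨
      ∃ c : F, M ^ p = c • 1 := by
  have hu : IsUnit M := (Matrix.isUnit_iff_isUnit_det M).2 (Ne.isUnit hM)
  have hpos : 1 ≤ p ^ n := Nat.one_le_pow _ _ (Fact.out : p.Prime).pos
  rcases pow_cases hq hp2 M with h | h | h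
  · refine Or.inl ⟨1, ?_⟩
    have h' : M ^ (p ^ n - 1) * M = 1 * M := by
      rw [← pow_succ, Nat.sub_add_cancel hpos, h, one_mul]
    rw [hu.mul_right_cancel h', one_smul]
  · refine Or.inr (Or.inl ⟨M.det, ?_⟩)
    rw [pow_succ, h, Matrix.sub_mul, Matrix.smul_mul, Matrix.one_mul, cayley_two]
    module
  · exact Or.inr (Or.inr h)

/-- The matrix `a + J` with `J ^ 2 = d`. -/
def torusMat (a d : F) : Matrix (Fin 2) (Fin 2) F := !![a, d; 1, a]

/-- Its powers, compared with the powers of `a + s` in an extension field. -/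
theorem torusMat_pow {K : Type*} [Field K] (ι : F →+* K) (a d : F) (s : K) (hs : s ^ 2 = ι d)
    (k : ℕ) : ∃ A B : F, torusMat a d ^ k = !![A, d * B; B, A] ∧
      (ι a + s) ^ k = ι A + ι B * s ∧ (ι a - s) ^ k = ι A - ι B * s := by
  induction k with
  | zero => exact ⟨1, 0, by simp [Matrix.one_fin_two], by simp, by simp⟩
  | succ k ih =>
    obtain ⟨A, B, hM, h1, h2⟩ := ih
    refine ⟨A * a + d * B, A + B * a, ?_, ?_, ?_⟩
    · rw [pow_succ, hM, torusMat]
      ext i j
      fin_cases i <;> fin_cases j <;> simp [Matrix.mul_apply, Fin.sum_univ_two] <;> ring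
    · rw [pow_succ, h1, map_add, map_mul, map_mul, map_add, map_mul]
      linear_combination ι B * hs
    · rw [pow_succ, h2, map_add, map_mul, map_mul, map_add, map_mul]
      linear_combination ι B * hs

/-- Powers of the torus matrix are scalar exactly when the conjugate powers agree. -/
theorem torusMat_pow_scalar_iff {K : Type*} [Field K] (ι : F →+* K) (a d : F) (s : K)
    (hs : s ^ 2 = ι d) (hs0 : s ≠ 0) (h2 : (2 : F) ≠ 0) (k : ℕ) :
    (∃ c : F, torusMat a d ^ k = c • 1) ↔ (ι a + s) ^ k = (ι a - s) ^ k := by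
  obtain ⟨A, B, hM, h1, h2'⟩ := torusMat_pow ι a d s hs k
  rw [hM, h1, h2']
  constructor
  · rintro ⟨c, hc⟩
    have hB : B = 0 := by simpa using congrFun (congrFun hc 1) 0
    simp [hB]
  · intro h
    have h' : ι 2 * (ι B * s) = 0 := by rw [map_ofNat]; linear_combination h
    have hB : B = 0 := by
      rw [← map_eq_zero ι]
      exact (mul_eq_zero.1 ((mul_eq_zero.1 h').resolve_left ((map_ne_zero ι).2 h2))).resolve_right hs0
    refine ⟨A, ?_⟩
    rw [hB]
    ext i j
    fin_cases i <;> fin_cases j <;> simp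

/-- Roots of unity in the algebraic closure. -/
theorem exists_orderOf_eq [Fintype F] {p n : ℕ} [Fact p.Prime] [CharP F p]
    (hq : Fintype.card F = p ^ n) {m : ℕ} (hm : m ∣ p ^ n * p ^ n - 1) (hn : 0 < n) :
    ∃ w : AlgebraicClosure F, orderOf w = m := by
  haveI : NeZero ((m : ℕ) : AlgebraicClosure F) := ⟨by
    haveI : CharP (AlgebraicClosure F) p := charP_of_injective_algebraMap
      (FaithfulSMul.algebraMap_injective F (AlgebraicClosure F)) p
    rw [Ne, CharP.cast_eq_zero_iff (AlgebraicClosure F) p]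
    intro h
    have hdp : p ∣ p ^ n * p ^ n := (dvd_pow_self p hn.ne').mul_right _
    have h1 : p ∣ p ^ n * p ^ n - (p ^ n * p ^ n - 1) := Nat.dvd_sub hdp (h.trans hm)
    have hpos : 1 ≤ p ^ n * p ^ n := Nat.mul_pos (Nat.pow_pos (Fact.out : p.Prime).pos)
      (Nat.pow_pos (Fact.out : p.Prime).pos)
    rw [Nat.sub_sub_self hpos] at h1
    exact (Fact.out : p.Prime).not_dvd_one h1⟩
  obtain ⟨w, hw⟩ := HasEnoughRootsOfUnity.exists_primitiveRoot (AlgebraicClosure F) m
  exact ⟨w, hw.eq_orderOf.symm⟩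

/-- An element fixed by the Frobenius map lies in the base field. -/
theorem mem_range_of_pow_card [Fintype F] (x : AlgebraicClosure F) (hx : x ^ Fintype.card F = x) :
    ∃ a : F, algebraMap F (AlgebraicClosure F) a = x := by
  classical
  set ι := algebraMap F (AlgebraicClosure F)
  by_contra hno
  push Not at hno
  have hq : 1 < Fintype.card F := Fintype.one_lt_card
  have hne : (Polynomial.X ^ Fintype.card F - Polynomial.X : Polynomial (AlgebraicClosure F)) ≠ 0 :=
    FiniteField.X_pow_card_sub_X_ne_zero _ hq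
  have hsub : insert x ((Finset.univ : Finset F).image ι) ⊆
      (Polynomial.X ^ Fintype.card F - Polynomial.X : Polynomial (AlgebraicClosure F)).roots.toFinset := by
    intro y hy
    rw [Multiset.mem_toFinset, Polynomial.mem_roots hne]
    simp only [Polynomial.IsRoot, Polynomial.eval_sub, Polynomial.eval_pow, Polynomial.eval_X, sub_eq_zero]
    rcases Finset.mem_insert.1 hy with rfl | hy
    · exact hx
    · obtain ⟨a, -, rfl⟩ := Finset.mem_image.1 hy
      rw [← map_pow, FiniteField.pow_card]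
  have h1 := (Finset.card_le_card hsub).trans ((Multiset.toFinset_card_le _).trans
    (Polynomial.card_roots' _))
  rw [FiniteField.X_pow_card_sub_X_natDegree_eq _ hq, Finset.card_insert_of_notMem,
    Finset.card_image_of_injective _ ι.injective, Finset.card_univ] at h1
  · omega
  · intro h
    obtain ⟨a, -, ha⟩ := Finset.mem_image.1 h
    exact hno a ha

end Cfsg.Agent.Recognition.TwoByTwo
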