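import Mathlib
import Cfsg.Agent.Recognition.TwoByTwo

/-!
Element orders of `GL(2, F)` modulo its center, in odd characteristic.
-/

set_option autoImplicit false

namespace Cfsg.Agent.Recognition.PGL2Orders

open Matrix Cfsg.Agent.Recognition.TwoByTwo

universe u

variable {F : Type u} [Field F]

theorem mk_eq_one_iff (g : GL (Fin 2) F) :
    (QuotientGroup.mk g : GL (Fin 2) F ⧸ Subgroup.center (GL (Fin 2) F)) = 1 ↔
      ∃ c : F, (g : Matrix (Fin 2) (Fin 2) F) = c • 1 := by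
  rw [QuotientGroup.eq_one_iff, Matrix.GeneralLinearGroup.mem_center_iff_val_mem_range_scalar]
  constructor
  · rintro ⟨c, hc⟩
    exact ⟨c, by rw [← hc, Matrix.scalar_apply, Matrix.smul_one_eq_diagonal]⟩
  · rintro ⟨c, hc⟩
    exact ⟨c, by rw [hc, Matrix.scalar_apply, Matrix.smul_one_eq_diagonal]⟩

theorem orderOf_dvd_iff_scalar (g : GL (Fin 2) F) (k : ℕ) :
    orderOf (QuotientGroup.mk g : GL (Fin 2) F ⧸ Subgroup.center (GL (Fin 2) F)) ∣ k ↔
      ∃ c : F, (g : Matrix (Fin 2) (Fin 2) F) ^ k = c • 1 := by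
  rw [orderOf_dvd_iff_pow_eq_one, ← QuotientGroup.mk_pow, mk_eq_one_iff, Units.val_pow_eq_pow_val]

theorem exists_of_scalar_iff (M : Matrix (Fin 2) (Fin 2) F) (hM : M.det ≠ 0) {m : ℕ}
    (h : ∀ k : ℕ, (∃ c : F, M ^ k = c • 1) ↔ m ∣ k) :
    ∃ x : GL (Fin 2) F ⧸ Subgroup.center (GL (Fin 2) F), orderOf x = m := by
  obtain ⟨g, hg⟩ := (Matrix.isUnit_iff_isUnit_det M).2 (Ne.isUnit hM)
  refine ⟨QuotientGroup.mk g, Nat.dvd_antisymm ?_ ?_⟩
  · rw [orderOf_dvd_iff_scalar, hg, h]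
  · rw [← h, ← hg, ← orderOf_dvd_iff_scalar]

theorem orderOf_cases [Fintype F] {p n : ℕ} [Fact p.Prime] [CharP F p]
    (hq : Fintype.card F = p ^ n) (hp2 : p ≠ 2)
    (x : GL (Fin 2) F ⧸ Subgroup.center (GL (Fin 2) F)) :
    orderOf x ∣ p ^ n - 1 ∨ orderOf x ∣ p ^ n + 1 ∨ orderOf x = p := by
  obtain ⟨g, rfl⟩ := QuotientGroup.mk_surjective x
  have hd : ((g : Matrix (Fin 2) (Fin 2) F)).det ≠ 0 :=
    ((Matrix.isUnit_iff_isUnit_det _).1 g.isUnit).ne_zero
  rcases isScalar_pow hq hp2 (g : Matrix (Fin 2) (Fin 2) F) hd with h | h | h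
  · exact Or.inl ((orderOf_dvd_iff_scalar g _).2 h)
  · exact Or.inr (Or.inl ((orderOf_dvd_iff_scalar g _).2 h))
  · rcases (Nat.dvd_prime Fact.out).1 ((orderOf_dvd_iff_scalar g _).2 h) with h' | h'
    · exact Or.inl (h'.dvd.trans (one_dvd _))
    · exact Or.inr (Or.inr h')

theorem exists_split [Fintype F] :
    ∃ x : GL (Fin 2) F ⧸ Subgroup.center (GL (Fin 2) F), orderOf x = Fintype.card F - 1 := by
  classical
  obtain ⟨ζ, hζ⟩ := IsCyclic.exists_ofOrder_eq_natCard (α := Fˣ)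
  rw [Nat.card_eq_fintype_card, Fintype.card_units] at hζ
  refine exists_of_scalar_iff !![(ζ : F), 0; 0, 1] (by simp [Matrix.det_fin_two]) fun k => ?_
  have hk : (!![(ζ : F), 0; 0, 1]) ^ k = !![(ζ : F) ^ k, 0; 0, 1] := by
    induction k with
    | zero => simp [Matrix.one_fin_two]
    | succ k ih =>
      rw [pow_succ, ih, pow_succ]
      ext i j
      fin_cases i <;> fin_cases j <;> simp [Matrix.mul_apply, Fin.sum_univ_two]
  rw [hk, ← hζ, orderOf_dvd_iff_pow_eq_one]
  constructor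
  · rintro ⟨c, hc⟩
    have h00 := congrFun (congrFun hc 0) 0
    have h11 := congrFun (congrFun hc 1) 1
    simp at h00 h11
    apply Units.ext
    rw [Units.val_pow_eq_pow_val, Units.val_one, h00, ← h11]
  · intro h
    refine ⟨1, ?_⟩
    have h' : (ζ : F) ^ k = 1 := by rw [← Units.val_pow_eq_pow_val, h, Units.val_one]
    rw [h', one_smul, Matrix.one_fin_two]

/-- Parameters of a non-split torus generated by a root of unity `w` with `w ^ q = w'`. -/
theorem exists_torus_param [Fintype F] {p n : ℕ} [Fact p.Prime] [CharP F p]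
    (hq : Fintype.card F = p ^ n) (hn : 0 < n) (hp2 : p ≠ 2)
    (w : AlgebraicClosure F) (hw : orderOf w = p ^ n * p ^ n - 1) :
    ∃ (a d : F) (s : AlgebraicClosure F), s ^ 2 = algebraMap F (AlgebraicClosure F) d ∧ s ≠ 0 ∧
      algebraMap F (AlgebraicClosure F) a + s = w ∧
      algebraMap F (AlgebraicClosure F) a - s = w ^ (p ^ n) := by
  haveI : CharP (AlgebraicClosure F) p := charP_of_injective_algebraMap
    (FaithfulSMul.algebraMap_injective F (AlgebraicClosure F)) p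
  haveI : ExpChar (AlgebraicClosure F) p := ExpChar.prime Fact.out
  have hP : p.Prime := Fact.out
  have h3 : 3 ≤ p ^ n := le_trans (by have := hP.two_le; omega) (Nat.le_self_pow hn.ne' p)
  have h2F : (2 : F) ≠ 0 := by
    intro h
    have : p ∣ 2 := (CharP.cast_eq_zero_iff F p 2).1 (by exact_mod_cast h)
    exact hp2 ((Nat.prime_dvd_prime_iff_eq hP Nat.prime_two).1 this)
  have h2K : (2 : AlgebraicClosure F) ≠ 0 := by
    rw [← map_ofNat (algebraMap F (AlgebraicClosure F)) 2]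
    exact (map_ne_zero _).2 h2F
  have hpos : 1 ≤ p ^ n * p ^ n := le_trans (by omega) (Nat.le_mul_self _)
  have hw0 : w ≠ 0 := by
    intro h
    have h1 := pow_orderOf_eq_one w
    rw [hw, h, zero_pow (by have := Nat.le_mul_self (p ^ n); nlinarith [Nat.sub_add_cancel hpos])]
      at h1
    exact zero_ne_one h1
  have hww : (w ^ p ^ n) ^ p ^ n = w := by
    rw [← pow_mul]
    conv_lhs => rw [← Nat.sub_add_cancel hpos, pow_succ, ← hw, pow_orderOf_eq_one, one_mul]
  set w' := w ^ p ^ n with hw'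
  have hne : w ≠ w' := by
    intro h
    have h1 : w ^ (p ^ n - 1) = 1 := by
      apply mul_right_cancel₀ hw0
      rw [← pow_succ, Nat.sub_add_cancel (by omega), one_mul, ← hw', ← h]
    have h2 := Nat.le_of_dvd (by omega) (orderOf_dvd_of_pow_eq_one h1)
    rw [hw] at h2
    have := Nat.mul_le_mul_left (p ^ n) h3
    omega
  have h2q : (2 : AlgebraicClosure F) ^ p ^ n = 2 := by
    rw [← map_ofNat (algebraMap F (AlgebraicClosure F)) 2, ← map_pow, ← hq, FiniteField.pow_card]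
  obtain ⟨a, ha⟩ := mem_range_of_pow_card ((w + w') / 2) (by
    rw [hq, div_pow, add_pow_char_pow, h2q, hww, ← hw', add_comm w'])
  obtain ⟨d, hd⟩ := mem_range_of_pow_card (((w - w') / 2) ^ 2) (by
    rw [hq, ← pow_mul, mul_comm 2, pow_mul, div_pow, sub_pow_char_pow, h2q, hww, ← hw']
    ring)
  refine ⟨a, d, (w - w') / 2, hd.symm, div_ne_zero (sub_ne_zero.2 hne) h2K, ?_, ?_⟩
  · rw [ha, ← add_div, div_eq_iff h2K]; ring
  · rw [ha, ← sub_div, div_eq_iff h2K]; ring

theorem exists_nonsplit [Fintype F] {p n : ℕ} [Fact p.Prime] [CharP F p]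
    (hq : Fintype.card F = p ^ n) (hn : 0 < n) (hp2 : p ≠ 2) :
    ∃ x : GL (Fin 2) F ⧸ Subgroup.center (GL (Fin 2) F), orderOf x = p ^ n + 1 := by
  obtain ⟨w, hw⟩ := exists_orderOf_eq hq (dvd_refl _) hn
  obtain ⟨a, d, s, hs, hs0, hp, hm⟩ := exists_torus_param hq hn hp2 w hw
  have h2F : (2 : F) ≠ 0 := by
    intro h
    have : p ∣ 2 := (CharP.cast_eq_zero_iff F p 2).1 (by exact_mod_cast h)
    exact hp2 ((Nat.prime_dvd_prime_iff_eq Fact.out Nat.prime_two).1 this)
  have hP : p.Prime := Fact.out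
  have h1 : 1 ≤ p ^ n := Nat.one_le_pow _ _ hP.pos
  have h3 : 2 ≤ p ^ n := le_trans hP.two_le (Nat.le_self_pow hn.ne' p)
  have hsq : p ^ n * p ^ n - 1 = (p ^ n - 1) * (p ^ n + 1) := by
    rw [Nat.mul_comm (p ^ n - 1), ← Nat.sq_sub_sq, one_pow, sq]
  have hw0 : w ≠ 0 := by
    intro h
    have h1 := pow_orderOf_eq_one w
    rw [hw, h, zero_pow (by rw [hsq]; positivity [show 0 < p ^ n - 1 by omega])] at h1
    exact zero_ne_one h1
  refine exists_of_scalar_iff (torusMat a d) ?_ fun k => ?_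
  · intro h
    have hdet : a * a - d * 1 = 0 := by rw [← h]; simp [torusMat, Matrix.det_fin_two]
    have hK : w * w ^ p ^ n = 0 := by
      rw [← hm, ← hp]
      have h' : algebraMap F (AlgebraicClosure F) (a * a - d * 1) = 0 := by rw [hdet, map_zero]
      rw [map_sub, map_mul, map_mul, map_one, mul_one] at h'
      linear_combination h' - hs
    exact mul_ne_zero hw0 (pow_ne_zero _ hw0) hK
  · rw [torusMat_pow_scalar_iff (algebraMap F (AlgebraicClosure F)) a d s hs hs0 h2F, hp, hm]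
    constructor
    · intro h
      have h' : w ^ ((p ^ n - 1) * k) = 1 := by
        apply mul_right_cancel₀ (pow_ne_zero k hw0)
        rw [← pow_add, one_mul, Nat.sub_one_mul, Nat.sub_add_cancel (Nat.le_mul_of_pos_left k h1),
          pow_mul, ← h]
      have hdv := orderOf_dvd_of_pow_eq_one h'
      rw [hw, hsq] at hdv
      exact Nat.dvd_of_mul_dvd_mul_left (by omega) hdv
    · rintro ⟨j, rfl⟩
      have hone : w ^ ((p ^ n - 1) * ((p ^ n + 1) * j)) = 1 := by
        rw [← mul_assoc, pow_mul, ← hsq, ← hw, pow_orderOf_eq_one, one_pow]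
      rw [← pow_mul, ← one_mul (w ^ ((p ^ n + 1) * j)), ← hone, ← pow_add, ← Nat.succ_mul]
      congr 1
      rw [Nat.succ_eq_add_one, Nat.sub_add_cancel h1]

theorem exists_unipotent [Fintype F] {p : ℕ} [Fact p.Prime] [CharP F p] :
    ∃ x : GL (Fin 2) F ⧸ Subgroup.center (GL (Fin 2) F), orderOf x = p := by
  refine exists_of_scalar_iff !![(1 : F), 1; 0, 1] (by simp [Matrix.det_fin_two]) fun k => ?_
  have hk : (!![(1 : F), 1; 0, 1]) ^ k = !![1, (k : F); 0, 1] := by
    induction k with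
    | zero => simp [Matrix.one_fin_two]
    | succ k ih =>
      rw [pow_succ, ih, Nat.cast_succ]
      ext i j
      fin_cases i <;> fin_cases j <;> simp [Matrix.mul_apply, Fin.sum_univ_two] <;> ring
  rw [hk, ← CharP.cast_eq_zero_iff F p k]
  constructor
  · rintro ⟨c, hc⟩
    simpa using congrFun (congrFun hc 0) 1
  · intro h
    exact ⟨1, by rw [h, one_smul, Matrix.one_fin_two]⟩

theorem mem_range_of_dvd {G : Type*} [Group G] {m d : ℕ} (hm : 0 < m)
    (h : ∃ x : G, orderOf x = m) (hd : d ∣ m) : d ∈ Set.range (orderOf : G → ℕ) := by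
  obtain ⟨x, rfl⟩ := h
  exact ⟨x ^ (orderOf x / d), orderOf_pow_orderOf_div hm.ne' hd⟩

/-- The spectrum. -/
theorem range_orderOf_pgl [Fintype F] {p n : ℕ} [Fact p.Prime] [CharP F p]
    (hq : Fintype.card F = p ^ n) (hn : 0 < n) (hp2 : p ≠ 2) :
    Set.range (orderOf : GL (Fin 2) F ⧸ Subgroup.center (GL (Fin 2) F) → ℕ) =
      {d | d ∣ p ^ n - 1 ∨ d ∣ p ^ n + 1 ∨ d = p} := by
  refine Set.Subset.antisymm ?_ ?_
  · rintro _ ⟨x, rfl⟩
    exact orderOf_cases hq hp2 x
  · have h3 : 2 ≤ p ^ n :=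
      le_trans (Fact.out : p.Prime).two_le (Nat.le_self_pow hn.ne' p)
    rintro d (hd | hd | rfl)
    · exact mem_range_of_dvd (by omega) (hq ▸ exists_split) hd
    · exact mem_range_of_dvd (by omega) (exists_nonsplit hq hn hp2) hd
    · exact exists_unipotent

end Cfsg.Agent.Recognition.PGL2Orders
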