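import Cfsg.Agent.Recognition.SL2Orders
import Cfsg.Agent.Recognition.TwoByTwo
import Cfsg.Agent.Recognition.PGL2Orders

/-!
The element orders of `PSL(2, q)`, and Frobenius groups on the additive group of a field.
-/

set_option autoImplicit false

namespace Cfsg.Agent.Recognition.PSL2Spectrum

open Matrix Cfsg.Agent.Recognition.SL2Orders Cfsg.Agent.Recognition.Extension
open scoped MatrixGroups

universe u

variable {F : Type u} [Field F]

theorem lucU_root {K : Type*} [Field K] (ι : F →+* K) (t : F) (w : K) (hw : w ≠ 0)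
    (ht : ι t = w + w⁻¹) : ∀ k, ι (lucU t k) * (w - w⁻¹) = w ^ k - w⁻¹ ^ k
  | 0 => by simp [lucU]
  | 1 => by simp [lucU]
  | k + 2 => by
    have h1 := lucU_root ι t w hw ht (k + 1)
    have h0 := lucU_root ι t w hw ht k
    rw [lucU, map_sub, map_mul, ht]
    have hinv : w * w⁻¹ = 1 := mul_inv_cancel₀ hw
    linear_combination (w + w⁻¹) * h1 - h0 + (w ^ k - w⁻¹ ^ k) * hinv

theorem lucU_eq_zero_iff {K : Type*} [Field K] (ι : F →+* K) (t : F) (w : K) (hw : w ≠ 0)
    (ht : ι t = w + w⁻¹) (hw2 : w ^ 2 ≠ 1) (k : ℕ) : lucU t k = 0 ↔ w ^ (2 * k) = 1 := by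
  have hne : w - w⁻¹ ≠ 0 := fun h => hw2 (by linear_combination w * h + mul_inv_cancel₀ hw)
  have h := lucU_root ι t w hw ht k
  constructor
  · intro h0
    rw [h0, map_zero, zero_mul, eq_comm, sub_eq_zero] at h
    rw [two_mul, pow_add]
    nth_rw 1 [h]
    rw [← mul_pow, inv_mul_cancel₀ hw, one_pow]
  · intro h1
    have : w ^ k = w⁻¹ ^ k := by
      rw [inv_pow]
      refine eq_inv_of_mul_eq_one_left ?_
      rwa [← pow_add, ← two_mul]
    rw [this, sub_self, mul_eq_zero] at h
    exact (map_eq_zero ι).1 (h.resolve_right hne)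

theorem companion_pow_mem_center_iff (t : F) {k : ℕ} (hk : 0 < k) :
    companion t ^ k ∈ Subgroup.center SL(2, F) ↔ lucU t k = 0 := by
  refine ⟨fun h => ?_, fun h => pow_mem_center _ hk ((companion_trace t).symm ▸ h)⟩
  obtain ⟨n, rfl⟩ : ∃ n, k = n + 1 := ⟨k - 1, by omega⟩
  obtain ⟨r, -, hr⟩ := Matrix.SpecialLinearGroup.mem_center_iff.1 h
  rw [Matrix.SpecialLinearGroup.coe_pow, pow_succ_eq, companion_trace] at hr
  have := congrArg (fun A : Matrix (Fin 2) (Fin 2) F => A 1 0) hr
  simp [companion, Matrix.scalar_apply] at this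
  exact this.symm

theorem lucU_two (s : F) (hs : s * s = 1) : ∀ k : ℕ, lucU (s + s) k = (k : F) * s ^ (k + 1)
  | 0 => by simp [lucU]
  | 1 => by simp [lucU, pow_two, hs]
  | k + 2 => by
    rw [lucU, lucU_two s hs (k + 1), lucU_two s hs k]
    push_cast
    linear_combination ((k : F) * s ^ (k + 1)) * hs

variable [Fintype F] {p n : ℕ} [Fact p.Prime] [CharP F p] (hq : Fintype.card F = p ^ n)

/-- The orders of the two tori. -/
def half (p m : ℕ) : ℕ := if p = 2 then m else m / 2

include hq

omit [Fintype F] hq in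
theorem dvd_half_iff {K : Type*} [Field K] [CharP K p] (w : K) {m : ℕ}
    (hm : p ≠ 2 → 2 ∣ m) (hw : w ^ m = 1) : w ^ (2 * half p m) = 1 := by
  rw [half]
  split_ifs with h
  · rw [mul_comm, pow_mul, hw, one_pow]
  · rw [Nat.mul_div_cancel' (hm h), hw]

theorem hm_sub (hn : 0 < n) : p ≠ 2 → 2 ∣ p ^ n - 1 := by
  intro h
  obtain ⟨k, hk⟩ := ((Fact.out : p.Prime).odd_of_ne_two h).pow (n := n)
  exact ⟨k, by omega⟩

theorem hm_add (hn : 0 < n) : p ≠ 2 → 2 ∣ p ^ n + 1 := by
  intro h
  obtain ⟨k, hk⟩ := ((Fact.out : p.Prime).odd_of_ne_two h).pow (n := n)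
  exact ⟨k + 1, by omega⟩

theorem half_pos (hn : 0 < n) : 0 < half p (p ^ n - 1) ∧ 0 < half p (p ^ n + 1) := by
  have h2 : 2 ≤ p ^ n := le_trans (Fact.out : p.Prime).two_le (Nat.le_self_pow hn.ne' p)
  refine ⟨?_, ?_⟩ <;> rw [half] <;> split_ifs with h <;> try omega
  have : p ^ n ≠ 2 := fun e => by
    rcases Nat.lt_or_ge n 2 with hn2 | hn2
    · obtain rfl : n = 1 := by omega
      exact h (by simpa using e)
    · have h4 : 2 ^ 2 ≤ p ^ n :=
        (Nat.pow_le_pow_left (Fact.out : p.Prime).two_le 2).trans (Nat.pow_le_pow_right (Fact.out : p.Prime).pos hn2)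
      omega
  omega

theorem orderOf_cases (hn : 0 < n) (x : Matrix.ProjectiveSpecialLinearGroup (Fin 2) F) :
    orderOf x ∣ half p (p ^ n - 1) ∨ orderOf x ∣ half p (p ^ n + 1) ∨ orderOf x ∣ p := by
  induction x using QuotientGroup.induction_on with | _ g => ?_
  haveI : CharP (AlgebraicClosure F) p := charP_of_injective_algebraMap
    (FaithfulSMul.algebraMap_injective F (AlgebraicClosure F)) p
  set ι := algebraMap F (AlgebraicClosure F)
  set t := g.1 0 0 + g.1 1 1 with ht
  have hkey : ∀ k, 0 < k → lucU t k = 0 → orderOf (QuotientGroup.mk g : Matrix.ProjectiveSpecialLinearGroup (Fin 2) F) ∣ k := by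
    intro k hk h
    refine orderOf_dvd_of_pow_eq_one ?_
    rw [← QuotientGroup.mk_pow, QuotientGroup.eq_one_iff]
    exact pow_mem_center g hk h
  obtain ⟨w, hw⟩ := IsAlgClosed.exists_root
    (Polynomial.X ^ 2 - Polynomial.C (ι t) * Polynomial.X + 1 : Polynomial (AlgebraicClosure F))
    (by
      have : (Polynomial.X ^ 2 - Polynomial.C (ι t) * Polynomial.X + 1 : Polynomial (AlgebraicClosure F)).natDegree = 2 := by
        compute_degree!
      intro h
      rw [Polynomial.natDegree_eq_zero_iff_degree_le_zero.2 h.le] at this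
      omega)
  simp only [Polynomial.IsRoot, Polynomial.eval_add, Polynomial.eval_sub, Polynomial.eval_pow, Polynomial.eval_X,
    Polynomial.eval_mul, Polynomial.eval_C, Polynomial.eval_one] at hw
  have hw0 : w ≠ 0 := fun h => by subst h; simp at hw
  have hwt : ι t = w + w⁻¹ := by
    field_simp
    linear_combination -hw
  by_cases hw2 : w ^ 2 = 1
  · refine Or.inr (Or.inr (hkey p (Fact.out : p.Prime).pos ?_))
    have hinv : w⁻¹ = w := inv_eq_of_mul_eq_one_right (by rw [← pow_two, hw2])
    rcases sq_eq_one_iff.1 hw2 with h | h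
    · have e : t = (1 : F) + 1 := ι.injective (by rw [hwt, hinv, h, map_add, map_one])
      rw [e, lucU_two 1 (mul_one 1), CharP.cast_eq_zero, zero_mul]
    · have e : t = (-1 : F) + -1 := ι.injective (by rw [hwt, hinv, h, map_add, map_neg, map_one])
      rw [e, lucU_two (-1) (by ring), CharP.cast_eq_zero, zero_mul]
  · have hfr : ι t ^ (p ^ n) = ι t := by rw [← map_pow, ← hq, FiniteField.pow_card]
    haveI : ExpChar (AlgebraicClosure F) p := ExpChar.prime Fact.out
    rw [hwt, add_pow_char_pow, inv_pow] at hfr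
    set z := w ^ p ^ n with hz
    have hz0 : z ≠ 0 := pow_ne_zero _ hw0
    have hfac : (z - w) * (z * w - 1) = 0 := by
      have h' := congrArg (fun s => s * (z * w)) hfr
      simp only [add_mul] at h'
      rw [show z⁻¹ * (z * w) = w by field_simp, show w⁻¹ * (z * w) = z by field_simp] at h'
      linear_combination h'
    have hpos : 1 ≤ p ^ n := Nat.one_le_pow _ _ (Fact.out : p.Prime).pos
    rcases mul_eq_zero.1 hfac with h | h
    · refine Or.inl (hkey _ (half_pos hq hn).1 ((lucU_eq_zero_iff ι t w hw0 hwt hw2 _).2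
        (dvd_half_iff w (hm_sub hq hn) ?_)))
      have h1 : w ^ (p ^ n - 1) * w = 1 * w := by
        rw [← pow_succ, Nat.sub_add_cancel hpos, one_mul, ← hz, sub_eq_zero.1 h]
      exact mul_right_cancel₀ hw0 h1
    · refine Or.inr (Or.inl (hkey _ (half_pos hq hn).2 ((lucU_eq_zero_iff ι t w hw0 hwt hw2 _).2
        (dvd_half_iff w (hm_add hq hn) ?_))))
      rw [pow_succ, ← hz]
      exact sub_eq_zero.1 h

theorem exists_torus (hn : 0 < n) (hF4 : 4 ≤ p ^ n) (m : ℕ) (hm : m = p ^ n - 1 ∨ m = p ^ n + 1) :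
    ∃ x : Matrix.ProjectiveSpecialLinearGroup (Fin 2) F, orderOf x = half p m := by
  haveI : CharP (AlgebraicClosure F) p := charP_of_injective_algebraMap
    (FaithfulSMul.algebraMap_injective F (AlgebraicClosure F)) p
  haveI : ExpChar (AlgebraicClosure F) p := ExpChar.prime Fact.out
  set ι := algebraMap F (AlgebraicClosure F)
  have hpos : 1 ≤ p ^ n := Nat.one_le_pow _ _ (Fact.out : p.Prime).pos
  have hdvd : m ∣ p ^ n * p ^ n - 1 := by
    have e : p ^ n * p ^ n - 1 = (p ^ n + 1) * (p ^ n - 1) := by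
      have := Nat.sq_sub_sq (p ^ n) 1
      rw [one_pow, pow_two] at this
      exact this
    rw [e]
    rcases hm with rfl | rfl
    · exact dvd_mul_left _ _
    · exact dvd_mul_right _ _
  obtain ⟨w, hw⟩ := TwoByTwo.exists_orderOf_eq hq hdvd hn
  have hm0 : 3 ≤ m := by rcases hm with rfl | rfl <;> omega
  have hw0 : w ≠ 0 := fun h => by
    subst h
    rw [orderOf_eq_iff (by omega)] at hw
    simp [zero_pow (show m ≠ 0 by omega)] at hw
  have hw1 : w ^ m = 1 := hw ▸ pow_orderOf_eq_one w
  have hw2 : w ^ 2 ≠ 1 := fun h => by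
    have := Nat.le_of_dvd two_pos (hw ▸ orderOf_dvd_of_pow_eq_one h)
    omega
  obtain ⟨t, ht⟩ := TwoByTwo.mem_range_of_pow_card (F := F) (w + w⁻¹) (by
    rw [hq, add_pow_char_pow, inv_pow]
    rcases hm with rfl | rfl
    · have : w ^ p ^ n = w := by
        conv_lhs => rw [← Nat.sub_add_cancel hpos, pow_succ, hw1, one_mul]
      rw [this]
    · have : w ^ p ^ n = w⁻¹ := eq_inv_of_mul_eq_one_left (by rw [← pow_succ]; exact hw1)
      rw [this, inv_inv, add_comm])
  refine ⟨QuotientGroup.mk (companion t), ?_⟩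
  have hh : 0 < half p m := by
    rcases hm with rfl | rfl
    · exact (half_pos hq hn).1
    · exact (half_pos hq hn).2
  have hm2 : p ≠ 2 → 2 ∣ m := by
    rcases hm with rfl | rfl
    · exact hm_sub hq hn
    · exact hm_add hq hn
  refine Nat.dvd_antisymm (orderOf_dvd_of_pow_eq_one ?_) ?_
  · rw [← QuotientGroup.mk_pow, QuotientGroup.eq_one_iff, companion_pow_mem_center_iff _ hh,
      lucU_eq_zero_iff ι t w hw0 ht hw2]
    exact dvd_half_iff w hm2 hw1
  · set k := orderOf (QuotientGroup.mk (companion t) : Matrix.ProjectiveSpecialLinearGroup (Fin 2) F) with hk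
    have hk0 : 0 < k := orderOf_pos _
    have h1 : (QuotientGroup.mk (companion t) : Matrix.ProjectiveSpecialLinearGroup (Fin 2) F) ^ k = 1 :=
      pow_orderOf_eq_one _
    rw [← QuotientGroup.mk_pow, QuotientGroup.eq_one_iff, companion_pow_mem_center_iff _ hk0,
      lucU_eq_zero_iff ι t w hw0 ht hw2, ← orderOf_dvd_iff_pow_eq_one, hw] at h1
    rw [half]
    split_ifs with h2
    · refine (Nat.Coprime.dvd_mul_left ?_).1 h1
      subst h2
      have h2n : 2 ∣ 2 ^ n := dvd_pow_self 2 hn.ne'
      rw [Nat.coprime_two_right, Nat.odd_iff]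
      rcases hm with rfl | rfl <;> omega
    · obtain ⟨j, rfl⟩ := hm2 h2
      rw [Nat.mul_div_cancel_left _ two_pos]
      exact Nat.dvd_of_mul_dvd_mul_left two_pos h1

theorem exists_unipotent : ∃ x : Matrix.ProjectiveSpecialLinearGroup (Fin 2) F, orderOf x = p :=
  ⟨_, orderOf_mk_companion (Fact.out : p.Prime) ((1 : F) + 1) (by
    rw [lucU_two 1 (mul_one 1), CharP.cast_eq_zero, zero_mul])⟩

/-- The element orders of `PSL(2, q)`. -/
theorem range_orderOf_psl (hn : 0 < n) (hF4 : 4 ≤ p ^ n) :
    Set.range (orderOf : Matrix.ProjectiveSpecialLinearGroup (Fin 2) F → ℕ) =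
      {d | d ∣ p ∨ d ∣ half p (p ^ n - 1) ∨ d ∣ half p (p ^ n + 1)} := by
  refine Set.Subset.antisymm ?_ ?_
  · rintro _ ⟨x, rfl⟩
    rcases orderOf_cases hq hn x with h | h | h
    · exact Or.inr (Or.inl h)
    · exact Or.inr (Or.inr h)
    · exact Or.inl h
  · rintro d (hd | hd | hd)
    · exact PGL2Orders.mem_range_of_dvd (Fact.out : p.Prime).pos (exists_unipotent hq) hd
    · exact PGL2Orders.mem_range_of_dvd (half_pos hq hn).1 (exists_torus hq hn hF4 _ (Or.inl rfl)) hd
    · exact PGL2Orders.mem_range_of_dvd (half_pos hq hn).2 (exists_torus hq hn hF4 _ (Or.inr rfl)) hd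

omit hq

/-- Units acting on the additive group. -/
def unitsAct (K : Type*) [Field K] : Kˣ →* MulAut (Multiplicative K) where
  toFun c :=
    { toFun := fun x => Multiplicative.ofAdd ((c : K) * x.toAdd)
      invFun := fun x => Multiplicative.ofAdd (((c⁻¹ : Kˣ) : K) * x.toAdd)
      left_inv := fun x => by simp
      right_inv := fun x => by simp
      map_mul' := fun x y => by simp [mul_add] }
  map_one' := by ext; simp
  map_mul' a b := by ext; simp [mul_assoc]

/-- A solvable group with orders dividing `p` or a given divisor of the number of units. -/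
theorem exists_frobenius (K : Type) [Field K] [Fintype K] {p : ℕ} [Fact p.Prime] [CharP K p] (m : ℕ)
    (hm : m ∣ Fintype.card K - 1) (hm0 : 0 < m) :
    ∃ (A : Type) (_ : Group A) (_ : Finite A), Group.IsSolvable A ∧
      Set.range (orderOf : A → ℕ) = {d | d ∣ p ∨ d ∣ m} := by
  classical
  obtain ⟨g, hg⟩ := IsCyclic.exists_generator (α := Kˣ)
  have hgo : orderOf g = Fintype.card K - 1 := by
    rw [orderOf_eq_card_of_forall_mem_zpowers hg, Nat.card_units, Nat.card_eq_fintype_card]
  set c := g ^ (orderOf g / m) with hc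
  have hco : orderOf c = m := orderOf_pow_orderOf_div (orderOf_pos g).ne' (hgo ▸ hm)
  set C := Subgroup.zpowers c
  let φ : C →* MulAut (Multiplicative K) := (unitsAct K).comp C.subtype
  have hfpf : ∀ u : C, u ≠ 1 → Fpf φ u := by
    intro u hu k hk
    have h : ((u : Kˣ) : K) * k.toAdd = k.toAdd := congrArg Multiplicative.toAdd hk
    have h' : (((u : Kˣ) : K) - 1) * k.toAdd = 0 := by rw [sub_mul, h, one_mul, sub_self]
    apply Multiplicative.toAdd.injective
    refine (mul_eq_zero.1 h').resolve_left (fun e => hu (Subtype.ext (Units.ext ?_)))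
    exact sub_eq_zero.1 e
  refine ⟨Multiplicative K ⋊[φ] C, inferInstance, inferInstance, ?_, ?_⟩
  · haveI : Group.IsSolvable C := isSolvable_of_comm fun a b => mul_comm a b
    haveI : Group.IsSolvable (Multiplicative K) := isSolvable_of_comm fun a b => mul_comm a b
    refine solvable_of_ker_le_range (SemidirectProduct.inl (φ := φ)) SemidirectProduct.rightHom ?_
    rw [SemidirectProduct.range_inl_eq_ker_rightHom]
  · refine Set.Subset.antisymm ?_ ?_
    · rintro _ ⟨x, rfl⟩
      by_cases hx : x.right = 1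
      · refine Or.inl ?_
        rw [eq_inl_of_right_eq_one (φ := φ) x hx, orderOf_injective _ SemidirectProduct.inl_injective]
        exact orderOf_dvd_of_pow_eq_one (by
          apply Multiplicative.toAdd.injective
          rw [toAdd_pow, toAdd_one, nsmul_eq_mul, CharP.cast_eq_zero, zero_mul])
      · refine Or.inr ?_
        rw [orderOf_of_fpf (φ := φ) x (hfpf _ hx), show m = Nat.card C by rw [Nat.card_zpowers, hco]]
        exact orderOf_dvd_natCard x.right
    · rintro d (hd | hd)
      · refine PGL2Orders.mem_range_of_dvd (Fact.out : p.Prime).pos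
          ⟨SemidirectProduct.inl (Multiplicative.ofAdd 1), ?_⟩ hd
        rw [orderOf_injective _ SemidirectProduct.inl_injective]
        refine orderOf_eq_prime ?_ ?_
        · apply Multiplicative.toAdd.injective
          rw [toAdd_pow, toAdd_one, nsmul_eq_mul, CharP.cast_eq_zero, zero_mul]
        · exact fun h => one_ne_zero (congrArg Multiplicative.toAdd h)
      · refine PGL2Orders.mem_range_of_dvd hm0
          ⟨SemidirectProduct.inr ⟨c, Subgroup.mem_zpowers c⟩, ?_⟩ hd
        rw [orderOf_inr, Subgroup.orderOf_mk, hco]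

end Cfsg.Agent.Recognition.PSL2Spectrum
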