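import Mathlib
import Cfsg.Agent.Lib.CharP.Zsigmondy

/-!
Feit's theorem on large primitive prime divisors.
-/

set_option autoImplicit false

namespace Cfsg.Agent.Recognition.LargePrimitiveDivisor

open Polynomial Cfsg.Agent.CharP.Zsigmondy

/-- Every primitive prime divisor of `q ^ n - 1` equals `n + 1` and has multiplicity one. -/
def Bad (q n : ℕ) : Prop :=
  ∀ p : ℕ, p.Prime → p ∣ q ^ n - 1 → (∀ i : ℕ, 1 ≤ i → i < n → ¬ p ∣ q ^ i - 1) →
    p ≤ n + 1 ∧ ¬ p ^ 2 ∣ q ^ n - 1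

theorem le_of_primitive {q n p : ℕ} (hq : 2 ≤ q) (hn : 1 ≤ n) (hp : p.Prime)
    (hd : p ∣ q ^ n - 1) (hprim : ∀ i : ℕ, 1 ≤ i → i < n → ¬ p ∣ q ^ i - 1) : n + 1 ≤ p := by
  haveI := Fact.mk hp
  have hpow : ∀ i : ℕ, ((q : ZMod p) ^ i = 1 ↔ p ∣ q ^ i - 1) := fun i => by
    rw [← ZMod.natCast_eq_zero_iff, Nat.cast_sub (Nat.one_le_pow _ _ (by omega)), sub_eq_zero,
      Nat.cast_pow, Nat.cast_one]
  have hq0 : (q : ZMod p) ≠ 0 := fun h0 => by
    have h := (hpow n).2 hd
    rw [h0, zero_pow (by omega)] at h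
    exact zero_ne_one h
  have h1 := (hpow (p - 1)).1 (ZMod.pow_card_sub_one_eq_one hq0)
  have := hp.two_le
  by_contra hlt
  exact hprim (p - 1) (by omega) (by omega) h1

theorem bad_witness {q n D : ℕ} (hq : 2 ≤ q) (hn : 1 ≤ n) (hb : Bad q n) (hD : 1 < D)
    (hdvd : D ∣ q ^ n - 1) (hne : Nat.gcd D (n + 1) = 1)
    (hco : ∀ i ∈ List.range n, i = 0 ∨ Nat.gcd D (q ^ i - 1) = 1) : False := by
  obtain ⟨p, hp, hpD⟩ := Nat.exists_prime_and_dvd hD.ne'
  have hprim : ∀ i : ℕ, 1 ≤ i → i < n → ¬ p ∣ q ^ i - 1 := fun i h1 h2 h3 => by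
    rcases hco i (List.mem_range.2 h2) with h4 | h4
    · omega
    · exact hp.not_dvd_one (h4 ▸ Nat.dvd_gcd hpD h3)
  have h5 := (hb p hp (hpD.trans hdvd) hprim).1
  have h6 := le_of_primitive hq hn hp (hpD.trans hdvd) hprim
  have h7 : p = n + 1 := by omega
  exact hp.not_dvd_one (hne ▸ Nat.dvd_gcd hpD (h7 ▸ dvd_rfl))

theorem prod_le_card_succ : ∀ S : Finset ℕ, (∀ p ∈ S, 2 ≤ p) →
    ∏ p ∈ S, p ≤ (S.card + 1) * ∏ p ∈ S, (p - 1) := by
  intro S
  induction S using Finset.induction_on_max with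
  | empty => simp
  | insert a s hlt ih =>
    intro h
    have ha := h a (Finset.mem_insert_self a s)
    have hs : s ⊆ Finset.Ico 2 a := fun x hx =>
      Finset.mem_Ico.2 ⟨h x (Finset.mem_insert_of_mem hx), hlt x hx⟩
    have hcard := Finset.card_le_card hs
    rw [Nat.card_Ico] at hcard
    have hnot : a ∉ s := fun hx => lt_irrefl _ (hlt a hx)
    rw [Finset.prod_insert hnot, Finset.prod_insert hnot, Finset.card_insert_of_notMem hnot]
    have key : a * (s.card + 1) ≤ (s.card + 1 + 1) * (a - 1) := by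
      obtain ⟨b, rfl⟩ : ∃ b, a = b + 1 := ⟨a - 1, by omega⟩
      simp only [Nat.add_sub_cancel] at *
      have : s.card + 1 ≤ b := by omega
      nlinarith
    calc a * ∏ x ∈ s, x ≤ a * ((s.card + 1) * ∏ x ∈ s, (x - 1)) :=
          Nat.mul_le_mul_left _ (ih fun x hx => h x (Finset.mem_insert_of_mem hx))
      _ = a * (s.card + 1) * ∏ x ∈ s, (x - 1) := by ring
      _ ≤ (s.card + 1 + 1) * (a - 1) * ∏ x ∈ s, (x - 1) := Nat.mul_le_mul_right _ key
      _ = _ := by ring

theorem totient_bounds {n : ℕ} (hn : 0 < n) :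
    n ≤ (n.primeFactors.card + 1) * n.totient ∧ 2 ^ n.primeFactors.card ≤ 2 * n.totient := by
  set S := n.primeFactors with hS
  have h2 : ∀ p ∈ S, 2 ≤ p := fun p hp => (Nat.prime_of_mem_primeFactors hp).two_le
  have hmul := Nat.totient_mul_prod_primeFactors n
  have hposd : 0 < ∏ p ∈ S, p := Finset.prod_pos fun p hp => by have := h2 p hp; omega
  refine ⟨?_, ?_⟩
  · refine Nat.le_of_mul_le_mul_right ?_ hposd
    calc n * ∏ p ∈ S, p ≤ n * ((S.card + 1) * ∏ p ∈ S, (p - 1)) :=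
          Nat.mul_le_mul_left _ (prod_le_card_succ S h2)
      _ = (S.card + 1) * (n * ∏ p ∈ S, (p - 1)) := by ring
      _ = _ := by rw [← hmul]; ring
  · have hle : ∏ p ∈ S, (p - 1) ≤ n.totient := by
      refine Nat.le_of_mul_le_mul_right ?_ hposd
      rw [hmul, mul_comm]
      refine Nat.mul_le_mul_right _ (Nat.le_of_dvd hn (Nat.prod_primeFactors_dvd n))
    have herase : 2 ^ (S.erase 2).card ≤ ∏ p ∈ S, (p - 1) := by
      rw [← Finset.prod_const]
      refine (Finset.prod_le_prod' (g := fun p => p - 1) fun p hp => ?_).trans ?_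
      · obtain ⟨h1, h3⟩ := Finset.mem_erase.1 hp
        have := h2 p h3
        omega
      · exact Finset.prod_le_prod_of_subset_of_one_le' (Finset.erase_subset _ _)
          fun p hp _ => by have := h2 p hp; omega
    have h3 : S.card ≤ (S.erase 2).card + 1 := by
      by_cases h4 : 2 ∈ S
      · rw [Finset.card_erase_of_mem h4]; omega
      · rw [Finset.erase_eq_of_notMem h4]; omega
    calc 2 ^ S.card ≤ 2 ^ ((S.erase 2).card + 1) := Nat.pow_le_pow_right (by norm_num) h3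
      _ = 2 * 2 ^ (S.erase 2).card := pow_succ' 2 _
      _ ≤ _ := by omega

theorem n_le_of_bound {n : ℕ} (hn : 2 ≤ n) (h : 2 ^ n.totient ≤ (n * (n + 1)) ^ 2) : n ≤ 441 := by
  obtain ⟨h1, h2⟩ := totient_bounds (n := n) (by omega)
  set φ := n.totient
  set k := n.primeFactors.card
  have hφ : 0 < φ := Nat.totient_pos.2 (by omega)
  set L := Nat.log 2 φ with hL
  have hL1 : 2 ^ L ≤ φ := Nat.pow_log_le_self 2 hφ.ne'
  have hL2 : φ < 2 ^ (L + 1) := Nat.lt_pow_succ_log_self (by norm_num) φ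
  have hk : k ≤ L + 1 := by
    by_contra hk
    have h3 : 2 ^ (L + 2) ≤ 2 ^ k := Nat.pow_le_pow_right (by norm_num) (by omega)
    rw [pow_succ] at h3
    omega
  rcases le_or_gt L 5 with h5 | h5
  · have h64 : φ < 64 := hL2.trans_le
      (le_trans (Nat.pow_le_pow_right (by norm_num) (by omega : L + 1 ≤ 6)) (by norm_num))
    calc n ≤ (k + 1) * φ := h1
      _ ≤ 7 * 63 := Nat.mul_le_mul (by omega) (by omega)
  · exfalso
    have hn1 : n + 1 ≤ 2 ^ (2 * L - 1) := by
      have h6 : n + 1 ≤ (L + 3) * φ := by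
        have h7 : (k + 1) * φ ≤ (L + 2) * φ := Nat.mul_le_mul_right _ (by omega)
        nlinarith
      have h8 : L + 3 ≤ 2 ^ (L - 2) := by
        have h6L : 6 ≤ L := by omega
        revert h6L
        generalize L = K
        intro h6L
        induction K, h6L using Nat.le_induction with
        | base => norm_num
        | succ m hm ih =>
          have hm' : m + 1 - 2 = (m - 2) + 1 := by omega
          rw [hm', pow_succ]
          omega
      calc n + 1 ≤ (L + 3) * φ := h6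
        _ ≤ 2 ^ (L - 2) * 2 ^ (L + 1) := Nat.mul_le_mul h8 hL2.le
        _ = 2 ^ (2 * L - 1) := by rw [← pow_add]; congr 1; omega
    have h9 : (n * (n + 1)) ^ 2 ≤ 2 ^ (4 * (2 * L - 1)) := by
      rw [mul_comm 4, pow_mul]
      calc (n * (n + 1)) ^ 2 ≤ ((n + 1) * (n + 1)) ^ 2 :=
            Nat.pow_le_pow_left (Nat.mul_le_mul_right _ (by omega)) 2
        _ = (n + 1) ^ 4 := by ring
        _ ≤ _ := Nat.pow_le_pow_left hn1 4
    have h10 : φ ≤ 4 * (2 * L - 1) := (Nat.pow_le_pow_iff_right (by norm_num)).1 (h.trans h9)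
    have h11 : 4 * (2 * L - 1) < 2 ^ L := by
      have h6L : 6 ≤ L := by omega
      revert h6L
      generalize L = K
      intro h6L
      induction K, h6L using Nat.le_induction with
      | base => norm_num
      | succ m hm ih =>
        have h12 : 8 ≤ 2 ^ m :=
          le_trans (by norm_num) (Nat.pow_le_pow_right (by norm_num) (by omega : 3 ≤ m))
        rw [pow_succ]
        omega
    omega

theorem eval_natAbs_sq_ge_two {n : ℕ} (hn : 4 ≤ n) (heven : 2 ∣ n) :
    2 ^ n.totient ≤ ((cyclotomic n ℤ).eval (2 : ℤ)).natAbs ^ 2 := by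
  by_cases h4 : 4 ∣ n
  · obtain ⟨d, rfl⟩ := heven
    have hd : 2 ∣ d := by omega
    have hev : (cyclotomic (2 * d) ℤ).eval (2 : ℤ) = (cyclotomic d ℤ).eval ((4 : ℕ) : ℤ) := by
      rw [mul_comm 2 d, ← cyclotomic_expand_eq_cyclotomic Nat.prime_two hd, expand_eval]
      norm_num
    have hlow := sub_one_pow_totient_lt_natAbs_cyclotomic_eval (n := d) (q := 4) (by omega)
      (by norm_num)
    rw [← hev] at hlow
    rw [Nat.totient_mul_of_prime_of_dvd Nat.prime_two hd, pow_mul]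
    calc (2 ^ 2) ^ d.totient ≤ (3 ^ 2) ^ d.totient := Nat.pow_le_pow_left (by norm_num) _
      _ = (3 ^ d.totient) ^ 2 := by rw [← pow_mul, ← pow_mul, mul_comm]
      _ ≤ _ := Nat.pow_le_pow_left hlow.le 2
  · obtain ⟨m, rfl⟩ := heven
    have hm1 : m ≠ 1 := by omega
    obtain ⟨r, hr, hrm⟩ := Nat.exists_prime_and_dvd hm1
    have hr3 : 3 ≤ r := by
      rcases hr.eq_two_or_odd with rfl | h
      · omega
      · have := hr.two_le; omega
    obtain ⟨e, rfl⟩ := hrm
    have he0 : 0 < e := Nat.pos_of_ne_zero fun h => by simp [h] at hn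
    set d := 2 * e with hd
    rw [show 2 * (r * e) = r * d by rw [hd]; ring]
    have hd1 : 1 < d := by omega
    by_cases hrd : r ∣ d
    · have hev : (cyclotomic (r * d) ℤ).eval (2 : ℤ) =
          (cyclotomic d ℤ).eval ((2 ^ r : ℕ) : ℤ) := by
        rw [mul_comm r d, ← cyclotomic_expand_eq_cyclotomic hr hrd, expand_eval]
        norm_num
      have hlow := sub_one_pow_totient_lt_natAbs_cyclotomic_eval (n := d) (q := 2 ^ r) hd1
        (by have := Nat.one_lt_two_pow hr.ne_zero; omega)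
      rw [← hev] at hlow
      rw [Nat.totient_mul_of_prime_of_dvd hr hrd, pow_mul]
      have hb : 2 ^ r ≤ (2 ^ r - 1) ^ 2 := by
        have : 8 ≤ 2 ^ r := le_trans (by norm_num) (Nat.pow_le_pow_right (by norm_num) hr3)
        obtain ⟨x, hx⟩ : ∃ x, 2 ^ r = x + 1 := ⟨2 ^ r - 1, by omega⟩
        rw [hx, Nat.add_sub_cancel]
        nlinarith
      calc (2 ^ r) ^ d.totient ≤ ((2 ^ r - 1) ^ 2) ^ d.totient := Nat.pow_le_pow_left hb _
        _ = ((2 ^ r - 1) ^ d.totient) ^ 2 := by rw [← pow_mul, ← pow_mul, mul_comm]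
        _ ≤ _ := Nat.pow_le_pow_left hlow.le 2
    · have hev : (cyclotomic d ℤ).eval ((2 ^ r : ℕ) : ℤ) =
          (cyclotomic (r * d) ℤ).eval (2 : ℤ) * (cyclotomic d ℤ).eval (2 : ℤ) := by
        have h1 := congrArg (eval (2 : ℤ)) (cyclotomic_expand_eq_cyclotomic_mul hr hrd ℤ)
        rw [expand_eval, eval_mul, mul_comm d r] at h1
        rw [← h1]
        norm_num
      have hlow := sub_one_pow_totient_lt_natAbs_cyclotomic_eval (n := d) (q := 2 ^ r) hd1
        (by have := Nat.one_lt_two_pow hr.ne_zero; omega)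
      have hup : ((cyclotomic d ℤ).eval (2 : ℤ)).natAbs ≤ 3 ^ d.totient := by
        have h1 := cyclotomic_eval_le_add_one_pow_totient (q := (2 : ℝ)) (by norm_num) d
        have h2 : (cyclotomic d ℝ).eval (2 : ℝ) = (((cyclotomic d ℤ).eval (2 : ℤ) : ℤ) : ℝ) := by
          have h' := cyclotomic.eval_apply (2 : ℤ) d (algebraMap ℤ ℝ)
          simpa using h'
        rw [h2] at h1
        have h3 : (cyclotomic d ℤ).eval (2 : ℤ) ≤ ((3 ^ d.totient : ℕ) : ℤ) := by
          have : (((cyclotomic d ℤ).eval (2 : ℤ) : ℤ) : ℝ) ≤ (((3 ^ d.totient : ℕ) : ℤ) : ℝ) := by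
            push_cast
            calc _ ≤ _ := h1
              _ = _ := by norm_num
          exact_mod_cast this
        have h4 : 0 < (cyclotomic d ℤ).eval (2 : ℤ) := cyclotomic_pos' d (x := (2 : ℤ)) (by norm_num)
        omega
      rw [hev, Int.natAbs_mul] at hlow
      have hlow' := hlow.le.trans (Nat.mul_le_mul_left _ hup)
      have hb : 2 ^ (r - 1) * 9 ≤ (2 ^ r - 1) ^ 2 := by
        obtain ⟨s, rfl⟩ : ∃ s, r = s + 1 := ⟨r - 1, by omega⟩
        rw [Nat.add_sub_cancel, pow_succ 2 s]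
        have : 4 ≤ 2 ^ s := le_trans (by norm_num) (Nat.pow_le_pow_right (by norm_num) (by omega : 2 ≤ s))
        obtain ⟨x, hx⟩ : ∃ x, 2 ^ s = x + 4 := ⟨2 ^ s - 4, by omega⟩
        rw [hx, show (x + 4) * 2 - 1 = 2 * x + 7 by omega]
        nlinarith
      rw [Nat.totient_mul ((hr.coprime_iff_not_dvd).2 hrd), Nat.totient_prime hr, pow_mul]
      refine Nat.le_of_mul_le_mul_right ?_ (show 0 < 9 ^ d.totient by positivity)
      calc (2 ^ (r - 1)) ^ d.totient * 9 ^ d.totient = (2 ^ (r - 1) * 9) ^ d.totient :=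
            (mul_pow _ _ _).symm
        _ ≤ ((2 ^ r - 1) ^ 2) ^ d.totient := Nat.pow_le_pow_left hb _
        _ = ((2 ^ r - 1) ^ d.totient) ^ 2 := by rw [← pow_mul, ← pow_mul, mul_comm]
        _ ≤ _ := Nat.pow_le_pow_left hlow' 2
        _ = _ := by rw [mul_pow, ← pow_mul 3, mul_comm _ 2, pow_mul 3]; norm_num

theorem bad_bound {q n : ℕ} (hq : 2 ≤ q) (hn : 4 ≤ n) (heven : 2 ∣ n) (hb : Bad q n) :
    (q - 1) ^ n.totient ≤ n * (n + 1) ∧ 2 ^ n.totient ≤ (n * (n + 1)) ^ 2 := by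
  set Φ := ((cyclotomic n ℤ).eval (q : ℤ)).natAbs with hΦ
  have hlow := sub_one_pow_totient_lt_natAbs_cyclotomic_eval (n := n) (q := q) (by omega) (by omega)
  have hdvd : Φ ∣ q ^ n - 1 := by
    have h1 := eval_dvd (x := (q : ℤ)) (cyclotomic.dvd_X_pow_sub_one n ℤ)
    rw [eval_sub, eval_pow, eval_X, eval_one] at h1
    have h2 : Φ ∣ ((q : ℤ) ^ n - 1).natAbs := Int.natAbs_dvd_natAbs.2 h1
    convert h2 using 1
    have h3 : 1 ≤ q ^ n := Nat.one_le_pow _ _ (by omega)
    rw [← Nat.cast_pow]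
    omega
  have hall : ∀ s : ℕ, s.Prime → s ∣ Φ → s ∣ n * (n + 1) ∧ ¬ s ^ 2 ∣ Φ := by
    intro s hs hsd
    have hsd' : (s : ℤ) ∣ (cyclotomic n ℤ).eval (q : ℤ) := Int.natCast_dvd.2 hsd
    by_cases hsn : s ∣ n
    · refine ⟨hsn.mul_right _, fun h2 => ?_⟩
      have h2' : (s : ℤ) ^ 2 ∣ (cyclotomic n ℤ).eval (q : ℤ) := by
        exact_mod_cast Int.natCast_dvd.2 h2
      by_cases hs2 : s = 2
      · subst hs2
        obtain ⟨j, m, hnm, -, hm1, -⟩ := structure_of_dvd hs (by omega) hsd'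
        rw [Nat.dvd_one.1 hm1, mul_one] at hnm
        obtain ⟨i, rfl⟩ : ∃ i, j = i + 2 := ⟨j - 2, by
          have : 2 ≤ j := by
            by_contra hj
            have := Nat.pow_le_pow_right (n := 2) (by norm_num) (by omega : j ≤ 1)
            omega
          omega⟩
        have hval : Φ = (q ^ 2 ^ i) ^ 2 + 1 := by
          haveI : Fact (Nat.Prime 2) := ⟨Nat.prime_two⟩
          rw [hΦ, hnm, cyclotomic_prime_pow_eq_geom_sum Nat.prime_two]
          simp only [Finset.sum_range_succ, Finset.sum_range_zero, zero_add, pow_zero, pow_one,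
            eval_add, eval_one, eval_pow, eval_X]
          rw [← pow_mul, ← pow_succ]
          norm_cast
          omega
        have hmod : ∀ b : ℕ, (b ^ 2 + 1) % 4 ≠ 0 := fun b => by
          rw [Nat.add_mod, Nat.pow_mod]
          have : b % 4 < 4 := Nat.mod_lt _ (by norm_num)
          interval_cases (b % 4) <;> norm_num
        exact hmod (q ^ 2 ^ i) (Nat.mod_eq_zero_of_dvd (hval ▸ h2))
      · exact not_sq_dvd hs hs2 hq (by omega) hsn hsd' h2'
    · obtain ⟨h1, h2⟩ := primitive_of_not_dvd hs (by omega) (by omega) hsd' hsn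
      have hprim : ∀ i : ℕ, 1 ≤ i → i < n → ¬ s ∣ q ^ i - 1 := fun i hi => h2 i (by omega)
      obtain ⟨h3, h4⟩ := hb s hs h1 hprim
      have h5 := le_of_primitive hq (by omega) hs h1 hprim
      have h6 : s = n + 1 := by omega
      exact ⟨h6 ▸ dvd_mul_left _ _, fun h7 => h4 (h7.trans hdvd)⟩
  have hΦ0 : Φ ≠ 0 := (lt_of_le_of_lt (Nat.zero_le _) hlow).ne'
  have hsq : Squarefree Φ := Nat.squarefree_iff_prime_squarefree.2 fun s hs h =>
    (hall s hs ((dvd_mul_right s s).trans h)).2 (by rwa [pow_two])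
  have hle : Φ ≤ n * (n + 1) := by
    rw [← Nat.prod_primeFactors_of_squarefree hsq]
    refine Nat.le_of_dvd (by positivity) (Finset.prod_primes_dvd _ ?_ ?_)
    · exact fun s hs => (Nat.prime_of_mem_primeFactors hs).prime
    · exact fun s hs => (hall s (Nat.prime_of_mem_primeFactors hs)
        (Nat.dvd_of_mem_primeFactors hs)).1
  refine ⟨hlow.le.trans hle, ?_⟩
  rcases eq_or_lt_of_le hq with h2 | h2
  · subst h2
    calc 2 ^ n.totient ≤ _ := eval_natAbs_sq_ge_two hn heven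
      _ = Φ ^ 2 := by rw [hΦ]; norm_num
      _ ≤ _ := Nat.pow_le_pow_left hle 2
  · calc 2 ^ n.totient ≤ (q - 1) ^ n.totient := Nat.pow_le_pow_left (by omega) _
      _ ≤ n * (n + 1) := hlow.le.trans hle
      _ ≤ _ := Nat.le_self_pow (by norm_num) _

/-- The candidates left by the size bounds. -/
def candidates : List ℕ := [4, 6, 10, 12, 16, 18, 22, 28, 30, 36, 40, 42, 46, 60, 66, 70, 72, 78]

theorem mem_candidates : ∀ n ∈ List.range 442, 4 ≤ n → (n + 1).Prime →
    2 ^ n.totient ≤ (n * (n + 1)) ^ 2 → n ∈ candidates := by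
  decide +kernel

theorem q_le : ∀ n ∈ candidates, ∀ q ∈ List.range 8, 2 ≤ q → (q - 1) ^ n.totient ≤ n * (n + 1) →
    (q, n) ∈ [(2, 4), (2, 6), (2, 10), (2, 12), (2, 18), (3, 4), (3, 6), (5, 6)] ∨
      ∃ D ∈ [13, 17, 31, 37, 41, 43, 61, 73, 109, 113, 193, 241, 257, 271, 331, 683, 1321, 5419, 20857, 61681, 2796203, 16773121, 22366891, 24214051],
        1 < D ∧ D ∣ q ^ n - 1 ∧ Nat.gcd D (n + 1) = 1 ∧
          ∀ i ∈ List.range n, i = 0 ∨ Nat.gcd D (q ^ i - 1) = 1 := by
  decide +kernel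

theorem q_small : ∀ n ∈ candidates, n * (n + 1) < 7 ^ n.totient := by
  decide +kernel

theorem main {q n : ℕ} (hq : 2 ≤ q) (hn : 2 ≤ n)
    (h1 : ¬ (n = 2 ∧ ∃ s t : ℕ, t ≤ 1 ∧ q + 1 = 2 ^ s * 3 ^ t))
    (h2 : ¬ (q = 2 ∧ (n = 4 ∨ n = 6 ∨ n = 10 ∨ n = 12 ∨ n = 18)))
    (h3 : ¬ (q = 3 ∧ (n = 4 ∨ n = 6))) (h4 : ¬ (q = 5 ∧ n = 6)) : ¬ Bad q n := by
  intro hb
  rcases eq_or_lt_of_le hn with h | h
  · subst h
    refine h1 ⟨rfl, ?_⟩
    have hodd : ∀ p : ℕ, p.Prime → p ∣ q + 1 → p = 2 ∨ (p = 3 ∧ ¬ 9 ∣ q + 1) := by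
      intro p hp hpd
      rcases eq_or_ne p 2 with h5 | h5
      · exact Or.inl h5
      right
      have hd : p ∣ q ^ 2 - 1 := by
        rw [show q ^ 2 - 1 = (q + 1) * (q - 1) by
          obtain ⟨b, rfl⟩ : ∃ b, q = b + 1 := ⟨q - 1, by omega⟩
          rw [Nat.add_sub_cancel, show (b + 1) ^ 2 = (b + 1 + 1) * b + 1 by ring]
          omega]
        exact hpd.mul_right _
      have hprim : ∀ i : ℕ, 1 ≤ i → i < 2 → ¬ p ∣ q ^ i - 1 := by
        intro i hi1 hi2 hi3
        obtain rfl : i = 1 := by omega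
        rw [pow_one] at hi3
        have h6 := Nat.dvd_sub hpd hi3
        rw [show q + 1 - (q - 1) = 2 by omega] at h6
        exact h5 ((Nat.prime_dvd_prime_iff_eq hp Nat.prime_two).1 h6)
      obtain ⟨h6, h7⟩ := hb p hp hd hprim
      have := hp.two_le
      refine ⟨by omega, fun h9 => h7 ?_⟩
      obtain rfl : p = 3 := by omega
      rw [show q ^ 2 - 1 = (q + 1) * (q - 1) by
        obtain ⟨b, rfl⟩ : ∃ b, q = b + 1 := ⟨q - 1, by omega⟩
        rw [Nat.add_sub_cancel, show (b + 1) ^ 2 = (b + 1 + 1) * b + 1 by ring]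
        omega]
      exact h9.mul_right _
    obtain ⟨s, m, hm, hsm⟩ := Nat.exists_eq_pow_mul_and_not_dvd (n := q + 1) (by omega) 2 (by norm_num)
    have hm3 : m = 1 ∨ m = 3 := by
      rcases eq_or_ne m 1 with h5 | h5
      · exact Or.inl h5
      obtain ⟨p, hp, hpm⟩ := Nat.exists_prime_and_dvd h5
      rcases hodd p hp (hsm ▸ hpm.mul_left _) with rfl | ⟨rfl, h9⟩
      · exact absurd hpm hm
      · obtain ⟨m', rfl⟩ := hpm
        rcases eq_or_ne m' 1 with rfl | h6
        · exact Or.inr rfl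
        obtain ⟨r, hr, hrm⟩ := Nat.exists_prime_and_dvd h6
        rcases hodd r hr (hsm ▸ (hrm.mul_left 3).mul_left _) with rfl | ⟨rfl, -⟩
        · exact absurd (hrm.mul_left 3) hm
        · exact absurd (hsm ▸ (mul_dvd_mul_left 3 hrm).mul_left _) h9
    rcases hm3 with rfl | rfl
    · exact ⟨s, 0, by omega, by simpa using hsm⟩
    · exact ⟨s, 1, le_rfl, by simpa using hsm⟩
  · obtain ⟨p, hp, hpd, hprim⟩ := CharP.Zsigmondy.zsigmondy (a := q) (n := n) (by omega) (by omega)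
      (fun h5 => h2 ⟨h5.1, by omega⟩) (fun h5 => by omega)
    have hprim' : ∀ i : ℕ, 1 ≤ i → i < n → ¬ p ∣ q ^ i - 1 := fun i hi => hprim i (by omega)
    have h5 := (hb p hp hpd hprim').1
    have h6 := le_of_primitive hq (by omega) hp hpd hprim'
    have hpn : (n + 1).Prime := by
      rwa [show n + 1 = p by omega]
    have heven : 2 ∣ n := by
      rcases hpn.eq_two_or_odd with h7 | h7 <;> omega
    obtain ⟨hb1, hb2⟩ := bad_bound hq (by omega) heven hb
    have hn441 := n_le_of_bound hn hb2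
    have hA := mem_candidates n (List.mem_range.2 (by omega)) (by omega) hpn hb2
    have hq8 : q < 8 := by
      by_contra hq8
      have h8 := Nat.pow_le_pow_left (show 7 ≤ q - 1 by omega) n.totient
      have := q_small n hA
      omega
    rcases q_le n hA q (List.mem_range.2 hq8) hq hb1 with h7 | ⟨D, -, hD1, hD2, hD3, hD4⟩
    · simp only [List.mem_cons, Prod.mk.injEq, List.not_mem_nil, or_false] at h7
      omega
    · exact bad_witness hq (by omega) hb hD1 hD2 hD3 hD4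

end Cfsg.Agent.Recognition.LargePrimitiveDivisor
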