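import Cfsg.Agent.Recognition.TriangleTwoThreeFive
import Cfsg.Agent.Recognition.OrderSixty
import Cfsg.Agent.S0494
import Cfsg.Agent.S0496
import Cfsg.Agent.Lib.Classical.PermModel

/-!
The presentations of `A₅` and of `SL(2,5)` by a triangle of orders 2, 3, 5.
-/

set_option autoImplicit false

namespace Cfsg.Agent.Recognition.TriangleFive

/-- The triangle group has at most sixty elements. -/
theorem card_le_sixty {Q : Type*} [Group Q] (x y : Q) (hgen : Subgroup.closure ({x, y} : Set Q) = ⊤)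
    (hx : x ^ 3 = 1) (hy : y ^ 5 = 1) (hxy : (x * y) ^ 2 = 1) : Finite Q ∧ Nat.card Q ≤ 60 := by
  obtain ⟨S, hS, h1, hcl⟩ := TriangleTwoThreeFive.exists_closed x y
    (by simpa [pow_succ] using hx) (by simpa [pow_succ, mul_assoc] using hy)
    (by simpa [pow_succ, mul_assoc] using hxy)
  let K : Subgroup Q :=
    { carrier := {g | ∀ s, s ∈ S → s * g ∈ S}
      one_mem' := fun s hs => by rwa [mul_one]
      mul_mem' := fun {a b} ha hb s hs => by rw [← mul_assoc]; exact hb _ (ha s hs)
      inv_mem' := fun {a} ha s hs => by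
        obtain ⟨⟨t, ht⟩, hts⟩ := (Finite.injective_iff_surjective (f := fun u : S => (⟨u.1 * a, ha u.1 u.2⟩ : S))).1
          (fun u v e => Subtype.ext (mul_right_cancel (congrArg Subtype.val e))) ⟨s, hs⟩
        have : t * a = s := congrArg Subtype.val hts
        rwa [← this, mul_inv_cancel_right] }
  have hall : ∀ g, g ∈ S := by
    intro g
    have : g ∈ K := (hgen ▸ Subgroup.closure_le K |>.2 (by
      rintro u (rfl | rfl)
      · exact fun s hs => (hcl s hs).1
      · exact fun s hs => (hcl s hs).2)) (Subgroup.mem_top g)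
    simpa using this 1 h1
  have hinj : Function.Injective fun g : Q => (⟨g, hall g⟩ : S) := fun a b h => congrArg Subtype.val h
  refine ⟨Finite.of_injective _ hinj, (Nat.card_le_card_of_injective _ hinj).trans ?_⟩
  simpa using hS

/-- The first generator of `A₅`. -/
def xA : alternatingGroup (Fin 5) := ⟨Equiv.swap 1 4 * Equiv.swap 4 2, Equiv.Perm.mem_alternatingGroup.2 (by decide +kernel)⟩

/-- The second generator of `A₅`. -/
def yA : alternatingGroup (Fin 5) := ⟨finRotate 5, Equiv.Perm.mem_alternatingGroup.2 (by decide +kernel)⟩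

theorem xA_pow : xA ^ 3 = 1 := by decide +kernel
theorem yA_pow : yA ^ 5 = 1 := by decide +kernel
theorem xyA_pow : (xA * yA) ^ 2 = 1 := by decide +kernel
theorem xyA_ne : xA * yA ≠ 1 := by decide +kernel
theorem xA_ne : xA ≠ 1 := by decide +kernel
theorem yA_ne : yA ≠ 1 := by decide +kernel

theorem card_alt : Nat.card (alternatingGroup (Fin 5)) = 60 := by
  rw [nat_card_alternatingGroup, Nat.card_fin]; rfl

theorem closure_A : Subgroup.closure ({xA, yA} : Set (alternatingGroup (Fin 5))) = ⊤ := by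
  set H := Subgroup.closure ({xA, yA} : Set (alternatingGroup (Fin 5)))
  have hx : xA ∈ H := Subgroup.subset_closure (Or.inl rfl)
  have hy : yA ∈ H := Subgroup.subset_closure (Or.inr rfl)
  have hdiv : ∀ g, g ∈ H → orderOf g ∣ Nat.card H := fun g hg => by
    rw [← Subgroup.orderOf_mk g hg]; exact orderOf_dvd_natCard _
  haveI : Fact (Nat.Prime 2) := ⟨Nat.prime_two⟩
  haveI : Fact (Nat.Prime 3) := ⟨Nat.prime_three⟩
  haveI : Fact (Nat.Prime 5) := ⟨by norm_num⟩
  have h2 := hdiv _ (H.mul_mem hx hy)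
  have h3 := hdiv _ hx
  have h5 := hdiv _ hy
  rw [orderOf_eq_prime xyA_pow xyA_ne] at h2
  rw [orderOf_eq_prime xA_pow xA_ne] at h3
  rw [orderOf_eq_prime yA_pow yA_ne] at h5
  have hm := H.card_mul_index
  rw [card_alt] at hm
  obtain ⟨c, hc⟩ : 30 ∣ Nat.card H := Nat.Coprime.mul_dvd_of_dvd_of_dvd (by norm_num : Nat.Coprime 6 5)
    (Nat.Coprime.mul_dvd_of_dvd_of_dvd (by norm_num : Nat.Coprime 2 3) h2 h3) h5
  rw [hc, mul_assoc] at hm
  have : c * H.index = 2 := by omega
  rcases (Nat.dvd_prime Nat.prime_two).1 ⟨c, by rw [← this, mul_comm]⟩ with h | h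
  · exact Subgroup.index_eq_one.1 h
  · haveI := Subgroup.normal_of_index_eq_two h
    haveI := alternatingGroup.isSimpleGroup_five
    rcases IsSimpleGroup.eq_bot_or_eq_top_of_normal H inferInstance with e | e
    · rw [e, Subgroup.mem_bot] at hx; exact absurd hx xA_ne
    · exact e

theorem surjective_of_image {P G : Type*} [Group P] [Group G] (φ : P →* G) (π : G →* alternatingGroup (Fin 5))
    (z : G) (hker : ∀ g, π g = 1 → g = 1 ∨ g = z) (hz : z ∈ φ.range) (a b : P)
    (ha : π (φ a) = xA) (hb : π (φ b) = yA) : Function.Surjective φ := by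
  have htop : (π.comp φ).range = ⊤ := by
    rw [eq_top_iff, ← closure_A, Subgroup.closure_le]
    rintro g (rfl | rfl)
    exacts [⟨a, ha⟩, ⟨b, hb⟩]
  intro g
  obtain ⟨u, hu⟩ : π g ∈ (π.comp φ).range := htop ▸ Subgroup.mem_top _
  have : π (g * (φ u)⁻¹) = 1 := by rw [map_mul, map_inv]; exact mul_inv_eq_one.2 hu.symm
  rcases hker _ this with h | h
  · exact ⟨u, (mul_inv_eq_one.1 h).symm⟩
  · obtain ⟨w, rfl⟩ := hz
    exact ⟨w * u, by rw [map_mul, ← h, inv_mul_cancel_right]⟩

open FreeGroup in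
/-- The relators of `A₅`. -/
def relA : Set (FreeGroup (Fin 2)) := {of (0 : Fin 2) ^ 3, of (1 : Fin 2) ^ 5, (of (0 : Fin 2) * of 1) ^ 2}

theorem presented_alt : Nonempty (PresentedGroup relA ≃* alternatingGroup (Fin 5)) := by
  have hrel : ∀ r ∈ relA, PresentedGroup.mk relA r = 1 := fun r hr =>
    PresentedGroup.one_of_mem hr
  obtain ⟨hfin, hle⟩ := card_le_sixty (Q := PresentedGroup relA) (PresentedGroup.of 0) (PresentedGroup.of 1)
    (by
      rw [eq_top_iff, ← PresentedGroup.closure_range_of relA]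
      refine Subgroup.closure_mono ?_
      rintro g ⟨i, rfl⟩
      fin_cases i <;> simp)
    (by simpa [PresentedGroup.of] using hrel _ (Or.inl rfl))
    (by simpa [PresentedGroup.of] using hrel _ (Or.inr (Or.inl rfl)))
    (by simpa [PresentedGroup.of] using hrel _ (Or.inr (Or.inr rfl)))
  let f : Fin 2 → alternatingGroup (Fin 5) := ![xA, yA]
  have hf : ∀ r ∈ relA, FreeGroup.lift f r = 1 := by
    rintro r (rfl | rfl | rfl) <;> simp [f, xA_pow, yA_pow, xyA_pow]
  let φ := PresentedGroup.toGroup hf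
  have hs : Function.Surjective φ := surjective_of_image φ (MonoidHom.id _) 1 (fun g hg => Or.inl hg) φ.range.one_mem
    (PresentedGroup.of 0) (PresentedGroup.of 1)
    (PresentedGroup.toGroup.of hf) (PresentedGroup.toGroup.of hf)
  exact ⟨MulEquiv.ofBijective φ ((Nat.bijective_iff_surjective_and_card φ).2 ⟨hs,
    le_antisymm (hle.trans card_alt.ge) (Nat.card_le_card_of_surjective _ hs)⟩)⟩

open FreeGroup in
/-- The relators of `SL(2,5)`. -/
def relS : Set (FreeGroup (Fin 3)) :=
  {of (0 : Fin 3) ^ 3, of (1 : Fin 3) ^ 5, of (2 : Fin 3) ^ 2,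
    (of (2 : Fin 3))⁻¹ * of 0 * of 2 * (of (0 : Fin 3))⁻¹,
    (of (2 : Fin 3))⁻¹ * of 1 * of 2 * (of (1 : Fin 3))⁻¹,
    (of (0 : Fin 3) * of 1) ^ 2 * (of (2 : Fin 3))⁻¹}

theorem card_le : Finite (PresentedGroup relS) ∧ Nat.card (PresentedGroup relS) ≤ 120 := by
  have hrel : ∀ r ∈ relS, PresentedGroup.mk relS r = 1 := fun r hr => PresentedGroup.one_of_mem hr
  set x : PresentedGroup relS := PresentedGroup.of 0
  set y : PresentedGroup relS := PresentedGroup.of 1
  set z : PresentedGroup relS := PresentedGroup.of 2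
  have h3 : x ^ 3 = 1 := by simpa [PresentedGroup.of, x] using hrel _ (Or.inl rfl)
  have h5 : y ^ 5 = 1 := by simpa [PresentedGroup.of, y] using hrel _ (Or.inr (Or.inl rfl))
  have h2 : z ^ 2 = 1 := by simpa [PresentedGroup.of, z] using hrel _ (Or.inr (Or.inr (Or.inl rfl)))
  have hcx : z⁻¹ * x * z * x⁻¹ = 1 := by
    simpa [PresentedGroup.of, x, z] using hrel _ (Or.inr (Or.inr (Or.inr (Or.inl rfl))))
  have hcy : z⁻¹ * y * z * y⁻¹ = 1 := by
    simpa [PresentedGroup.of, y, z] using hrel _ (Or.inr (Or.inr (Or.inr (Or.inr (Or.inl rfl)))))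
  have hxy : (x * y) ^ 2 * z⁻¹ = 1 := by
    simpa [PresentedGroup.of, x, y, z] using hrel _ (Or.inr (Or.inr (Or.inr (Or.inr (Or.inr rfl)))))
  rw [mul_inv_eq_one] at hcx hcy hxy
  have hgen : Subgroup.closure (Set.range (PresentedGroup.of : Fin 3 → PresentedGroup relS)) = ⊤ :=
    PresentedGroup.closure_range_of relS
  have hz : z ∈ Subgroup.center (PresentedGroup relS) := by
    have hle : (⊤ : Subgroup (PresentedGroup relS)) ≤ Subgroup.centralizer ({z} : Set (PresentedGroup relS)) := by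
      rw [← hgen, Subgroup.closure_le]
      rintro g ⟨i, rfl⟩
      rw [SetLike.mem_coe, Subgroup.mem_centralizer_singleton_iff]
      fin_cases i
      · change x * z = z * x
        exact inv_mul_eq_iff_eq_mul.1 ((mul_assoc _ _ _).symm.trans hcx)
      · change y * z = z * y
        exact inv_mul_eq_iff_eq_mul.1 ((mul_assoc _ _ _).symm.trans hcy)
      · rfl
    exact Subgroup.mem_center_iff.2 fun g => Subgroup.mem_centralizer_singleton_iff.1 (hle (Subgroup.mem_top g))
  set N := Subgroup.zpowers z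
  haveI : N.Normal := ⟨fun n hn g => by
    have hnc : n ∈ Subgroup.center (PresentedGroup relS) := Subgroup.zpowers_le.2 hz hn
    rwa [Subgroup.mem_center_iff.1 hnc g, mul_inv_cancel_right]⟩
  have hq := card_le_sixty (Q := PresentedGroup relS ⧸ N) (QuotientGroup.mk x) (QuotientGroup.mk y)
    (by
      rw [eq_top_iff, ← Subgroup.map_top_of_surjective (QuotientGroup.mk' N) (QuotientGroup.mk'_surjective N),
        ← hgen, MonoidHom.map_closure, Subgroup.closure_le]
      rintro g ⟨_, ⟨i, rfl⟩, rfl⟩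
      fin_cases i
      · exact Subgroup.subset_closure (Or.inl rfl)
      · exact Subgroup.subset_closure (Or.inr rfl)
      · have : (QuotientGroup.mk z : PresentedGroup relS ⧸ N) = 1 :=
          (QuotientGroup.eq_one_iff _).2 (Subgroup.mem_zpowers z)
        change (QuotientGroup.mk z : PresentedGroup relS ⧸ N) ∈ _
        rw [this]; exact one_mem _)
    (by rw [← QuotientGroup.mk_pow, h3]; rfl) (by rw [← QuotientGroup.mk_pow, h5]; rfl)
    (by
      rw [← QuotientGroup.mk_mul, ← QuotientGroup.mk_pow, hxy, QuotientGroup.eq_one_iff]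
      exact Subgroup.mem_zpowers z)
  haveI := hq.1
  haveI : Finite N := (isOfFinOrder_iff_pow_eq_one.2 ⟨2, two_pos, h2⟩).finite_zpowers.to_subtype
  haveI : Finite (PresentedGroup relS) := Finite.of_subgroup_quotient N
  refine ⟨inferInstance, ?_⟩
  rw [Subgroup.card_eq_card_quotient_mul_card_subgroup N, show (120 : ℕ) = 60 * 2 by norm_num, Nat.card_zpowers]
  exact Nat.mul_le_mul hq.2 (Nat.le_of_dvd two_pos (orderOf_dvd_of_pow_eq_one h2))

theorem presented_equiv {G : Type*} [Group G] (hcard : Nat.card G = 120) (x y z : G) (h3 : x ^ 3 = 1)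
    (h5 : y ^ 5 = 1) (h2 : z ^ 2 = 1) (hc : ∀ g, z * g = g * z) (hxy : (x * y) ^ 2 = z)
    (hsur : ∀ φ : PresentedGroup relS →* G, φ (PresentedGroup.of 0) = x → φ (PresentedGroup.of 1) = y →
      φ (PresentedGroup.of 2) = z → Function.Surjective φ) :
    Nonempty (PresentedGroup relS ≃* G) := by
  haveI : Finite G := Nat.finite_of_card_ne_zero (by omega)
  let f : Fin 3 → G := ![x, y, z]
  have hf : ∀ r ∈ relS, FreeGroup.lift f r = 1 := by
    have hconj : ∀ g, z⁻¹ * g * z * g⁻¹ = 1 := fun g => by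
      rw [mul_assoc z⁻¹ g z, ← hc g, inv_mul_cancel_left, mul_inv_cancel]
    rintro r (rfl | rfl | rfl | rfl | rfl | rfl) <;> simp [f, h3, h5, h2, hconj, hxy]
  let φ := PresentedGroup.toGroup hf
  have hs := hsur φ (PresentedGroup.toGroup.of hf) (PresentedGroup.toGroup.of hf) (PresentedGroup.toGroup.of hf)
  haveI := card_le.1
  exact ⟨MulEquiv.ofBijective φ ((Nat.bijective_iff_surjective_and_card φ).2 ⟨hs,
    le_antisymm (card_le.2.trans hcard.ge) (Nat.card_le_card_of_surjective _ hs)⟩)⟩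

/-- An element of `SL(2,5)` of order three. -/
def xS : Matrix.SpecialLinearGroup (Fin 2) (ZMod 5) := ⟨!![0, 4; 1, 4], by decide +kernel⟩

/-- An element of `SL(2,5)` of order five. -/
def yS : Matrix.SpecialLinearGroup (Fin 2) (ZMod 5) := ⟨!![1, 1; 0, 1], by decide +kernel⟩

theorem transvection_eq_sq : ∀ (i j : Fin 2) (hij : i ≠ j),
    Matrix.SpecialLinearGroup.transvection hij (1 : ZMod 5) =
      (Matrix.SpecialLinearGroup.transvection hij (1 : ZMod 5) ^ 3) ^ 2 := by
  decide +kernel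

theorem presented_SL : Nonempty (PresentedGroup relS ≃* Matrix.SpecialLinearGroup (Fin 2) (ZMod 5)) := by
  haveI : Fact (Nat.Prime 5) := ⟨by norm_num⟩
  have hcard : Nat.card (Matrix.SpecialLinearGroup (Fin 2) (ZMod 5)) = 120 := by
    rw [Nat.card_eq_fintype_card]; decide +kernel
  refine presented_equiv hcard xS yS (-1) (by decide +kernel) (by decide +kernel) (by decide +kernel)
    (fun g => by simp) (by decide +kernel) fun φ hx hy hz => ?_
  rw [← MonoidHom.range_eq_top]
  have hxH : xS ∈ φ.range := ⟨_, hx⟩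
  have hyH : yS ∈ φ.range := ⟨_, hy⟩
  have hdiv : ∀ g, g ∈ φ.range → orderOf g ∣ Nat.card φ.range := fun g hg => by
    rw [← Subgroup.orderOf_mk g hg]; exact orderOf_dvd_natCard _
  have h3 := hdiv _ hxH
  have h5 := hdiv _ hyH
  have h4 := hdiv _ (φ.range.mul_mem hxH hyH)
  haveI : Fact (Nat.Prime 3) := ⟨Nat.prime_three⟩
  haveI : Fact (Nat.Prime 2) := ⟨Nat.prime_two⟩
  rw [orderOf_eq_prime (show xS ^ 3 = 1 by decide +kernel) (by decide +kernel)] at h3
  rw [orderOf_eq_prime (show yS ^ 5 = 1 by decide +kernel) (by decide +kernel)] at h5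
  rw [orderOf_eq_prime_pow (p := 2) (n := 1) (x := xS * yS) (by decide +kernel) (by decide +kernel)] at h4
  have hm := φ.range.card_mul_index
  rw [hcard] at hm
  obtain ⟨c, hc⟩ : 60 ∣ Nat.card φ.range := Nat.Coprime.mul_dvd_of_dvd_of_dvd (by norm_num : Nat.Coprime 12 5)
    (Nat.Coprime.mul_dvd_of_dvd_of_dvd (by norm_num : Nat.Coprime 4 3) (by simpa using h4) h3) h5
  rw [hc, mul_assoc] at hm
  have : c * φ.range.index = 2 := by omega
  rcases (Nat.dvd_prime Nat.prime_two).1 ⟨c, by rw [← this, mul_comm]⟩ with h | h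
  · exact Subgroup.index_eq_one.1 h
  · rw [eq_top_iff, ← Classical.PermModel.closure_zmod_transvections (n := Fin 2) 5, Subgroup.closure_le]
    rintro g ⟨i, j, hij, rfl⟩
    rw [transvection_eq_sq i j hij]
    exact Subgroup.sq_mem_of_index_two h _

theorem quaternion_unique : ∀ u v : QuaternionGroup 2, u * u = 1 → v * v = 1 → u ≠ 1 → v ≠ 1 → u = v := by
  decide +kernel

theorem recognise {G : Type*} [Group G] [Finite G] (hcard : Nat.card G = 120) (hsol : ¬ Group.IsSolvable G)
    (hP : ∀ P : Sylow 2 G, Nonempty ((P : Subgroup G) ≃* QuaternionGroup 2)) :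
    Nonempty (G ≃* Matrix.SpecialLinearGroup (Fin 2) (ZMod 5)) := by
  classical
  haveI : Fact (Nat.Prime 2) := ⟨Nat.prime_two⟩
  have hinv : ∀ K : Subgroup G, IsPGroup 2 K → ∀ u ∈ K, ∀ v ∈ K,
      u * u = 1 → v * v = 1 → u ≠ 1 → v ≠ 1 → u = v := by
    intro K hK u hu v hv hu2 hv2 hu1 hv1
    obtain ⟨P, hKP⟩ := hK.exists_le_sylow
    obtain ⟨e⟩ := hP P
    have := quaternion_unique (e ⟨u, hKP hu⟩) (e ⟨v, hKP hv⟩) (by rw [← map_mul, ← e.map_one]; exact congrArg e (Subtype.ext hu2))
      (by rw [← map_mul, ← e.map_one]; exact congrArg e (Subtype.ext hv2))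
      (fun h => hu1 (congrArg Subtype.val (e.injective (h.trans e.map_one.symm))))
      (fun h => hv1 (congrArg Subtype.val (e.injective (h.trans e.map_one.symm))))
    exact congrArg Subtype.val (e.injective this)
  haveI : Nontrivial G := Finite.one_lt_card_iff_nontrivial.1 (by omega)
  obtain ⟨N, hN, hN0, hN1⟩ : ∃ N : Subgroup G, N.Normal ∧ N ≠ ⊥ ∧ N ≠ ⊤ := by
    by_contra hne
    push Not at hne
    haveI : IsSimpleGroup G := ⟨fun N hN => (em (N = ⊥)).imp id fun h0 => hne N hN h0⟩
    have := S0496.result (G := G) (fun hc => hsol (isSolvable_of_comm fun a b => hc.is_comm.comm a b)) (by omega)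
    omega
  have hmul := Subgroup.card_eq_card_quotient_mul_card_subgroup N
  rw [hcard] at hmul
  have h1 : 1 < Nat.card N := (Subgroup.one_lt_card_iff_ne_bot N).2 hN0
  have h2 : 1 < Nat.card (G ⧸ N) := by
    have h0 : N.index ≠ 0 := Subgroup.index_ne_zero_of_finite
    have h1 : N.index ≠ 1 := fun e => hN1 (Subgroup.index_eq_one.1 e)
    change 1 < N.index
    omega
  have hsimple : ∀ (K : Type _) [Group K] [Finite K], Nat.card K = 60 → ¬ Group.IsSolvable K →
      IsSimpleGroup K := by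
    intro K _ _ hK hns
    rcases OrderSixty.simple_or_exists_abelian hK with h | ⟨A, hA, hAc, h5⟩
    · exact h
    · exfalso
      refine hns ?_
      haveI : Group.IsSolvable A := isSolvable_of_comm fun a b => Subtype.ext (hAc a a.2 b b.2)
      haveI : Group.IsSolvable (K ⧸ A) := by
        refine OrderSixty.isSolvable_of_card_lt ?_
        have hm := A.index_mul_card
        rw [hK] at hm
        change A.index < 60
        rcases Nat.lt_or_ge (Nat.card A) 2 with hA2 | hA2
        · have : Nat.card A = 1 := by have := Nat.card_pos (α := A); omega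
          rw [this, mul_one] at hm
          rw [hm] at h5
          exact absurd (by norm_num) h5
        · nlinarith
      exact solvable_of_ker_le_range A.subtype (QuotientGroup.mk' A) (by simp)
  by_cases hNs : Group.IsSolvable N
  swap
  · exfalso
    have h60 : 60 ≤ Nat.card N := by
      by_contra hlt
      exact hNs (OrderSixty.isSolvable_of_card_lt (by omega))
    have hN60 : Nat.card N = 60 := by nlinarith
    haveI := hsimple N hN60 hNs
    obtain ⟨e⟩ := S0494.result hN60
    obtain ⟨u, v, hu2, hv2, hu1, hv1, huv, hne⟩ : ∃ u v : alternatingGroup (Fin 5),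
        u * u = 1 ∧ v * v = 1 ∧ u ≠ 1 ∧ v ≠ 1 ∧ u * v = v * u ∧ u ≠ v :=
      ⟨⟨Equiv.swap 0 1 * Equiv.swap 2 3, Equiv.Perm.mem_alternatingGroup.2 (by decide +kernel)⟩, ⟨Equiv.swap 0 2 * Equiv.swap 1 3, Equiv.Perm.mem_alternatingGroup.2 (by decide +kernel)⟩,
        by decide +kernel, by decide +kernel, by decide +kernel, by decide +kernel, by decide +kernel, by decide +kernel⟩
    set f : alternatingGroup (Fin 5) →* G := N.subtype.comp e.symm.toMonoidHom with hf
    have hfi : Function.Injective f := N.subtype_injective.comp e.symm.injective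
    have hK : IsPGroup 2 (Subgroup.zpowers (f u) ⊔ Subgroup.zpowers (f v) : Subgroup G) := by
      have hz : ∀ w : alternatingGroup (Fin 5), w * w = 1 → IsPGroup 2 (Subgroup.zpowers (f w)) := by
        intro w hw
        obtain ⟨k, -, hk⟩ := (Nat.dvd_prime_pow Nat.prime_two).1 (show orderOf (f w) ∣ 2 ^ 1 from
          orderOf_dvd_of_pow_eq_one (by rw [pow_one, pow_two, ← map_mul, hw, map_one]))
        exact IsPGroup.of_card (n := k) (by rw [Nat.card_zpowers, hk])
      refine (hz u hu2).to_sup_of_normal_right' (hz v hv2) ?_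
      rw [Subgroup.zpowers_le, Subgroup.mem_normalizer_iff]
      intro n
      have hc : Commute (f u) (f v) := Commute.map (show Commute u v from huv) f
      constructor
      · intro hn
        obtain ⟨k, rfl⟩ := hn
        rw [(hc.zpow_right k).eq, mul_inv_cancel_right]
        exact ⟨k, rfl⟩
      · intro hn
        obtain ⟨k, hk⟩ := hn
        refine ⟨k, ?_⟩
        have hk' : f v ^ k = f u * n * (f u)⁻¹ := hk
        change f v ^ k = n
        calc f v ^ k = (f u)⁻¹ * (f u * f v ^ k) := by group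
          _ = (f u)⁻¹ * (f v ^ k * f u) := by rw [(hc.zpow_right k).eq]
          _ = n := by rw [hk']; group
    refine hne (hfi (hinv _ hK _ (le_sup_left (a := Subgroup.zpowers (f u)) (Subgroup.mem_zpowers _)) _
      (le_sup_right (a := Subgroup.zpowers (f u)) (Subgroup.mem_zpowers _))
      (by rw [← map_mul, hu2, map_one]) (by rw [← map_mul, hv2, map_one])
      (fun h => hu1 (hfi (h.trans f.map_one.symm))) (fun h => hv1 (hfi (h.trans f.map_one.symm)))))
  have hQs : ¬ Group.IsSolvable (G ⧸ N) := fun h =>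
    hsol (solvable_of_ker_le_range N.subtype (QuotientGroup.mk' N) (by simp))
  have h60 : 60 ≤ Nat.card (G ⧸ N) := by
    by_contra hlt
    exact hQs (OrderSixty.isSolvable_of_card_lt (by omega))
  have hN2 : Nat.card N = 2 := by nlinarith
  have hQ60 : Nat.card (G ⧸ N) = 60 := by rw [hN2] at hmul; omega
  haveI := hsimple _ hQ60 hQs
  obtain ⟨e⟩ := S0494.result hQ60
  set π : G →* alternatingGroup (Fin 5) := e.toMonoidHom.comp (QuotientGroup.mk' N)
  have hπ : Function.Surjective π := e.surjective.comp (QuotientGroup.mk'_surjective N)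
  have hπker : ∀ g, π g = 1 ↔ g ∈ N := fun g => by
    change e (QuotientGroup.mk g) = 1 ↔ _
    rw [map_eq_one_iff e e.injective, QuotientGroup.eq_one_iff]
  obtain ⟨⟨z, hz⟩, hz1⟩ := Subgroup.ne_bot_iff_exists_ne_one.1 hN0
  have hz1' : z ≠ 1 := fun h => hz1 (Subtype.ext h)
  have hNmem : ∀ g ∈ N, g = 1 ∨ g = z := by
    intro g hg
    by_contra hne
    push Not at hne
    haveI : Fintype N := Fintype.ofFinite N
    have : ({1, ⟨z, hz⟩, ⟨g, hg⟩} : Finset N).card ≤ 2 := by
      rw [← hN2, Nat.card_eq_fintype_card]; exact Finset.card_le_univ _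
    rw [Finset.card_eq_three.2 ⟨1, ⟨z, hz⟩, ⟨g, hg⟩, Ne.symm hz1, fun h => hne.1 (congrArg Subtype.val h).symm,
      fun h => hne.2 (congrArg Subtype.val h).symm, rfl⟩] at this
    omega
  have hNsq : ∀ g ∈ N, g ^ 2 = 1 := fun g hg => by
    have := orderOf_dvd_natCard (⟨g, hg⟩ : N)
    rw [hN2, Subgroup.orderOf_mk] at this
    exact orderOf_dvd_iff_pow_eq_one.1 this
  have hzc : ∀ g, z * g = g * z := by
    intro g
    rcases hNmem _ (hN.conj_mem z hz g) with h | h
    · exact absurd (conj_eq_one_iff.1 h) hz1'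
    · exact (mul_inv_eq_iff_eq_mul.1 h).symm
  obtain ⟨x₀, hx₀⟩ := hπ xA
  obtain ⟨y₀, hy₀⟩ := hπ yA
  have hx3 : (x₀ ^ 4) ^ 3 = 1 := by
    have := hNsq _ ((hπker (x₀ ^ 3)).1 (by rw [map_pow, hx₀, xA_pow]))
    rw [← pow_mul] at this ⊢
    rw [show 4 * 3 = 3 * 2 * 2 by norm_num, pow_mul, this, one_pow]
  have hy5 : (y₀ ^ 6) ^ 5 = 1 := by
    have := hNsq _ ((hπker (y₀ ^ 5)).1 (by rw [map_pow, hy₀, yA_pow]))
    rw [← pow_mul] at this ⊢
    rw [show 6 * 5 = 5 * 2 * 3 by norm_num, pow_mul, this, one_pow]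
  have hπx : π (x₀ ^ 4) = xA := by rw [map_pow, hx₀, pow_succ, xA_pow, one_mul]
  have hπy : π (y₀ ^ 6) = yA := by rw [map_pow, hy₀, pow_succ, yA_pow, one_mul]
  have hxy : (x₀ ^ 4 * y₀ ^ 6) ^ 2 = z := by
    rcases hNmem ((x₀ ^ 4 * y₀ ^ 6) ^ 2) ((hπker _).1 (by rw [map_pow, map_mul, hπx, hπy, xyA_pow])) with h | h
    · exfalso
      set w := x₀ ^ 4 * y₀ ^ 6
      have hw1 : π w ≠ 1 := by rw [map_mul, hπx, hπy]; exact xyA_ne
      have hwK : IsPGroup 2 (Subgroup.zpowers w ⊔ N : Subgroup G) := by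
        obtain ⟨k, -, hk⟩ := (Nat.dvd_prime_pow Nat.prime_two).1 (show orderOf w ∣ 2 ^ 1 from
          orderOf_dvd_of_pow_eq_one (by rw [pow_one, h]))
        exact IsPGroup.to_sup_of_normal_right (IsPGroup.of_card (n := k) (by rw [Nat.card_zpowers, hk]))
          (IsPGroup.of_card (n := 1) (by rw [hN2, pow_one]))
      have := hinv _ hwK w (le_sup_left (b := N) (Subgroup.mem_zpowers w)) z (le_sup_right (a := Subgroup.zpowers w) hz)
        (by rw [← pow_two, h]) (by rw [← pow_two, hNsq z hz]) (fun hh => hw1 (by rw [hh, map_one])) hz1'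
      exact hw1 ((hπker w).2 (this ▸ hz))
    · exact h
  obtain ⟨e1⟩ := presented_equiv hcard _ _ z hx3 hy5 (hNsq z hz) hzc hxy fun φ hx hy hz' =>
    surjective_of_image φ π z (fun g hg => hNmem g ((hπker g).1 hg)) ⟨_, hz'⟩ _ _
      (hx ▸ hπx) (hy ▸ hπy)
  obtain ⟨e2⟩ := presented_SL
  exact ⟨e1.symm.trans e2⟩

end Cfsg.Agent.Recognition.TriangleFive
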