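import Cfsg.Agent.Recognition.ExceptionalValues
import Cfsg.Agent.BlocksChars.ClassAlg
import Cfsg.Agent.Lib.CharTheory.DihedralEight
import Cfsg.Agent.S0496

/-!
# Simple groups with a strongly self-centralizing Sylow subgroup of type `(3, 3)`

If there are two classes of elements of order 3, the class multiplication constants of these
classes bound the order by 1092.
-/

set_option linter.style.haveILetI false

namespace Cfsg.Agent.Recognition.SelfCentNine

open scoped ComplexConjugate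
open Cfsg.Agent.Characters Cfsg.Agent.OddChar
open Cfsg.Agent.SmallSimple.Exceptional

universe u

variable {G : Type u} [Group G]

/-- Two elements of order 3 with product of order 2 generate an `A₄`. -/
theorem isConj_inv_of_sq_mul {x y : G} (hx : x ^ 3 = 1) (hy : y ^ 3 = 1) (hxy : (x * y) ^ 2 = 1) :
    IsConj x⁻¹ y := by
  have hx' : x * x * x = 1 := by rw [← hx, pow_succ, pow_two]
  have hy' : y * y * y = 1 := by rw [← hy, pow_succ, pow_two]
  have hxy' : (x * y) * (x * y) = 1 := by rw [← sq]; exact hxy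
  have h1 : y * x * y = x⁻¹ := by
    calc y * x * y = x⁻¹ * ((x * y) * (x * y)) := by group
      _ = x⁻¹ := by rw [hxy', mul_one]
  refine isConj_iff.2 ⟨x * x * y * x * x, ?_⟩
  have h2 : y⁻¹ = x * y * x := by
    calc y⁻¹ = ((x * y) * (x * y)) * y⁻¹ := by rw [hxy', one_mul]
      _ = x * y * x := by group
  have hxi : x⁻¹ = x * x := inv_eq_of_mul_eq_one_right (by rw [← mul_assoc]; exact hx')
  calc x * x * y * x * x * x⁻¹ * (x * x * y * x * x)⁻¹ = x * x * y * x * (x⁻¹ * x⁻¹) * y⁻¹ * (x⁻¹ * x⁻¹) := by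
        group
    _ = x * x * y * x * x * y⁻¹ * x := by
        rw [show x⁻¹ * x⁻¹ = x by rw [hxi]; calc x * x * (x * x) = x * x * x * x := by group
          _ = x := by rw [hx', one_mul]]
    _ = x * x * y * x * x * (x * y * x) * x := by rw [h2]
    _ = x * x * y * (x * x * x) * (y * (x * x)) := by group
    _ = x * x * (y * y) * (x * x) := by rw [hx']; group
    _ = x⁻¹ * y⁻¹ * x⁻¹ := by
        rw [hxi, inv_eq_of_mul_eq_one_right (a := y) (b := y * y) (by rw [← mul_assoc]; exact hy')]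
    _ = (y * x * y) * y⁻¹ * x⁻¹ := by rw [h1]
    _ = y := by group

/-- Two conjugates `x`, `y` of an element of order 3 with product of order 3 in another class
commute, when centralizers of elements of order 3 have exponent 3. -/
theorem commute_of_pow_mul [Finite G] {x y : G} (hx : orderOf x = 3) (hy : y ^ 3 = 1)
    (hxy : (x * y) ^ 3 = 1) (hC : ∀ g : G, orderOf g = 3 →
      ∀ h ∈ Subgroup.centralizer ({g} : Set G), h ^ 3 = 1)
    (hP : ∀ Q : Subgroup G, IsPGroup 3 Q → ∀ g ∈ Q, ∀ h ∈ Q, g * h = h * g)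
    (hne : ¬ IsConj x (x * y)⁻¹) : x * y = y * x := by
  classical
  have hx' : x * x * x = 1 := by rw [← pow_two, ← pow_succ]; have h := pow_orderOf_eq_one x; rwa [hx] at h
  have hy' : y * y * y = 1 := by rw [← hy, pow_succ, pow_two]
  have hxy' : x * y * (x * y) * (x * y) = 1 := by rw [← hxy, pow_succ, pow_two]
  set u := x * y⁻¹ with hu
  set v := y⁻¹ * x with hv
  have hinvx : x⁻¹ = x * x := inv_eq_of_mul_eq_one_right (by rw [← mul_assoc]; exact hx')
  have hinvy : y⁻¹ = y * y := inv_eq_of_mul_eq_one_right (by rw [← mul_assoc]; exact hy')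
  have huv : u * v = x * y * x := by
    calc u * v = x * (y⁻¹ * y⁻¹) * x := by simp only [hu, hv]; group
      _ = x * (y * y * (y * y)) * x := by rw [hinvy]
      _ = x * (y * y * y) * y * x := by group
      _ = x * y * x := by rw [hy', mul_one]
  have hvu : v * u = x * y * x := by
    calc v * u = y⁻¹ * (x * x) * y⁻¹ := by simp only [hu, hv]; group
      _ = y⁻¹ * x⁻¹ * y⁻¹ := by rw [hinvx]
      _ = (x * y * (x * y) * (x * y)) * (y⁻¹ * x⁻¹ * y⁻¹) := by rw [hxy', one_mul]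
      _ = x * y * x := by group
  have hcuv : u * v = v * u := huv.trans hvu.symm
  set M := Subgroup.closure ({u, v} : Set G) with hM
  have huM : u ∈ M := Subgroup.subset_closure (Set.mem_insert _ _)
  have hvM : v ∈ M := Subgroup.subset_closure (Set.mem_insert_of_mem _ rfl)
  have hMcomm : ∀ g ∈ M, ∀ h ∈ M, g * h = h * g := by
    have hle : M ≤ Subgroup.centralizer (M : Set G) := by
      rw [hM, Subgroup.centralizer_closure, Subgroup.closure_le]
      rintro g (rfl | rfl) h (rfl | rfl)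
      · rfl
      · exact hcuv.symm
      · exact hcuv
      · rfl
    intro g hg h hh
    exact (hle hg h hh).symm
  have hxu : x * u * x⁻¹ = (u * v)⁻¹ := by
    rw [huv]
    calc x * u * x⁻¹ = (x * x) * y⁻¹ * x⁻¹ := by simp only [hu]; group
      _ = (x * y * x)⁻¹ := by rw [← hinvx]; group
  have hxv : x * v * x⁻¹ = u := by simp only [hu, hv]; group
  have hxM : ∀ m ∈ M, x * m * x⁻¹ ∈ M := by
    intro m hm
    rw [hM] at hm
    induction hm using Subgroup.closure_induction with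
    | mem g hg =>
      rcases hg with rfl | rfl
      · rw [hxu]; exact M.inv_mem (M.mul_mem huM hvM)
      · rw [hxv]; exact huM
    | one => simp
    | mul g h _ _ hg hh => rw [show x * (g * h) * x⁻¹ = (x * g * x⁻¹) * (x * h * x⁻¹) by group]; exact M.mul_mem hg hh
    | inv g _ hg => rw [show x * g⁻¹ * x⁻¹ = (x * g * x⁻¹)⁻¹ by group]; exact M.inv_mem hg
  have hyx : y = u⁻¹ * x := by simp only [hu]; group
  by_cases h3 : IsPGroup 3 M
  · set Q := M ⊔ Subgroup.zpowers x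
    have hzN : Subgroup.zpowers x ≤ Subgroup.normalizer (M : Set G) := by
      rw [Subgroup.zpowers_le, Subgroup.mem_normalizer_iff]
      intro m
      refine ⟨hxM m, fun h => ?_⟩
      have h2 := hxM _ (hxM _ h)
      have he : x * (x * (x * m * x⁻¹) * x⁻¹) * x⁻¹ = m := by
        calc x * (x * (x * m * x⁻¹) * x⁻¹) * x⁻¹ = (x * x * x) * m * (x * x * x)⁻¹ := by group
          _ = m := by rw [hx']; group
      rwa [he] at h2
    have hzp : IsPGroup 3 (Subgroup.zpowers x) :=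
      IsPGroup.of_card (n := 1) (by rw [Nat.card_zpowers, hx, pow_one])
    have hQ : IsPGroup 3 Q := h3.to_sup_of_normal_left' hzp hzN
    have hxQ : x ∈ Q := Subgroup.mem_sup_right (Subgroup.mem_zpowers x)
    have hyQ : y ∈ Q := by
      rw [hyx]; exact Q.mul_mem (Q.inv_mem (Subgroup.mem_sup_left huM)) hxQ
    exact hP Q hQ x hxQ y hyQ
  exfalso
  -- a prime other than 3 divides `|M|`, so 3 does not
  obtain ⟨r, hr, hr3, hrM⟩ : ∃ r : ℕ, r.Prime ∧ r ≠ 3 ∧ r ∣ Nat.card M := by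
    by_contra hcon
    push Not at hcon
    exact h3 (IsPGroup.of_card (n := (Nat.card M).primeFactorsList.length)
      (Nat.eq_prime_pow_of_unique_prime_dvd Nat.card_pos.ne' fun {r} hr hd => by
        by_contra hne; exact hcon r hr hne hd))
  haveI := Fact.mk hr
  obtain ⟨m₀, hm₀⟩ := exists_prime_orderOf_dvd_card' r hrM
  have hfree : ∀ m : G, m ∈ M → m * x = x * m → m = 1 := by
    intro m hm hmx
    have hm3 : m ^ 3 = 1 := hC x hx m (Subgroup.mem_centralizer_singleton_iff.2 hmx)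
    by_contra hm1
    have hmo : orderOf m = 3 := orderOf_eq_prime hm3 hm1
    have h := hC m hmo m₀ (Subgroup.mem_centralizer_singleton_iff.2 (hMcomm _ m₀.2 _ hm))
    have hd : orderOf (m₀ : G) ∣ 3 := orderOf_dvd_of_pow_eq_one h
    rw [Subgroup.orderOf_coe, hm₀, Nat.prime_dvd_prime_iff_eq hr Nat.prime_three] at hd
    exact hr3 hd
  let F : M → M := fun m => m * ⟨x * (m : G)⁻¹ * x⁻¹, hxM _ (M.inv_mem m.2)⟩
  have hF : Function.Injective F := by
    intro m n h
    have h' : (m : G) * (x * (m : G)⁻¹ * x⁻¹) = (n : G) * (x * (n : G)⁻¹ * x⁻¹) := congrArg Subtype.val h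
    refine Subtype.ext (inv_mul_eq_one.1 (hfree ((n : G)⁻¹ * m) (M.mul_mem (M.inv_mem n.2) m.2) ?_)).symm
    calc (n : G)⁻¹ * m * x = (n : G)⁻¹ * ((m : G) * (x * (m : G)⁻¹ * x⁻¹)) * (x * (m : G)) := by group
      _ = x * ((n : G)⁻¹ * m) := by rw [h']; group
  obtain ⟨n, hn⟩ := (Finite.injective_iff_surjective.1 hF) ⟨_, hxM _ (hxM _ huM)⟩
  apply hne
  refine isConj_iff.2 ⟨n, ?_⟩
  have hn' : (n : G) * (x * (n : G)⁻¹ * x⁻¹) = x * (x * u * x⁻¹) * x⁻¹ := congrArg Subtype.val hn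
  calc (n : G) * x * (n : G)⁻¹ = (n : G) * (x * (n : G)⁻¹ * x⁻¹) * x := by group
    _ = x * x * u * x⁻¹ := by rw [hn']; group
    _ = x⁻¹ * u * x⁻¹ := by rw [← hinvx]
    _ = (x * y)⁻¹ := by simp only [hu]; group

/-- The class multiplication formula for three elements. -/
theorem card_mul_eq [Fintype G] [Fintype (Cfsg.IrrCharacter G)] (x y z : G) :
    (Nat.card G : ℂ) * (Nat.card {g : G // IsConj x g ∧ IsConj y (g⁻¹ * z)} : ℂ) =
      (BlocksChars.ClassAlg.classSize x : ℂ) * (BlocksChars.ClassAlg.classSize y : ℂ) *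
        ∑ χ : Cfsg.IrrCharacter G,
          (χ : G → ℂ) x * (χ : G → ℂ) y * conj ((χ : G → ℂ) z) / (χ : G → ℂ) 1 := by
  rw [← BlocksChars.ClassAlg.conv_classInd, BlocksChars.ClassAlg.conv_eq_sum
    (BlocksChars.ClassAlg.classInd_isClassFunction x) (BlocksChars.ClassAlg.classInd_isClassFunction y),
    Finset.mul_sum]
  refine Finset.sum_congr rfl fun χ _ => ?_
  rw [BlocksChars.ClassAlg.omega_classInd, BlocksChars.ClassAlg.omega_classInd]
  field_simp [irr_one_ne_zero χ.2]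

/-- A nontrivial irreducible character of a simple group separates `1` from the other elements. -/
theorem ne_degree [IsSimpleGroup G] [Finite G] {g : G} (hg : g ≠ 1)
    {χ : Cfsg.IrrCharacter G} (hχ : χ ≠ trivIrr G) : (χ : G → ℂ) g ≠ (χ : G → ℂ) 1 := by
  intro h
  haveI := charKernel_normal (irr_isCharacter χ)
  have hmem : g ∈ charKernel (χ : G → ℂ) (irr_isCharacter χ) := mem_charKernel.2 h
  rcases (inferInstance : (charKernel (χ : G → ℂ) (irr_isCharacter χ)).Normal).eq_bot_or_eq_top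
    with hk | hk
  · rw [hk, Subgroup.mem_bot] at hmem; exact hg hmem
  haveI := Fintype.ofFinite G
  have hconst : ∀ x : G, (χ : G → ℂ) x = (χ : G → ℂ) 1 := fun x =>
    (mem_charKernel (h := irr_isCharacter χ)).1 (by rw [hk]; trivial)
  have h0 := classInner_isIrr_ne χ.2 (trivIrr G).2 (fun e => hχ (Subtype.ext e))
  rw [classInner_def] at h0
  simp only [hconst, trivIrr_coe, map_one, mul_one, Finset.sum_const, Finset.card_univ,
    nsmul_eq_mul, ← Nat.card_eq_fintype_card] at h0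
  rw [inv_mul_cancel_left₀ natCard_ne_zero] at h0
  exact irr_one_ne_zero χ.2 h0

section Hyp

variable [Fintype G] [IsSimpleGroup G] {S : Subgroup G}

omit [IsSimpleGroup G] in
/-- Splitting a sum over the irreducible characters. -/
theorem sum_split [Fintype (Cfsg.IrrCharacter G)] {t : ℕ} {μ : Fin t → Cfsg.IrrCharacter G}
    {R : Finset (Cfsg.IrrCharacter G)} (hμ : Function.Injective μ) (h1 : ∀ j, μ j ≠ trivIrr G)
    (h2 : trivIrr G ∉ R) (h3 : ∀ j, μ j ∉ R) (F : Cfsg.IrrCharacter G → ℂ)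
    (hF : ∀ χ, χ ∉ R → χ ≠ trivIrr G → (∀ j, μ j ≠ χ) → F χ = 0) :
    ∑ χ, F χ = F (trivIrr G) + ∑ j, F (μ j) + ∑ χ ∈ R, F χ := by
  classical
  have hd : Disjoint (Finset.univ.image μ) R := Finset.disjoint_left.2 fun χ h hR => by
    obtain ⟨j, -, rfl⟩ := Finset.mem_image.1 h
    exact h3 j hR
  have hn : trivIrr G ∉ Finset.univ.image μ ∪ R := by
    simp only [Finset.mem_union, Finset.mem_image, Finset.mem_univ, true_and, not_or, not_exists]
    exact ⟨h1, h2⟩
  rw [← Finset.sum_subset (Finset.subset_univ (insert (trivIrr G) (Finset.univ.image μ ∪ R)))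
    (fun χ _ h => ?_), Finset.sum_insert hn, Finset.sum_union hd,
    Finset.sum_image (fun a _ b _ h => hμ h), add_assoc]
  simp only [Finset.mem_insert, Finset.mem_union, Finset.mem_image, Finset.mem_univ, true_and,
    not_or, not_exists] at h
  exact hF χ h.2.2 h.1 h.2.1

omit [IsSimpleGroup G] in
theorem classSize_mul_nine (hS : SelfCent S) (h9 : Nat.card S = 9) {x : G} (hx : x ∈ S) (hx1 : x ≠ 1) :
    (BlocksChars.ClassAlg.classSize x : ℂ) * 9 = (Nat.card G : ℂ) := by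
  have h := BlocksChars.ClassAlg.classSize_mul_card_centralizer x
  rw [hS.centralizer_eq x hx hx1, h9] at h
  exact_mod_cast h

/-- Four classes are impossible. -/
theorem four_classes_false (hG : ¬ IsMulCommutative G) (hS : SelfCent S) (h9 : Nat.card S = 9)
    (he : S.relIndex (Subgroup.normalizer (S : Set G)) = 2) {a b t : G} (ha : a ∈ S) (hb : b ∈ S)
    (ha1 : a ≠ 1) (hb1 : b ≠ 1) (ht : orderOf t = 2) (hab : ¬ IsConj a b)
    (hreal : ∀ y ∈ S, IsConj y⁻¹ y)
    (hzero : Nat.card {g : G // IsConj a g ∧ IsConj b (g⁻¹ * t)} = 0) : False := by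
  classical
  haveI := Fintype.ofFinite (Cfsg.IrrCharacter G)
  obtain ⟨ε, c, μ, R, f, hε, hμ, hμ1, hR1, hμR, hnorm, hf0, hRval, hμsum, hvan, hμeq, hμdeg, hRdeg⟩ :=
    ExceptionalValues.exceptional_chars hS he (t := 4) (by rw [h9]) (by norm_num)
  have hR0 : 0 ≤ ∑ χ ∈ R, f χ ^ 2 := Finset.sum_nonneg fun χ _ => sq_nonneg _
  have hc : c = 0 := by
    rcases hε with rfl | rfl <;> push_cast at hnorm <;> nlinarith [sq_nonneg c]
  subst hc
  have hsq : ∑ χ ∈ R, f χ ^ 2 = 1 := by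
    rcases hε with rfl | rfl <;> push_cast at hnorm <;> linarith
  have hR : R.card = 1 := by
    have hle : (R.card : ℤ) ≤ 1 := by
      rw [← hsq, Finset.card_eq_sum_ones]; push_cast
      exact Finset.sum_le_sum fun χ hχ => Int.add_one_le_iff.2 (sq_pos_of_ne_zero (hf0 χ hχ))
    rcases Nat.eq_zero_or_pos R.card with h | h
    · rw [Finset.card_eq_zero.1 h] at hsq; simp at hsq
    · omega
  obtain ⟨χ₁, rfl⟩ := Finset.card_eq_one.1 hR
  simp only [Finset.sum_singleton] at hsq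
  have hconjS : ∀ (χ : Cfsg.IrrCharacter G), ∀ y ∈ S, conj ((χ : G → ℂ) y) = (χ : G → ℂ) y :=
    fun χ y hy => by
      rw [← char_inv (irr_isCharacter χ)]
      exact BlocksChars.ClassAlg.classFun_eq_of_isConj (irr_isClassFunction χ) (hreal y hy)
  have hsame : ∀ g : G, (g = 1 ∨ orderOf g = 2) → ∀ i, (μ i : G → ℂ) g = (μ 0 : G → ℂ) g := by
    intro g hg i
    refine hμeq g (fun φ => ?_) i 0
    rcases hg with rfl | hg
    · exact A_one φ
    refine Induce.indFun_eq_zero S _ g fun k => CharTheory.IndBasic.extendByZero_of_notMem S _ fun hk => ?_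
    have ho : orderOf (k⁻¹ * g * k) = 2 := by
      rw [← hg]
      have := orderOf_injective (MulAut.conj k⁻¹).toMonoidHom (MulAut.conj k⁻¹).injective g
      simpa using this
    have hd2 := orderOf_dvd_natCard (⟨_, hk⟩ : S)
    rw [Subgroup.orderOf_mk, ho, h9] at hd2
    norm_num at hd2
  obtain ⟨X, hX0, hX⟩ := irr_one_pos (μ 0).2
  obtain ⟨x, hx0, hx⟩ := irr_one_pos χ₁.2
  obtain ⟨v, hv⟩ := CharTheory.DihedralEight.exists_int_value (irr_isCharacter (μ 0)) ht
  obtain ⟨β, hβ⟩ := CharTheory.DihedralEight.exists_int_value (irr_isCharacter χ₁) ht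
  have hvanG : ∀ y : G, y ∈ S → y ≠ 1 → ∀ χ, χ ∉ ({χ₁} : Finset _) → χ ≠ trivIrr G →
      (∀ j, μ j ≠ χ) → (χ : G → ℂ) y = 0 := fun y hy hy1 χ h1 h2 h3 =>
    hvan χ h1 h2 h3 ⟨y, hy⟩ fun e => hy1 (congrArg Subtype.val e)
  have hval : ∀ y : G, y ∈ S → y ≠ 1 → (χ₁ : G → ℂ) y = (f χ₁ : ℂ) ∧
      ∑ j, (μ j : G → ℂ) y = (ε : ℂ) := fun y hy hy1 =>
    ⟨hRval χ₁ (Finset.mem_singleton_self _) ⟨y, hy⟩ fun e => hy1 (congrArg Subtype.val e), by
      rw [hμsum ⟨y, hy⟩ fun e => hy1 (congrArg Subtype.val e)]; push_cast; ring⟩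
  have hcol : ∀ g : G, (g = 1 ∨ orderOf g = 2) →
      1 + (ε : ℂ) * (μ 0 : G → ℂ) g + (f χ₁ : ℂ) * (χ₁ : G → ℂ) g = 0 := by
    intro g hg
    have hng : ¬ IsConj g a := fun h => by
      have h3 : orderOf a ∣ 9 := h9 ▸ (Subgroup.orderOf_mk a ha ▸ orderOf_dvd_natCard (⟨a, ha⟩ : S))
      obtain ⟨k, hk⟩ := isConj_iff.1 h
      have ho : orderOf a = orderOf g := by
        rw [← hk]
        simpa using orderOf_injective (MulAut.conj k).toMonoidHom (MulAut.conj k).injective g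
      rcases hg with rfl | hg
      · exact ha1 (orderOf_eq_one_iff.1 (by rw [ho, orderOf_one]))
      · rw [ho, hg] at h3; norm_num at h3
    have h := second_orthogonality g a
    rw [if_neg hng, sum_split hμ hμ1 hR1 hμR _ (fun χ h1 h2 h3 => by
      rw [hvanG a ha ha1 χ h1 h2 h3, map_zero, mul_zero])] at h
    simp only [Finset.sum_singleton, hconjS _ a ha, hsame g hg, ← Finset.mul_sum, (hval a ha ha1).1,
      (hval a ha ha1).2, trivIrr_coe, map_one, mul_one] at h
    linear_combination h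
  have hprod : ∑ j, (μ j : G → ℂ) a * (μ j : G → ℂ) b = -2 := by
    have h := second_orthogonality a b
    rw [if_neg hab, sum_split hμ hμ1 hR1 hμR _ (fun χ h1 h2 h3 => by
      rw [hvanG a ha ha1 χ h1 h2 h3, zero_mul])] at h
    simp only [Finset.sum_singleton, hconjS _ b hb, (hval a ha ha1).1, (hval b hb hb1).1,
      trivIrr_coe, map_one, mul_one] at h
    have hf : ((f χ₁ : ℂ)) * (f χ₁ : ℂ) = 1 := by exact_mod_cast (by linarith [sq (f χ₁)] : f χ₁ * f χ₁ = 1)
    linear_combination h - hf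
  have hclass := card_mul_eq a b t
  rw [hzero, Nat.cast_zero, mul_zero] at hclass
  have hsz : ∀ z : G, z ∈ S → z ≠ 1 → (BlocksChars.ClassAlg.classSize z : ℂ) ≠ 0 := fun z hz hz1 h0 => by
    have h := classSize_mul_nine hS h9 hz hz1
    rw [h0, zero_mul] at h
    exact natCard_ne_zero h.symm
  have hsum := (mul_eq_zero.1 hclass.symm).resolve_left (mul_ne_zero (hsz a ha ha1) (hsz b hb hb1))
  rw [sum_split hμ hμ1 hR1 hμR _ (fun χ h1 h2 h3 => by
    rw [hvanG a ha ha1 χ h1 h2 h3]; simp)] at hsum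
  simp only [Finset.sum_singleton, hsame t (Or.inr ht), hsame 1 (Or.inl rfl), hX, hx, hv, hβ,
    ← Finset.sum_mul, ← Finset.sum_div, hprod, (hval a ha ha1).1, (hval b hb hb1).1, trivIrr_coe,
    map_one, mul_one, div_one, map_intCast] at hsum
  have hd := hcol 1 (Or.inl rfl)
  have hd' := hcol t (Or.inr ht)
  rw [hX, hx] at hd
  rw [hv, hβ] at hd'
  have hd1 : 1 + ε * (X : ℤ) + f χ₁ * (x : ℤ) = 0 := by exact_mod_cast hd
  have hd2 : 1 + ε * v + f χ₁ * β = 0 := by exact_mod_cast hd'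
  have heq : (X : ℤ) * x - 2 * v * x + f χ₁ * f χ₁ * β * X = 0 := by
    have hXc : (X : ℂ) ≠ 0 := by exact_mod_cast hX0.ne'
    have hxc : (x : ℂ) ≠ 0 := by exact_mod_cast hx0.ne'
    have h : (X : ℂ) * x - 2 * (v : ℂ) * x + (f χ₁ : ℂ) * (f χ₁ : ℂ) * (β : ℂ) * X = 0 := by
      field_simp at hsum
      linear_combination hsum
    exact_mod_cast h
  have hff : f χ₁ = 1 ∨ f χ₁ = -1 := mul_self_eq_one_iff.1 (by linarith [sq (f χ₁)])
  have hkey : ((X : ℤ) + 2 * ε) * ((X : ℤ) - v) = 0 := by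
    have hεε : ε * ε = 1 := by rcases hε with h | h <;> rw [h] <;> norm_num
    have hfsq : f χ₁ * f χ₁ = 1 := by linarith [sq (f χ₁)]
    linear_combination (-ε * f χ₁) * heq + ε * ((X : ℤ) - 2 * v) * hd1 + ε * (X : ℤ) * hd2
      - ((X : ℤ) * X - (X : ℤ) * v) * hεε + ε * f χ₁ * β * (X : ℤ) * hfsq
  rcases mul_eq_zero.1 hkey with h | h
  · refine absurd (degree_ne_one hG (fun e => hR1 (e ▸ Finset.mem_singleton_self _)) hx) ?_
    rcases hff with h1 | h1 <;> rw [h1] at hd1 <;> rcases hε with h2 | h2 <;> rw [h2] at hd1 h <;> omega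
  · have h1 : (μ 0 : G → ℂ) t = (μ 0 : G → ℂ) 1 := by
      rw [hv, hX]; exact_mod_cast (show v = (X : ℤ) by linarith)
    exact ne_degree (fun e => by rw [e, orderOf_one] at ht; norm_num at ht) (hμ1 0) h1

omit [IsSimpleGroup G] in
/-- The order bound for two classes. -/
theorem card_le_of_two_classes (hS : SelfCent S) (h9 : Nat.card S = 9)
    (he : S.relIndex (Subgroup.normalizer (S : Set G)) = 4) {a b : G} (ha : a ∈ S) (hb : b ∈ S)
    (ha1 : a ≠ 1) (hb1 : b ≠ 1) (hab : ¬ IsConj a b) (hreal : ∀ y ∈ S, IsConj y⁻¹ y)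
    (hthree : Nat.card {g : G // IsConj a g ∧ IsConj a (g⁻¹ * b)} ≤ 3) : Nat.card G ≤ 1092 := by
  classical
  haveI := Fintype.ofFinite (Cfsg.IrrCharacter G)
  obtain ⟨ε, c, μ, R, f, hε, hμ, hμ1, hR1, hμR, hnorm, hf0, hRval, hμsum, hvan, hμeq, hμdeg, hRdeg⟩ :=
    ExceptionalValues.exceptional_chars hS he (t := 2) (by rw [h9]) le_rfl
  have hR0 : 0 ≤ ∑ χ ∈ R, f χ ^ 2 := Finset.sum_nonneg fun χ _ => sq_nonneg _
  have hc : c = 0 ∨ c = -ε := by
    rcases hε with rfl | rfl <;> push_cast at hnorm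
    · have h1 : -1 ≤ c := by nlinarith [sq_nonneg c]
      have h2 : c ≤ 0 := by nlinarith [sq_nonneg c]
      omega
    · have h1 : 0 ≤ c := by nlinarith [sq_nonneg c]
      have h2 : c ≤ 1 := by nlinarith [sq_nonneg c]
      omega
  have hsq : ∑ χ ∈ R, f χ ^ 2 = 3 := by
    rcases hc with rfl | rfl <;> rcases hε with rfl | rfl <;> push_cast at hnorm <;> linarith
  have hff : ∀ χ ∈ R, f χ = 1 ∨ f χ = -1 := by
    intro χ hχ
    have h1 : f χ ^ 2 ≤ 3 := hsq ▸ Finset.single_le_sum (fun i _ => sq_nonneg (f i)) hχ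
    have h2 : -1 ≤ f χ := by nlinarith
    have h3 : f χ ≤ 1 := by nlinarith
    have := hf0 χ hχ
    omega
  have hRc : R.card = 3 := by
    have h : (R.card : ℤ) = 3 := by
      rw [← hsq, Finset.card_eq_sum_ones]; push_cast
      exact Finset.sum_congr rfl fun χ hχ => by rcases hff χ hχ with h | h <;> rw [h] <;> norm_num
    exact_mod_cast h
  have hσ : (2 : ℤ) * c + ε = 1 ∨ (2 : ℤ) * c + ε = -1 := by
    rcases hc with rfl | rfl <;> rcases hε with rfl | rfl <;> norm_num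
  obtain ⟨X, hX0, hX⟩ := irr_one_pos (μ 0).2
  choose deg hdeg0 hdeg using fun χ : Cfsg.IrrCharacter G => irr_one_pos χ.2
  have hsame : ∀ i, (μ i : G → ℂ) 1 = (μ 0 : G → ℂ) 1 := fun i => hμeq 1 (fun φ => A_one φ) i 0
  have hconjS : ∀ (χ : Cfsg.IrrCharacter G), ∀ y ∈ S, conj ((χ : G → ℂ) y) = (χ : G → ℂ) y :=
    fun χ y hy => by
      rw [← char_inv (irr_isCharacter χ)]
      exact BlocksChars.ClassAlg.classFun_eq_of_isConj (irr_isClassFunction χ) (hreal y hy)
  have hvanG : ∀ y : G, y ∈ S → y ≠ 1 → ∀ χ, χ ∉ R → χ ≠ trivIrr G →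
      (∀ j, μ j ≠ χ) → (χ : G → ℂ) y = 0 := fun y hy hy1 χ h1 h2 h3 =>
    hvan χ h1 h2 h3 ⟨y, hy⟩ fun e => hy1 (congrArg Subtype.val e)
  have hvalR : ∀ y : G, y ∈ S → y ≠ 1 → ∀ χ ∈ R, (χ : G → ℂ) y = (f χ : ℂ) := fun y hy hy1 χ hχ =>
    hRval χ hχ ⟨y, hy⟩ fun e => hy1 (congrArg Subtype.val e)
  have hsumμ : ∀ y : G, y ∈ S → y ≠ 1 →
      (μ 0 : G → ℂ) y + (μ 1 : G → ℂ) y = ((2 * c + ε : ℤ) : ℂ) := fun y hy hy1 => by
    rw [← Fin.sum_univ_two (fun j => (μ j : G → ℂ) y),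
      hμsum ⟨y, hy⟩ fun e => hy1 (congrArg Subtype.val e)]
    push_cast; ring
  have hsqR : ∑ χ ∈ R, (f χ : ℂ) * (f χ : ℂ) = 3 := by
    have : ∑ χ ∈ R, f χ * f χ = 3 := by rw [← hsq]; exact Finset.sum_congr rfl fun χ _ => (sq _).symm
    exact_mod_cast this
  have horth : ∀ y : G, y ∈ S → y ≠ 1 →
      (μ 0 : G → ℂ) a * (μ 0 : G → ℂ) y + (μ 1 : G → ℂ) a * (μ 1 : G → ℂ) y + 4 =
        if IsConj a y then 9 else 0 := fun y hy hy1 => by
    have h := second_orthogonality a y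
    rw [sum_split hμ hμ1 hR1 hμR _ (fun χ h1 h2 h3 => by
      rw [hvanG a ha ha1 χ h1 h2 h3, zero_mul]), Fin.sum_univ_two, hconjS (μ 0) y hy, hconjS (μ 1) y hy,
      Finset.sum_congr rfl (g := fun χ => (f χ : ℂ) * (f χ : ℂ)) fun χ hχ => by
        rw [hconjS _ y hy, hvalR a ha ha1 χ hχ, hvalR y hy hy1 χ hχ],
      hsqR, hS.centralizer_eq y hy hy1, h9] at h
    simp only [trivIrr_coe, map_one, mul_one] at h
    push_cast at h
    linear_combination h
  have h11 := horth a ha ha1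
  have h12 := horth b hb hb1
  rw [if_pos (IsConj.refl a)] at h11
  rw [if_neg hab] at h12
  have hpq := hsumμ a ha ha1
  have hpq' := hsumμ b hb hb1
  set σ : ℤ := 2 * c + ε with hσdef
  have hσ2 : (σ : ℂ) * σ = 1 := by
    rcases hσ with h | h <;> rw [h] <;> norm_num
  have hcubic : (μ 0 : G → ℂ) a * (μ 0 : G → ℂ) a * (μ 0 : G → ℂ) b +
      (μ 1 : G → ℂ) a * (μ 1 : G → ℂ) a * (μ 1 : G → ℂ) b = -2 * (σ : ℂ) := by
    set p := (μ 0 : G → ℂ) a
    set q := (μ 1 : G → ℂ) a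
    set p' := (μ 0 : G → ℂ) b
    set q' := (μ 1 : G → ℂ) b
    have hp : p = (σ : ℂ) - q := by linear_combination hpq
    have hq' : q' = (σ : ℂ) - p' := by linear_combination hpq'
    rw [hp] at h11 h12 ⊢
    rw [hq'] at h12 ⊢
    linear_combination (σ : ℂ) * h12 + (σ : ℂ) / 2 * h11 - (σ : ℂ) / 2 * hσ2
  have hcl := card_mul_eq a a b
  rw [sum_split hμ hμ1 hR1 hμR _ (fun χ h1 h2 h3 => by
    rw [hvanG a ha ha1 χ h1 h2 h3]; simp), Fin.sum_univ_two, hconjS (μ 0) b hb, hconjS (μ 1) b hb, hsame 1,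
    ← add_div, hcubic, hX,
    Finset.sum_congr rfl (g := fun χ => (f χ : ℂ) / (deg χ : ℂ)) fun χ hχ => by
      rw [hconjS _ b hb, hvalR a ha ha1 χ hχ, hvalR b hb hb1 χ hχ, hdeg]
      rcases hff χ hχ with h | h <;> rw [h] <;> norm_num] at hcl
  simp only [trivIrr_coe, map_one, mul_one, div_one] at hcl
  have hk := classSize_mul_nine hS h9 ha ha1
  set N := Nat.card {g : G // IsConj a g ∧ IsConj a (g⁻¹ * b)}
  set D : ℚ := 1 + -2 * (σ : ℚ) / (X : ℚ) + ∑ χ ∈ R, (f χ : ℚ) / (deg χ : ℚ) with hD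
  have hND : (81 : ℚ) * N = (Nat.card G : ℚ) * D := by
    apply Rat.cast_injective (α := ℂ)
    refine mul_left_cancel₀ (natCard_ne_zero (G := G)) ?_
    rw [hD]
    push_cast
    linear_combination 81 * hcl + (1 + -2 * (σ : ℂ) / (X : ℂ) + ∑ χ ∈ R, (f χ : ℂ) / (deg χ : ℂ)) *
      (9 * (BlocksChars.ClassAlg.classSize a : ℂ) + (Nat.card G : ℂ)) * hk
  have hR8 : -(3 : ℚ) / 8 ≤ ∑ χ ∈ R, (f χ : ℚ) / (deg χ : ℚ) := by
    have h : ∀ χ ∈ R, -(1 : ℚ) / 8 ≤ (f χ : ℚ) / (deg χ : ℚ) := by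
      intro χ hχ
      have hd0 : (0 : ℚ) < deg χ := by exact_mod_cast hdeg0 χ
      rcases hff χ hχ with h | h
      · rw [h]; push_cast
        exact (by norm_num : -(1 : ℚ) / 8 ≤ 0).trans (by positivity)
      · have h9' := hRdeg χ hχ _ (hdeg χ)
        rw [h, h9] at h9'
        have hpos := hdeg0 χ
        have h8 : (8 : ℕ) ≤ deg χ := by push_cast at h9'; omega
        have h8' : (8 : ℚ) ≤ deg χ := by exact_mod_cast h8
        rw [h, le_div_iff₀ hd0]; push_cast; linarith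
    calc -(3 : ℚ) / 8 = ∑ χ ∈ R, -(1 : ℚ) / 8 := by rw [Finset.sum_const, hRc]; norm_num
      _ ≤ _ := Finset.sum_le_sum h
  have hX5 : -(2 : ℚ) / 5 ≤ -2 * (σ : ℚ) / (X : ℚ) := by
    have hXq : (0 : ℚ) < X := by exact_mod_cast hX0
    rcases hσ with h | h
    · have h9' := hμdeg 0 X hX
      rw [h9] at h9'
      have h5 : (5 : ℕ) ≤ X := by
        rcases hc with rfl | rfl <;> rcases hε with rfl | rfl <;> push_cast at h9' h <;> omega
      have h5' : (5 : ℚ) ≤ X := by exact_mod_cast h5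
      rw [h, le_div_iff₀ hXq]; push_cast; linarith
    · rw [h]; push_cast
      exact (by norm_num : -(2 : ℚ) / 5 ≤ 0).trans (by positivity)
  have hDlo : (9 : ℚ) / 40 ≤ D := by rw [hD]; linarith
  have hN : (N : ℚ) ≤ 3 := by exact_mod_cast hthree
  have hg : (Nat.card G : ℚ) ≤ 1092 := by
    nlinarith [mul_le_mul_of_nonneg_left hDlo (Nat.cast_nonneg (α := ℚ) (Nat.card G))]
  exact_mod_cast hg

end Hyp

end Cfsg.Agent.Recognition.SelfCentNine
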