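import Mathlib
import Cfsg.Prelude.Def_CaseTheorems
import Cfsg.Prelude.Def_Solvable
import Cfsg.Agent.S3224

/-!
# The Sylow 2-subgroup of a group of fixity two
-/

set_option autoImplicit false

namespace Cfsg.Agent.Recognition.FixityTwoSylow

open MulAction Function

variable {G Ω : Type*} [Group G] [Finite G] [MulAction G Ω] [Finite Ω]

/-- two fixed points leave no room for a third -/
theorem not_three (hfix : ∀ g : G, g ≠ 1 → Nat.card (fixedBy Ω g) ≤ 2) {g : G} (hg : g ≠ 1) {a b c : Ω}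
    (hab : a ≠ b) (hac : a ≠ c) (hbc : b ≠ c) (ha : g • a = a) (hb : g • b = b) (hc : g • c = c) : False := by
  have h := hfix g hg
  rw [Nat.card_coe_set_eq] at h
  have h3 : ({a, b, c} : Set Ω) ⊆ fixedBy Ω g := by
    rintro x (rfl | rfl | rfl) <;> assumption
  have h4 := Set.ncard_le_ncard h3 (Set.toFinite _)
  rw [Set.ncard_insert_of_notMem (by simp [hab, hac]), Set.ncard_pair hbc] at h4
  omega

/-- transfer: a 2-group element outside a subgroup of index two, never fused into it, leaves it -/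
theorem exists_index_two (S : Sylow 2 G) (T : Subgroup G) (hT : T ≤ S) (hi : T.relIndex S = 2)
    (hfus : ∀ g : G, ∀ v ∈ (S : Subgroup G), v ∉ T → g⁻¹ * v * g ∈ (S : Subgroup G) → g⁻¹ * v * g ∉ T)
    (hpow : ∀ g : G, ∀ v ∈ (S : Subgroup G), v ∉ T → ∀ k : ℕ, Even k → g⁻¹ * v ^ k * g ∈ (S : Subgroup G) →
      g⁻¹ * v ^ k * g ∈ T) :
    ∃ M : Subgroup G, M.index = 2 ∧ ∀ v ∈ (S : Subgroup G), v ∉ T → v ∉ M := by
  classical
  haveI : Fact (Nat.Prime 2) := ⟨Nat.prime_two⟩
  set T' := T.subgroupOf (S : Subgroup G) with hT'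
  have hiff : ∀ a b : (S : Subgroup G), a * b ∈ T' ↔ (a ∈ T' ↔ b ∈ T') := fun a b =>
    Subgroup.mul_mem_iff_of_index_two hi
  let φ : (S : Subgroup G) →* ℤˣ :=
    { toFun := fun s => if s ∈ T' then 1 else -1
      map_one' := if_pos T'.one_mem
      map_mul' := fun a b => by
        by_cases ha : a ∈ T' <;> by_cases hb : b ∈ T' <;> simp [hiff a b, ha, hb] }
  have hφ : ∀ s : (S : Subgroup G), φ s = if (s : G) ∈ T then 1 else -1 := fun s => by
    show (if s ∈ T' then (1 : ℤˣ) else -1) = _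
    simp only [hT', Subgroup.mem_subgroupOf]
  haveI : (S : Subgroup G).FiniteIndex := inferInstance
  set V := MonoidHom.transfer φ
  have hodd : Odd (S : Subgroup G).index := Nat.odd_iff.2 (Nat.two_dvd_ne_zero.1 S.not_dvd_index)
  have hV : ∀ v ∈ (S : Subgroup G), v ∉ T → V v = -1 := by
    intro v hv hvT
    haveI := Fintype.ofFinite (Quotient (orbitRel (Subgroup.zpowers v) (G ⧸ (S : Subgroup G))))
    rw [MonoidHom.transfer_eq_prod_quotient_orbitRel_zpowers_quot]
    rw [Finset.prod_congr rfl (g := fun q => (-1 : ℤˣ) ^ Function.minimalPeriod (v • ·) q.out) fun q _ => ?_,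
      Finset.prod_pow_eq_pow_sum, ← Subgroup.index_eq_sum_minimalPeriod, hodd.neg_one_pow]
    rw [hφ]
    rcases Nat.even_or_odd (Function.minimalPeriod (v • ·) q.out) with he | ho
    · rw [if_pos (hpow _ v hv hvT _ he (QuotientGroup.out_conj_pow_minimalPeriod_mem _ v q.out)),
        he.neg_one_pow]
    · rw [if_neg, ho.neg_one_pow]
      -- the period divides a power of two
      obtain ⟨j, hj⟩ := S.isPGroup' ⟨v, hv⟩
      have h1 : Function.minimalPeriod (v • ·) q.out ∣ 2 ^ j := by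
        refine MulAction.pow_smul_eq_iff_minimalPeriod_dvd.1 ?_
        rw [show v ^ 2 ^ j = 1 from congrArg Subtype.val hj, one_smul]
      obtain ⟨i, -, hi'⟩ := (Nat.dvd_prime_pow Nat.prime_two).1 h1
      have hi0 : i = 0 := by
        by_contra h0
        rw [hi'] at ho
        exact (Nat.not_even_iff_odd.2 ho) (even_two.pow_of_ne_zero h0)
      have hmem := QuotientGroup.out_conj_pow_minimalPeriod_mem (S : Subgroup G) v q.out
      simp only [hi', hi0, pow_zero, pow_one] at hmem ⊢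
      exact hfus _ v hv hvT hmem
  refine ⟨V.ker, ?_, fun v hv hvT h => absurd ((hV v hv hvT).symm.trans (MonoidHom.mem_ker.1 h)) (by decide)⟩
  obtain ⟨v, hv⟩ : ∃ v : (S : Subgroup G), v ∉ T' := by
    by_contra h
    push Not at h
    rw [show T' = ⊤ from eq_top_iff.2 fun x _ => h x] at hT'
    rw [Subgroup.relIndex, ← hT', Subgroup.index_top] at hi
    norm_num at hi
  have hsurj : Function.Surjective V := fun z => by
    rcases Int.units_eq_one_or z with rfl | rfl
    · exact ⟨1, map_one V⟩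
    · exact ⟨v, hV v v.2 hv⟩
  rw [Subgroup.index_ker, MonoidHom.range_eq_top.2 hsurj, Subgroup.card_top, Nat.card_eq_fintype_card]
  rfl

variable [FaithfulSMul G Ω]

/-- a small centraliser makes the Sylow subgroup dihedral or semidihedral -/
theorem dihedral_or_semidihedral {S : Type*} [Group S] [Finite S] (hS : IsPGroup 2 S) {u : S} (hu : orderOf u = 2)
    (hC : Nat.card (Subgroup.centralizer ({u} : Set S)) = 4)
    (h4 : Nat.card S = 4 → ∃ w : S, orderOf w = 2 ∧ w ≠ u) :
    (∃ n : ℕ, Nonempty (S ≃* DihedralGroup n)) ∨ Cfsg.IsQuasiDihedral S := by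
  rcases Cfsg.Agent.S3224.result hS u hu hC with h | h | h
  · exact Or.inl h
  · exact Or.inr h
  · obtain ⟨w, hw, hwu⟩ := h4 h
    haveI : Fact (Nat.Prime 2) := ⟨Nat.prime_two⟩
    haveI : Nontrivial S := Finite.one_lt_card_iff_nontrivial.1 (by omega)
    haveI : IsKleinFour S := ⟨h, by
      refine (Monoid.exponent_eq_prime_iff Nat.prime_two).2 fun x hx => ?_
      have hd : orderOf x ∣ 2 ^ 2 := by rw [show (2 : ℕ) ^ 2 = 4 from rfl, ← h]; exact orderOf_dvd_natCard x
      obtain ⟨k, hk, hk'⟩ := (Nat.dvd_prime_pow Nat.prime_two).1 hd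
      interval_cases k
      · exact absurd (orderOf_eq_one_iff.1 (by simpa using hk')) hx
      · simpa using hk'
      · exfalso
        have hcyc : IsCyclic S := isCyclic_of_orderOf_eq_card x (by rw [hk', h]; norm_num)
        classical
        haveI := Fintype.ofFinite S
        have h2 : (Finset.univ.filter fun z : S => orderOf z = 2).card = Nat.totient 2 :=
          IsCyclic.card_orderOf_eq_totient (by rw [← Nat.card_eq_fintype_card, h]; norm_num)
        have h2' : 1 < (Finset.univ.filter fun z : S => orderOf z = 2).card :=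
          Finset.one_lt_card.2 ⟨u, by simpa using hu, w, by simpa using hw, hwu.symm⟩
        rw [h2, Nat.totient_two] at h2'
        norm_num at h2'⟩
    exact Or.inl ⟨2, IsKleinFour.nonempty_mulEquiv⟩

variable (hfix : ∀ g : G, g ≠ 1 → Nat.card (fixedBy Ω g) ≤ 2) (S : Sylow 2 G)

include hfix in
/-- a nontrivial proper stabiliser in `S` has index two in its normaliser and fixes two points -/
theorem stabilizer_pair {a : Ω} (hU : (S : Subgroup G) ⊓ stabilizer G a ≠ ⊥)
    (hUS : ¬ (S : Subgroup G) ≤ stabilizer G a) :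
    ∃ (b : Ω) (w : G), w ∈ (S : Subgroup G) ∧ w • a = b ∧ b ≠ a ∧
      (S : Subgroup G) ⊓ stabilizer G b = (S : Subgroup G) ⊓ stabilizer G a ∧
      (∀ x : Ω, (∀ t ∈ (S : Subgroup G) ⊓ stabilizer G a, t • x = x) → x = a ∨ x = b) ∧
      ((S : Subgroup G) ⊓ stabilizer G a).relIndex
        ((S : Subgroup G) ⊓ Subgroup.normalizer (((S : Subgroup G) ⊓ stabilizer G a : Subgroup G) : Set G)) = 2 := by
  classical
  haveI : Fact (Nat.Prime 2) := ⟨Nat.prime_two⟩
  haveI : Group.IsNilpotent (S : Subgroup G) := S.isPGroup'.isNilpotent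
  set U := (S : Subgroup G) ⊓ stabilizer G a with hUdef
  have hlt : U.subgroupOf (S : Subgroup G) < ⊤ := lt_top_iff_ne_top.2 fun h =>
    hUS fun x hx => ((Subgroup.subgroupOf_eq_top.1 h) hx).2
  obtain ⟨⟨w, hwS⟩, hwN, hwU⟩ := SetLike.exists_of_lt (normalizerCondition_of_isNilpotent _ hlt)
  have hwa : w • a ≠ a := fun e => hwU (show w ∈ U from ⟨hwS, e⟩)
  have hconj : ∀ t ∈ U, w * t * w⁻¹ ∈ U ∧ w⁻¹ * t * w ∈ U := fun t ht =>
    ⟨((Subgroup.mem_normalizer_iff.1 hwN) ⟨t, ht.1⟩).1 ht,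
      ((Subgroup.mem_normalizer_iff''.1 hwN) ⟨t, ht.1⟩).1 ht⟩
  obtain ⟨t₀, ht₀, ht₁⟩ : ∃ t ∈ U, t ≠ 1 := by
    by_contra h
    push Not at h
    exact hU ((Subgroup.eq_bot_iff_forall _).2 h)
  have hUb : ∀ t ∈ U, t • w • a = w • a := fun t ht => by
    have h : (w⁻¹ * t * w) • a = a := (hconj t ht).2.2
    rwa [mul_smul, mul_smul, inv_smul_eq_iff] at h
  have hkey : ∀ x : Ω, (∀ t ∈ U, t • x = x) → x = a ∨ x = w • a := fun x hx => by
    by_contra h
    push Not at h
    exact not_three hfix ht₁ hwa.symm h.1.symm h.2.symm ht₀.2 (hUb t₀ ht₀) (hx t₀ ht₀)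
  refine ⟨w • a, w, hwS, rfl, hwa, ?_, hkey, ?_⟩
  · refine le_antisymm (fun s hs => ?_) fun s hs => ⟨hs.1, hUb s hs⟩
    have h : (w⁻¹ * s * w) • a = a := by
      rw [mul_smul, mul_smul, (hs.2 : s • w • a = w • a), inv_smul_smul]
    have h2 := (hconj (w⁻¹ * s * w)
      ⟨(S : Subgroup G).mul_mem ((S : Subgroup G).mul_mem ((S : Subgroup G).inv_mem hwS) hs.1) hwS, h⟩).1
    simpa [mul_assoc] using h2
  · set M := (S : Subgroup G) ⊓ Subgroup.normalizer (U : Set G)
    have hwM : w ∈ M := by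
      refine ⟨hwS, Subgroup.mem_normalizer_iff.2 fun t => ⟨fun ht => (hconj t ht).1, fun ht => ?_⟩⟩
      simpa [mul_assoc] using (hconj _ ht).2
    refine Subgroup.index_eq_two_iff.2 ⟨⟨w, hwM⟩, ?_⟩
    rintro ⟨m, hm⟩
    simp only [Subgroup.mem_subgroupOf, Subgroup.coe_mul]
    have hmem : ∀ x ∈ M, x ∈ U ↔ x • a = a := fun x hx => ⟨fun h => h.2, fun h => ⟨hx.1, h⟩⟩
    have hfixm : ∀ y : Ω, (∀ t ∈ U, t • y = y) → ∀ t ∈ U, t • m • y = m • y := fun y hy t ht => by
      have h := hy _ (((Subgroup.mem_normalizer_iff''.1 hm.2) t).1 ht)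
      rwa [mul_smul, mul_smul, inv_smul_eq_iff] at h
    rw [hmem m hm, hmem (m * w) (mul_mem hm hwM), mul_smul]
    rcases hkey _ (hfixm a fun t ht => ht.2) with h | h
    · exact Or.inr ⟨h, fun h' => hwa (MulAction.injective m (h'.trans h.symm))⟩
    · refine Or.inl ⟨(hkey _ (hfixm _ hUb)).resolve_right fun h' => hwa (MulAction.injective m (h'.trans h.symm)), ?_⟩
      exact fun h' => hwa (h.symm.trans h')

include hfix in
/-- a stabiliser of order two gives a dihedral or semidihedral Sylow subgroup -/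
theorem of_card_two {a : Ω} (h2 : Nat.card ↥((S : Subgroup G) ⊓ stabilizer G a) = 2)
    (hUS : ¬ (S : Subgroup G) ≤ stabilizer G a)
    (h4 : Nat.card (S : Subgroup G) = 4 → ∃ w ∈ (S : Subgroup G), orderOf w = 2 ∧ w • a ≠ a) :
    (∃ n : ℕ, Nonempty (↥(S : Subgroup G) ≃* DihedralGroup n)) ∨ Cfsg.IsQuasiDihedral ↥(S : Subgroup G) := by
  classical
  haveI : Fact (Nat.Prime 2) := ⟨Nat.prime_two⟩
  set U := (S : Subgroup G) ⊓ stabilizer G a with hUdef
  have hU : U ≠ ⊥ := fun h => by rw [h, Subgroup.card_bot] at h2; norm_num at h2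
  obtain ⟨b, w, hwS, -, -, -, -, hidx⟩ := stabilizer_pair hfix S hU hUS
  obtain ⟨⟨u, hu⟩, hu1, hu2⟩ : ∃ u : U, u ≠ 1 ∧ ∀ x : U, x = 1 ∨ x = u := by
    obtain ⟨x, y, hxy, huniv⟩ := Nat.card_eq_two_iff.1 h2
    have hall : ∀ z : U, z = x ∨ z = y := fun z => by simpa using (Set.eq_univ_iff_forall.1 huniv) z
    rcases hall 1 with h | h
    · exact ⟨y, fun e => hxy (h.symm.trans e.symm), fun z => h ▸ hall z⟩
    · exact ⟨x, fun e => hxy (e.trans h), fun z => h ▸ (hall z).symm⟩
  have huo : orderOf u = 2 := by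
    rw [← Subgroup.orderOf_mk u hu]
    have h := orderOf_dvd_natCard (⟨u, hu⟩ : U)
    rw [h2] at h
    exact ((Nat.dvd_prime Nat.prime_two).1 h).resolve_left fun e => hu1 (orderOf_eq_one_iff.1 e)
  have hC : (Subgroup.centralizer ({⟨u, hu.1⟩} : Set (S : Subgroup G))).map (S : Subgroup G).subtype =
      (S : Subgroup G) ⊓ Subgroup.normalizer (U : Set G) := by
    ext x
    constructor
    · rintro ⟨y, hy, rfl⟩
      have hy' : (y : G) * u = u * y := congrArg Subtype.val (Subgroup.mem_centralizer_singleton_iff.1 hy)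
      refine ⟨y.2, Subgroup.mem_normalizer_iff.2 fun t => ?_⟩
      constructor
      · intro ht
        rcases hu2 ⟨t, ht⟩ with e | e
        · rw [show t = 1 from congrArg Subtype.val e]
          simpa using U.one_mem
        · rw [show t = u from congrArg Subtype.val e]
          show (y : G) * u * (y : G)⁻¹ ∈ U
          rw [hy', mul_inv_cancel_right]
          exact hu
      · intro ht
        rcases hu2 ⟨_, ht⟩ with e | e
        · have e' : (y : G) * t * (y : G)⁻¹ = 1 := congrArg Subtype.val e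
          rw [mul_inv_eq_one, mul_eq_left] at e'
          rw [e']
          exact U.one_mem
        · have e' : (y : G) * t * (y : G)⁻¹ = u := congrArg Subtype.val e
          rw [mul_inv_eq_iff_eq_mul, ← hy'] at e'
          rw [mul_left_cancel e']
          exact hu
    · rintro ⟨hxS, hxN⟩
      refine ⟨⟨x, hxS⟩, Subgroup.mem_centralizer_singleton_iff.2 (Subtype.ext ?_), rfl⟩
      show x * u = u * x
      rcases hu2 ⟨_, ((Subgroup.mem_normalizer_iff.1 hxN) u).1 hu⟩ with e | e
      · have e' : x * u * x⁻¹ = 1 := congrArg Subtype.val e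
        rw [mul_inv_eq_one, mul_eq_left] at e'
        rw [e', orderOf_one] at huo
        norm_num at huo
      · exact mul_inv_eq_iff_eq_mul.1 (congrArg Subtype.val e)
  refine dihedral_or_semidihedral S.isPGroup' (u := ⟨u, hu.1⟩) (by rw [Subgroup.orderOf_mk, huo]) ?_ fun h => ?_
  · rw [← Subgroup.card_map_of_injective (S : Subgroup G).subtype_injective, hC]
    have hle : U ≤ (S : Subgroup G) ⊓ Subgroup.normalizer (U : Set G) := le_inf inf_le_left Subgroup.le_normalizer
    rw [← (U.subgroupOf _).card_mul_index, Nat.card_congr (Subgroup.subgroupOfEquivOfLe hle).toEquiv, h2]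
    exact congrArg (2 * ·) hidx
  · obtain ⟨v, hv, hvo, hva⟩ := h4 h
    exact ⟨⟨v, hv⟩, by rw [Subgroup.orderOf_mk, hvo],
      fun e => hva (by rw [show v = u from congrArg Subtype.val e]; exact hu.2)⟩

end Cfsg.Agent.Recognition.FixityTwoSylow
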