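import Mathlib

/-!
The theorem of Burnside and Schur on primitive groups with a regular abelian subgroup that has a
cyclic Sylow subgroup and is not of prime power order.
-/

set_option autoImplicit false

namespace Cfsg.Agent.Recognition.BurnsideSchur

open MulAction
open scoped Pointwise

variable {G : Type*} [Group G] {Ω : Type*} [MulAction G Ω] {H : Type*} [CommGroup H]

/-- The coordinate of `v` seen from `u`. -/
def rel (c : Ω ≃ H) (u v : Ω) : H := (c u)⁻¹ * c v

/-- A function on `H` invariant under `G`. -/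
def InvF (G : Type*) [Group G] [MulAction G Ω] {R : Type*} (c : Ω ≃ H) (f : H → R) : Prop :=
  ∀ g : G, ∀ u v : Ω, f (rel c (g • u) (g • v)) = f (rel c u v)

/-- A subset of `H` invariant under `G`. -/
def InvS (G : Type*) [Group G] [MulAction G Ω] (c : Ω ≃ H) (S : Set H) : Prop :=
  InvF G c fun h => h ∈ S

theorem InvS.mem_iff {c : Ω ≃ H} {S : Set H} (hS : InvS G c S) (g : G) (u v : Ω) :
    rel c (g • u) (g • v) ∈ S ↔ rel c u v ∈ S := iff_of_eq (hS g u v)

variable (c : Ω ≃ H)

omit [Group G] [MulAction G Ω] in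
theorem rel_mul (u w v : Ω) : rel c u w * rel c w v = rel c u v := by
  simp [rel, mul_assoc]

omit [Group G] [MulAction G Ω] in
theorem rel_inv (u v : Ω) : (rel c u v)⁻¹ = rel c v u := by
  simp [rel, mul_comm]

omit [Group G] [MulAction G Ω] in
theorem rel_eq_one (u v : Ω) : rel c u v = 1 ↔ u = v := by
  simp [rel, inv_mul_eq_one]

section Functions

variable [Fintype H] [DecidableEq H] {R : Type*} [CommRing R]

/-- The element of the group algebra with given coefficients. -/
noncomputable def elt (f : H → R) : MonoidAlgebra R H := ∑ x, MonoidAlgebra.single x (f x)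

theorem coeff_elt (f : H → R) (h : H) : MonoidAlgebra.coeff (elt f) h = f h := by
  rw [elt, MonoidAlgebra.coeff_sum, Finsupp.finsetSum_apply]
  simp [Finsupp.single_apply]

theorem elt_mul (f f' : H → R) : elt f * elt f' = elt fun h => ∑ x, f x * f' (x⁻¹ * h) := by
  unfold elt
  rw [Finset.sum_mul_sum]
  simp_rw [MonoidAlgebra.single_mul_single]
  calc ∑ x, ∑ y, MonoidAlgebra.single (x * y) (f x * f' y)
      = ∑ x, ∑ h, MonoidAlgebra.single h (f x * f' (x⁻¹ * h)) := by
        refine Finset.sum_congr rfl fun x _ => ?_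
        exact Fintype.sum_equiv (Equiv.mulLeft x) _ _ fun y => by simp
    _ = _ := by
        rw [Finset.sum_comm]
        refine Finset.sum_congr rfl fun h _ => ?_
        exact (map_sum (MonoidAlgebra.singleAddHom h) _ _).symm

variable [Fintype Ω] {c}

theorem InvF.conv {f f' : H → R} (hf : InvF G c f) (hf' : InvF G c f') :
    InvF G c fun h => ∑ x, f x * f' (x⁻¹ * h) := by
  have key : ∀ u v : Ω, (∑ x, f x * f' (x⁻¹ * rel c u v)) = ∑ w, f (rel c u w) * f' (rel c w v) := by
    intro u v
    refine (Fintype.sum_equiv (c.trans (Equiv.mulLeft (c u)⁻¹)) _ _ fun w => ?_).symm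
    change f (rel c u w) * f' (rel c w v) = f (rel c u w) * f' ((rel c u w)⁻¹ * rel c u v)
    rw [← rel_mul c u w v, inv_mul_cancel_left]
  intro g u v
  simp only [key]
  exact (Fintype.sum_equiv (MulAction.toPerm g) _ _ fun w => by simp [hf g, hf' g]).symm

theorem InvF.pow {f : H → R} (hf : InvF G c f) (k : ℕ) :
    InvF G c fun h => MonoidAlgebra.coeff (elt f ^ (k + 1)) h := by
  induction k with
  | zero => simpa [coeff_elt] using hf
  | succ k ih =>
    have e : elt f ^ (k + 2) = elt (fun h => MonoidAlgebra.coeff (elt f ^ (k + 1)) h) * elt f := by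
      have e1 : elt (fun h => MonoidAlgebra.coeff (elt f ^ (k + 1)) h) = elt f ^ (k + 1) :=
        MonoidAlgebra.coeff_injective (Finsupp.ext fun h => coeff_elt _ h)
      rw [e1, ← pow_succ]
    rw [e, elt_mul]
    simpa only [coeff_elt] using ih.conv hf

end Functions

open Classical in
/-- Schur: the `q`-th powers of an invariant set, counted modulo `q`. -/
theorem invS_pow [Fintype H] [Fintype Ω] {q : ℕ} (hq : q.Prime) {c : Ω ≃ H} {X : Set H} (hX : InvS G c X) :
    InvS G c {h | ¬ q ∣ Nat.card {x // x ∈ X ∧ x ^ q = h}} := by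
  haveI := Fact.mk hq
  haveI : CharP (MonoidAlgebra (ZMod q) H) q :=
    charP_of_injective_algebraMap (FaithfulSMul.algebraMap_injective (ZMod q) (MonoidAlgebra (ZMod q) H)) q
  haveI : ExpChar (MonoidAlgebra (ZMod q) H) q := ExpChar.prime hq
  set f : H → ZMod q := fun h => if h ∈ X then 1 else 0 with hf
  have hfi : InvF G c f := fun g u v => by
    simp only [hf, show (rel c (g • u) (g • v) ∈ X) = (rel c u v ∈ X) from hX g u v]
  have hval : ∀ h, MonoidAlgebra.coeff (elt f ^ q) h = (Nat.card {x // x ∈ X ∧ x ^ q = h} : ZMod q) := by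
    intro h
    rw [elt, sum_pow_char]
    simp_rw [MonoidAlgebra.single_pow, ZMod.pow_card]
    rw [MonoidAlgebra.coeff_sum, Finsupp.finsetSum_apply, Nat.card_eq_fintype_card, Fintype.card_subtype]
    simp only [MonoidAlgebra.coeff_single, Finsupp.single_apply, hf]
    rw [Finset.natCast_card_filter]
    exact Finset.sum_congr rfl fun x _ => by by_cases h1 : x ∈ X <;> by_cases h2 : x ^ q = h <;> simp [h1, h2]
  have hp := hfi.pow (q - 1)
  rw [Nat.sub_add_cancel hq.one_le] at hp
  intro g u v
  have := hp g u v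
  simp only [hval] at this
  simp only [Set.mem_ofPred_eq, ← ZMod.natCast_eq_zero_iff, this]

/-- Schur's theorem on multipliers. -/
theorem invS_image [Fintype H] [Fintype Ω] {c : Ω ≃ H} {X : Set H} (hX : InvS G c X) (m : ℕ) :
    m.Coprime (Fintype.card H) → InvS G c ((· ^ m) '' X) := by
  induction m using induction_on_primes generalizing X with
  | zero =>
    intro hm
    have : Fintype.card H = 1 := by simpa using hm
    haveI : Subsingleton H := Fintype.card_le_one_iff_subsingleton.1 this.le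
    intro g u v
    rw [Subsingleton.elim (rel c (g • u) (g • v)) (rel c u v)]
  | one =>
    intro _
    simpa using hX
  | prime_mul q n hq ih =>
    intro hm
    have hq' : q.Coprime (Fintype.card H) := Nat.Coprime.coprime_mul_right hm
    have h1 : InvS G c ((· ^ q) '' X) := by
      have hinj : Function.Injective fun x : H => x ^ q :=
        (powCoprime (G := H) (n := q) (by rw [Nat.card_eq_fintype_card]; exact hq'.symm)).injective
      have e : ((· ^ q) '' X) = {h | ¬ q ∣ Nat.card {x // x ∈ X ∧ x ^ q = h}} := by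
        ext h
        have hs : Subsingleton {x // x ∈ X ∧ x ^ q = h} := ⟨fun a b => Subtype.ext (hinj (a.2.2.trans b.2.2.symm))⟩
        constructor
        · rintro ⟨x, hx, rfl⟩
          rw [Set.mem_ofPred_eq, Nat.card_eq_one_iff_unique.2 ⟨hs, ⟨⟨x, hx, rfl⟩⟩⟩]
          exact hq.not_dvd_one
        · intro hh
          by_contra hne
          apply hh
          haveI : IsEmpty {x // x ∈ X ∧ x ^ q = h} := ⟨fun a => hne ⟨a, a.2.1, a.2.2⟩⟩
          simp
      rw [e]
      exact invS_pow hq hX
    have h2 := ih h1 (Nat.Coprime.coprime_mul_left hm)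
    rw [Set.image_image] at h2
    simpa [← pow_mul] using h2

/-- An invariant subgroup is trivial or everything. -/
theorem subgroup_trivial [IsPretransitive G Ω] (hprim : IsPreprimitive G Ω) {c : Ω ≃ H} (T : Subgroup H)
    (hT : InvS G c (T : Set H)) : T = ⊥ ∨ T = ⊤ := by
  let a : Ω := c.symm 1
  let B : Set Ω := {u | rel c a u ∈ T}
  have hrel : ∀ u v w, rel c u v ∈ T → rel c v w ∈ T → rel c u w ∈ T := fun u v w h1 h2 =>
    rel_mul c u v w ▸ T.mul_mem h1 h2
  have hsymm : ∀ u v, rel c u v ∈ T → rel c v u ∈ T := fun u v h => rel_inv c u v ▸ T.inv_mem h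
  have hmove : ∀ g : G, ∀ u v, rel c u v ∈ T → rel c (g • u) (g • v) ∈ T := fun g u v h => (hT.mem_iff g u v).2 h
  have hga : ∀ g : G, ∀ y, rel c a y ∈ T → g • y ∈ B → rel c a (g • a) ∈ T := fun g y hy hgy =>
    hrel a (g • y) (g • a) hgy (hmove g y a (hsymm a y hy))
  have hB : IsBlock G B := isBlock_iff_smul_eq_or_disjoint.2 fun g => by
    by_cases hm : ∃ y ∈ B, g • y ∈ B
    · obtain ⟨y, hy, hgy⟩ := hm
      left
      ext z
      rw [Set.mem_smul_set_iff_inv_smul_mem]
      have h1 := hga g y hy hgy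
      constructor
      · intro hz
        have := hmove g _ _ hz
        rw [smul_inv_smul] at this
        exact hrel a (g • a) z h1 this
      · intro hz
        have := hmove g⁻¹ _ _ (hrel (g • a) a z (hsymm _ _ h1) hz)
        rwa [inv_smul_smul] at this
    · right
      push_neg at hm
      refine Set.disjoint_left.2 ?_
      rintro _ ⟨z, hz, rfl⟩ h2
      exact hm z hz h2
  rcases hprim.isTrivialBlock_of_isBlock hB with hs | hu
  · left
    refine (Subgroup.eq_bot_iff_forall T).2 fun t ht => ?_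
    have ha : a ∈ B := by
      change rel c a a ∈ T
      rw [(rel_eq_one c a a).2 rfl]
      exact T.one_mem
    have htB : c.symm t ∈ B := by
      change rel c a (c.symm t) ∈ T
      simpa [rel, a] using ht
    simpa [a] using congrArg c (hs htB ha)
  · right
    refine (Subgroup.eq_top_iff' T).2 fun t => ?_
    have := Set.eq_univ_iff_forall.1 hu (c.symm t)
    simpa [B, rel, a] using this

/-- A nonempty invariant set generates an invariant subgroup. -/
theorem invS_closure [Finite Ω] {c : Ω ≃ H} {S : Set H} (hS : InvS G c S) :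
    InvS G c (Subgroup.closure S : Set H) := by
  have key : ∀ h ∈ Subgroup.closure S, ∀ g : G, ∀ u v, rel c u v = h →
      rel c (g • u) (g • v) ∈ Subgroup.closure S := by
    intro h hh
    induction hh using Subgroup.closure_induction with
    | mem x hx =>
      intro g u v e
      exact Subgroup.subset_closure ((hS.mem_iff g u v).2 (e.symm ▸ hx))
    | one =>
      intro g u v e
      obtain rfl := (rel_eq_one c u v).1 e
      rw [(rel_eq_one c _ _).2 rfl]
      exact Subgroup.one_mem _
    | mul x y _ _ ihx ihy =>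
      intro g u v e
      obtain ⟨w, hw⟩ : ∃ w, rel c u w = x := ⟨c.symm (c u * x), by simp [rel]⟩
      rw [← rel_mul c (g • u) (g • w) (g • v)]
      refine Subgroup.mul_mem _ (ihx g u w hw) (ihy g w v ?_)
      rw [← rel_mul c u w v, hw] at e
      exact mul_left_cancel e
    | inv x _ ih =>
      intro g u v e
      rw [← rel_inv c (g • v) (g • u)]
      exact Subgroup.inv_mem _ (ih g v u (by rw [← rel_inv c u v, e, inv_inv]))
  intro g u v
  refine propext ⟨fun h => ?_, fun h => key _ h g u v rfl⟩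
  have := key _ h g⁻¹ _ _ rfl
  rwa [inv_smul_smul, inv_smul_smul] at this

/-- The multiplicative stabiliser of an invariant set is invariant. -/
theorem invS_stabilizer {c : Ω ≃ H} {S : Set H} (hS : InvS G c S) :
    InvS G c (stabilizer H S : Set H) := by
  have key : ∀ u v, rel c u v ∈ stabilizer H S ↔ ∀ w, rel c u w ∈ S ↔ rel c v w ∈ S := by
    intro u v
    rw [mem_stabilizer_iff, Set.ext_iff]
    constructor
    · intro h w
      rw [← h, Set.mem_smul_set_iff_inv_smul_mem, smul_eq_mul, rel_inv, rel_mul]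
    · intro h y
      obtain ⟨w, rfl⟩ : ∃ w, rel c u w = y := ⟨c.symm (c u * y), by simp [rel]⟩
      rw [Set.mem_smul_set_iff_inv_smul_mem, smul_eq_mul, rel_inv, rel_mul]
      exact (h w).symm
  intro g u v
  simp only [SetLike.mem_coe, key]
  refine propext ⟨fun h w => ?_, fun h w => ?_⟩
  · have := h (g • w)
    rwa [hS.mem_iff, hS.mem_iff] at this
  · obtain ⟨w, rfl⟩ : ∃ w', g • w' = w := ⟨g⁻¹ • w, smul_inv_smul g w⟩
    rw [hS.mem_iff, hS.mem_iff]
    exact h w

/-- The theorem. -/
theorem main [Finite H] [IsPretransitive G Ω] (hprim : IsPreprimitive G Ω) (ι : H →* G) (a : Ω)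
    (hreg : Function.Bijective fun h => ι h • a) (p : ℕ) (hp : p.Prime)
    (hker : Nat.card {z : H // z ^ p = 1} = p) (y : H) (hy1 : y ≠ 1) (hy : ¬ p ∣ orderOf y) :
    IsMultiplyPretransitive G Ω 2 := by
  classical
  haveI : Fintype H := Fintype.ofFinite H
  haveI := Fact.mk hp
  let c : Ω ≃ H := (Equiv.ofBijective _ hreg).symm
  haveI : Fintype Ω := Fintype.ofEquiv H c.symm
  have hc : ∀ u, ι (c u) • a = u := fun u => (Equiv.ofBijective _ hreg).apply_symm_apply u
  have hc' : ∀ h, c (ι h • a) = h := fun h => (Equiv.ofBijective _ hreg).symm_apply_apply h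
  -- orbits of the point stabiliser are invariant
  let orb : H → Set H := fun h => {x | ∃ g : G, g • a = a ∧ g • ι h • a = ι x • a}
  have horb_self : ∀ h, h ∈ orb h := fun h => ⟨1, one_smul G a, one_smul G _⟩
  have hrel : ∀ (g : G) u v, ∃ g' : G, g' • a = a ∧
      g' • ι (rel c u v) • a = ι (rel c (g • u) (g • v)) • a := by
    intro g u v
    refine ⟨(ι (c (g • u)))⁻¹ * g * ι (c u), ?_, ?_⟩
    · rw [mul_smul, mul_smul, hc, inv_smul_eq_iff, hc]
    · rw [← mul_smul, mul_assoc, ← map_mul, show c u * rel c u v = c v by simp [rel], mul_smul, mul_smul, hc]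
      rw [inv_smul_eq_iff, ← mul_smul, ← map_mul, show c (g • u) * rel c (g • u) (g • v) = c (g • v) by simp [rel], hc]
  have horb : ∀ h, InvS G c (orb h) := by
    intro h g u v
    obtain ⟨g', ha, hg'⟩ := hrel g u v
    refine propext ⟨?_, ?_⟩
    · rintro ⟨k, hka, hk⟩
      refine ⟨g'⁻¹ * k, by rw [mul_smul, hka, inv_smul_eq_iff, ha], ?_⟩
      rw [mul_smul, hk, inv_smul_eq_iff, hg']
    · rintro ⟨k, hka, hk⟩
      exact ⟨g' * k, by rw [mul_smul, hka, ha], by rw [mul_smul, hk, hg']⟩
  have horb_sub : ∀ (S : Set H), InvS G c S → ∀ h ∈ S, orb h ⊆ S := by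
    rintro S hS h hh x ⟨g, hga, hgx⟩
    have e := hS g a (ι h • a)
    have h1 : c a = 1 := by simpa using hc' 1
    simp only [rel, hga, hgx, hc', h1, inv_one, one_mul] at e
    exact e ▸ hh
  have horb_eq : ∀ h x, x ∈ orb h → orb x = orb h := by
    intro h x hx
    refine Set.Subset.antisymm (horb_sub _ (horb h) x hx) (horb_sub _ (horb x) h ?_)
    obtain ⟨g, hga, hgx⟩ := hx
    exact ⟨g⁻¹, inv_smul_eq_iff.2 hga.symm, inv_smul_eq_iff.2 hgx.symm⟩
  have h1orb : ∀ h, (1 : H) ∈ orb h → h = 1 := by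
    rintro h ⟨g, hga, hg⟩
    rw [map_one, one_smul, ← eq_inv_smul_iff, inv_smul_eq_iff.2 hga.symm] at hg
    exact hreg.1 (a₁ := h) (a₂ := 1) (hg.trans (by simp only [map_one, one_smul]))
  -- the kernel of the `p`-th power
  set P : Subgroup H := (powMonoidHom p).ker with hP
  have hPcard : Nat.card P = p := hker
  haveI : Nontrivial P := Finite.one_lt_card_iff_nontrivial.1 (hPcard.symm ▸ hp.one_lt)
  have hPne : P ≠ ⊥ := (Subgroup.nontrivial_iff_ne_bot P).1 inferInstance
  -- outside `P` every orbit is a union of cosets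
  have hcoset : ∀ h z x, x ∈ orb h → x ∉ P → z ∈ P → z * x ∈ orb h := by
    intro h z x hx hxP hz
    set X := orb h
    set S : Set H := {k | ¬ p ∣ Nat.card {t // t ∈ X ∧ t ^ p = k}} ∩ {1}ᶜ with hS
    have hSi : InvS G c S := by
      intro g u v
      simp only [hS, Set.mem_inter_iff, Set.mem_compl_iff, Set.mem_singleton_iff, rel_eq_one,
        smul_left_cancel_iff]
      rw [show (rel c (g • u) (g • v) ∈ {k | ¬ p ∣ Nat.card {t // t ∈ X ∧ t ^ p = k}}) =
        (rel c u v ∈ {k | ¬ p ∣ Nat.card {t // t ∈ X ∧ t ^ p = k}}) from invS_pow hp (horb h) g u v]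
    have hle : Subgroup.closure S ≤ (powMonoidHom p : H →* H).range := by
      rw [Subgroup.closure_le]
      rintro k ⟨hk, -⟩
      by_contra hne
      refine hk ?_
      haveI : IsEmpty {t // t ∈ X ∧ t ^ p = k} := ⟨fun t => hne ⟨t, t.2.2⟩⟩
      simp
    have hSempty : ∀ k ∈ S, False := by
      intro k hk
      rcases subgroup_trivial hprim _ (invS_closure hSi) with hb | ht
      · exact hk.2 ((Subgroup.eq_bot_iff_forall _).1 hb k (Subgroup.subset_closure hk))
      · refine hPne ((MonoidHom.ker_eq_bot_iff _).2 (Finite.injective_iff_surjective.2 ?_))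
        exact MonoidHom.range_eq_top.1 (top_le_iff.1 (ht ▸ hle))
    have hdvd : p ∣ Nat.card {t // t ∈ X ∧ t ^ p = x ^ p} := by
      by_contra hnd
      exact hSempty (x ^ p) ⟨hnd, fun e => hxP e⟩
    let φ : {t // t ∈ X ∧ t ^ p = x ^ p} → P := fun t => ⟨t.1 * x⁻¹, by
      change (t.1 * x⁻¹) ^ p = 1
      rw [mul_pow, t.2.2, inv_pow, mul_inv_cancel]⟩
    have hφ : Function.Injective φ := fun s t e => Subtype.ext (mul_right_cancel (congrArg Subtype.val e))
    have hge : p ≤ Nat.card {t // t ∈ X ∧ t ^ p = x ^ p} :=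
      Nat.le_of_dvd (Finite.card_pos_iff.2 ⟨⟨x, hx, rfl⟩⟩) hdvd
    have hbij : Function.Bijective φ :=
      hφ.bijective_of_nat_card_le (by rw [hPcard]; exact hge)
    obtain ⟨t, ht⟩ := hbij.2 ⟨z, hz⟩
    have : t.1 * x⁻¹ = z := congrArg Subtype.val ht
    rw [← this, inv_mul_cancel_right]
    exact t.2.1
  -- every nontrivial orbit meets `P`
  have hmeet : ∀ h, h ≠ 1 → ∃ z ∈ orb h, z ∈ P := by
    intro h hh
    by_contra hno
    push_neg at hno
    have hle : P ≤ stabilizer H (orb h) := by
      intro z hz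
      rw [mem_stabilizer_iff]
      refine Set.Subset.antisymm ?_ (fun x hx => ⟨z⁻¹ * x, hcoset h _ x hx (hno x hx) (P.inv_mem hz), ?_⟩)
      · rintro _ ⟨x, hx, rfl⟩
        exact hcoset h z x hx (hno x hx) hz
      · exact mul_inv_cancel_left z x
    rcases subgroup_trivial hprim _ (invS_stabilizer (horb h)) with hb | ht
    · exact hPne (le_bot_iff.1 (hb ▸ hle))
    · refine hh (h1orb h ?_)
      have hinv : h⁻¹ ∈ stabilizer H (orb h) := ht ▸ Subgroup.mem_top _
      rw [mem_stabilizer_iff] at hinv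
      rw [← hinv]
      exact ⟨h, horb_self h, inv_mul_cancel h⟩
  -- one orbit contains all of `P`
  have hone : ∀ z ∈ P, z ≠ 1 → z ∈ orb y := by
    obtain ⟨z₀, hz₀, hz₀P⟩ := hmeet y hy1
    have hz₀1 : z₀ ≠ 1 := fun e => hy1 (h1orb y (e ▸ hz₀))
    intro z hz hz1
    obtain ⟨k, hk⟩ : ∃ k : ℕ, (⟨z₀, hz₀P⟩ : P) ^ k = ⟨z, hz⟩ := by
      have := mem_zpowers_of_prime_card hPcard (g := (⟨z₀, hz₀P⟩ : P)) (g' := ⟨z, hz⟩)
        (fun e => hz₀1 (congrArg Subtype.val e))
      exact mem_powers_iff_mem_zpowers.2 this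
    have hk' : z₀ ^ k = z := congrArg Subtype.val hk
    have hkp : ¬ p ∣ k := by
      rintro ⟨j, rfl⟩
      apply hz1
      rw [← hk', pow_mul, show z₀ ^ p = 1 from hz₀P, one_pow]
    obtain ⟨b, r, hr, hn⟩ := Nat.exists_eq_pow_mul_and_not_dvd (Fintype.card_ne_zero (α := H)) p hp.ne_one
    have hcop : Nat.Coprime (p ^ b) r := Nat.Coprime.pow_left _ ((Nat.Prime.coprime_iff_not_dvd hp).2 hr)
    have hb : 1 ≤ b := by
      rcases Nat.eq_zero_or_pos b with h0 | h0
      · exfalso
        rw [h0, pow_zero, one_mul] at hn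
        refine hr ?_
        have hd := Subgroup.card_subgroup_dvd_card P
        rwa [hPcard, Nat.card_eq_fintype_card, hn] at hd
      · exact h0
    obtain ⟨m, hm1, hm2⟩ := Nat.chineseRemainder hcop k 1
    have hmp : ¬ p ∣ m := fun hd => hkp
      ((Nat.ModEq.dvd_iff (Nat.ModEq.of_dvd (dvd_pow_self p (by omega)) hm1) dvd_rfl).1 hd)
    have hm : m.Coprime (Fintype.card H) := by
      rw [hn]
      refine Nat.Coprime.mul_right (Nat.Coprime.pow_right _ ((Nat.Prime.coprime_iff_not_dvd hp).2 hmp).symm) ?_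
      exact (Nat.ModEq.gcd_eq hm2).trans (Nat.gcd_one_left r)
    have hyr : orderOf y ∣ r := by
      have := hn ▸ orderOf_dvd_card (x := y)
      exact (Nat.Coprime.pow_right _ ((Nat.Prime.coprime_iff_not_dvd hp).2 hy).symm).dvd_of_dvd_mul_left this
    have hym : y ^ m = y := by
      conv_rhs => rw [← pow_one y]
      exact pow_eq_pow_iff_modEq.2 (Nat.ModEq.of_dvd hyr hm2)
    have hzm : z₀ ^ m = z := by
      rw [← hk']
      refine pow_eq_pow_iff_modEq.2 (Nat.ModEq.of_dvd ?_ hm1)
      exact (orderOf_dvd_of_pow_eq_one hz₀P).trans (dvd_pow_self p (by omega))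
    have himg := invS_image (horb y) m hm
    have hsub : orb y ⊆ (· ^ m) '' orb y := horb_sub _ himg y ⟨y, horb_self y, hym⟩
    have heq : orb y = (· ^ m) '' orb y :=
      Set.eq_of_subset_of_ncard_le hsub (Set.ncard_image_le (Set.toFinite _)) (Set.toFinite _)
    rw [heq]
    exact ⟨z₀, hz₀, hzm⟩
  have hall : ∀ h, h ≠ 1 → h ∈ orb y := by
    intro h hh
    obtain ⟨z, hz, hzP⟩ := hmeet h hh
    have hz1 : z ≠ 1 := fun e => hh (h1orb h (e ▸ hz))
    rw [← horb_eq y z (hone z hzP hz1), horb_eq h z hz]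
    exact horb_self h
  rw [is_two_pretransitive_iff]
  intro u v u' v' huv huv'
  have key : ∀ u v, u ≠ v → ∃ g : G, g • a = u ∧ g • ι y • a = v := by
    intro u v huv
    have hh : rel c u v ≠ 1 := fun e => huv ((rel_eq_one c u v).1 e)
    obtain ⟨g, hga, hgy⟩ := hall _ hh
    refine ⟨ι (c u) * g, by rw [mul_smul, hga, hc], ?_⟩
    rw [mul_smul, hgy, ← mul_smul, ← map_mul, show c u * rel c u v = c v by simp [rel], hc]
  obtain ⟨g₁, h1a, h1b⟩ := key u v huv
  obtain ⟨g₂, h2a, h2b⟩ := key u' v' huv'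
  exact ⟨g₂ * g₁⁻¹, by rw [mul_smul, ← h1a, inv_smul_smul, h2a], by rw [mul_smul, ← h1b, inv_smul_smul, h2b]⟩

end Cfsg.Agent.Recognition.BurnsideSchur
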