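import Mathlib
import Cfsg.Prelude.Def_Spor_Mathieu
import Cfsg.Agent.Lib.Characters.Burnside
import Cfsg.Agent.Lib.M11Order.Unique
import Cfsg.Agent.Techniques.InvolutionPatternM11

/-!
# The group `M11` from its order and the numbers of elements of equal orders

In a simple group of order 7920 each such number is `1`, `1440` or a multiple of `165`, `440` or
`1584`. For a group of order 7920 with the same numbers this forces 144 Sylow 11-subgroups and 396
Sylow 5-subgroups, hence simplicity.
-/

set_option autoImplicit false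

namespace Cfsg.Agent.Recognition.MathieuEleven

open Subgroup

theorem isM11_M11 : Cfsg.IsM11 ↥Cfsg.Spor.M11 := by
  obtain ⟨e⟩ := Techniques.InvolutionPatternM11.nonempty_equiv_M11K
  haveI := Golay.Small.isSimple_M11K
  exact ⟨e.isSimpleGroup_congr.mpr Golay.Small.isSimple_M11K,
    (Nat.card_congr e.toEquiv).trans Golay.Small.card_M11K⟩

variable {G : Type*} [Group G] [Finite G]

/-- the elements of one order fall into classes whose sizes a centralizer controls -/
theorem index_dvd_count {n q : ℕ} (hq : q ∣ n) {m : ℕ}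
    (hm : ∀ y : G, orderOf y = q → m ∣ (centralizer ({y} : Set G)).index) :
    m ∣ Nat.card {g : G // orderOf g = n} := by
  classical
  haveI := Fintype.ofFinite G
  rw [Nat.card_eq_fintype_card, Fintype.card_subtype]
  set s := Finset.univ.filter fun g : G => orderOf g = n with hs
  rw [Finset.card_eq_sum_card_image ConjClasses.mk s]
  refine Finset.dvd_sum fun c hc => ?_
  obtain ⟨x, hx, rfl⟩ := Finset.mem_image.1 hc
  have hxn : orderOf x = n := (Finset.mem_filter.1 hx).2
  have hn0 : n ≠ 0 := hxn ▸ (orderOf_pos x).ne'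
  obtain ⟨d, rfl⟩ := hq
  have hd : d ≠ 0 := fun e => hn0 (by rw [e, mul_zero])
  have hy : orderOf (x ^ d) = q := by
    rw [orderOf_pow' x hd, hxn, Nat.gcd_mul_left_left, Nat.mul_div_cancel _ (Nat.pos_of_ne_zero hd)]
  refine (hm _ hy).trans ?_
  have hle : centralizer ({x} : Set G) ≤ centralizer ({x ^ d} : Set G) := fun g hg => by
    rw [mem_centralizer_singleton_iff] at hg ⊢
    exact (Commute.pow_right hg d).eq
  refine (index_dvd_of_le hle).trans (dvd_of_eq ?_)
  have hset : (↑(s.filter fun g => ConjClasses.mk g = ConjClasses.mk x) : Set G) =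
      MulAction.orbit (ConjAct G) x := by
    ext g
    rw [ConjAct.mem_orbit_conjAct]
    simp only [hs, Finset.coe_filter, Finset.mem_filter, Finset.mem_univ, true_and, Set.mem_setOf_eq,
      ConjClasses.mk_eq_mk_iff_isConj]
    refine ⟨fun h => h.2, fun h => ⟨?_, h⟩⟩
    obtain ⟨c, rfl⟩ := isConj_iff.1 h.symm
    exact (orderOf_injective (MulAut.conj c).toMonoidHom (MulAut.conj c).injective x).trans hxn
  rw [← Set.ncard_coe_finset, hset, ← MulAction.index_stabilizer, ConjAct.stabilizer_eq_centralizer]
  rfl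

/-- the possible numbers -/
theorem count_cases (hG : Cfsg.IsM11 G) {c : ℕ}
    (hc : c ∈ {c : ℕ | 0 < c ∧ ∃ n : ℕ, c = Nat.card {g : G // orderOf g = n}}) :
    c = 1 ∨ c = 1440 ∨ 165 ∣ c ∨ 440 ∣ c ∨ 1584 ∣ c := by
  classical
  obtain ⟨hc0, n, rfl⟩ := hc
  obtain ⟨⟨x, hx⟩⟩ := (Nat.card_pos_iff.1 hc0).1
  by_cases hn1 : n = 1
  · left
    subst hn1
    rw [Nat.card_eq_one_iff_unique]
    exact ⟨⟨fun a b => Subtype.ext ((orderOf_eq_one_iff.1 a.2).trans (orderOf_eq_one_iff.1 b.2).symm)⟩,
      ⟨⟨x, hx⟩⟩⟩
  have hindex : ∀ (y : G) (k i : ℕ), Nat.card (centralizer ({y} : Set G)) = k → k * i = 7920 → 0 < k →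
      (centralizer ({y} : Set G)).index = i := fun y k i h1 h2 h3 => by
    have := (centralizer ({y} : Set G)).card_mul_index
    rw [h1, hG.2, ← h2] at this
    exact Nat.eq_of_mul_eq_mul_left h3 this
  obtain ⟨q, hq, hqn⟩ := Nat.exists_prime_and_dvd hn1
  have hqG : q ∣ 7920 := hqn.trans (hx ▸ hG.2 ▸ orderOf_dvd_natCard x)
  have hq4 : q = 2 ∨ q = 3 ∨ q = 5 ∨ q = 11 := by
    have h1 : q ∣ 2 ^ 4 * (3 ^ 2 * (5 * 11)) := hqG
    rcases (hq.dvd_mul).1 h1 with h | h
    · exact Or.inl ((Nat.prime_dvd_prime_iff_eq hq Nat.prime_two).1 (hq.dvd_of_dvd_pow h))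
    rcases (hq.dvd_mul).1 h with h | h
    · exact Or.inr (Or.inl ((Nat.prime_dvd_prime_iff_eq hq Nat.prime_three).1 (hq.dvd_of_dvd_pow h)))
    rcases (hq.dvd_mul).1 h with h | h
    · exact Or.inr (Or.inr (Or.inl ((Nat.prime_dvd_prime_iff_eq hq (by norm_num)).1 h)))
    · exact Or.inr (Or.inr (Or.inr ((Nat.prime_dvd_prime_iff_eq hq (by norm_num)).1 h)))
  rcases hq4 with rfl | rfl | rfl | rfl
  · exact Or.inr (Or.inr (Or.inl (index_dvd_count hqn fun y hy => dvd_of_eq
      (hindex y _ 165 (M11Order.card_involution_centralizer hG hy) (by norm_num) (by norm_num)).symm)))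
  · refine Or.inr (Or.inr (Or.inr (Or.inl (index_dvd_count hqn fun y hy => dvd_of_eq ?_))))
    haveI : Fact (Nat.Prime 3) := ⟨Nat.prime_three⟩
    obtain ⟨P, hP⟩ := (IsPGroup.of_card (n := 1) (by rw [Nat.card_zpowers, hy, pow_one]) :
      IsPGroup 3 (zpowers y)).exists_le_sylow
    exact (hindex y _ 440 (M11Order.card_three_centralizer hG P (hP (mem_zpowers y))
      (fun e => by rw [e, orderOf_one] at hy; norm_num at hy)).1 (by norm_num) (by norm_num)).symm
  · refine Or.inr (Or.inr (Or.inr (Or.inr (index_dvd_count hqn fun y hy => ?_))))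
    haveI : Fact (Nat.Prime 5) := ⟨by norm_num⟩
    have h5 : Nat.card (centralizer ({y} : Set G)) ∣ 5 := by
      obtain ⟨Q, hQ⟩ := (IsPGroup.of_card (n := 1) (by rw [Nat.card_zpowers, hy, pow_one]) :
        IsPGroup 5 (zpowers y)).exists_le_sylow
      have hQy : zpowers y = (Q : Subgroup G) := eq_of_le_of_card_ge hQ
        (by rw [Nat.card_zpowers, hy, M11Order.card_sylow5_eq hG Q])
      obtain ⟨-, hself, -⟩ := M11Order.five_data hG Q
      rw [← M11Order.card_sylow5_eq hG Q]
      refine card_dvd_of_le fun g hg => ?_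
      exact (hself.centralizer_eq y (hQ (mem_zpowers y)) (fun e => by
        rw [e, orderOf_one] at hy
        norm_num at hy)).le hg
    obtain ⟨k, hk⟩ := h5
    have := (centralizer ({y} : Set G)).card_mul_index
    rw [hG.2] at this
    refine Dvd.intro k ?_
    refine Nat.eq_of_mul_eq_mul_left (Nat.card_pos (α := centralizer ({y} : Set G))) ?_
    rw [this, show Nat.card (centralizer ({y} : Set G)) * (1584 * k) =
      1584 * (Nat.card (centralizer ({y} : Set G)) * k) by ring, ← hk]
  · refine Or.inr (Or.inl ?_)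
    haveI : Fact (Nat.Prime 11) := ⟨by norm_num⟩
    obtain ⟨d, hd⟩ := hqn
    have hy : orderOf (x ^ d) = 11 := by
      have hd0 : d ≠ 0 := fun e => (orderOf_pos x).ne' (by rw [hx, hd, e, mul_zero])
      rw [orderOf_pow' x hd0, hx, hd, Nat.gcd_mul_left_left,
        Nat.mul_div_cancel _ (Nat.pos_of_ne_zero hd0)]
    have hn11 : n ∣ 11 := by
      refine M11Order.not_eleven_centralizer hG hy ?_
      rw [← hx]
      exact (dvd_of_eq (orderOf_submonoid (⟨x, mem_centralizer_singleton_iff.2 (Commute.self_pow x d).eq⟩ :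
        centralizer ({x ^ d} : Set G)))).trans (orderOf_dvd_natCard _)
    have hn : n = 11 := Nat.dvd_antisymm hn11 ⟨d, hd⟩
    subst hn
    rw [M11Order.card_orderOf_eq (p := 11) fun Q => M11Order.card_sylow11_eq hG Q]
    obtain ⟨P⟩ : Nonempty (Sylow 11 G) := inferInstance
    rw [(M11Order.eleven_data hG P).1]

theorem eleven_count : ∀ k ∈ Nat.divisors 720, k % 11 = 1 →
    (10 * k = 1 ∨ 10 * k = 1440 ∨ 165 ∣ 10 * k ∨ 440 ∣ 10 * k ∨ 1584 ∣ 10 * k) → k = 144 := by
  decide +kernel

theorem five_count : ∀ k ∈ Nat.divisors 1584, k % 5 = 1 →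
    (4 * k = 1 ∨ 4 * k = 1440 ∨ 165 ∣ 4 * k ∨ 440 ∣ 4 * k ∨ 1584 ∣ 4 * k) → k = 396 := by
  decide +kernel

theorem small_order : ∀ k ∈ Nat.divisors 720, k % 11 = 1 → k = 1 ∨ k = 12 ∨ k = 45 ∨ k = 144 := by
  decide +kernel

theorem isM11_of_sylow (hcard : Nat.card G = 7920) (h144 : Nat.card (Sylow 11 G) = 144)
    (h396 : Nat.card (Sylow 5 G) = 396) : Cfsg.IsM11 G := by
  classical
  haveI : Fact (Nat.Prime 11) := ⟨by norm_num⟩
  haveI : Fact (Nat.Prime 5) := ⟨by norm_num⟩
  haveI : Nontrivial G := Finite.one_lt_card_iff_nontrivial.1 (by omega)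
  have hP : ∀ P : Sylow 11 G, Nat.card (P : Subgroup G) = 11 := fun P => by
    rw [P.card_eq_multiplicity, hcard, show (7920 : ℕ).factorization 11 = 1 by
      simp [← Nat.multiplicity_eq_factorization, Nat.factorization_def _ (by norm_num : Nat.Prime 11)]
      decide +kernel, pow_one]
  have hQ : ∀ Q : Sylow 5 G, Nat.card (Q : Subgroup G) = 5 := fun Q => by
    rw [Q.card_eq_multiplicity, hcard, show (7920 : ℕ).factorization 5 = 1 by
      simp [Nat.factorization_def _ (by norm_num : Nat.Prime 5)]
      decide +kernel, pow_one]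
  obtain ⟨P⟩ : Nonempty (Sylow 11 G) := inferInstance
  obtain ⟨Q⟩ : Nonempty (Sylow 5 G) := inferInstance
  -- elements of order five and eleven do not commute
  have hnc : ∀ x y : G, orderOf x = 11 → orderOf y = 5 → x * y ≠ y * x := by
    intro x y hx hy hxy
    obtain ⟨R, hR⟩ := (IsPGroup.of_card (n := 1) (by rw [Nat.card_zpowers, hy, pow_one]) :
      IsPGroup 5 (zpowers y)).exists_le_sylow
    have hyR : zpowers y = (R : Subgroup G) :=
      eq_of_le_of_card_ge hR (by rw [Nat.card_zpowers, hy, hQ R])
    have hxN : x ∈ normalizer ((R : Subgroup G) : Set G) := by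
      rw [← hyR]
      refine centralizer_le_normalizer _ (mem_centralizer_iff.2 fun z hz => ?_)
      obtain ⟨i, rfl⟩ := mem_zpowers_iff.1 hz
      exact ((show Commute x y from hxy).zpow_right i).symm.eq
    have hN : Nat.card (normalizer ((R : Subgroup G) : Set G)) = 20 := by
      have h := (normalizer ((R : Subgroup G) : Set G)).card_mul_index
      rw [show (normalizer ((R : Subgroup G) : Set G)).index = 396 from
        R.card_eq_index_normalizer.symm.trans h396, hcard] at h
      omega
    have h11 : (11 : ℕ) ∣ 20 := by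
      rw [← hx, ← hN]
      exact (dvd_of_eq (orderOf_submonoid (⟨x, hxN⟩ : normalizer ((R : Subgroup G) : Set G)))).trans
        (orderOf_dvd_natCard _)
    norm_num at h11
  have hN11 : Nat.card (normalizer ((P : Subgroup G) : Set G)) = 55 := by
    have h := (normalizer ((P : Subgroup G) : Set G)).card_mul_index
    rw [show (normalizer ((P : Subgroup G) : Set G)).index = 144 from
      P.card_eq_index_normalizer.symm.trans h144, hcard] at h
    omega
  -- a Sylow 11-subgroup is self-centralizing
  have hC11 : ∀ z : G, (∀ u ∈ (P : Subgroup G), u * z = z * u) → z ^ 11 = 1 := by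
    intro z hz
    have hzN : z ∈ normalizer ((P : Subgroup G) : Set G) :=
      centralizer_le_normalizer _ (mem_centralizer_iff.2 hz)
    have h55 : orderOf z ∣ 55 := by
      rw [← hN11]
      exact (dvd_of_eq (orderOf_submonoid (⟨z, hzN⟩ : normalizer ((P : Subgroup G) : Set G)))).trans
        (orderOf_dvd_natCard _)
    refine orderOf_dvd_iff_pow_eq_one.1 ((Nat.Coprime.dvd_mul_left ?_).1 (show orderOf z ∣ 5 * 11 from h55))
    by_contra h5
    have h5' : 5 ∣ orderOf z := by
      by_contra h
      exact h5 (((by norm_num : Nat.Prime 5).coprime_iff_not_dvd.2 h).symm)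
    obtain ⟨u, hu⟩ := exists_prime_orderOf_dvd_card' (G := (P : Subgroup G)) 11 (by rw [hP P])
    refine hnc u (z ^ (orderOf z / 5)) (by rw [orderOf_coe, hu]) (orderOf_pow_orderOf_div (orderOf_pos z).ne' h5') ?_
    exact ((show Commute (u : G) z from hz u u.2).pow_right _).eq
  refine ⟨?_, hcard⟩
  obtain ⟨N, ⟨hN, hN0⟩, hNmin⟩ := (Set.toFinite {M : Subgroup G | M.Normal ∧ M ≠ ⊥}).exists_minimal
    ⟨⊤, inferInstance, top_ne_bot⟩
  haveI := hN
  haveI : Nontrivial N := (Subgroup.nontrivial_iff_ne_bot N).2 hN0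
  suffices hNtop : N = ⊤ by
    refine ⟨fun K hK => (em (K = ⊥)).imp_right fun hK0 => ?_⟩
    exact top_le_iff.1 (hNtop ▸ hNmin ⟨hK, hK0⟩ (hNtop.symm ▸ le_top))
  have hNdvd : Nat.card N ∣ 7920 := hcard ▸ N.card_subgroup_dvd_card
  -- a proper minimal normal subgroup is not abelian of non-prime-power order
  have hcomm : commutator N ≠ ⊤ → ∀ u v : N, u * v = v * u := by
    intro hne u v
    have hcn : ((commutator N).map N.subtype).Normal := by
      rw [Subgroup.map_subtype_commutator]
      infer_instance
    have hb : commutator N = ⊥ := by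
      refine (Subgroup.map_eq_bot_iff_of_injective _ N.subtype_injective).1 ?_
      by_contra h
      refine hne (Subgroup.map_injective N.subtype_injective ?_)
      rw [le_antisymm (Subgroup.map_subtype_le _) (hNmin ⟨hcn, h⟩ (Subgroup.map_subtype_le _)),
        ← MonoidHom.range_eq_map, Subgroup.range_subtype]
    have h1 := Subgroup.commutator_mem_commutator (Subgroup.mem_top u) (Subgroup.mem_top v)
    rw [← _root_.commutator_def, hb, Subgroup.mem_bot, commutatorElement_eq_one_iff_mul_comm] at h1
    exact h1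
  have hpgroup : (∀ u v : N, u * v = v * u) → ∀ p q : ℕ, p.Prime → q.Prime → p ≠ q →
      p ∣ Nat.card N → ¬ q ∣ Nat.card N := by
    intro hab p q hp hq hpq hpd hqd
    haveI := Fact.mk hp
    haveI := Fact.mk hq
    let E : Subgroup G :=
      { carrier := {g | g ∈ N ∧ g ^ p = 1}
        one_mem' := ⟨N.one_mem, one_pow p⟩
        mul_mem' := fun {u v} hu hv => ⟨N.mul_mem hu.1 hv.1, by
          rw [(show Commute u v from congrArg Subtype.val (hab ⟨u, hu.1⟩ ⟨v, hv.1⟩)).mul_pow, hu.2, hv.2,
            one_mul]⟩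
        inv_mem' := fun {u} hu => ⟨N.inv_mem hu.1, by rw [inv_pow, hu.2, inv_one]⟩ }
    have hEn : E.Normal := ⟨fun g hg c => ⟨hN.conj_mem g hg.1 c, by
      rw [conj_pow, hg.2, mul_one, mul_inv_cancel]⟩⟩
    obtain ⟨x, hx⟩ := exists_prime_orderOf_dvd_card' (G := N) p hpd
    obtain ⟨y, hy⟩ := exists_prime_orderOf_dvd_card' (G := N) q hqd
    have hxE : (x : G) ∈ E := ⟨x.2, by rw [← Subgroup.coe_pow, ← hx, pow_orderOf_eq_one, Subgroup.coe_one]⟩
    have hE0 : E ≠ ⊥ := fun e => by
      rw [e, Subgroup.mem_bot, OneMemClass.coe_eq_one] at hxE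
      rw [hxE, orderOf_one] at hx
      exact hp.ne_one hx.symm
    have hyE : (y : G) ∈ E := hNmin ⟨hEn, hE0⟩ (fun g hg => hg.1) y.2
    have h1 : orderOf (y : G) ∣ p := orderOf_dvd_of_pow_eq_one hyE.2
    rw [Subgroup.orderOf_coe, hy] at h1
    exact hpq ((Nat.prime_dvd_prime_iff_eq hq hp).1 h1).symm
  by_cases h11 : 11 ∣ Nat.card N
  · -- it contains all Sylow 11-subgroups
    have hPN : ∀ R : Sylow 11 G, (R : Subgroup G) ≤ N := by
      intro R
      obtain ⟨u, hu⟩ := exists_prime_orderOf_dvd_card' (G := N) 11 h11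
      obtain ⟨S, hS⟩ := (IsPGroup.of_card (n := 1) (by rw [Nat.card_zpowers, orderOf_coe, hu, pow_one]) :
        IsPGroup 11 (zpowers (u : G))).exists_le_sylow
      have hSN : (S : Subgroup G) ≤ N := by
        rw [← eq_of_le_of_card_ge hS (by rw [Nat.card_zpowers, orderOf_coe, hu, hP S]), zpowers_le]
        exact u.2
      obtain ⟨c, rfl⟩ := MulAction.exists_smul_eq G S R
      intro z hz
      rw [Sylow.coe_subgroup_smul, Subgroup.mem_pointwise_smul_iff_inv_smul_mem] at hz
      have h := hN.conj_mem _ (hSN hz) c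
      simpa [mul_assoc] using h
    have h1440 : Nat.card {y : N // orderOf y = 11} = 1440 := by
      have h := M11Order.card_orderOf_eq hP
      rw [h144] at h
      refine Eq.trans (Nat.card_congr ?_) h
      refine
        { toFun := fun y => ⟨(y.1 : G), by rw [orderOf_coe, y.2]⟩
          invFun := fun y => ⟨⟨y.1, ?_⟩, by rw [Subgroup.orderOf_mk, y.2]⟩
          left_inv := fun y => rfl
          right_inv := fun y => rfl }
      obtain ⟨R, hR⟩ := (IsPGroup.of_card (n := 1) (by rw [Nat.card_zpowers, y.2, pow_one]) :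
        IsPGroup 11 (zpowers (y : G))).exists_le_sylow
      exact hPN R (hR (mem_zpowers _))
    have hPN' : ∀ R : Sylow 11 N, Nat.card (R : Subgroup N) = 11 := fun R => by
      obtain ⟨k, hk⟩ := IsPGroup.iff_card.1 R.isPGroup'
      have hd : 11 ^ k ∣ 7920 := hk ▸ (R : Subgroup N).card_subgroup_dvd_card.trans hNdvd
      have hk1 : k ≤ 1 := by
        by_contra h
        have h2 : 11 ^ 2 ∣ 7920 := (pow_dvd_pow 11 (show 2 ≤ k by omega)).trans hd
        norm_num at h2
      have := R.dvd_card_of_dvd_card h11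
      rw [hk] at this ⊢
      interval_cases k
      · norm_num at this
      · norm_num
    have hn144 : Nat.card (Sylow 11 N) = 144 := by
      have := M11Order.card_orderOf_eq hPN'
      rw [h1440] at this
      omega
    obtain ⟨R⟩ : Nonempty (Sylow 11 N) := inferInstance
    have hRc := (normalizer ((R : Subgroup N) : Set N)).card_mul_index
    rw [show (normalizer ((R : Subgroup N) : Set N)).index = 144 from
      R.card_eq_index_normalizer.symm.trans hn144] at hRc
    -- the normaliser of a Sylow 11-subgroup in `N`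
    have hle : Nat.card (normalizer ((R : Subgroup N) : Set N)) ∣ 55 := by
      obtain ⟨j, hj⟩ := hRc ▸ hNdvd
      refine ⟨j, ?_⟩
      have : 55 * 144 = Nat.card (normalizer ((R : Subgroup N) : Set N)) * j * 144 := by
        rw [mul_right_comm, ← hj]
      exact Nat.eq_of_mul_eq_mul_right (by norm_num) this
    have h11N : 11 ∣ Nat.card (normalizer ((R : Subgroup N) : Set N)) :=
      (dvd_of_eq (hPN' R).symm).trans (card_dvd_of_le le_normalizer)
    obtain ⟨i, hi⟩ := h11N
    have hi5 : i ∣ 5 := Nat.dvd_of_mul_dvd_mul_left (by norm_num : 0 < 11) (hi ▸ hle)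
    rcases (Nat.dvd_prime (by norm_num : Nat.Prime 5)).1 hi5 with rfl | rfl
    · exfalso
      have hself : normalizer ((R : Subgroup N) : Set N) ≤ centralizer ((R : Subgroup N) : Set N) := by
        have he : (R : Subgroup N) = normalizer ((R : Subgroup N) : Set N) :=
          eq_of_le_of_card_ge le_normalizer (by rw [hi, hPN' R])
        intro z hz
        rw [← he] at hz
        haveI := isCyclic_of_prime_card (α := (R : Subgroup N)) (hPN' R)
        refine mem_centralizer_iff.2 fun w hw => ?_
        exact congrArg Subtype.val (mul_comm' (⟨w, hw⟩ : (R : Subgroup N)) ⟨z, hz⟩)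
      have hk := MonoidHom.ker_transferSylow_isComplement' R hself
      have hne : commutator N ≠ ⊤ := by
        intro he
        have hRab : ∀ u v : (R : Subgroup N), u * v = v * u := fun u v => by
          haveI := isCyclic_of_prime_card (α := (R : Subgroup N)) (hPN' R)
          exact mul_comm' u v
        have hker : (MonoidHom.transferSylow R hself).ker = ⊤ := by
          rw [eq_top_iff, ← he, _root_.commutator_def, Subgroup.commutator_le]
          intro u _ v _
          rw [MonoidHom.mem_ker, map_commutatorElement, commutatorElement_eq_one_iff_mul_comm]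
          exact hRab _ _
        rw [hker, isComplement'_top_left] at hk
        have := hPN' R
        rw [hk, Subgroup.card_bot] at this
        omega
      refine hpgroup (hcomm hne) 11 2 (by norm_num) Nat.prime_two (by norm_num) h11 ?_
      rw [← hRc, hi]
      norm_num
    · refine eq_top_of_card_eq _ ?_
      rw [hcard, ← hRc, hi]
  · exfalso
    have h720 : Nat.card N ∣ 720 := by
      have hco : (Nat.card N).Coprime 11 := ((by norm_num : Nat.Prime 11).coprime_iff_not_dvd.2 h11).symm
      exact hco.dvd_of_dvd_mul_left (show Nat.card N ∣ 11 * 720 from hNdvd)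
    have hmod : Nat.card N % 11 = 1 := by
      letI : MulAction G N := MulAction.compHom N (MulAut.conjNormal : G →* MulAut N)
      obtain ⟨x, hx⟩ := exists_prime_orderOf_dvd_card' (G := (P : Subgroup G)) 11 (by rw [hP P])
      have hx' : (x : G) ^ 11 = 1 := orderOf_dvd_iff_pow_eq_one.1 (dvd_of_eq ((orderOf_coe x).trans hx))
      have h := M11Order.fixed_mod (α := N) (p := 11) hx' (Commute.one_right (x : G))
      have h1 : Nat.card {a : N // (1 : G) • a = a} = Nat.card N :=
        Nat.card_congr (Equiv.subtypeUnivEquiv fun a => one_smul G a)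
      have h2 : Nat.card {a : N // (1 : G) • a = a ∧ (x : G) • a = a} = 1 := by
        rw [Nat.card_eq_one_iff_unique]
        refine ⟨⟨fun a b => ?_⟩, ⟨⟨1, one_smul G _, by change MulAut.conjNormal (x : G) 1 = 1; rw [map_one]⟩⟩⟩
        have key : ∀ a : N, (x : G) • a = a → a = 1 := by
          intro a ha
          have ha' : (x : G) * a * (x : G)⁻¹ = a :=
            (MulAut.conjNormal_apply (x : G) a).symm.trans (congrArg Subtype.val ha)
          have hPx : zpowers (x : G) = (P : Subgroup G) := eq_of_le_of_card_ge (zpowers_le.2 x.2)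
            (by rw [Nat.card_zpowers, orderOf_coe, hx, hP P])
          have h11' : (a : G) ^ 11 = 1 := hC11 a fun u hu => by
            rw [← hPx] at hu
            obtain ⟨i, rfl⟩ := mem_zpowers_iff.1 hu
            exact ((show Commute (x : G) a from mul_inv_eq_iff_eq_mul.1 ha').zpow_left i).eq
          have hd : orderOf a ∣ Nat.gcd (Nat.card N) 11 := Nat.dvd_gcd (orderOf_dvd_natCard a)
            (orderOf_dvd_of_pow_eq_one (Subtype.ext (by rw [Subgroup.coe_pow, h11', Subgroup.coe_one])))
          rw [((by norm_num : Nat.Prime 11).coprime_iff_not_dvd.2 h11).symm.gcd_eq_one] at hd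
          exact orderOf_eq_one_iff.1 (Nat.dvd_one.1 hd)
        exact Subtype.ext ((key _ a.2.2).trans (key _ b.2.2).symm)
      rw [h1, h2] at h
      exact h
    have hsol : Nat.card N = 12 ∨ Nat.card N = 144 → False := by
      intro h
      have hs : Group.IsSolvable N := by
        rcases h with h | h
        · exact Characters.burnside_pa_qb (p := 2) (q := 3) (a := 2) (b := 1) Nat.prime_two Nat.prime_three h
        · exact Characters.burnside_pa_qb (p := 2) (q := 3) (a := 4) (b := 2) Nat.prime_two Nat.prime_three h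
      haveI := hs
      refine hpgroup (hcomm (Group.IsSolvable.commutator_lt_top_of_nontrivial N).ne) 2 3 Nat.prime_two
        Nat.prime_three (by norm_num) ?_ ?_ <;>
      · rcases h with h | h <;> rw [h] <;> norm_num
    rcases small_order _ (Nat.mem_divisors.2 ⟨h720, by norm_num⟩) hmod with h | h | h | h
    · exact hN0 (Subgroup.card_eq_one.1 h)
    · exact hsol (Or.inl h)
    · -- all elements of order five would lie in `N`
      obtain ⟨u, hu⟩ := exists_prime_orderOf_dvd_card' (G := N) 5 (by rw [h]; norm_num)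
      have hsub : ∀ y : G, orderOf y = 5 → y ∈ N := by
        intro y hy
        obtain ⟨S, hS⟩ := (IsPGroup.of_card (n := 1) (by rw [Nat.card_zpowers, orderOf_coe, hu, pow_one]) :
          IsPGroup 5 (zpowers (u : G))).exists_le_sylow
        obtain ⟨T, hT⟩ := (IsPGroup.of_card (n := 1) (by rw [Nat.card_zpowers, hy, pow_one]) :
          IsPGroup 5 (zpowers y)).exists_le_sylow
        have hSN : (S : Subgroup G) ≤ N := by
          rw [← eq_of_le_of_card_ge hS (by rw [Nat.card_zpowers, orderOf_coe, hu, hQ S]), zpowers_le]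
          exact u.2
        obtain ⟨c, rfl⟩ := MulAction.exists_smul_eq G S T
        have hyT := hT (mem_zpowers y)
        rw [Sylow.coe_subgroup_smul, Subgroup.mem_pointwise_smul_iff_inv_smul_mem] at hyT
        have h' := hN.conj_mem _ (hSN hyT) c
        simpa [mul_assoc] using h'
      have hle : Nat.card {g : G // orderOf g = 5} ≤ Nat.card N :=
        Nat.card_le_card_of_injective (fun g => (⟨g.1, hsub g.1 g.2⟩ : N))
          fun a b e => Subtype.ext (congrArg Subtype.val e :)
      rw [M11Order.card_orderOf_eq hQ, h396, h] at hle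
      omega
    · exact hsol (Or.inr h)


/-- the statement behind the recognition -/
theorem isM11_of_counts (hcard : Nat.card G = 7920) {M : Type*} [Group M] [Finite M] (hM : Cfsg.IsM11 M)
    (hnse : {c : ℕ | 0 < c ∧ ∃ n : ℕ, c = Nat.card {g : G // orderOf g = n}} =
      {c : ℕ | 0 < c ∧ ∃ n : ℕ, c = Nat.card {g : M // orderOf g = n}}) : Cfsg.IsM11 G := by
  classical
  haveI : Fact (Nat.Prime 11) := ⟨by norm_num⟩
  haveI : Fact (Nat.Prime 5) := ⟨by norm_num⟩
  haveI : Nontrivial G := Finite.one_lt_card_iff_nontrivial.1 (by omega)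
  have hv : ∀ p : ℕ, p.Prime → p ∣ 7920 → (Nat.card {g : G // orderOf g = p} = 1 ∨
      Nat.card {g : G // orderOf g = p} = 1440 ∨ 165 ∣ Nat.card {g : G // orderOf g = p} ∨
      440 ∣ Nat.card {g : G // orderOf g = p} ∨ 1584 ∣ Nat.card {g : G // orderOf g = p}) := by
    intro p hp hd
    haveI := Fact.mk hp
    refine count_cases hM (hnse.subset ⟨?_, p, rfl⟩)
    obtain ⟨g, hg⟩ := exists_prime_orderOf_dvd_card' (G := G) p (hcard ▸ hd)
    exact Nat.card_pos_iff.2 ⟨⟨⟨g, hg⟩⟩, inferInstance⟩
  have hP : ∀ P : Sylow 11 G, Nat.card (P : Subgroup G) = 11 := fun P => by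
    rw [P.card_eq_multiplicity, hcard, show (7920 : ℕ).factorization 11 = 1 by
      simp [← Nat.multiplicity_eq_factorization, Nat.factorization_def _ (by norm_num : Nat.Prime 11)]
      decide +kernel, pow_one]
  have hQ : ∀ Q : Sylow 5 G, Nat.card (Q : Subgroup G) = 5 := fun Q => by
    rw [Q.card_eq_multiplicity, hcard, show (7920 : ℕ).factorization 5 = 1 by
      simp [Nat.factorization_def _ (by norm_num : Nat.Prime 5)]
      decide +kernel, pow_one]
  obtain ⟨P⟩ : Nonempty (Sylow 11 G) := inferInstance
  obtain ⟨Q⟩ : Nonempty (Sylow 5 G) := inferInstance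
  have hidx : ∀ {H : Subgroup G} {k : ℕ}, Nat.card H = k → 0 < k → H.index = 7920 / k := fun {H k} h hk => by
    have := H.card_mul_index
    rw [h, hcard] at this
    rw [← this, Nat.mul_div_cancel_left _ hk]
  have h144 : Nat.card (Sylow 11 G) = 144 := by
    refine eleven_count _ (Nat.mem_divisors.2 ⟨?_, by norm_num⟩) (card_sylow_modEq_one 11 G) ?_
    · have := P.card_dvd_index
      rwa [hidx (hP P) (by norm_num)] at this
    · have h := hv 11 Fact.out (by norm_num)
      rw [M11Order.card_orderOf_eq hP, mul_comm] at h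
      exact h
  have h396 : Nat.card (Sylow 5 G) = 396 := by
    refine five_count _ (Nat.mem_divisors.2 ⟨?_, by norm_num⟩) (card_sylow_modEq_one 5 G) ?_
    · have := Q.card_dvd_index
      rwa [hidx (hQ Q) (by norm_num)] at this
    · have h := hv 5 Fact.out (by norm_num)
      rw [M11Order.card_orderOf_eq hQ, mul_comm] at h
      exact h
  exact isM11_of_sylow hcard h144 h396

/-- the centralizer through its non-identity elements -/
theorem card_centralizer_eq {H : Type*} [Group H] [Finite H] (x : H) :
    Nat.card (centralizer ({x} : Set H)) = Nat.card {y : {h : H // h ≠ 1} // x * y = y * x} + 1 := by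
  classical
  let e : {y : {h : H // h ≠ 1} // x * y = y * x} ≃ {c : centralizer ({x} : Set H) // c ≠ 1} :=
    { toFun := fun y => ⟨⟨y.1.1, mem_centralizer_singleton_iff.2 y.2.symm⟩,
        fun e => y.1.2 (congrArg Subtype.val e)⟩
      invFun := fun c => ⟨⟨c.1.1, fun e => c.2 (Subtype.ext e)⟩,
        (mem_centralizer_singleton_iff.1 c.1.2).symm⟩
      left_inv := fun _ => rfl
      right_inv := fun _ => rfl }
  haveI := Fintype.ofFinite (centralizer ({x} : Set H))
  rw [Nat.card_congr e, Nat.card_eq_fintype_card, Nat.card_eq_fintype_card, Fintype.card_subtype_compl,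
    Fintype.card_subtype_eq]
  have : 0 < Fintype.card (centralizer ({x} : Set H)) := Fintype.card_pos
  omega

theorem orderOf_eq_iff_centralizer (hG : Cfsg.IsM11 G) {p : ℕ} (hp : p = 5 ∨ p = 11) (y : G) :
    (orderOf y = p → Nat.card (centralizer ({y} : Set G)) = p) ∧
      (y ≠ 1 → p ∣ Nat.card (centralizer ({y} : Set G)) → orderOf y = p) := by
  classical
  have hpp : p.Prime := by rcases hp with rfl | rfl <;> norm_num
  haveI := Fact.mk hpp
  have key : ∀ z : G, orderOf z = p → Nat.card (centralizer ({z} : Set G)) = p := by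
    intro z hz
    have hself : p ∣ Nat.card (centralizer ({z} : Set G)) := by
      rw [← hz]
      exact (dvd_of_eq (orderOf_submonoid (⟨z, mem_centralizer_singleton_iff.2 rfl⟩ :
        centralizer ({z} : Set G)))).trans (orderOf_dvd_natCard _)
    rcases hp with rfl | rfl
    · obtain ⟨Q, hQ⟩ := (IsPGroup.of_card (n := 1) (by rw [Nat.card_zpowers, hz, pow_one]) :
        IsPGroup 5 (zpowers z)).exists_le_sylow
      obtain ⟨-, hs, -⟩ := M11Order.five_data hG Q
      rw [hs.centralizer_eq z (hQ (mem_zpowers z)) (fun e => by rw [e, orderOf_one] at hz; norm_num at hz),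
        M11Order.card_sylow5_eq hG Q]
    · exact Nat.dvd_antisymm (M11Order.not_eleven_centralizer hG hz dvd_rfl) hself
  refine ⟨key y, fun hy hd => ?_⟩
  obtain ⟨z, hz⟩ := exists_prime_orderOf_dvd_card' (G := centralizer ({y} : Set G)) p hd
  have hz' : orderOf (z : G) = p := (orderOf_coe z).trans hz
  have hd' : orderOf y ∣ p := by
    rw [← key _ hz']
    exact (dvd_of_eq (orderOf_submonoid (⟨y, mem_centralizer_singleton_iff.2
      (mem_centralizer_singleton_iff.1 z.2).symm⟩ : centralizer ({(z : G)} : Set G)))).trans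
        (orderOf_dvd_natCard _)
  exact ((Nat.dvd_prime hpp).1 hd').resolve_left fun e => hy (orderOf_eq_one_iff.1 e)

/-- a group with the commuting graph of a simple group of order 7920 is one -/
theorem isM11_of_commuting {M : Type*} [Group M] [Finite M] (hM : Cfsg.IsM11 M)
    (f : {h : G // h ≠ 1} ≃ {g : M // g ≠ 1})
    (hf : ∀ x y : {h : G // h ≠ 1}, (x : G) * y = y * x ↔ (f x : M) * f y = f y * f x) : Cfsg.IsM11 G := by
  classical
  haveI : Fact (Nat.Prime 11) := ⟨by norm_num⟩
  haveI : Fact (Nat.Prime 5) := ⟨by norm_num⟩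
  haveI := Fintype.ofFinite G
  haveI := Fintype.ofFinite M
  have hcard : Nat.card G = 7920 := by
    have h := Fintype.card_congr f
    rw [Fintype.card_subtype_compl, Fintype.card_subtype_eq, Fintype.card_subtype_compl,
      Fintype.card_subtype_eq, ← Nat.card_eq_fintype_card, ← Nat.card_eq_fintype_card, hM.2] at h
    omega
  have hC : ∀ x : {h : G // h ≠ 1},
      Nat.card (centralizer ({(x : G)} : Set G)) = Nat.card (centralizer ({(f x : M)} : Set M)) := fun x => by
    rw [card_centralizer_eq, card_centralizer_eq,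
      Nat.card_congr (f.subtypeEquiv (q := fun z : {g : M // g ≠ 1} => (f x : M) * z = z * f x) fun y => hf x y)]
  have hiff : ∀ p : ℕ, (p = 5 ∨ p = 11) → Nat.card {g : G // orderOf g = p} = Nat.card {g : M // orderOf g = p} := by
    intro p hp
    have hpp : p.Prime := by rcases hp with rfl | rfl <;> norm_num
    have key : ∀ x : {h : G // h ≠ 1}, orderOf (x : G) = p ↔ orderOf (f x : M) = p := by
      intro x
      constructor
      · intro h
        refine (orderOf_eq_iff_centralizer hM hp _).2 (f x).2 ?_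
        rw [← hC x, ← h]
        exact (dvd_of_eq (orderOf_submonoid (⟨x, mem_centralizer_singleton_iff.2 rfl⟩ :
          centralizer ({(x : G)} : Set G)))).trans (orderOf_dvd_natCard _)
      · intro h
        have h1 := (hC x).trans ((orderOf_eq_iff_centralizer hM hp _).1 h)
        have hd : orderOf (x : G) ∣ p := by
          rw [← h1]
          exact (dvd_of_eq (orderOf_submonoid (⟨x, mem_centralizer_singleton_iff.2 rfl⟩ :
            centralizer ({(x : G)} : Set G)))).trans (orderOf_dvd_natCard _)
        exact ((Nat.dvd_prime hpp).1 hd).resolve_left fun e => x.2 (orderOf_eq_one_iff.1 e)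
    refine Nat.card_congr ?_
    have hne : ∀ {K : Type _} [Group K] {g : K}, orderOf g = p → g ≠ 1 := fun h e => by
      rw [e, orderOf_one] at h
      exact hpp.ne_one h.symm
    exact
      { toFun := fun g => ⟨f ⟨g, hne g.2⟩, (key _).1 g.2⟩
        invFun := fun m => ⟨f.symm ⟨m, fun e => hpp.ne_one (by rw [← m.2, e, orderOf_one])⟩,
          (key _).2 (by rw [Equiv.apply_symm_apply]; exact m.2)⟩
        left_inv := fun g => Subtype.ext (by simp)
        right_inv := fun m => Subtype.ext (by simp) }
  have hP : ∀ P : Sylow 11 G, Nat.card (P : Subgroup G) = 11 := fun P => by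
    rw [P.card_eq_multiplicity, hcard, show (7920 : ℕ).factorization 11 = 1 by
      simp [Nat.factorization_def _ (by norm_num : Nat.Prime 11)]
      decide +kernel, pow_one]
  have hQ : ∀ Q : Sylow 5 G, Nat.card (Q : Subgroup G) = 5 := fun Q => by
    rw [Q.card_eq_multiplicity, hcard, show (7920 : ℕ).factorization 5 = 1 by
      simp [Nat.factorization_def _ (by norm_num : Nat.Prime 5)]
      decide +kernel, pow_one]
  refine isM11_of_sylow hcard ?_ ?_
  · have h := hiff 11 (Or.inr rfl)
    obtain ⟨P⟩ : Nonempty (Sylow 11 M) := inferInstance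
    rw [M11Order.card_orderOf_eq hP, M11Order.card_orderOf_eq fun Q => M11Order.card_sylow11_eq hM Q,
      (M11Order.eleven_data hM P).1] at h
    omega
  · have h := hiff 5 (Or.inl rfl)
    rw [M11Order.card_orderOf_eq hQ, M11Order.card_orderOf_eq fun Q => M11Order.card_sylow5_eq hM Q,
      M11Order.five_data_aux hM] at h
    omega

end Cfsg.Agent.Recognition.MathieuEleven
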