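import Mathlib
import Cfsg.Agent.Lib.M11Order.Unique

/-!
# All automorphisms of a group of order 7920 on eleven points are inner

A subgroup of index eleven contains an element of order five, so it fixes a point. Hence an
automorphism is induced by a permutation normalising the group; the affine such permutations lie in
the group, as multiplication by `-1` does not normalise it.
-/

set_option autoImplicit false

namespace Cfsg.Agent.Recognition.MathieuElevenAut

open Cfsg.Agent.Perm.Degree11 Cfsg.Agent.M11Order MulAction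

local notation "P11" => Equiv.Perm (ZMod 11)

local instance factPrimeElevenAut : Fact (Nat.Prime 11) := ⟨by norm_num⟩
local instance factPrimeFiveAut : Fact (Nat.Prime 5) := ⟨by norm_num⟩

variable {K : Subgroup P11} (ht : shift ∈ K) (hK : Nat.card K = 7920)

include ht hK in
theorem small : Cfsg.Agent.Perm.Degree11.Small K := by
  refine (main ht (not_solvable_of_card ht (by omega)) fun hle => ?_).1
  have := Nat.le_of_dvd Nat.card_pos (Subgroup.card_dvd_of_le hle)
  rw [card_A11, hK] at this
  omega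

include ht in
theorem pretransitive : IsPretransitive K (ZMod 11) :=
  haveI := isPreprimitive ht
  inferInstance

include ht hK in
theorem index_stabilizer (a : ZMod 11) : (stabilizer K a).index = 11 := by
  haveI := pretransitive ht
  rw [index_stabilizer_of_transitive, Nat.card_zmod]

include ht hK in
/-- A subgroup of index eleven is a point stabilizer. -/
theorem eq_stabilizer (H : Subgroup K) (hH : H.index = 11) : ∃ a : ZMod 11, H = stabilizer K a := by
  classical
  have hs := small ht hK
  have hHc : Nat.card H = 720 := by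
    have h := H.card_mul_index
    rw [hH, hK] at h
    omega
  obtain ⟨x, hx⟩ := exists_prime_orderOf_dvd_card' (G := H) 5 (by rw [hHc]; norm_num)
  have hx' : orderOf ((x : K) : P11) = 5 := by rw [Subgroup.orderOf_coe, Subgroup.orderOf_coe, hx]
  have hsupp : ((x : K) : P11).support.card = 10 := hs.order_five (x : K).2 hx'
  obtain ⟨z, hz⟩ : ∃ z, ((x : K) : P11).supportᶜ = {z} := Finset.card_eq_one.1 (by
    rw [Finset.card_compl, hsupp, ZMod.card])
  have hfix : ∀ b, ((x : K) : P11) b = b ↔ b = z := fun b => by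
    rw [show b = z ↔ b ∈ ({z} : Finset (ZMod 11)) from Finset.mem_singleton.symm, ← hz,
      Finset.mem_compl, Equiv.Perm.mem_support, not_not]
  set O := orbit H z with hO
  haveI : Finite O := inferInstance
  have hxz : x • z = z := (hfix z).2 rfl
  have hmod : Nat.card O % 5 = 1 := by
    have h := fixed_mod (G := H) (α := O) (p := 5) (x := x) (r := 1)
      (by rw [← hx, pow_orderOf_eq_one]) (Commute.one_right x)
    have h1 : Nat.card {a : O // (1 : H) • a = a} = Nat.card O :=
      Nat.card_congr (Equiv.subtypeUnivEquiv fun a => one_smul H a)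
    have h2 : Nat.card {a : O // (1 : H) • a = a ∧ x • a = a} = 1 := by
      rw [Nat.card_eq_one_iff_unique]
      refine ⟨⟨fun a b => Subtype.ext (Subtype.ext ?_)⟩,
        ⟨⟨⟨z, mem_orbit_self z⟩, one_smul H _, Subtype.ext hxz⟩⟩⟩
      rw [(hfix _).1 (congrArg Subtype.val a.2.2), (hfix _).1 (congrArg Subtype.val b.2.2)]
    rw [h1, h2] at h
    exact h
  have hle : Nat.card O ≤ 11 := (Nat.card_le_card_of_injective (fun a : O => (a : ZMod 11))
    Subtype.val_injective).trans (Nat.card_zmod 11).le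
  have hdvd : Nat.card O ∣ 720 := by
    rw [← hHc, Nat.card_congr (orbitEquivQuotientStabilizer H z), ← Subgroup.index_eq_card]
    exact Subgroup.index_dvd_card _
  rcases (show Nat.card O = 1 ∨ Nat.card O = 6 ∨ Nat.card O = 11 by omega) with h | h | h
  · refine ⟨z, Subgroup.eq_of_le_of_card_ge (fun g hg => ?_) ?_⟩
    · haveI := (Nat.card_eq_one_iff_unique.1 h).1
      exact congrArg Subtype.val (Subsingleton.elim
        (⟨_, mem_orbit z (⟨g, hg⟩ : H)⟩ : O) ⟨z, mem_orbit_self z⟩)
    · have h1 := (stabilizer K z).card_mul_index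
      rw [index_stabilizer ht hK, hK] at h1
      omega
  · -- the five other points would carry a faithful action
    exfalso
    let C : Set (ZMod 11) := Oᶜ
    have hC : ∀ g : H, ∀ b, b ∈ C → ((g : K) : P11) b ∈ C := fun g b hb hgb => hb (by
      have := mapsTo_smul_orbit g⁻¹ z hgb
      change g⁻¹ • g • b ∈ O at this
      rwa [inv_smul_smul] at this)
    let ψ : H → (C → C) := fun g b => ⟨((g : K) : P11) b, hC g b b.2⟩
    let φ : H →* Equiv.Perm C := MonoidHom.mk' (fun g => ⟨ψ g, ψ g⁻¹,
        fun b => Subtype.ext (by simp [ψ]), fun b => Subtype.ext (by simp [ψ])⟩)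
      fun g g' => Equiv.ext fun b => Subtype.ext (by simp [ψ])
    have hφ : Function.Injective φ := by
      rw [← MonoidHom.ker_eq_bot_iff, Subgroup.eq_bot_iff_forall]
      intro g hg
      refine Subtype.ext (Subtype.ext ?_)
      refine hs.eq_one_of_fix (g : K).2 ?_
      have hsub : ((g : K) : P11).support ⊆ O.toFinset := fun b hb => by
        rw [Set.mem_toFinset]
        by_contra hbO
        exact Equiv.Perm.mem_support.1 hb (congrArg Subtype.val (Equiv.congr_fun (MonoidHom.mem_ker.1 hg) ⟨b, hbO⟩))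
      refine (Finset.card_le_card hsub).trans ?_
      rw [← Set.ncard_eq_toFinset_card', ← Nat.card_coe_set_eq, h]
      norm_num
    have hcard := Nat.card_le_card_of_injective φ hφ
    have hC5 : Nat.card C = 5 := by
      rw [Nat.card_coe_set_eq, Set.ncard_compl, ← Nat.card_coe_set_eq O, h, Nat.card_zmod]
    rw [hHc, Nat.card_perm, hC5] at hcard
    revert hcard
    decide
  · rw [h] at hdvd
    norm_num at hdvd

theorem flip_values : ∀ b ∈ ([6, 10] : List (ZMod 11)), ∃ i : Fin 5, ∀ z : ZMod 11,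
    (z ∈ ([0, 1, 3, 9, 5, 4] : List (ZMod 11)) →
      3 ^ (i : ℕ) * -(Eleven.T 1 b (-z)) = Eleven.T 1 b z) ∧
    (z = 2 → 3 ^ (i : ℕ) * -(Eleven.T 1 b (-z)) ≠ Eleven.T 1 b z) := by
  decide +kernel

include ht hK in
/-- Multiplication by `-1` does not normalise the group. -/
theorem neg_not_normalizing : ¬ ∀ g ∈ K, mu (-1) * g * (mu (-1))⁻¹ ∈ K := by
  classical
  intro hn
  obtain ⟨hm, w, hw, b, hb, hwT⟩ := Eleven.exists_w ht hK
  obtain ⟨i, hi⟩ := flip_values b (by rcases hb with rfl | rfl <;> simp)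
  set c : P11 := mu (-1) with hc
  have hcz : ∀ z, c z = -z := fun z => by rw [hc, mu_apply]; simp
  have hci : ∀ z, c⁻¹ z = -z := fun z => by
    rw [Equiv.Perm.inv_eq_iff_eq, hcz, neg_neg]
  set e : P11 := w⁻¹ * (mu Eleven.three ^ (i : ℕ) * (c * w * c⁻¹)) with he
  have heK : e ∈ K := K.mul_mem (K.inv_mem hw) (K.mul_mem (K.pow_mem hm _) (hn w hw))
  have hez : ∀ z, e z = z ↔ 3 ^ (i : ℕ) * -(Eleven.T 1 b (-z)) = Eleven.T 1 b z := fun z => by
    rw [he, Equiv.Perm.mul_apply, Equiv.Perm.inv_eq_iff_eq, Equiv.Perm.mul_apply, ← map_pow, mu_apply,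
      Equiv.Perm.mul_apply, Equiv.Perm.mul_apply, hci, hcz, hwT, hwT, Units.val_pow_eq_pow_val]
    rfl
  have hsupp : e.support.card ≤ 7 := by
    have hsub : e.support ⊆ Finset.univ \ ({0, 1, 3, 9, 5, 4} : Finset (ZMod 11)) := fun z hz => by
      rw [Finset.mem_sdiff]
      refine ⟨Finset.mem_univ _, fun hzs => Equiv.Perm.mem_support.1 hz ((hez z).2 ((hi z).1 ?_))⟩
      simpa using hzs
    exact (Finset.card_le_card hsub).trans (by decide)
  have h1 := (small ht hK).eq_one_of_fix heK hsupp
  exact (hi 2).2 rfl ((hez 2).1 (by rw [h1, Equiv.Perm.one_apply]))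

include ht hK in
/-- A normalising affine map lies in the group. -/
theorem mu_mem {u : (ZMod 11)ˣ} (hn : ∀ g ∈ K, mu u * g * (mu u)⁻¹ ∈ K) : mu u ∈ K := by
  have hs := small ht hK
  obtain ⟨hsq, -⟩ := card_normalizer hs.le_alt ht hs.card_ne
  have key : ∀ v : (ZMod 11)ˣ, v ^ 5 = 1 ∨ (-v) ^ 5 = 1 := by decide +kernel
  rcases key u with h | h
  · exact hsq u h
  · exfalso
    refine neg_not_normalizing ht hK fun g hg => ?_
    have hv : mu (-u) ∈ K := hsq (-u) h
    have e : mu (-1) = (mu (-u))⁻¹ * mu u := by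
      rw [← map_inv, ← map_mul]
      congr 1
      rw [eq_inv_mul_iff_mul_eq]
      ext
      simp
    rw [e, show (mu (-u))⁻¹ * mu u * g * ((mu (-u))⁻¹ * mu u)⁻¹ =
      (mu (-u))⁻¹ * (mu u * g * (mu u)⁻¹) * mu (-u) by group]
    exact K.mul_mem (K.mul_mem (K.inv_mem hv) (hn g hg)) hv

include ht hK in
/-- A permutation normalising the group lies in it. -/
theorem mem_of_normalizing {π : P11} (hn : ∀ g ∈ K, π * g * π⁻¹ ∈ K) : π ∈ K := by
  classical
  obtain ⟨Q, hQ⟩ := sylow_eq_zpowers ht
  let s : K := ⟨π * shift * π⁻¹, hn _ ht⟩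
  have hso : orderOf s = 11 := by
    rw [← Subgroup.orderOf_coe]
    exact (MulEquiv.orderOf_eq (MulAut.conj π) shift).trans orderOf_shift
  obtain ⟨R, hR⟩ := (IsPGroup.of_card (n := 1) (by rw [Nat.card_zpowers, hso, pow_one]) :
    IsPGroup 11 (Subgroup.zpowers s)).exists_le_sylow
  obtain ⟨k, hk⟩ := MulAction.exists_smul_eq K R Q
  have hks : k * s * k⁻¹ ∈ Subgroup.zpowers (⟨shift, ht⟩ : K) := by
    rw [← hQ, ← hk, Sylow.coe_subgroup_smul, Subgroup.mem_pointwise_smul_iff_inv_smul_mem]
    simpa [MulAut.smul_def, mul_assoc] using hR (Subgroup.mem_zpowers s)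
  rw [mem_zpowers_coe] at hks
  set g : P11 := (k : P11) * π with hg
  have hgn : ∀ x ∈ K, g * x * g⁻¹ ∈ K := fun x hx => by
    rw [hg, show (k : P11) * π * x * ((k : P11) * π)⁻¹ = k * (π * x * π⁻¹) * (k : P11)⁻¹ by group]
    exact K.mul_mem (K.mul_mem k.2 (hn x hx)) (K.inv_mem k.2)
  obtain ⟨a, b, -, hab⟩ := exists_affine (K := ⊤) (Subgroup.mem_top shift) (Subgroup.mem_top g) (by
    rw [hg, show (k : P11) * π * shift * ((k : P11) * π)⁻¹ = k * (π * shift * π⁻¹) * (k : P11)⁻¹ by group]
    exact hks)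
  have he : g = shift ^ b.val * mu a := Equiv.ext fun z => by
    rw [hab, Equiv.Perm.mul_apply, shift_pow, mu_apply, ZMod.natCast_zmod_val]
  have ha : mu a ∈ K := by
    refine mu_mem ht hK fun x hx => ?_
    have := K.mul_mem (K.mul_mem (K.inv_mem (K.pow_mem ht b.val)) (hgn x hx)) (K.pow_mem ht b.val)
    rwa [he, show (shift ^ b.val)⁻¹ * (shift ^ b.val * mu a * x * (shift ^ b.val * mu a)⁻¹) * shift ^ b.val =
      mu a * x * (mu a)⁻¹ by group] at this
  have hgK : g ∈ K := he ▸ K.mul_mem (K.pow_mem ht _) ha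
  have := K.mul_mem (K.inv_mem k.2) hgK
  rwa [hg, inv_mul_cancel_left] at this

include ht hK in
/-- All automorphisms are inner. -/
theorem inner (α : K ≃* K) : ∃ k : K, ∀ g, α g = k * g * k⁻¹ := by
  classical
  haveI := pretransitive ht
  obtain ⟨a, ha⟩ := eq_stabilizer ht hK ((stabilizer K (0 : ZMod 11)).map α.toMonoidHom) (by
    rw [Subgroup.index_map_of_bijective α.bijective, index_stabilizer ht hK])
  have hiff : ∀ k : K, k • (0 : ZMod 11) = 0 ↔ α k • a = a := fun k => by
    rw [← mem_stabilizer_iff, ← mem_stabilizer_iff, ← ha,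
      show α k = α.toMonoidHom k from rfl,
      Subgroup.mem_map_iff_mem (by exact α.injective : Function.Injective α.toMonoidHom)]
  choose k hk using fun z : ZMod 11 => exists_smul_eq K (0 : ZMod 11) z
  let f : ZMod 11 → ZMod 11 := fun z => α (k z) • a
  have hwd : ∀ h : K, f (h • (0 : ZMod 11)) = α h • a := fun h => by
    have e := (hiff (h⁻¹ * k (h • (0 : ZMod 11)))).1 (by rw [mul_smul, hk, inv_smul_smul])
    rw [map_mul, map_inv, mul_smul, inv_smul_eq_iff] at e
    exact e
  have hf : Function.Bijective f := by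
    refine Finite.surjective_iff_bijective.1 fun z => ?_
    obtain ⟨h, rfl⟩ := exists_smul_eq K a z
    exact ⟨α.symm h • (0 : ZMod 11), by rw [hwd, MulEquiv.apply_symm_apply]⟩
  let π : P11 := Equiv.ofBijective f hf
  have hconj : ∀ g : K, π * (g : P11) = (α g : P11) * π := fun g => Equiv.ext fun z => by
    change f (g • z) = α g • f z
    conv_lhs => rw [← hk z, ← mul_smul]
    rw [hwd, map_mul, mul_smul]
  have hα : ∀ g : K, (α g : P11) = π * g * π⁻¹ := fun g => by rw [hconj g, mul_inv_cancel_right]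
  have hπ : π ∈ K := mem_of_normalizing ht hK fun g hg => by
    rw [← hα ⟨g, hg⟩]
    exact (α ⟨g, hg⟩).2
  exact ⟨⟨π, hπ⟩, fun g => Subtype.ext (hα g)⟩

/-- All automorphisms of a simple group of order 7920 are inner. -/
theorem inn_eq_top {G : Type*} [Group G] [Finite G] (hG : Cfsg.IsM11 G) (α : G ≃* G) :
    ∃ k : G, ∀ g, α g = k * g * k⁻¹ := by
  obtain ⟨K, ht, hK, ⟨e⟩⟩ := Unique.exists_degree11 hG
  obtain ⟨k, hk⟩ := inner ht hK ((e.symm.trans α).trans e)
  refine ⟨e.symm k, fun g => e.injective ?_⟩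
  have h := hk (e g)
  simp only [MulEquiv.trans_apply, MulEquiv.symm_apply_apply] at h
  rw [h, map_mul, map_mul, map_inv, MulEquiv.apply_symm_apply]

end Cfsg.Agent.Recognition.MathieuElevenAut
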