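import Mathlib

/-!
Spectra and prime graphs of extensions of a module by a group: used to build arbitrarily large
groups with a prescribed spectrum or prime graph.
-/

set_option autoImplicit false

namespace Cfsg.Agent.Recognition.Extension

universe u v

/-- Every finite group has a copy in `Type`. -/
theorem exists_type_zero (G : Type u) [Group G] [Finite G] :
    ∃ (H : Type) (_ : Group H) (_ : Fintype H), Nonempty (H ≃* G) := by
  obtain ⟨n, ⟨e⟩⟩ := Finite.exists_equiv_fin G
  letI : Group (Fin n) := e.symm.group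
  exact ⟨Fin n, inferInstance, inferInstance, ⟨e.symm.mulEquiv⟩⟩

/-- Element orders are preserved by isomorphisms. -/
theorem range_orderOf_congr {G : Type u} {H : Type v} [Group G] [Group H] (e : G ≃* H) :
    Set.range (orderOf : G → ℕ) = Set.range (orderOf : H → ℕ) := by
  ext n
  constructor
  · rintro ⟨g, rfl⟩
    exact ⟨e g, e.orderOf_eq g⟩
  · rintro ⟨h, rfl⟩
    exact ⟨e.symm h, e.symm.orderOf_eq h⟩

/-- A copy in `Type` of a finite group of large order with prescribed spectrum. -/
theorem exists_large_spectrum {G : Type u} [Group G] [Finite G] {S : Set ℕ} (N : ℕ)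
    (hN : N < Nat.card G) (hS : Set.range (orderOf : G → ℕ) = S) :
    ∃ (H : Type) (_ : Group H) (_ : Fintype H), N < Fintype.card H ∧
      Set.range (orderOf : H → ℕ) = S := by
  obtain ⟨H, i1, i2, ⟨e⟩⟩ := exists_type_zero G
  refine ⟨H, i1, i2, ?_, (range_orderOf_congr e).trans hS⟩
  rwa [← Nat.card_eq_fintype_card, Nat.card_congr e.toEquiv]

/-- `H` has the prime graph of `L` (same primes, same edges). -/
def SameGraph (L : Type u) (H : Type v) [Group L] [Group H] : Prop :=
  (∀ p : ℕ, p.Prime → (p ∣ Nat.card L ↔ p ∣ Nat.card H)) ∧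
    (∀ p q : ℕ, p.Prime → q.Prime → p ≠ q →
      ((∃ g : L, orderOf g = p * q) ↔ (∃ g : H, orderOf g = p * q)))

theorem SameGraph.of_mulEquiv {L : Type u} {H : Type v} [Group L] [Group H] (e : L ≃* H) :
    SameGraph L H := by
  refine ⟨fun p _ => by rw [Nat.card_congr e.toEquiv], fun p q _ _ _ => ⟨?_, ?_⟩⟩
  · rintro ⟨g, hg⟩; exact ⟨e g, (e.orderOf_eq g).trans hg⟩
  · rintro ⟨g, hg⟩; exact ⟨e.symm g, (e.symm.orderOf_eq g).trans hg⟩

theorem SameGraph.trans {L : Type u} {H : Type v} {K : Type*} [Group L] [Group H] [Group K]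
    (h₁ : SameGraph L H) (h₂ : SameGraph H K) : SameGraph L K :=
  ⟨fun p hp => (h₁.1 p hp).trans (h₂.1 p hp),
    fun p q hp hq hpq => (h₁.2 p q hp hq hpq).trans (h₂.2 p q hp hq hpq)⟩

/-- Two groups with the same primes and no elements of order a product of two primes have the same
prime graph. -/
theorem sameGraph_of_isolated {L : Type u} {H : Type v} [Group L] [Group H] (S : Set ℕ)
    (hL : ∀ p : ℕ, p.Prime → (p ∣ Nat.card L ↔ p ∈ S))
    (hH : ∀ p : ℕ, p.Prime → (p ∣ Nat.card H ↔ p ∈ S))
    (hL' : ∀ (g : L) (p q : ℕ), p.Prime → q.Prime → p ≠ q → orderOf g ≠ p * q)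
    (hH' : ∀ (g : H) (p q : ℕ), p.Prime → q.Prime → p ≠ q → orderOf g ≠ p * q) :
    SameGraph L H :=
  ⟨fun p hp => (hL p hp).trans (hH p hp).symm, fun p q hp hq hpq =>
    ⟨fun ⟨g, hg⟩ => absurd hg (hL' g p q hp hq hpq), fun ⟨g, hg⟩ => absurd hg (hH' g p q hp hq hpq)⟩⟩

/-- A copy in `Type` of a large group with a prescribed prime graph. -/
theorem exists_large_sameGraph {L : Type u} [Group L] {G : Type v} [Group G] [Finite G] (N : ℕ)
    (hN : N < Nat.card G) (h : SameGraph L G) :
    ∃ (H : Type) (_ : Group H) (_ : Fintype H), N < Fintype.card H ∧ SameGraph L H := by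
  obtain ⟨H, i1, i2, ⟨e⟩⟩ := exists_type_zero G
  refine ⟨H, i1, i2, ?_, h.trans (SameGraph.of_mulEquiv e.symm)⟩
  rwa [← Nat.card_eq_fintype_card, Nat.card_congr e.toEquiv]

section semidirect

variable {M : Type u} {L : Type v} [CommGroup M] [Group L] {φ : L →* MulAut M}

/-- `g` acts without non-trivial fixed points. -/
def Fpf (φ : L →* MulAut M) (g : L) : Prop := ∀ k : M, φ g k = k → k = 1

theorem Fpf.of_pow {g : L} {n : ℕ} (h : Fpf φ (g ^ n)) : Fpf φ g := by
  intro k hk
  refine h k ?_
  have : ∀ m : ℕ, φ (g ^ m) k = k := by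
    intro m
    induction m with
    | zero => simp
    | succ m ih => rw [pow_succ, map_mul, MulAut.mul_apply, hk, ih]
  exact this n

theorem orderOf_right_dvd (x : M ⋊[φ] L) : orderOf x.right ∣ orderOf x :=
  orderOf_map_dvd SemidirectProduct.rightHom x

theorem eq_inl_of_right_eq_one (x : M ⋊[φ] L) (h : x.right = 1) :
    x = SemidirectProduct.inl x.left := by
  ext <;> simp [h]

theorem pow_right (x : M ⋊[φ] L) (n : ℕ) : (x ^ n).right = x.right ^ n :=
  map_pow (SemidirectProduct.rightHom : M ⋊[φ] L →* L) x n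

/-- If the image of `x` acts without fixed points, then `x` has the order of its image. -/
theorem orderOf_of_fpf (x : M ⋊[φ] L) (h : Fpf φ x.right) : orderOf x = orderOf x.right := by
  refine Nat.dvd_antisymm ?_ (orderOf_right_dvd x)
  rw [orderOf_dvd_iff_pow_eq_one]
  set y := x ^ orderOf x.right with hy
  have hr : y.right = 1 := by rw [hy, pow_right, pow_orderOf_eq_one]
  have hc : x * y = y * x := (Commute.self_pow x _).eq
  have hl := congrArg SemidirectProduct.left hc
  simp only [SemidirectProduct.mul_left, hr, map_one, MulAut.one_apply] at hl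
  have hfix : φ x.right y.left = y.left := by
    rw [mul_comm y.left] at hl
    exact mul_left_cancel hl
  rw [eq_inl_of_right_eq_one y hr, h _ hfix, map_one]

theorem orderOf_dvd_mul (p : ℕ) (hexp : ∀ k : M, k ^ p = 1) (x : M ⋊[φ] L) :
    orderOf x ∣ orderOf x.right * p := by
  rw [orderOf_dvd_iff_pow_eq_one, pow_mul]
  set y := x ^ orderOf x.right with hy
  have hr : y.right = 1 := by rw [hy, pow_right, pow_orderOf_eq_one]
  rw [eq_inl_of_right_eq_one y hr, ← map_pow, hexp, map_one]

theorem orderOf_inr (g : L) : orderOf (SemidirectProduct.inr g : M ⋊[φ] L) = orderOf g :=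
  orderOf_injective _ SemidirectProduct.inr_injective g

theorem range_orderOf_subset :
    Set.range (orderOf : L → ℕ) ⊆ Set.range (orderOf : M ⋊[φ] L → ℕ) := by
  rintro _ ⟨g, rfl⟩
  exact ⟨_, orderOf_inr g⟩

/-- Spectrum criterion: every element of `L` is fixed-point-free, or its order and `p` times its
order are both element orders of `L`. -/
theorem range_orderOf_eq {p : ℕ} (hp : p.Prime) (hexp : ∀ k : M, k ^ p = 1)
    (h : ∀ g : L, Fpf φ g ∨ orderOf g * p ∈ Set.range (orderOf : L → ℕ)) :
    Set.range (orderOf : M ⋊[φ] L → ℕ) = Set.range (orderOf : L → ℕ) := by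
  refine Set.Subset.antisymm ?_ range_orderOf_subset
  rintro _ ⟨x, rfl⟩
  rcases h x.right with hf | hmem
  · exact ⟨x.right, (orderOf_of_fpf x hf).symm⟩
  · obtain ⟨c, hc⟩ := orderOf_right_dvd x
    have hd := orderOf_dvd_mul p hexp x
    by_cases h0 : orderOf x.right = 0
    · rw [h0, zero_mul] at hc
      exact ⟨x.right, h0.trans hc.symm⟩
    · rw [hc] at hd ⊢
      rcases (Nat.dvd_prime hp).1 (Nat.dvd_of_mul_dvd_mul_left (Nat.pos_of_ne_zero h0) hd) with
        rfl | rfl
      · exact ⟨x.right, (mul_one _).symm⟩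
      · exact hmem

/-- Prime graph criterion: all elements of prime order different from `p` act without fixed
points on a module of exponent `p`, where `p` divides the order of `L`. -/
theorem sameGraph_semidirect [Finite M] [Finite L] {p : ℕ} (hp : p.Prime)
    (hexp : ∀ k : M, k ^ p = 1) (hpL : p ∣ Nat.card L)
    (hfpf : ∀ g : L, (orderOf g).Prime → orderOf g ≠ p → Fpf φ g) :
    SameGraph L (M ⋊[φ] L) := by
  refine ⟨fun r hr => ?_, fun r s hr hs hrs => ⟨?_, ?_⟩⟩
  · rw [SemidirectProduct.card]
    refine ⟨fun h => h.mul_left _, fun h => ?_⟩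
    rcases hr.dvd_mul.1 h with h' | h'
    · haveI := Fact.mk hp
      obtain ⟨n, hn⟩ := (IsPGroup.iff_card).1 (fun k => ⟨1, by rw [pow_one]; exact hexp k⟩ :
        IsPGroup p M)
      rw [hn] at h'
      rwa [(Nat.prime_dvd_prime_iff_eq hr hp).1 (hr.dvd_of_dvd_pow h')]
    · exact h'
  · rintro ⟨g, hg⟩
    exact ⟨_, (orderOf_inr g).trans hg⟩
  · rintro ⟨x, hx⟩
    by_cases hq : ∃ q : ℕ, q.Prime ∧ q ∣ orderOf x.right ∧ q ≠ p
    · obtain ⟨q, hq1, hq2, hq3⟩ := hq
      obtain ⟨c, hc⟩ := hq2
      have hpos : 0 < orderOf x.right := orderOf_pos _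
      have ho : orderOf (x.right ^ c) = q := by
        rw [orderOf_pow, hc, Nat.gcd_eq_right (dvd_mul_left _ _), Nat.mul_div_cancel]
        rcases Nat.eq_zero_or_pos c with rfl | hcp
        · simp [hc] at hpos
        · exact hcp
      have hf : Fpf φ x.right := (hfpf _ (ho.symm ▸ hq1) (ho ▸ hq3)).of_pow
      exact ⟨x.right, (orderOf_of_fpf x hf).symm.trans hx⟩
    · push_neg at hq
      exfalso
      have hm : orderOf x.right ∣ r * s := hx ▸ orderOf_right_dvd x
      have hd : r * s ∣ orderOf x.right * p := hx ▸ orderOf_dvd_mul p hexp x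
      have key : ∀ t : ℕ, t.Prime → t ∣ orderOf x.right * p → t = p := by
        intro t ht h
        rcases ht.dvd_mul.1 h with h | h
        · exact hq t ht h
        · exact (Nat.prime_dvd_prime_iff_eq ht hp).1 h
      exact hrs ((key r hr ((dvd_mul_right r s).trans hd)).trans
        (key s hs ((dvd_mul_left s r).trans hd)).symm)

/-- The diagonal action on `n` copies of the module. -/
def copies (φ : L →* MulAut M) (n : ℕ) : L →* MulAut (Fin n → M) where
  toFun g := MulEquiv.piCongrRight fun _ => φ g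
  map_one' := by ext; simp
  map_mul' a b := by ext; simp

theorem Fpf.copies {g : L} (h : Fpf φ g) (n : ℕ) : Fpf (Extension.copies φ n) g := by
  intro k hk
  funext i
  exact h (k i) (congrFun hk i)

theorem pow_eq_one_copies {p : ℕ} (hexp : ∀ k : M, k ^ p = 1) (n : ℕ) :
    ∀ k : Fin n → M, k ^ p = 1 := fun k => funext fun i => hexp (k i)

theorem lt_card_copies [Finite M] [Finite L] [Nontrivial M] (φ : L →* MulAut M) (n : ℕ) :
    n < Nat.card ((Fin n → M) ⋊[copies φ n] L) := by
  rw [SemidirectProduct.card, Nat.card_fun, Nat.card_fin]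
  calc n < 2 ^ n := Nat.lt_two_pow_self
    _ ≤ Nat.card M ^ n := Nat.pow_le_pow_left Finite.one_lt_card n
    _ ≤ _ := Nat.le_mul_of_pos_right _ Nat.card_pos

instance finite_semidirect [Finite M] [Finite L] : Finite (M ⋊[φ] L) :=
  Finite.of_equiv _ SemidirectProduct.equivProd.symm

end semidirect

section linear

variable {n : Type} [Fintype n] [DecidableEq n] {R : Type u} [CommRing R]

/-- The linear action of invertible matrices on column vectors, multiplicatively. -/
def glAut : GL n R →* MulAut (Multiplicative (n → R)) where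
  toFun g :=
    { toFun := fun v => Multiplicative.ofAdd ((g : Matrix n n R).mulVec v.toAdd)
      invFun := fun v => Multiplicative.ofAdd ((↑g⁻¹ : Matrix n n R).mulVec v.toAdd)
      left_inv := fun v => by simp [Matrix.mulVec_mulVec]
      right_inv := fun v => by simp [Matrix.mulVec_mulVec]
      map_mul' := fun v w => by simp [Matrix.mulVec_add] }
  map_one' := by ext v; simp
  map_mul' a b := by ext v; simp [Matrix.mulVec_mulVec]

theorem glAut_apply (g : GL n R) (v : Multiplicative (n → R)) :
    (glAut g v).toAdd = (g : Matrix n n R).mulVec v.toAdd := rfl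

theorem pow_char_eq_one {p : ℕ} [CharP R p] (v : Multiplicative (n → R)) : v ^ p = 1 := by
  apply Multiplicative.toAdd.injective
  funext i
  simp [toAdd_pow]

theorem fpf_glAut {L : Type v} [Group L] (f : L →* GL n R) (g : L)
    (h : ∀ v : n → R, (f g : Matrix n n R).mulVec v = v → v = 0) : Fpf (glAut.comp f) g := by
  intro k hk
  apply Multiplicative.toAdd.injective
  exact h _ (congrArg Multiplicative.toAdd hk)

end linear

end Cfsg.Agent.Recognition.Extension
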