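import Mathlib
import Cfsg.Prelude.Def_Sz
import Cfsg.Agent.Recognition.Extension

/-!
In `Sz(q)` an element fixing a non-zero vector of the natural module satisfies `g ^ 4 = 1`.
-/

set_option autoImplicit false

namespace Cfsg.Agent.Recognition.SuzukiModule

open Matrix Cfsg.Lie Cfsg.Agent.Recognition.Extension

/-- The sum of the principal minors of order two. -/
def minorsTwo {R : Type*} [CommRing R] (M : Matrix (Fin 4) (Fin 4) R) : R :=
  (M 0 0 * M 1 1 - M 1 0 * M 0 1) + (M 0 0 * M 2 2 - M 2 0 * M 0 2) +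
  (M 0 0 * M 3 3 - M 3 0 * M 0 3) + (M 1 1 * M 2 2 - M 2 1 * M 1 2) +
  (M 1 1 * M 3 3 - M 3 1 * M 1 3) + (M 2 2 * M 3 3 - M 3 2 * M 2 3)

theorem trace_adjugate {R : Type*} [CommRing R] (M : Matrix (Fin 4) (Fin 4) R) :
    M.adjugate.trace = (M.submatrix ![1, 2, 3] ![1, 2, 3]).det + (M.submatrix ![0, 2, 3] ![0, 2, 3]).det
      + (M.submatrix ![0, 1, 3] ![0, 1, 3]).det + (M.submatrix ![0, 1, 2] ![0, 1, 2]).det := by
  have e0 : (0 : Fin 4).succAbove = ![1, 2, 3] := by decide
  have e1 : (1 : Fin 4).succAbove = ![0, 2, 3] := by decide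
  have e2 : (2 : Fin 4).succAbove = ![0, 1, 3] := by decide
  have e3 : (3 : Fin 4).succAbove = ![0, 1, 2] := by decide
  simp only [Matrix.trace, Matrix.diag, Fin.sum_univ_four,
    Matrix.adjugate_fin_succ_eq_det_submatrix, e0, e1, e2, e3, ← two_mul, pow_mul, neg_one_sq,
    one_pow, one_mul]

theorem det_fin_four' {R : Type*} [CommRing R] (M : Matrix (Fin 4) (Fin 4) R) :
    M.det = M 0 0 * (M.submatrix ![1, 2, 3] ![1, 2, 3]).det
      - M 0 1 * (M.submatrix ![1, 2, 3] ![0, 2, 3]).det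
      + M 0 2 * (M.submatrix ![1, 2, 3] ![0, 1, 3]).det
      - M 0 3 * (M.submatrix ![1, 2, 3] ![0, 1, 2]).det := by
  have es : (Fin.succ : Fin 3 → Fin 4) = ![1, 2, 3] := by decide
  have e0 : (0 : Fin 4).succAbove = ![1, 2, 3] := by decide
  have e1 : (1 : Fin 4).succAbove = ![0, 2, 3] := by decide
  have e2 : (2 : Fin 4).succAbove = ![0, 1, 3] := by decide
  have e3 : (3 : Fin 4).succAbove = ![0, 1, 2] := by decide
  rw [Matrix.det_succ_row_zero, Fin.sum_univ_four]
  simp only [es, e0, e1, e2, e3, show ((0 : Fin 4) : ℕ) = 0 from rfl,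
    show ((1 : Fin 4) : ℕ) = 1 from rfl, show ((2 : Fin 4) : ℕ) = 2 from rfl,
    show ((3 : Fin 4) : ℕ) = 3 from rfl]
  ring

theorem det_smul_one_sub {R : Type*} [CommRing R] (M : Matrix (Fin 4) (Fin 4) R) (x : R) :
    (x • (1 : Matrix (Fin 4) (Fin 4) R) - M).det
      = x ^ 4 - M.trace * x ^ 3 + minorsTwo M * x ^ 2 - M.adjugate.trace * x + M.det := by
  rw [trace_adjugate, det_fin_four', det_fin_four' M]
  simp only [Matrix.det_fin_three, Matrix.submatrix_apply, Matrix.trace, Matrix.diag,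
    Fin.sum_univ_four, minorsTwo]
  simp [Matrix.one_apply]
  ring

variable {F : Type*} [Field F]

/-- The matrix of `altForm4`. -/
def formMat (F : Type*) [Field F] : Matrix (Fin 4) (Fin 4) F :=
  !![0, 0, 0, 1; 0, 0, 1, 0; 0, 1, 0, 0; 1, 0, 0, 0]

theorem formMat_mul_self : formMat F * formMat F = 1 := by
  ext i j
  fin_cases i <;> fin_cases j <;> simp [formMat, Matrix.mul_apply, Fin.sum_univ_succ]

theorem transpose_mul {g : GL (Fin 4) F} (hg : g ∈ Sp4 F) :
    (g : Matrix (Fin 4) (Fin 4) F)ᵀ * formMat F * (g : Matrix (Fin 4) (Fin 4) F) = formMat F := by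
  ext i j
  have h := hg (Pi.single i 1) (Pi.single j 1)
  simp only [Units.coeHom_apply, Matrix.mulVec_single_one] at h
  fin_cases i <;> fin_cases j <;>
    simp [altForm4, formMat, Matrix.mul_apply, Fin.sum_univ_succ, Pi.single_apply] at h ⊢ <;>
    linear_combination h

theorem inv_eq {g : GL (Fin 4) F} (hg : g ∈ Sp4 F) :
    (g : Matrix (Fin 4) (Fin 4) F) * (formMat F * (g : Matrix (Fin 4) (Fin 4) F)ᵀ * formMat F)
      = 1 := by
  refine mul_eq_one_comm.1 ?_
  rw [Matrix.mul_assoc, Matrix.mul_assoc, ← Matrix.mul_assoc (g : Matrix (Fin 4) (Fin 4) F)ᵀ,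
    transpose_mul hg, formMat_mul_self]

theorem mul_transpose {g : GL (Fin 4) F} (hg : g ∈ Sp4 F) :
    (g : Matrix (Fin 4) (Fin 4) F) * formMat F * (g : Matrix (Fin 4) (Fin 4) F)ᵀ = formMat F := by
  have h := congrArg (· * formMat F) (inv_eq hg)
  simpa [Matrix.mul_assoc, formMat_mul_self] using h

theorem col_rel {g : GL (Fin 4) F} (hg : g ∈ Sp4 F) (i j : Fin 4) :
    g.1 3 i * g.1 0 j + g.1 2 i * g.1 1 j + g.1 1 i * g.1 2 j + g.1 0 i * g.1 3 j
      = formMat F i j := by
  have h := congrFun (congrFun (transpose_mul hg) i) j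
  simpa [Matrix.mul_apply, Fin.sum_univ_succ, formMat, add_assoc] using h

theorem row_rel {g : GL (Fin 4) F} (hg : g ∈ Sp4 F) (i j : Fin 4) :
    g.1 i 3 * g.1 j 0 + g.1 i 2 * g.1 j 1 + g.1 i 1 * g.1 j 2 + g.1 i 0 * g.1 j 3
      = formMat F i j := by
  have h := congrFun (congrFun (mul_transpose hg) i) j
  simpa [Matrix.mul_apply, Fin.sum_univ_succ, formMat, add_assoc] using h

theorem star4_one : star4 (1 : Matrix (Fin 4) (Fin 4) F) = 1 := by
  ext p r
  have a0 : pairOf 0 = (0, 1) := rfl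
  have a1 : pairOf 1 = (0, 2) := rfl
  have a2 : pairOf 2 = (1, 3) := rfl
  have a3 : pairOf 3 = (2, 3) := rfl
  fin_cases p <;> fin_cases r <;> simp [star4, a0, a1, a2, a3]

theorem star4_mul [CharP F 2] {g h : GL (Fin 4) F} (hg : g ∈ Sp4 F) (hh : h ∈ Sp4 F) :
    star4 (g.1 * h.1) = star4 g.1 * star4 h.1 := by
  have h2 : (2 : F) = 0 := CharTwo.two_eq_zero
  ext p r
  simp only [star4, Matrix.mul_apply, Fin.sum_univ_four, Matrix.of_apply]
  have hr : formMat F (pairOf r).1 (pairOf r).2 = 0 := by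
    fin_cases r <;> simp [pairOf, formMat]
  have hp : formMat F (pairOf p).1 (pairOf p).2 = 0 := by
    fin_cases p <;> simp [pairOf, formMat]
  have c := (col_rel hh (pairOf r).1 (pairOf r).2).trans hr
  have d := (row_rel hg (pairOf p).1 (pairOf p).2).trans hp
  simp only [show (pairOf 0).1 = (0 : Fin 4) from rfl, show (pairOf 0).2 = (1 : Fin 4) from rfl,
    show (pairOf 1).1 = (0 : Fin 4) from rfl, show (pairOf 1).2 = (2 : Fin 4) from rfl,
    show (pairOf 2).1 = (1 : Fin 4) from rfl, show (pairOf 2).2 = (3 : Fin 4) from rfl,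
    show (pairOf 3).1 = (2 : Fin 4) from rfl, show (pairOf 3).2 = (3 : Fin 4) from rfl]
  generalize (pairOf p).1 = k, (pairOf p).2 = l at *
  generalize (pairOf r).1 = i, (pairOf r).2 = j at *
  set A := g.1 k 0 * g.1 l 3 - g.1 l 0 * g.1 k 3
  set B := g.1 k 1 * g.1 l 2 - g.1 l 1 * g.1 k 2
  set C := h.1 0 i * h.1 3 j - h.1 3 i * h.1 0 j
  set D := h.1 1 i * h.1 2 j - h.1 2 i * h.1 1 j
  have hAB : A + B = 0 := by
    simp only [A, B]
    linear_combination d - (g.1 k 2 * g.1 l 1 + g.1 k 3 * g.1 l 0) * h2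
  have hCD : C + D = 0 := by
    simp only [C, D]
    linear_combination c - (h.1 2 i * h.1 1 j + h.1 3 i * h.1 0 j) * h2
  have e : A * C + B * D = 0 := by
    linear_combination C * hAB + B * hCD - B * C * h2
  simp only [A, B, C, D] at e
  linear_combination e

/-- The defining condition. -/
def SzPred (e : ℕ) (g : GL (Fin 4) F) : Prop :=
  g ∈ Sp4 F ∧ star4 g.1 = g.1.map (fun x => x ^ e)

theorem szPred_of_mem [CharP F 2] {k : ℕ} {g : GL (Fin 4) F} (hg : g ∈ Sz F (2 ^ k)) :
    SzPred (2 ^ k) g := by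
  have hfr : ∀ x : Matrix (Fin 4) (Fin 4) F, x.map (fun a => a ^ (2 ^ k))
      = (iterateFrobenius F 2 k).mapMatrix x := fun x => by
    ext i j; simp [iterateFrobenius_def]
  induction hg using Subgroup.closure_induction with
  | mem x hx => exact hx
  | one =>
    refine ⟨(Sp4 F).one_mem, ?_⟩
    rw [Units.val_one, star4_one, hfr, map_one]
  | mul x y _ _ hx hy =>
    refine ⟨(Sp4 F).mul_mem hx.1 hy.1, ?_⟩
    rw [Units.val_mul, star4_mul hx.1 hy.1, hx.2, hy.2, hfr, hfr, hfr, map_mul]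
  | inv x _ hx =>
    refine ⟨(Sp4 F).inv_mem hx.1, ?_⟩
    have h := star4_mul ((Sp4 F).inv_mem hx.1) hx.1
    rw [← Units.val_mul, inv_mul_cancel, Units.val_one, star4_one, hx.2] at h
    have h' : (iterateFrobenius F 2 k).mapMatrix ((↑x⁻¹ : Matrix (Fin 4) (Fin 4) F) * x.1) = 1 := by
      rw [← Units.val_mul, inv_mul_cancel, Units.val_one, map_one]
    rw [map_mul, ← hfr, ← hfr] at h'
    calc star4 (↑x⁻¹ : Matrix (Fin 4) (Fin 4) F)
        = star4 (↑x⁻¹ : Matrix (Fin 4) (Fin 4) F) *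
            (x.1.map (fun a => a ^ (2 ^ k)) *
              (↑x⁻¹ : Matrix (Fin 4) (Fin 4) F).map (fun a => a ^ (2 ^ k))) := by
          rw [mul_eq_one_comm.1 h', Matrix.mul_one]
      _ = _ := by rw [← Matrix.mul_assoc, ← h, Matrix.one_mul]

theorem pow_four_eq_one [CharP F 2] {k : ℕ} {g : GL (Fin 4) F} (hg : g ∈ Sz F (2 ^ k))
    (v : Fin 4 → F) (hv : v ≠ 0) (hfix : g.1.mulVec v = v) : g ^ 4 = 1 := by
  obtain ⟨hS, hstar⟩ := szPred_of_mem hg
  have h2 : (2 : F) = 0 := CharTwo.two_eq_zero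
  have hdetJ : (formMat F).det ≠ 0 := fun h => by
    have := congrArg Matrix.det (formMat_mul_self (F := F))
    rw [Matrix.det_mul, h, Matrix.det_one, zero_mul] at this
    exact zero_ne_one this
  have hdet : g.1.det = 1 := by
    have h := congrArg Matrix.det (transpose_mul hS)
    rw [Matrix.det_mul, Matrix.det_mul, Matrix.det_transpose] at h
    have hsq : g.1.det * g.1.det = 1 :=
      mul_right_cancel₀ hdetJ (by rw [one_mul]; linear_combination h)
    have : (g.1.det - 1) ^ 2 = 0 := by linear_combination hsq + (1 - g.1.det) * h2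
    exact sub_eq_zero.1 (pow_eq_zero_iff two_ne_zero |>.1 this)
  have hadj : g.1.adjugate.trace = g.1.trace := by
    have h := congrArg (g.1.adjugate * ·) (inv_eq hS)
    simp only [← Matrix.mul_assoc, Matrix.adjugate_mul, hdet, one_smul, Matrix.one_mul,
      Matrix.mul_one] at h
    rw [← h, Matrix.trace_mul_cycle, formMat_mul_self, Matrix.one_mul, Matrix.trace_transpose]
  have hm2 : minorsTwo g.1 = (star4 g.1).trace := by
    have r03 := row_rel hS 0 3
    have c12 := col_rel hS 1 2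
    simp [formMat] at r03 c12
    simp only [Matrix.trace, Matrix.diag, Fin.sum_univ_four, star4, Matrix.of_apply, minorsTwo]
    simp [pairOf]
    linear_combination r03 + c12
      - (-1 + g.1 0 2 * g.1 3 1 + g.1 0 1 * g.1 3 2 + g.1 0 3 * g.1 3 0 + g.1 2 1 * g.1 1 2) * h2
  have hzero : (g.1 - 1).det = 0 := by
    rw [← Matrix.exists_mulVec_eq_zero_iff]
    refine ⟨v, hv, ?_⟩
    rw [Matrix.sub_mulVec, Matrix.one_mulVec, hfix, sub_self]
  have h1 : ((1 : F) • (1 : Matrix (Fin 4) (Fin 4) F) - g.1).det = 0 := by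
    rw [one_smul, ← neg_sub, Matrix.det_neg, hzero, mul_zero]
  rw [det_smul_one_sub, hdet, hadj] at h1
  have hb : minorsTwo g.1 = 0 := by linear_combination h1 - (1 - g.1.trace) * h2
  have ha : g.1.trace = 0 := by
    have hz : g.1.trace ^ 2 ^ k = 0 := by
      rw [← iterateFrobenius_def (p := 2)]
      rw [hm2, hstar] at hb
      simpa [Matrix.trace, Matrix.diag, iterateFrobenius_def, map_sum] using hb
    exact (pow_eq_zero_iff (pow_ne_zero k two_ne_zero)).1 hz
  have hchar : g.1.charpoly = Polynomial.X ^ 4 + 1 := by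
    rw [Matrix.charpoly, Matrix.charmatrix]
    have e : Matrix.scalar (Fin 4) (Polynomial.X : Polynomial F)
        = (Polynomial.X : Polynomial F) • (1 : Matrix (Fin 4) (Fin 4) (Polynomial F)) := by
      rw [Matrix.scalar_apply, Matrix.smul_one_eq_diagonal]
    rw [e, det_smul_one_sub]
    have t1 : (Polynomial.C.mapMatrix g.1).trace = Polynomial.C g.1.trace := by
      simp [Matrix.trace, Matrix.diag]
    have t2 : (Polynomial.C.mapMatrix g.1).adjugate.trace = Polynomial.C g.1.adjugate.trace := by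
      rw [← RingHom.map_adjugate]; simp [Matrix.trace, Matrix.diag]
    have t3 : minorsTwo (Polynomial.C.mapMatrix g.1) = Polynomial.C (minorsTwo g.1) := by
      simp [minorsTwo]
    have t4 : (Polynomial.C.mapMatrix g.1).det = Polynomial.C g.1.det :=
      (RingHom.map_det _ _).symm
    rw [t1, t2, t3, t4, hadj, ha, hb, hdet]
    simp
  have hC := Matrix.aeval_self_charpoly g.1
  rw [hchar] at hC
  simp at hC
  apply Units.ext
  rw [Units.val_pow_eq_pow_val, Units.val_one, eq_neg_of_add_eq_zero_left hC]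
  ext i j
  simp only [Matrix.neg_apply]
  exact CharTwo.neg_eq _

end Cfsg.Agent.Recognition.SuzukiModule
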