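import Mathlib

/-!
Three points of a vector space under the affine group.
-/

set_option autoImplicit false

namespace Cfsg.Agent.Recognition.AffineTriples

variable {K : Type*} [Field K]

theorem exists_equiv {d n : ℕ} (v w : Fin n → (Fin d → K))
    (hv : LinearIndependent K v) (hw : LinearIndependent K w) :
    ∃ A : (Fin d → K) ≃ₗ[K] (Fin d → K), ∀ i, A (v i) = w i := by
  classical
  let e : Submodule.span K (Set.range v) ≃ₗ[K] Submodule.span K (Set.range w) :=
    (Module.Basis.span hv).equiv (Module.Basis.span hw) (Equiv.refl _)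
  obtain ⟨A, hA⟩ := Submodule.exists_linearEquiv_restrict_eq e
  refine ⟨A, fun i => ?_⟩
  have h := hA (Module.Basis.span hv i)
  have h1 : e (Module.Basis.span hv i) = Module.Basis.span hw i :=
    Module.Basis.equiv_apply _ _ _ _
  rw [h1] at h
  simpa [Module.Basis.span_apply] using h.symm

theorem indep_two {d : ℕ} (v w : Fin d → ZMod 2) (hv : v ≠ 0) (hw : w ≠ 0) (hvw : v ≠ w) :
    LinearIndependent (ZMod 2) ![v, w] := by
  rw [LinearIndependent.pair_iff]
  intro a b hab
  have h01 : ∀ c : ZMod 2, c = 0 ∨ c = 1 := by decide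
  rcases h01 a with rfl | rfl <;> rcases h01 b with rfl | rfl <;> simp_all
  exact hvw (by rw [eq_neg_of_add_eq_zero_left hab]; exact ZModModule.neg_eq_self w)

theorem indep_one {d : ℕ} (v : Fin d → ZMod 2) (hv : v ≠ 0) :
    LinearIndependent (ZMod 2) ![v] :=
  LinearIndependent.of_subsingleton (v := ![v]) (0 : Fin 1) hv

end Cfsg.Agent.Recognition.AffineTriples
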