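import Mathlib

/-!
Three pairwise non-adjacent primes along a normal series (Lucido's lemma).
-/

set_option autoImplicit false

namespace Cfsg.Agent.Recognition.PrimeTriples

open Finset

universe u

variable {G : Type u} [Group G]

/-- No element has order `r * s`. -/
def Sep (G : Type u) [Group G] (r s : ℕ) : Prop := ¬ ∃ x : G, orderOf x = r * s

theorem Sep.symm {r s : ℕ} (h : Sep G r s) : Sep G s r := fun ⟨x, hx⟩ =>
  h ⟨x, hx.trans (mul_comm _ _)⟩

theorem Sep.of_surjective [Finite G] {H : Type u} [Group H] (f : G →* H) (hf : Function.Surjective f)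
    {r s : ℕ} (h : Sep G r s) : Sep H r s := by
  rintro ⟨y, hy⟩
  obtain ⟨x, rfl⟩ := hf y
  exact h ⟨x ^ (orderOf x / (r * s)),
    orderOf_pow_orderOf_div (orderOf_pos x).ne' (hy ▸ orderOf_map_dvd f x)⟩

theorem commute_false {r s : ℕ} (hrs : r.Coprime s) (h : Sep G r s) {a b : G} (hab : Commute a b)
    (ha : orderOf a = r) (hb : orderOf b = s) : False :=
  h ⟨a * b, by rw [hab.orderOf_mul_eq_mul_orderOf_of_coprime (by rw [ha, hb]; exact hrs), ha, hb]⟩

theorem no_commute {r s : ℕ} (hr : r.Prime) (hs : s.Prime) (hne : r ≠ s) (h : Sep G r s) {a b : G}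
    (ha : a ^ r = 1) (hb : b ^ s = 1) (ha1 : a ≠ 1) (hab : a * b = b * a) : b = 1 := by
  by_contra hb1
  haveI := Fact.mk hr
  haveI := Fact.mk hs
  exact commute_false ((Nat.coprime_primes hr hs).2 hne) h hab (orderOf_eq_prime ha ha1)
    (orderOf_eq_prime hb hb1)

/-- The main computation: no abelian `q`-group with an operator of order `r` acts on a `p`-group
with all the three pairs of primes separated. -/
theorem no_triangle [Finite G] {p q r : ℕ} (hp : p.Prime) (hq : q.Prime) (hr : r.Prime)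
    (hpq : p ≠ q) (hpr : p ≠ r) (hqr : q ≠ r)
    (spq : Sep G p q) (spr : Sep G p r) (sqr : Sep G q r)
    (V : Subgroup G) [V.Normal] [IsMulCommutative V] (hV : ∀ v ∈ V, v ^ p = 1) (hV1 : V ≠ ⊥)
    (A : Subgroup G) [IsMulCommutative A] (hA : ∀ a ∈ A, a ^ q = 1) (hA1 : A ≠ ⊥)
    (y : G) (hy : orderOf y = r) (hyA : ∀ a ∈ A, y * a * y⁻¹ ∈ A) : False := by
  classical
  letI : CommGroup V := { (inferInstance : Group V) with mul_comm := fun a b => mul_comm' a b }
  haveI := Fintype.ofFinite A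
  haveI := Fintype.ofFinite V
  let c : G → V → V := fun g v => ⟨g * v * g⁻¹, ‹V.Normal›.conj_mem v.1 v.2 g⟩
  have c_one : ∀ v, c 1 v = v := fun v => Subtype.ext (by simp [c])
  have c_mul : ∀ g h v, c (g * h) v = c g (c h v) := fun g h v => Subtype.ext (by
    show g * h * v.1 * (g * h)⁻¹ = g * (h * v.1 * h⁻¹) * g⁻¹; group)
  have c_hom : ∀ g v w, c g (v * w) = c g v * c g w := fun g v w => Subtype.ext (by
    show g * (v.1 * w.1) * g⁻¹ = g * v.1 * g⁻¹ * (g * w.1 * g⁻¹); group)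
  let ch : G → V →* V := fun g => MonoidHom.mk' (c g) (c_hom g)
  have fixG : ∀ (z : G) (t : ℕ), t.Prime → p ≠ t → Sep G p t → z ^ t = 1 → z ≠ 1 →
      ∀ v : V, c z v = v → v = 1 := by
    intro z t ht hne hs hz hz1 v hv
    apply Subtype.ext
    refine no_commute ht hp hne.symm hs.symm hz (hV v.1 v.2) hz1 ?_
    have := congrArg Subtype.val hv
    exact mul_inv_eq_iff_eq_mul.1 this
  -- products over the abelian group
  have prodA : ∀ v : V, ∏ a : A, c a.1 v = 1 := by
    intro v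
    obtain ⟨a0, ha0, ha01⟩ : ∃ a ∈ A, a ≠ 1 := by
      by_contra hno
      push Not at hno
      exact hA1 ((Subgroup.eq_bot_iff_forall A).2 hno)
    refine fixG a0 q hq hpq spq (hA a0 ha0) ha01 _ ?_
    show ch a0 (∏ a : A, c a.1 v) = _
    rw [map_prod]
    refine Fintype.prod_equiv (Equiv.mulLeft (⟨a0, ha0⟩ : A)) _ _ fun a => ?_
    show c a0 (c a.1 v) = c (a0 * a.1) v
    rw [c_mul]
  have hyr : y ^ r = 1 := hy ▸ pow_orderOf_eq_one y
  have hy1 : y ≠ 1 := fun h => hr.one_lt.ne' (by rw [← hy, h, orderOf_one])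
  have prodY : ∀ v : V, ∏ i ∈ range r, c (y ^ i) v = 1 := by
    intro v
    refine fixG y r hr hpr spr hyr hy1 _ ?_
    show ch y (∏ i ∈ range r, c (y ^ i) v) = _
    rw [map_prod]
    have h1 : ∀ i, ch y (c (y ^ i) v) = c (y ^ (i + 1)) v := fun i => by
      show c y (c (y ^ i) v) = _
      rw [← c_mul, ← pow_succ']
    rw [prod_congr rfl fun i _ => h1 i]
    have key : (∏ i ∈ range r, c (y ^ (i + 1)) v) * c (y ^ 0) v =
        (∏ i ∈ range r, c (y ^ i) v) * c (y ^ r) v :=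
      (prod_range_succ' (fun i => c (y ^ i) v) r).symm.trans (prod_range_succ _ r)
    rw [hyr, pow_zero] at key
    exact mul_right_cancel key
  have hyAn : ∀ (i : ℕ), ∀ a ∈ A, y ^ i * a * (y ^ i)⁻¹ ∈ A := by
    intro i
    induction i with
    | zero => intro a ha; simpa using ha
    | succ i ih =>
      intro a ha
      have := hyA _ (ih a ha)
      rwa [show y ^ (i + 1) * a * (y ^ (i + 1))⁻¹ = y * (y ^ i * a * (y ^ i)⁻¹) * y⁻¹ by
        rw [pow_succ']; group]
  have hkill : ∀ v : V, v ^ Fintype.card A = 1 := by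
    intro v
    have hsum : (∏ i ∈ range r, ∏ a : A, c (a.1 * y ^ i * a.1⁻¹) v) = 1 := by
      rw [prod_comm]
      refine prod_eq_one fun a _ => ?_
      have : ∀ i, c (a.1 * y ^ i * a.1⁻¹) v = ch a.1 (c (y ^ i) (c a.1⁻¹ v)) := fun i => by
        show _ = c a.1 (c (y ^ i) (c a.1⁻¹ v))
        rw [← c_mul, ← c_mul, mul_assoc]
      rw [prod_congr rfl fun i _ => this i, ← map_prod, prodY, map_one]
    rw [prod_eq_single 0 ?_ (fun h => absurd (mem_range.2 hr.pos) h)] at hsum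
    · have h0 : ∀ a : A, c (a.1 * y ^ 0 * a.1⁻¹) v = v := fun a => by
        rw [pow_zero, mul_one, mul_inv_cancel, c_one]
      rw [prod_congr rfl fun a _ => h0 a, prod_const, card_univ] at hsum
      exact hsum
    · intro i hi hi0
      have hzi : y ^ i ≠ 1 := fun h => by
        have hdv := orderOf_dvd_of_pow_eq_one h
        rw [hy] at hdv
        exact absurd (Nat.le_of_dvd (Nat.pos_of_ne_zero hi0) hdv) (not_le.2 (mem_range.1 hi))
      have hzr : (y ^ i) ^ r = 1 := by rw [← pow_mul, mul_comm, pow_mul, hyr, one_pow]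
      let ψ : A → A := fun a => a * ⟨y ^ i * a.1⁻¹ * (y ^ i)⁻¹, hyAn i _ (A.inv_mem a.2)⟩
      have hinj : Function.Injective ψ := by
        intro a b hab
        have h' : a.1 * (y ^ i * a.1⁻¹ * (y ^ i)⁻¹) = b.1 * (y ^ i * b.1⁻¹ * (y ^ i)⁻¹) :=
          congrArg Subtype.val hab
        have hw : b.1⁻¹ * a.1 * y ^ i = y ^ i * (b.1⁻¹ * a.1) := by
          calc b.1⁻¹ * a.1 * y ^ i
              = b.1⁻¹ * (a.1 * (y ^ i * a.1⁻¹ * (y ^ i)⁻¹)) * (y ^ i * a.1) := by group
            _ = b.1⁻¹ * (b.1 * (y ^ i * b.1⁻¹ * (y ^ i)⁻¹)) * (y ^ i * a.1) := by rw [h']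
            _ = y ^ i * (b.1⁻¹ * a.1) := by group
        have h1 := no_commute hr hq hqr.symm sqr.symm hzr
          (hA _ (A.mul_mem (A.inv_mem b.2) a.2)) hzi hw.symm
        exact Subtype.ext (inv_mul_eq_one.1 h1).symm
      have hterm : ∀ a : A, c (a.1 * y ^ i * a.1⁻¹) v = c (ψ a).1 (c (y ^ i) v) := fun a => by
        rw [← c_mul]
        congr 1
        show a.1 * y ^ i * a.1⁻¹ = a.1 * (y ^ i * a.1⁻¹ * (y ^ i)⁻¹) * y ^ i
        group
      rw [prod_congr rfl fun a _ => hterm a,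
        (Finite.injective_iff_bijective.1 hinj).prod_comp fun b : A => c b.1 (c (y ^ i) v)]
      exact prodA _
  haveI := Fact.mk hq
  obtain ⟨k, hk⟩ := (IsPGroup.iff_card).1 (fun a => ⟨1, Subtype.ext (by
    simpa using hA a.1 a.2)⟩ : IsPGroup q A)
  apply hV1
  refine (Subgroup.eq_bot_iff_forall V).2 fun v hv => ?_
  have h1 := congrArg Subtype.val (hkill ⟨v, hv⟩)
  rw [← Nat.card_eq_fintype_card, hk] at h1
  have h2 := Nat.dvd_gcd (orderOf_dvd_of_pow_eq_one (hV v hv))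
    (orderOf_dvd_of_pow_eq_one (show v ^ q ^ k = 1 by simpa using h1))
  rw [((Nat.coprime_primes hp hq).2 hpq).pow_right k] at h2
  exact orderOf_eq_one_iff.1 (Nat.dvd_one.1 h2)

/-- The elements of exponent `p` of a commutative subgroup. -/
def omegaOne (Z : Subgroup G) [IsMulCommutative Z] (p : ℕ) : Subgroup G where
  carrier := {x | x ∈ Z ∧ x ^ p = 1}
  one_mem' := ⟨Z.one_mem, one_pow p⟩
  mul_mem' := fun {a b} ha hb => ⟨Z.mul_mem ha.1 hb.1, by
    have hc : Commute a b := congrArg Subtype.val (mul_comm' (⟨a, ha.1⟩ : Z) ⟨b, hb.1⟩)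
    rw [hc.mul_pow, ha.2, hb.2, one_mul]⟩
  inv_mem' := fun {a} ha => ⟨Z.inv_mem ha.1, by rw [inv_pow, ha.2, inv_one]⟩

/-- An elementary abelian subgroup invariant under the normalizer. -/
theorem exists_elementary [Finite G] {p : ℕ} (hp : p.Prime) (P : Subgroup G) (hP : IsPGroup p P)
    (hP1 : P ≠ ⊥) :
    ∃ V : Subgroup G, IsMulCommutative V ∧ (∀ v ∈ V, v ^ p = 1) ∧ V ≠ ⊥ ∧ V ≤ P ∧
      ∀ g ∈ Subgroup.normalizer (P : Set G), ∀ v ∈ V, g * v * g⁻¹ ∈ V := by
  haveI := Fact.mk hp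
  haveI : Nontrivial P := (Subgroup.nontrivial_iff_ne_bot P).2 hP1
  set Z : Subgroup G := (Subgroup.center P).map P.subtype
  haveI hZ : IsMulCommutative Z := inferInstance
  refine ⟨omegaOne Z p, ⟨⟨fun a b => ?_⟩⟩, fun v hv => hv.2, ?_, ?_, ?_⟩
  · exact Subtype.ext (congrArg Subtype.val (mul_comm' (⟨a.1, a.2.1⟩ : Z) ⟨b.1, b.2.1⟩) :)
  · haveI := hP.center_nontrivial
    obtain ⟨k, hk⟩ := (IsPGroup.iff_card).1 (hP.to_subgroup (Subgroup.center P))
    have h1 : 1 < Nat.card (Subgroup.center P) := Finite.one_lt_card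
    have hdvd : p ∣ Nat.card (Subgroup.center P) := by
      rw [hk] at h1 ⊢
      exact dvd_pow_self p (fun h => by simp [h] at h1)
    obtain ⟨z, hz⟩ := exists_prime_orderOf_dvd_card' p hdvd
    intro hbot
    have hmem : (z.1.1 : G) ∈ omegaOne Z p := ⟨⟨z.1, z.2, rfl⟩, by
      have := congrArg (fun w : Subgroup.center P => (w.1.1 : G)) (hz ▸ pow_orderOf_eq_one z)
      simpa using this⟩
    rw [hbot, Subgroup.mem_bot] at hmem
    have hz1 : z = 1 := Subtype.ext (Subtype.ext hmem)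
    rw [hz1, orderOf_one] at hz
    exact hp.one_lt.ne hz
  · rintro v ⟨⟨w, -, rfl⟩, -⟩
    exact w.2
  · rintro g hg v ⟨⟨w, hw, rfl⟩, hv⟩
    have hgw : g * w.1 * g⁻¹ ∈ P := (Subgroup.mem_normalizer_iff.1 hg w.1).1 w.2
    refine ⟨⟨⟨_, hgw⟩, Subgroup.mem_center_iff.2 fun x => Subtype.ext ?_, rfl⟩, by
      rw [conj_pow]; simp at hv; simp [hv]⟩
    have hx : g⁻¹ * x.1 * g ∈ P := by
      refine (Subgroup.mem_normalizer_iff.1 hg _).2 ?_
      rw [show g * (g⁻¹ * x.1 * g) * g⁻¹ = x.1 by group]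
      exact x.2
    have hc : g⁻¹ * x.1 * g * w.1 = w.1 * (g⁻¹ * x.1 * g) :=
      congrArg Subtype.val (Subgroup.mem_center_iff.1 hw ⟨_, hx⟩)
    show x.1 * (g * w.1 * g⁻¹) = g * w.1 * g⁻¹ * x.1
    calc x.1 * (g * w.1 * g⁻¹) = g * (g⁻¹ * x.1 * g * w.1) * g⁻¹ := by group
      _ = g * (w.1 * (g⁻¹ * x.1 * g)) * g⁻¹ := by rw [hc]
      _ = g * w.1 * g⁻¹ * x.1 := by group

/-- A subgroup supplementing a normal subgroup covers the quotient. -/
theorem index_dvd_card_of_sup [Finite G] (M X : Subgroup G) [M.Normal] (h : M ⊔ X = ⊤) :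
    M.index ∣ Nat.card X := by
  rw [Subgroup.index_eq_card]
  refine Subgroup.card_dvd_of_surjective ((QuotientGroup.mk' M).comp X.subtype) fun z => ?_
  obtain ⟨g, rfl⟩ := QuotientGroup.mk'_surjective M z
  obtain ⟨m, hm, x, hx, rfl⟩ : ∃ m ∈ M, ∃ x ∈ X, m * x = g := by
    have : g ∈ ((M ⊔ X : Subgroup G) : Set G) := by rw [h]; trivial
    rw [Subgroup.normal_mul] at this
    exact this
  exact ⟨⟨x, hx⟩, by simp [(QuotientGroup.eq_one_iff m).2 hm]⟩

/-- Lucido's lemma: primes dividing three levels of a normal series are not pairwise separated. -/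
theorem series_false [Finite G] (K M : Subgroup G) [K.Normal] [M.Normal] (hKM : K ≤ M)
    {p q r : ℕ} (hp : p.Prime) (hq : q.Prime) (hr : r.Prime)
    (hpq : p ≠ q) (hpr : p ≠ r) (hqr : q ≠ r)
    (hpK : p ∣ Nat.card K) (hqM : q ∣ K.relIndex M) (hrG : r ∣ M.index)
    (spq : Sep G p q) (spr : Sep G p r) (sqr : Sep G q r) : False := by
  classical
  haveI := Fact.mk hp
  haveI := Fact.mk hq
  haveI := Fact.mk hr
  -- the normalizer of a Sylow subgroup of `K`
  obtain ⟨P⟩ : Nonempty (Sylow p K) := inferInstance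
  set P' : Subgroup G := (P : Subgroup K).map K.subtype with hP'
  set N : Subgroup G := Subgroup.normalizer (P' : Set G) with hN
  have hNK : N ⊔ K = ⊤ := Sylow.normalizer_sup_eq_top P
  have hP'p : IsPGroup p P' := P.isPGroup'.map _
  have hP'1 : P' ≠ ⊥ := by
    intro h
    have hc := congrArg (fun H : Subgroup G => Nat.card H) h
    simp only [hP', Subgroup.card_bot] at hc
    rw [Subgroup.card_subtype] at hc
    exact P.ne_bot_of_dvd_card hpK (Subgroup.eq_bot_of_card_eq _ hc)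
  obtain ⟨V, hVc, hVp, hV1, hVP, hVN⟩ := exists_elementary hp P' hP'p hP'1
  -- inside the normalizer
  set MN : Subgroup N := M.subgroupOf N with hMN
  have hqMN : q ∣ Nat.card MN := by
    have hsup : K.subgroupOf M ⊔ (N ⊓ M).subgroupOf M = ⊤ := by
      rw [eq_top_iff]
      rintro ⟨m, hm⟩ -
      have hmem : m ∈ ((K ⊔ N : Subgroup G) : Set G) := by rw [sup_comm, hNK]; trivial
      rw [Subgroup.normal_mul] at hmem
      obtain ⟨k, hk, n, hn, rfl⟩ := hmem
      have hnM : n ∈ M := by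
        have := M.mul_mem (M.inv_mem (hKM hk)) hm
        simpa using this
      exact Subgroup.mul_mem_sup (S := K.subgroupOf M) (T := (N ⊓ M).subgroupOf M)
        (x := ⟨k, hKM hk⟩) (y := ⟨n, hnM⟩) hk ⟨hn, hnM⟩
    have h1 := index_dvd_card_of_sup (K.subgroupOf M) ((N ⊓ M).subgroupOf M) hsup
    rw [Nat.card_congr (Subgroup.subgroupOfEquivOfLe inf_le_right).toEquiv] at h1
    have h2 : Nat.card MN = Nat.card (N ⊓ M : Subgroup G) := by
      rw [hMN, ← Subgroup.inf_subgroupOf_right, inf_comm M N,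
        Nat.card_congr (Subgroup.subgroupOfEquivOfLe inf_le_left).toEquiv]
    rw [h2]
    exact hqM.trans h1
  have hrN : r ∣ MN.index := by
    refine hrG.trans (dvd_of_eq ?_)
    show M.index = M.relIndex N
    rw [← Subgroup.relIndex_sup_right,
      show N ⊔ M = ⊤ from eq_top_iff.2 (hNK.ge.trans (sup_le le_sup_left (hKM.trans le_sup_right))),
      Subgroup.relIndex_top_right]
  obtain ⟨Q⟩ : Nonempty (Sylow q MN) := inferInstance
  set Q' : Subgroup N := (Q : Subgroup MN).map MN.subtype with hQ'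
  have hQsup : MN ⊔ Subgroup.normalizer (Q' : Set N) = ⊤ := by
    rw [sup_comm]; exact Sylow.normalizer_sup_eq_top Q
  have hQ'1 : Q' ≠ ⊥ := by
    intro h
    have hc := congrArg (fun H : Subgroup N => Nat.card H) h
    simp only [hQ', Subgroup.card_bot] at hc
    rw [Subgroup.card_subtype] at hc
    exact Q.ne_bot_of_dvd_card hqMN (Subgroup.eq_bot_of_card_eq _ hc)
  obtain ⟨A, hAc, hAq, hA1, -, hAn⟩ := exists_elementary hq Q' (Q.isPGroup'.map _) hQ'1
  obtain ⟨y, hy⟩ := exists_prime_orderOf_dvd_card' r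
    (hrN.trans (index_dvd_card_of_sup MN (Subgroup.normalizer (Q' : Set N)) hQsup))
  have hVN' : V ≤ N := hVP.trans Subgroup.le_normalizer
  haveI : (V.subgroupOf N).Normal := ⟨fun v hv g => hVN g.1 g.2 v.1 hv⟩
  haveI : IsMulCommutative (V.subgroupOf N) :=
    ⟨⟨fun a b => Subtype.ext (Subtype.ext (congrArg Subtype.val
      (mul_comm' (⟨a.1.1, a.2⟩ : V) ⟨b.1.1, b.2⟩) :))⟩⟩
  have hsep : ∀ {a b : ℕ}, Sep G a b → Sep N a b := fun h ⟨x, hx⟩ =>
    h ⟨x.1, (Subgroup.orderOf_coe x).trans hx⟩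
  refine no_triangle hp hq hr hpq hpr hqr (hsep spq) (hsep spr) (hsep sqr) (V.subgroupOf N)
    (fun v hv => Subtype.ext (hVp v.1 hv)) (fun h => hV1 ?_) A hAq hA1 y.1
    ((Subgroup.orderOf_coe y).trans hy) (fun a ha => hAn y.1 y.2 a ha)
  rw [← Subgroup.map_subgroupOf_eq_of_le hVN', h, Subgroup.map_bot]

end Cfsg.Agent.Recognition.PrimeTriples
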