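import Mathlib
import Cfsg.Agent.Lib.Cores.Basic
import Cfsg.Agent.Lib.Hall.MinimalNormal
import Cfsg.Agent.Lib.Perm.CharSimple
import Cfsg.Agent.Recognition.PrimeTriples

/-!
The section of a finite group carrying a family of primes of exponent one that are pairwise
non-adjacent in the prime graph: it is a non-abelian simple group.
-/

set_option autoImplicit false

namespace Cfsg.Agent.Recognition.LargePrimeSection

open Cfsg Cores PrimeTriples

universe u

/-- A set of primes of exponent one in `|G|`, none dividing another minus one, pairwise separated. -/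
structure Large (G : Type u) [Group G] (P : Set ℕ) : Prop where
  prime : ∀ p ∈ P, p.Prime
  sq : ∀ p ∈ P, ¬ p ^ 2 ∣ Nat.card G
  dvd_pred : ∀ p ∈ P, ∀ q ∈ P, p ≠ q → ¬ q ∣ p - 1
  sep : ∀ p ∈ P, ∀ q ∈ P, p ≠ q → Sep G p q

theorem Large.of_subgroup {G : Type u} [Group G] [Finite G] {P : Set ℕ} (h : Large G P)
    (H : Subgroup G) : Large H P where
  prime := h.prime
  sq := fun p hp hd => h.sq p hp (hd.trans H.card_subgroup_dvd_card)
  dvd_pred := h.dvd_pred
  sep := fun p hp q hq hne ⟨x, hx⟩ => h.sep p hp q hq hne ⟨x, by rw [Subgroup.orderOf_coe]; exact hx⟩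

theorem Large.of_surjective {G H : Type u} [Group G] [Group H] [Finite G] {P : Set ℕ}
    (h : Large G P) (f : G →* H) (hf : Function.Surjective f) : Large H P where
  prime := h.prime
  sq := fun p hp hd => h.sq p hp (hd.trans (Subgroup.card_dvd_of_surjective f hf))
  dvd_pred := h.dvd_pred
  sep := fun p hp q hq hne => (h.sep p hp q hq hne).of_surjective f hf

/-- A normal subgroup containing one of the primes contains all of them. -/
theorem spread {G : Type u} [Group G] [Finite G] {P : Set ℕ} (h : Large G P) (M : Subgroup G)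
    [M.Normal] {p q : ℕ} (hp : p ∈ P) (hq : q ∈ P) (hqG : q ∣ Nat.card G)
    (hpM : p ∣ Nat.card M) : q ∣ Nat.card M := by
  by_contra hqM
  have hne : p ≠ q := fun e => hqM (e ▸ hpM)
  have hpp := h.prime p hp
  have hqp := h.prime q hq
  haveI := Fact.mk hpp
  haveI := Fact.mk hqp
  obtain ⟨S⟩ : Nonempty (Sylow p M) := inferInstance
  have hS : Nat.card S = p := by
    obtain ⟨k, hk⟩ := IsPGroup.iff_card.1 S.isPGroup'
    have h1 : p ∣ Nat.card S := S.dvd_card_of_dvd_card hpM
    rw [hk] at h1 ⊢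
    have h2 : k ≤ 1 := by
      by_contra hk2
      refine h.sq p hp ((pow_dvd_pow p (by omega : 2 ≤ k)).trans (hk ▸ ?_))
      exact S.toSubgroup.card_subgroup_dvd_card.trans M.card_subgroup_dvd_card
    rcases Nat.le_one_iff_eq_zero_or_eq_one.1 h2 with rfl | rfl
    · simp at h1; exact absurd h1 hpp.ne_one
    · exact pow_one p
  set A : Subgroup G := S.toSubgroup.map M.subtype with hA
  have hAc : Nat.card A = p := by
    rw [hA, Subgroup.card_map_of_injective M.subtype_injective]; exact hS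
  set N : Subgroup G := Subgroup.normalizer (A : Set G)
  have htop : N ⊔ M = ⊤ := Sylow.normalizer_sup_eq_top S
  have hqN : q ∣ Nat.card N := by
    have hd : Nat.card (N ⊔ M : Subgroup G) ∣ Nat.card N * Nat.card M := card_sup_dvd_mul N M
    rw [htop, Subgroup.card_top] at hd
    exact (hqp.dvd_mul.1 (hqG.trans hd)).resolve_right hqM
  obtain ⟨y, hy⟩ := exists_prime_orderOf_dvd_card' q hqN
  haveI hcyc : IsCyclic A := isCyclic_of_prime_card hAc
  let φ : N →* MulAut A :=  
    { toFun := fun g =>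
        { toFun := fun a => ⟨g.1 * a.1 * g.1⁻¹, (Subgroup.mem_normalizer_iff.1 g.2 a.1).1 a.2⟩
          invFun := fun a => ⟨g.1⁻¹ * a.1 * g.1, by
            have h1 := (Subgroup.mem_normalizer_iff.1 (N.inv_mem g.2) a.1).1 a.2
            simpa using h1⟩
          left_inv := fun a => Subtype.ext (by simp [mul_assoc])
          right_inv := fun a => Subtype.ext (by simp [mul_assoc])
          map_mul' := fun a b => Subtype.ext (by simp [mul_assoc]) }
      map_one' := by ext a; simp
      map_mul' := fun g g' => by ext a; simp [mul_assoc] }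
  have h1 : orderOf (φ y) ∣ q := hy ▸ orderOf_map_dvd φ y
  have h2 : orderOf (φ y) ∣ p - 1 := by
    have h3 := orderOf_dvd_natCard (φ y)
    rwa [IsCyclic.card_mulAut, hAc, Nat.totient_prime hpp] at h3
  have h4 : φ y = 1 := by
    rcases hqp.eq_one_or_self_of_dvd _ h1 with h5 | h5
    · exact orderOf_eq_one_iff.1 h5
    · exact absurd (h5 ▸ h2) (h.dvd_pred p hp q hq hne)
  obtain ⟨a, ha⟩ := exists_prime_orderOf_dvd_card' (G := A) p (by rw [hAc])
  have h5 : y.1 * a.1 * y.1⁻¹ = a.1 := congrArg Subtype.val (DFunLike.congr_fun h4 a)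
  exact commute_false ((Nat.coprime_primes hpp hqp).2 hne) (h.sep p hp q hq hne)
    (show Commute a.1 y.1 from (mul_inv_eq_iff_eq_mul.1 h5).symm)
    (by rw [Subgroup.orderOf_coe, ha]) (by rw [Subgroup.orderOf_coe, hy])

/-- Main theorem. -/
theorem exists_section {G : Type u} [Group G] [Finite G] {P : Set ℕ} (h : Large G P)
    (hdvd : ∀ p ∈ P, p ∣ Nat.card G) {p₀ q₀ : ℕ} (hp₀ : p₀ ∈ P) (hq₀ : q₀ ∈ P) (hne : p₀ ≠ q₀) :
    ∃ (N H : Subgroup G) (_ : N.Normal), H.Normal ∧ N < H ∧
      IsSimpleGroup (↥H ⧸ N.subgroupOf H) ∧ ¬ IsMulCommutative (↥H ⧸ N.subgroupOf H) ∧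
      ∀ p ∈ P, p ∣ Nat.card (↥H ⧸ N.subgroupOf H) := by
  set N := piCore Pᶜ G with hN
  set π := QuotientGroup.mk' N with hπ
  have hQ := h.of_surjective π (QuotientGroup.mk'_surjective N)
  have hQd : ∀ p ∈ P, p ∣ Nat.card (G ⧸ N) := fun p hp => by
    have h1 := hdvd p hp
    rw [← N.card_mul_index, Subgroup.index_eq_card] at h1
    exact ((h.prime p hp).dvd_mul.1 h1).resolve_left
      (fun h2 => piCore_isPi Pᶜ p (h.prime p hp) h2 hp)
  haveI : Nontrivial (G ⧸ N) := by
    rw [← Finite.one_lt_card_iff_nontrivial]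
    exact (h.prime p₀ hp₀).one_lt.trans_le (Nat.le_of_dvd Nat.card_pos (hQd p₀ hp₀))
  obtain ⟨M, hMn, -, hM0, hMmin⟩ := Hall.exists_minimal_normal (⊤ : Subgroup (G ⧸ N)) top_ne_bot
  have := hMn
  have hcore : piCore Pᶜ (G ⧸ N) = ⊥ := piCore_quotient_self _
  have hcoreM : piCore Pᶜ M = ⊥ := by
    have h1 : (piCore Pᶜ M).map M.subtype ≤ piCore Pᶜ (G ⧸ N) := map_piCore_subtype_le _ M
    rw [hcore, le_bot_iff, Subgroup.map_eq_bot_iff_of_injective _ M.subtype_injective] at h1
    exact h1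
  have hsome : ∀ (X : Type u) [Group X] (K : Subgroup X) [K.Normal], piCore Pᶜ X = ⊥ → K ≠ ⊥ →
      ∃ p ∈ P, p ∣ Nat.card K := by
    intro X _ K _ hX hK
    by_contra hno
    push Not at hno
    exact hK (le_bot_iff.1 (hX ▸ le_piCore fun p _ hd hp => hno p hp hd))
  have hMd : ∀ p ∈ P, p ∣ Nat.card M := fun q hq => by
    obtain ⟨p, hp, hpd⟩ := hsome _ M hcore hM0
    exact spread hQ M hp hq (hQd q hq) hpd
  have hLM := hQ.of_subgroup M
  have hKd : ∀ (K : Subgroup M), K.Normal → K ≠ ⊥ → p₀ ∣ Nat.card K := fun K hK hK0 => by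
    haveI := hK
    obtain ⟨p, hp, hpd⟩ := hsome _ K hcoreM hK0
    exact spread hLM K hp hp₀ (hMd p₀ hp₀) hpd
  have hMnc : ¬ IsMulCommutative M := fun hc => by
    haveI := Fact.mk (h.prime p₀ hp₀)
    haveI := Fact.mk (h.prime q₀ hq₀)
    obtain ⟨a, ha⟩ := exists_prime_orderOf_dvd_card' p₀ (hMd p₀ hp₀)
    obtain ⟨b, hb⟩ := exists_prime_orderOf_dvd_card' q₀ (hMd q₀ hq₀)
    exact commute_false ((Nat.coprime_primes (h.prime p₀ hp₀) (h.prime q₀ hq₀)).2 hne)
      (hLM.sep p₀ hp₀ q₀ hq₀ hne) (mul_comm' a b) ha hb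
  haveI : Nontrivial M := M.nontrivial_iff_ne_bot.2 hM0
  obtain ⟨K, hK⟩ := Perm.CharSimple.exists_isMinNormal (X := M)
  obtain ⟨hKn, hK0, hKmin⟩ := hK
  have hinf : ∀ L : Subgroup M, L.Normal → L ≠ ⊥ → K ≤ L := fun L hL hL0 => by
    haveI := hL
    haveI := hKn
    rcases hKmin (K ⊓ L) inferInstance inf_le_left with h1 | h1
    · exfalso
      refine hLM.sq p₀ hp₀ ?_
      rw [pow_two]
      refine (mul_dvd_mul (hKd K hKn hK0) (hKd L hL hL0)).trans ?_
      rw [← card_sup_mul_card_inf K L, h1, Subgroup.card_bot, mul_one]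
      exact (K ⊔ L).card_subgroup_dvd_card
    · exact h1 ▸ inf_le_right
  have hKtop : K = ⊤ := by
    haveI : K.Characteristic := Subgroup.characteristic_iff_le_map.2 fun φ => by
      refine hinf _ (hKn.map _ φ.surjective) ?_
      rwa [Ne, Subgroup.map_eq_bot_iff_of_injective K φ.injective]
    rcases hMmin (K.map M.subtype) inferInstance (Subgroup.map_subtype_le K) with h1 | h1
    · exact absurd ((Subgroup.map_eq_bot_iff_of_injective K M.subtype_injective).1 h1) hK0
    · refine Subgroup.map_injective M.subtype_injective ?_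
      rw [h1, ← MonoidHom.range_eq_map, Subgroup.range_subtype]
  haveI hsimp : IsSimpleGroup M := ⟨fun L hL => or_iff_not_imp_left.2 fun hL0 =>
    top_le_iff.1 (hKtop ▸ hinf L hL hL0)⟩
  set H := M.comap π with hH
  let f : H →* M := (π.comp H.subtype).codRestrict M fun x => x.2
  have hf : Function.Surjective f := by
    rintro ⟨m, hm⟩
    obtain ⟨x, rfl⟩ := QuotientGroup.mk'_surjective N m
    exact ⟨⟨x, hm⟩, rfl⟩
  have hker : f.ker = N.subgroupOf H := by
    ext x
    rw [MonoidHom.mem_ker, Subgroup.mem_subgroupOf, ← QuotientGroup.eq_one_iff]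
    exact Subtype.ext_iff
  let e : ↥H ⧸ N.subgroupOf H ≃* M :=
    (QuotientGroup.quotientMulEquivOfEq hker.symm).trans
      (QuotientGroup.quotientKerEquivOfSurjective f hf)
  haveI : Nontrivial (↥H ⧸ N.subgroupOf H) := e.toEquiv.nontrivial
  refine ⟨N, H, inferInstance, Subgroup.Normal.comap hMn π, ?_,
    IsSimpleGroup.isSimpleGroup_of_surjective e.symm.toMonoidHom e.symm.surjective, fun hc => hMnc ?_,
    fun p hp => ?_⟩
  · refine lt_of_le_of_ne (fun x hx => ?_) fun he => hM0 ?_
    · rw [hH, Subgroup.mem_comap, hπ, QuotientGroup.mk'_apply, (QuotientGroup.eq_one_iff x).2 hx]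
      exact one_mem _
    · refine (Subgroup.eq_bot_iff_forall M).2 fun m hm => ?_
      obtain ⟨x, rfl⟩ := QuotientGroup.mk'_surjective N m
      have hxN : x ∈ N := he ▸ (show x ∈ H from hm)
      exact (QuotientGroup.eq_one_iff x).2 hxN
  · exact ⟨⟨fun a b => e.symm.injective (by rw [map_mul, map_mul]; exact mul_comm' _ _)⟩⟩
  · rw [Nat.card_congr e.toEquiv]
    exact hMd p hp

end Cfsg.Agent.Recognition.LargePrimeSection
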