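import Mathlib
import Cfsg.Agent.Recognition.LargePrimeSection
import Cfsg.Agent.Lib.PrimeCycles.Primes
import Cfsg.Agent.Lib.Hall.Solvable

/-!
The primes in `(n/2, n]` for a group with the order and element orders of `Alt n`.
-/

set_option autoImplicit false

namespace Cfsg.Agent.Recognition.AltLargePrimes

open Cfsg PrimeTriples LargePrimeSection

universe u

/-- The primes in `(n/2, n]`. -/
def bigPrimes (n : ℕ) : Set ℕ := {p | p.Prime ∧ n < 2 * p ∧ p ≤ n}

theorem perm_no_orderOf {n p q : ℕ} (hp : p.Prime) (hq : q.Prime) (hne : p ≠ q) (h : n < p + q)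
    (σ : Equiv.Perm (Fin n)) : orderOf σ ≠ p * q := by
  intro hσ
  have hsum : σ.cycleType.sum ≤ n := by
    rw [Equiv.Perm.sum_cycleType]
    exact σ.support.card_le_univ.trans_eq (Fintype.card_fin n)
  have hlcm : σ.cycleType.lcm = p * q := by rw [Equiv.Perm.lcm_cycleType, hσ]
  have hex : ∀ r : ℕ, r.Prime → r ∣ p * q → ∃ a ∈ σ.cycleType, r ∣ a := by
    intro r hr hd
    by_contra hno
    push Not at hno
    have h1 : σ.cycleType.lcm ∣ σ.cycleType.prod :=
      Multiset.lcm_dvd.2 fun a ha => Multiset.dvd_prod ha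
    obtain ⟨a, ha, hra⟩ := hr.prime.exists_mem_multiset_dvd (hd.trans (hlcm ▸ h1))
    exact hno a ha hra
  obtain ⟨a, ha, hpa⟩ := hex p hp (dvd_mul_right p q)
  obtain ⟨b, hb, hqb⟩ := hex q hq (dvd_mul_left q p)
  have ha2 := Equiv.Perm.two_le_of_mem_cycleType ha
  have hb2 := Equiv.Perm.two_le_of_mem_cycleType hb
  have hap : p ≤ a := Nat.le_of_dvd (by omega) hpa
  have hbq : q ≤ b := Nat.le_of_dvd (by omega) hqb
  have ha' : a ≤ n := (Multiset.le_sum_of_mem ha).trans hsum
  by_cases hab : a = b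
  · subst hab
    have h2 : p * q ∣ a := ((Nat.coprime_primes hp hq).2 hne).mul_dvd_of_dvd_of_dvd hpa hqb
    have h3 : p * q ≤ a := Nat.le_of_dvd (by omega) h2
    have := hp.two_le
    have := hq.two_le
    nlinarith
  · have hb' : b ∈ σ.cycleType.erase a := (Multiset.mem_erase_of_ne (Ne.symm hab)).2 hb
    have h4 : b ≤ (σ.cycleType.erase a).sum := Multiset.le_sum_of_mem hb'
    have h5 : a + (σ.cycleType.erase a).sum = σ.cycleType.sum := by
      rw [← Multiset.sum_cons, Multiset.cons_erase ha]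
    omega

variable {G : Type u} [Group G] [Finite G] {n : ℕ}

theorem sep_of_spec (hspec : Set.range (orderOf : G → ℕ) =
      Set.range (orderOf : ↥(alternatingGroup (Fin n)) → ℕ))
    {p q : ℕ} (hp : p.Prime) (hq : q.Prime) (hne : p ≠ q) (h : n < p + q) : Sep G p q := by
  rintro ⟨x, hx⟩
  obtain ⟨σ, hσ⟩ : p * q ∈ Set.range (orderOf : ↥(alternatingGroup (Fin n)) → ℕ) :=
    hspec ▸ ⟨x, hx⟩
  exact perm_no_orderOf hp hq hne h σ.1 (by rw [Subgroup.orderOf_coe]; exact hσ)

theorem two_mul_card (hn : 2 ≤ n) (hcard : Nat.card G = Nat.card ↥(alternatingGroup (Fin n))) :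
    2 * Nat.card G = n.factorial := by
  haveI : Nontrivial (Fin n) := Fin.nontrivial_iff_two_le.2 hn
  rw [hcard, two_mul_nat_card_alternatingGroup, Nat.card_perm, Nat.card_fin]

theorem dvd_card (hn : 2 ≤ n) (hcard : Nat.card G = Nat.card ↥(alternatingGroup (Fin n)))
    {p : ℕ} (hp : p.Prime) (hp2 : p ≠ 2) (hpn : p ≤ n) : p ∣ Nat.card G := by
  have h := two_mul_card hn hcard
  exact (hp.dvd_mul.1 (h ▸ (hp.dvd_factorial.2 hpn))).resolve_left
    (fun h2 => hp2 ((Nat.prime_dvd_prime_iff_eq hp Nat.prime_two).1 h2))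

theorem not_sq_dvd (hn : 2 ≤ n) (hcard : Nat.card G = Nat.card ↥(alternatingGroup (Fin n)))
    {p : ℕ} (hp : p.Prime) (hp1 : n < 2 * p) : ¬ p ^ 2 ∣ Nat.card G := by
  intro hd
  haveI := Fact.mk hp
  have h1 : p ^ 2 ∣ n.factorial := hd.trans (Dvd.intro_left 2 (two_mul_card hn hcard))
  rw [hp.pow_dvd_factorial_iff (b := Nat.log p n + 1) (Nat.lt_succ_self _)] at h1
  have hlog : Nat.log p n ≤ 1 := by
    by_contra hl
    have h2 : p ^ 2 ≤ n := (Nat.pow_le_pow_right hp.pos (by omega)).trans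
      (Nat.pow_log_le_self p (by omega))
    have := hp.two_le
    rw [pow_two] at h2
    nlinarith
  have h3 : ∑ i ∈ Finset.Ico 1 (Nat.log p n + 1), n / p ^ i ≤ n / p := by
    interval_cases Nat.log p n <;> simp [Finset.sum_Ico_succ_top]
  have h4 : n / p < 2 := Nat.div_lt_iff_lt_mul hp.pos |>.2 hp1
  omega

theorem large (hn : 5 ≤ n) (hcard : Nat.card G = Nat.card ↥(alternatingGroup (Fin n)))
    (hspec : Set.range (orderOf : G → ℕ) = Set.range (orderOf : ↥(alternatingGroup (Fin n)) → ℕ)) :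
    Large G (bigPrimes n) where
  prime := fun p hp => hp.1
  sq := fun p hp => not_sq_dvd (by omega) hcard hp.1 hp.2.1
  dvd_pred := by
    rintro p ⟨hp, hp1, hp2⟩ q ⟨hq, hq1, hq2⟩ hne ⟨k, hk⟩
    have hk1 : k ≤ 1 := by
      by_contra hk2
      have : q * 2 ≤ q * k := Nat.mul_le_mul_left q (by omega)
      omega
    have hpo := hp.eq_two_or_odd
    have hqo := hq.eq_two_or_odd
    interval_cases k <;> omega
  sep := fun p hp q hq hne => sep_of_spec hspec hp.1 hq.1 hne (by
    have := hp.2.1; have := hq.2.1; omega)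

/-- Groups with the order and spectrum of `Alt n` have a non-abelian simple section involving all
primes in `(n/2, n]`, provided that there are two of them. -/
theorem exists_section (hn : 5 ≤ n) (hcard : Nat.card G = Nat.card ↥(alternatingGroup (Fin n)))
    (hspec : Set.range (orderOf : G → ℕ) = Set.range (orderOf : ↥(alternatingGroup (Fin n)) → ℕ))
    (htwo : ∃ p q, p ∈ bigPrimes n ∧ q ∈ bigPrimes n ∧ p ≠ q) :
    ∃ (N H : Subgroup G) (_ : N.Normal), H.Normal ∧ N < H ∧
      IsSimpleGroup (↥H ⧸ N.subgroupOf H) ∧ ¬ IsMulCommutative (↥H ⧸ N.subgroupOf H) ∧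
      ∀ p ∈ bigPrimes n, p ∣ Nat.card (↥H ⧸ N.subgroupOf H) := by
  obtain ⟨p, q, hp, hq, hne⟩ := htwo
  refine LargePrimeSection.exists_section (large hn hcard hspec) (fun r hr => ?_) hp hq hne
  refine dvd_card (by omega) hcard hr.1 ?_ hr.2.2
  have := hr.2.1
  omega

theorem exists_two {n : ℕ} (hn : 5 ≤ n) (h6 : n ≠ 6) (h10 : n ≠ 10) :
    ∃ p q, p ∈ bigPrimes n ∧ q ∈ bigPrimes n ∧ p ≠ q := by
  rcases Nat.lt_or_ge n 17 with h | h
  · rcases Nat.lt_or_ge n 6 with h1 | h1
    · exact ⟨3, 5, ⟨by norm_num, by omega, by omega⟩, ⟨by norm_num, by omega, by omega⟩, by omega⟩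
    rcases Nat.lt_or_ge n 10 with h2 | h2
    · exact ⟨5, 7, ⟨by norm_num, by omega, by omega⟩, ⟨by norm_num, by omega, by omega⟩, by omega⟩
    rcases Nat.lt_or_ge n 14 with h3 | h3
    · exact ⟨7, 11, ⟨by norm_num, by omega, by omega⟩, ⟨by norm_num, by omega, by omega⟩, by omega⟩
    · exact ⟨11, 13, ⟨by norm_num, by omega, by omega⟩, ⟨by norm_num, by omega, by omega⟩, by omega⟩
  · obtain ⟨a, b, c, ha, hb, hc, hab, hbc, hma, hcn⟩ := PrimeCycles.Primes.exists_triple h
    exact ⟨a, b, ⟨ha, hma, by omega⟩, ⟨hb, by omega, by omega⟩, by omega⟩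

/-- No solvable group has the order and spectrum of `Alt 10`. -/
theorem not_solvable_ten {G : Type u} [Group G] [Finite G]
    (hcard : Nat.card G = Nat.card ↥(alternatingGroup (Fin 10)))
    (hspec : Set.range (orderOf : G → ℕ) = Set.range (orderOf : ↥(alternatingGroup (Fin 10)) → ℕ))
    (hs : Group.IsSolvable G) : False := by
  have hc : Nat.card G = 1814400 := by
    have := two_mul_card (by norm_num) hcard
    norm_num [Nat.factorial] at this
    omega
  haveI := hs
  obtain ⟨K, hK1, hK2⟩ := Hall.exists_hall ({5, 7} : Set ℕ) G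
  have h57 : ∀ r : ℕ, r ∈ ({5, 7} : Set ℕ) → r.Prime := by
    rintro r (rfl | rfl) <;> norm_num
  have hKi : ∀ r ∈ ({5, 7} : Set ℕ), ¬ r ∣ K.index := fun r hr => hK2 r (h57 r hr) hr
  have hmul := K.card_mul_index
  rw [hc] at hmul
  have h5 : 25 ∣ Nat.card K := by
    refine (Nat.Coprime.dvd_of_dvd_mul_right ?_ (hmul ▸ by norm_num : 25 ∣ Nat.card K * K.index))
    exact (Nat.Prime.coprime_iff_not_dvd (by norm_num : Nat.Prime 5)).2 (hKi 5 (Or.inl rfl)) |>.pow_left 2
  have h7 : 7 ∣ Nat.card K := by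
    exact (Nat.Prime.dvd_mul (by norm_num)).1 (hmul ▸ by norm_num : 7 ∣ Nat.card K * K.index)
      |>.resolve_right (hKi 7 (Or.inr rfl))
  have hKc : Nat.card K = 175 := by
    have h175 : 175 ∣ Nat.card K := (by norm_num : Nat.Coprime 25 7).mul_dvd_of_dvd_of_dvd h5 h7
    have hd : Nat.card K ∣ 1814400 := hc ▸ K.card_subgroup_dvd_card
    obtain ⟨k, hk⟩ := h175
    have hk1 : k ∣ 10368 := by
      rw [hk, show 1814400 = 175 * 10368 from rfl] at hd
      exact (Nat.mul_dvd_mul_iff_left (by norm_num)).1 hd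
    rcases eq_or_ne k 1 with rfl | hne
    · simpa using hk
    · obtain ⟨r, hr, hrk⟩ := Nat.exists_prime_and_dvd hne
      have hr1 : r ∈ ({5, 7} : Set ℕ) := hK1 r hr (hrk.trans ⟨175, by rw [hk, mul_comm]⟩)
      have hr2 : r ∣ 10368 := hrk.trans hk1
      rcases hr1 with rfl | rfl <;> norm_num at hr2
  haveI := Fact.mk (by norm_num : Nat.Prime 5)
  haveI := Fact.mk (by norm_num : Nat.Prime 7)
  obtain ⟨S⟩ : Nonempty (Sylow 5 K) := inferInstance
  obtain ⟨T⟩ : Nonempty (Sylow 7 K) := inferInstance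
  have norm : ∀ (r : ℕ) [Fact r.Prime] (U : Sylow r K),
      (∀ d, d ∈ Nat.divisors 175 → d % r = 1 % r → ¬ r ∣ d → d = 1) → U.toSubgroup.Normal := by
    intro r _ U hd
    have h1 : Nat.card (Sylow r K) ≡ 1 [MOD r] := card_sylow_modEq_one r K
    have h2 : Nat.card (Sylow r K) ∣ 175 := hKc ▸ (U.card_dvd_index.trans (U : Subgroup K).index_dvd_card)
    have h3 := hd _ (Nat.mem_divisors.2 ⟨h2, by norm_num⟩) h1 (not_dvd_card_sylow r K)
    haveI : Subsingleton (Sylow r K) := (Nat.card_eq_one_iff_unique.1 h3).1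
    exact U.normal_of_subsingleton
  have hSn := norm 5 S (by decide +kernel)
  have hTn := norm 7 T (by decide +kernel)
  obtain ⟨a, ha⟩ := exists_prime_orderOf_dvd_card' (G := S) 5
    (S.dvd_card_of_dvd_card (by rw [hKc]; norm_num))
  obtain ⟨b, hb⟩ := exists_prime_orderOf_dvd_card' (G := T) 7
    (T.dvd_card_of_dvd_card (by rw [hKc]; norm_num))
  have hdis : Disjoint S.toSubgroup T.toSubgroup :=
    IsPGroup.disjoint_of_ne 5 7 (by norm_num) _ _ S.isPGroup' T.isPGroup'
  have hcom : Commute a.1 b.1 :=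
    Subgroup.commute_of_normal_of_disjoint _ _ hSn hTn hdis _ _ a.2 b.2
  exact commute_false (by norm_num : Nat.Coprime 5 7)
    (sep_of_spec (G := G) hspec (by norm_num) (by norm_num) (by norm_num) (by norm_num))
    (hcom.map K.subtype)
    (by rw [Subgroup.coe_subtype, Subgroup.orderOf_coe, Subgroup.orderOf_coe, ha])
    (by rw [Subgroup.coe_subtype, Subgroup.orderOf_coe, Subgroup.orderOf_coe, hb])

end Cfsg.Agent.Recognition.AltLargePrimes
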