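import Mathlib

/-!
Element orders of symmetric and alternating groups of small degree from partitions.
-/

set_option autoImplicit false

namespace Cfsg.Agent.Recognition.AltSpectrum

open Equiv

/-- Multisets with parts in `[2, k]` and sum at most `n`. -/
def typesAux : ℕ → ℕ → List (Multiset ℕ)
  | 0, _ => [0]
  | 1, _ => [0]
  | k + 2, n => (List.range (n / (k + 2) + 1)).flatMap fun c =>
      (typesAux (k + 1) (n - c * (k + 2))).map fun m => Multiset.replicate c (k + 2) + m

theorem mem_typesAux : ∀ (k n : ℕ) (m : Multiset ℕ), m ∈ typesAux k n →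
    (∀ a ∈ m, 2 ≤ a) ∧ m.sum ≤ n
  | 0, n, m => by simp [typesAux]; rintro rfl; simp
  | 1, n, m => by simp [typesAux]; rintro rfl; simp
  | k + 2, n, m => by
    intro h
    simp only [typesAux, List.mem_flatMap, List.mem_range, List.mem_map] at h
    obtain ⟨c, hc, m', hm', rfl⟩ := h
    obtain ⟨h1, h2⟩ := mem_typesAux (k + 1) _ _ hm'
    refine ⟨fun a ha => ?_, ?_⟩
    · rcases Multiset.mem_add.1 ha with ha | ha
      · rw [Multiset.eq_of_mem_replicate ha]; omega
      · exact h1 a ha
    · rw [Multiset.sum_add, Multiset.sum_replicate, smul_eq_mul]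
      have : c * (k + 2) ≤ n := (Nat.le_div_iff_mul_le (by omega)).1 (by omega)
      omega

theorem typesAux_mem : ∀ (k n : ℕ) (m : Multiset ℕ), (∀ a ∈ m, 2 ≤ a ∧ a ≤ k) → m.sum ≤ n →
    m ∈ typesAux k n
  | 0, n, m, h, _ => by
    have : m = 0 := Multiset.eq_zero_of_forall_notMem fun a ha => by have := h a ha; omega
    simp [typesAux, this]
  | 1, n, m, h, _ => by
    have : m = 0 := Multiset.eq_zero_of_forall_notMem fun a ha => by have := h a ha; omega
    simp [typesAux, this]
  | k + 2, n, m, h, hn => by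
    simp only [typesAux, List.mem_flatMap, List.mem_range, List.mem_map]
    have hsplit := Multiset.filter_add_not (fun a => a = k + 2) m
    rw [Multiset.filter_eq'] at hsplit
    have hs : m.count (k + 2) * (k + 2) + (m.filter fun a => ¬ a = k + 2).sum = m.sum := by
      conv_rhs => rw [← hsplit]
      rw [Multiset.sum_add, Multiset.sum_replicate, smul_eq_mul]
    refine ⟨m.count (k + 2), ?_, m.filter fun a => ¬ a = k + 2, ?_, hsplit⟩
    · rw [Nat.lt_succ_iff, Nat.le_div_iff_mul_le (by omega)]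
      omega
    · refine typesAux_mem (k + 1) _ _ (fun a ha => ?_) (by omega)
      obtain ⟨ha, hne⟩ := Multiset.mem_filter.1 ha
      obtain ⟨h1, h2⟩ := h a ha
      exact ⟨h1, by omega⟩

/-- The possible cycle types in degree `n`. -/
def permTypes (n : ℕ) : Finset (Multiset ℕ) := (typesAux n n).toFinset

theorem cycleType_mem {n : ℕ} (σ : Perm (Fin n)) : σ.cycleType ∈ permTypes n := by
  rw [permTypes, List.mem_toFinset]
  have hsum : σ.cycleType.sum ≤ n := by
    rw [Perm.sum_cycleType]
    exact σ.support.card_le_univ.trans_eq (Fintype.card_fin n)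
  exact typesAux_mem n n _
    (fun a ha => ⟨Perm.two_le_of_mem_cycleType ha, (Multiset.le_sum_of_mem ha).trans hsum⟩) hsum

theorem exists_of_mem {n : ℕ} {m : Multiset ℕ} (hm : m ∈ permTypes n) :
    ∃ σ : Perm (Fin n), σ.cycleType = m := by
  rw [permTypes, List.mem_toFinset] at hm
  obtain ⟨h1, h2⟩ := mem_typesAux n n m hm
  rw [Perm.exists_with_cycleType_iff, Fintype.card_fin]
  exact ⟨h2, h1⟩

theorem range_orderOf_perm (n : ℕ) :
    Set.range (orderOf : Perm (Fin n) → ℕ) = ↑((permTypes n).image Multiset.lcm) := by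
  ext d
  simp only [Set.mem_range, Finset.coe_image, Set.mem_image, Finset.mem_coe]
  constructor
  · rintro ⟨σ, rfl⟩
    exact ⟨σ.cycleType, cycleType_mem σ, σ.lcm_cycleType⟩
  · rintro ⟨m, hm, rfl⟩
    obtain ⟨σ, rfl⟩ := exists_of_mem hm
    exact ⟨σ, σ.lcm_cycleType.symm⟩

theorem range_orderOf_alt (n : ℕ) :
    Set.range (orderOf : alternatingGroup (Fin n) → ℕ) =
      ↑(((permTypes n).filter fun m => (m.sum + Multiset.card m) % 2 = 0).image Multiset.lcm) := by
  ext d
  simp only [Set.mem_range, Finset.coe_image, Set.mem_image, Finset.mem_coe, Finset.mem_filter]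
  constructor
  · rintro ⟨⟨σ, hσ⟩, rfl⟩
    refine ⟨σ.cycleType, ⟨cycleType_mem σ, ?_⟩, ?_⟩
    · rw [Perm.mem_alternatingGroup, Perm.sign_of_cycleType, neg_one_pow_eq_one_iff_even (by decide)]
        at hσ
      exact Nat.even_iff.1 hσ
    · rw [← Subgroup.orderOf_coe]; exact σ.lcm_cycleType
  · rintro ⟨m, ⟨hm, he⟩, rfl⟩
    obtain ⟨σ, rfl⟩ := exists_of_mem hm
    refine ⟨⟨σ, ?_⟩, ?_⟩
    · rw [Perm.mem_alternatingGroup, Perm.sign_of_cycleType,
        neg_one_pow_eq_one_iff_even (by decide)]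
      exact Nat.even_iff.2 he
    · rw [← Subgroup.orderOf_coe]; exact σ.lcm_cycleType.symm

theorem range_orderOf_alt5 :
    Set.range (orderOf : alternatingGroup (Fin 5) → ℕ) = ↑({1, 2, 3, 5} : Finset ℕ) := by
  rw [range_orderOf_alt, Finset.coe_inj]
  decide +kernel

theorem range_orderOf_alt6 :
    Set.range (orderOf : alternatingGroup (Fin 6) → ℕ) = ↑({1, 2, 3, 4, 5} : Finset ℕ) := by
  rw [range_orderOf_alt, Finset.coe_inj]
  decide +kernel

theorem range_orderOf_alt10 :
    Set.range (orderOf : alternatingGroup (Fin 10) → ℕ) =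
      ↑({1, 2, 3, 4, 5, 6, 7, 8, 9, 10, 12, 15, 21} : Finset ℕ) := by
  rw [range_orderOf_alt, Finset.coe_inj]
  decide +kernel

end Cfsg.Agent.Recognition.AltSpectrum
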