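import Cfsg.Agent.BlocksChars.ClassAlg
import Cfsg.Agent.Lib.Characters.Induction

/-!
# Sums of class functions over the products of two classes
-/

namespace Cfsg.Agent.Recognition.ClassConstants

open scoped ComplexConjugate
open Cfsg.Agent.Characters
open Cfsg.Agent.BlocksChars.ClassAlg

variable {G : Type*} [Group G] [Fintype G]

/-- The number of ways to write `z` as a product from the classes of `u` and `v`. -/
noncomputable def count (u v z : G) : ℕ := Nat.card {g : G // IsConj u g ∧ IsConj v (g⁻¹ * z)}

theorem count_eq_conv (u v z : G) : (count u v z : ℂ) = conv (classInd u) (classInd v) z :=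
  (conv_classInd u v z).symm

theorem sum_count_mul_char (u v : G) (χ : Cfsg.IrrCharacter G) :
    ∑ z : G, (count u v z : ℂ) * (χ : G → ℂ) z =
      (classSize u : ℂ) * (classSize v : ℂ) * ((χ : G → ℂ) u * (χ : G → ℂ) v) / (χ : G → ℂ) 1 := by
  have h := omega_conv χ (classInd_isClassFunction u) (classInd_isClassFunction v)
  rw [omega_classInd, omega_classInd] at h
  rw [show ∑ z : G, (count u v z : ℂ) * (χ : G → ℂ) z =
    omega (χ : G → ℂ) (conv (classInd u) (classInd v)) * (χ : G → ℂ) 1 by
      rw [omega, div_mul_cancel₀ _ (irr_one_ne_zero χ.2)]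
      exact Finset.sum_congr rfl fun z _ => by rw [count_eq_conv], h]
  field_simp [irr_one_ne_zero χ.2]

theorem sum_count_mul_indFun (T : Subgroup G) [Fintype T] (f : T → ℂ) (u v : G) :
    ∑ z : G, (count u v z : ℂ) * Cfsg.indFun T f z =
      (Nat.card G : ℂ) / (Nat.card T : ℂ) * ∑ w : T, (count u v w : ℂ) * f w := by
  have hcl : Cfsg.IsClassFunction G (fun z => (count u v z : ℂ)) := by
    intro z h
    simp only [count_eq_conv]
    exact conv_isClassFunction (classInd_isClassFunction u) (classInd_isClassFunction v) z h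
  have h := frobenius_reciprocity T f hcl
  rw [classInner_def, classInner_def] at h
  have hG : (Nat.card G : ℂ) ≠ 0 := natCard_ne_zero
  simp only [map_natCast] at h
  rw [inv_mul_eq_iff_eq_mul₀ hG] at h
  calc ∑ z : G, (count u v z : ℂ) * Cfsg.indFun T f z
      = ∑ z : G, Cfsg.indFun T f z * (count u v z : ℂ) := Finset.sum_congr rfl fun z _ => mul_comm _ _
    _ = _ := by
      rw [h, div_eq_mul_inv, mul_assoc]
      exact congrArg _ (congrArg _ (Finset.sum_congr rfl fun w _ => mul_comm _ _))

end Cfsg.Agent.Recognition.ClassConstants
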