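import Cfsg.Agent.Recognition.ListMatrix

/-!
The double cover of the symmetric group of degree five inside `GL(4, 7)`, as data.
-/

set_option autoImplicit false

namespace Cfsg.Agent.Recognition.CoverS5Data

def genX : List ℕ := [0, 0, 6, 6, 0, 0, 6, 1, 3, 3, 1, 2, 3, 4, 2, 6]

def genX' : List ℕ := [5, 6, 6, 6, 6, 2, 6, 1, 3, 3, 0, 0, 3, 4, 0, 0]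

def genY : List ℕ := [2, 5, 4, 4, 2, 2, 3, 4, 0, 6, 4, 2, 1, 0, 5, 4]

def genY' : List ℕ := [4, 2, 3, 3, 5, 4, 4, 3, 0, 1, 2, 5, 6, 0, 2, 2]

def elt3 : List ℕ := [2, 5, 4, 4, 2, 2, 3, 4, 0, 6, 4, 2, 1, 0, 5, 4]

/-- Word giving `elt3`: `false` is the first generator. -/
def word3 : List Bool := [true]

def elt4 : List ℕ := [1, 0, 4, 6, 0, 1, 1, 4, 2, 4, 6, 0, 3, 2, 0, 6]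

/-- Word giving `elt4`: `false` is the first generator. -/
def word4 : List Bool := [false, false]

def elt5 : List ℕ := [1, 1, 2, 0, 6, 1, 0, 2, 0, 5, 2, 1, 2, 0, 6, 2]

/-- Word giving `elt5`: `false` is the first generator. -/
def word5 : List Bool := [true, false, false]

def elt6 : List ℕ := [1, 2, 4, 4, 5, 1, 3, 4, 1, 2, 0, 5, 5, 1, 2, 0]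

/-- Word giving `elt6`: `false` is the first generator. -/
def word6 : List Bool := [true, false, true, false]

def elt8 : List ℕ := [0, 0, 6, 6, 0, 0, 6, 1, 3, 3, 1, 2, 3, 4, 2, 6]

/-- Word giving `elt8`: `false` is the first generator. -/
def word8 : List Bool := [false]

def elt10 : List ℕ := [5, 6, 1, 1, 1, 5, 6, 1, 5, 5, 6, 6, 2, 5, 1, 6]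

/-- Word giving `elt10`: `false` is the first generator. -/
def word10 : List Bool := [true, true, false, false]

def elt12 : List ℕ := [3, 0, 5, 0, 0, 4, 0, 2, 4, 6, 2, 5, 6, 3, 5, 5]

/-- Word giving `elt12`: `false` is the first generator. -/
def word12 : List Bool := [true, false]

def elems : List (List ℕ) := [
  [1, 0, 0, 0, 0, 1, 0, 0, 0, 0, 1, 0, 0, 0, 0, 1],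
  [0, 0, 6, 6, 0, 0, 6, 1, 3, 3, 1, 2, 3, 4, 2, 6],
  [2, 5, 4, 4, 2, 2, 3, 4, 0, 6, 4, 2, 1, 0, 5, 4],
  [1, 0, 4, 6, 0, 1, 1, 4, 2, 4, 6, 0, 3, 2, 0, 6],
  [3, 0, 5, 0, 0, 4, 0, 2, 4, 6, 2, 5, 6, 3, 5, 5],
  [6, 1, 5, 1, 1, 1, 1, 2, 0, 6, 0, 6, 6, 0, 6, 0],
  [4, 2, 3, 3, 5, 4, 4, 3, 0, 1, 2, 5, 6, 0, 2, 2],
  [2, 1, 1, 1, 1, 5, 1, 6, 4, 4, 0, 0, 4, 3, 0, 0],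
  [1, 1, 2, 0, 6, 1, 0, 2, 0, 5, 2, 1, 2, 0, 6, 2],
  [4, 5, 0, 4, 2, 4, 3, 0, 4, 3, 6, 0, 4, 4, 0, 6],
  [4, 0, 3, 1, 0, 3, 1, 4, 0, 5, 4, 0, 5, 0, 0, 3],
  [1, 1, 1, 1, 6, 1, 6, 1, 5, 5, 2, 1, 2, 5, 6, 2],
  [6, 3, 4, 1, 3, 1, 1, 3, 4, 2, 4, 1, 2, 3, 1, 3],
  [1, 6, 3, 0, 6, 6, 0, 4, 4, 5, 6, 6, 5, 3, 6, 1],
  [6, 0, 0, 0, 0, 6, 0, 0, 0, 0, 6, 0, 0, 0, 0, 6],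
  [6, 6, 0, 4, 6, 1, 4, 0, 2, 3, 6, 1, 3, 5, 1, 1],
  [5, 2, 6, 4, 2, 2, 4, 1, 4, 4, 6, 4, 4, 3, 4, 1],
  [5, 6, 1, 1, 1, 5, 6, 1, 5, 5, 6, 6, 2, 5, 1, 6],
  [6, 0, 1, 1, 0, 1, 1, 6, 2, 3, 1, 3, 3, 5, 3, 6],
  [1, 2, 4, 4, 5, 1, 3, 4, 1, 2, 0, 5, 5, 1, 2, 0],
  [2, 2, 3, 4, 5, 2, 3, 3, 1, 0, 2, 0, 0, 1, 0, 2],
  [0, 4, 6, 4, 4, 0, 4, 1, 2, 0, 0, 4, 0, 5, 4, 0],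
  [4, 5, 1, 5, 2, 4, 2, 1, 4, 1, 0, 0, 6, 4, 0, 0],
  [1, 2, 2, 3, 5, 1, 4, 2, 0, 6, 0, 5, 1, 0, 2, 0],
  [2, 3, 5, 5, 3, 5, 5, 2, 3, 6, 3, 0, 6, 4, 0, 4],
  [5, 6, 2, 0, 1, 5, 0, 2, 0, 5, 6, 6, 2, 0, 1, 6],
  [5, 4, 5, 6, 4, 2, 6, 2, 6, 6, 1, 1, 6, 1, 1, 6],
  [0, 0, 1, 1, 0, 0, 1, 6, 4, 4, 6, 5, 4, 3, 5, 1],
  [5, 2, 3, 3, 5, 5, 4, 3, 0, 1, 3, 5, 6, 0, 2, 3],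
  [2, 6, 0, 5, 1, 2, 2, 0, 2, 6, 6, 1, 1, 2, 6, 6],
  [6, 0, 6, 2, 0, 1, 2, 1, 1, 0, 1, 6, 0, 6, 6, 6],
  [6, 0, 4, 2, 0, 6, 5, 4, 5, 1, 2, 0, 6, 5, 0, 2],
  [3, 0, 2, 5, 0, 4, 5, 5, 1, 6, 0, 3, 6, 6, 3, 0],
  [0, 4, 0, 2, 4, 0, 2, 0, 6, 6, 1, 3, 6, 1, 3, 6],
  [2, 6, 3, 5, 1, 2, 2, 3, 5, 2, 6, 1, 5, 5, 6, 6],
  [4, 2, 2, 5, 2, 3, 5, 5, 0, 0, 2, 4, 0, 0, 4, 5],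
  [1, 4, 5, 2, 4, 6, 2, 2, 1, 6, 4, 1, 6, 6, 1, 3],
  [2, 0, 3, 6, 0, 2, 1, 3, 2, 2, 1, 2, 5, 2, 5, 1],
  [6, 6, 5, 5, 6, 1, 5, 2, 1, 0, 6, 4, 0, 6, 4, 1],
  [5, 4, 1, 3, 3, 5, 4, 1, 6, 0, 5, 1, 0, 6, 6, 5],
  [0, 0, 6, 1, 0, 0, 1, 1, 4, 3, 4, 1, 3, 3, 1, 3],
  [4, 2, 0, 0, 2, 3, 0, 0, 6, 1, 2, 4, 1, 1, 4, 5],
  [2, 1, 5, 1, 6, 2, 6, 5, 5, 1, 5, 6, 6, 5, 1, 5],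
  [6, 1, 5, 2, 1, 1, 2, 2, 6, 1, 1, 6, 1, 1, 6, 6],
  [3, 5, 4, 1, 2, 3, 6, 4, 4, 2, 0, 4, 5, 4, 3, 0],
  [5, 4, 4, 3, 3, 5, 4, 4, 2, 3, 5, 1, 4, 2, 6, 5],
  [5, 2, 0, 2, 2, 2, 2, 0, 1, 3, 0, 3, 3, 6, 3, 0],
  [2, 1, 4, 2, 6, 2, 5, 4, 3, 1, 5, 6, 6, 3, 1, 5],
  [2, 0, 5, 0, 0, 2, 0, 5, 3, 5, 1, 2, 2, 3, 5, 1],
  [1, 4, 6, 1, 4, 6, 1, 1, 4, 3, 0, 0, 3, 3, 0, 0],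
  [6, 0, 3, 1, 0, 6, 6, 3, 5, 3, 1, 0, 4, 5, 0, 1],
  [4, 0, 2, 0, 0, 3, 0, 5, 3, 1, 5, 2, 1, 4, 2, 2],
  [1, 6, 2, 6, 6, 6, 6, 5, 0, 1, 0, 1, 1, 0, 1, 0],
  [3, 5, 4, 4, 2, 3, 3, 4, 0, 6, 5, 2, 1, 0, 5, 5],
  [4, 6, 2, 0, 6, 3, 0, 5, 6, 6, 3, 0, 6, 1, 0, 4],
  [0, 5, 2, 3, 2, 0, 4, 2, 2, 5, 6, 2, 2, 2, 5, 6],
  [6, 1, 0, 2, 6, 6, 5, 0, 5, 1, 2, 6, 6, 5, 1, 2],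
  [3, 1, 5, 5, 1, 4, 5, 2, 0, 1, 1, 1, 1, 0, 1, 6],
  [0, 5, 6, 4, 2, 0, 3, 6, 4, 1, 3, 0, 6, 4, 0, 3],
  [0, 2, 4, 4, 5, 0, 3, 4, 1, 2, 6, 5, 5, 1, 2, 6],
  [6, 5, 6, 5, 5, 1, 5, 1, 2, 4, 1, 0, 4, 5, 0, 6],
  [2, 0, 3, 5, 0, 2, 2, 3, 2, 6, 6, 0, 1, 2, 0, 6],
  [5, 1, 5, 5, 1, 2, 5, 2, 4, 5, 1, 3, 5, 3, 3, 6],
  [0, 1, 1, 4, 6, 0, 3, 1, 1, 2, 6, 6, 5, 1, 1, 6],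
  [0, 0, 1, 5, 0, 0, 2, 1, 4, 1, 3, 2, 6, 4, 5, 3],
  [4, 5, 4, 1, 5, 3, 1, 3, 5, 4, 4, 0, 4, 2, 0, 3],
  [0, 2, 2, 3, 5, 0, 4, 2, 0, 6, 6, 5, 1, 0, 2, 6],
  [1, 2, 5, 2, 2, 6, 2, 2, 5, 2, 2, 1, 2, 2, 1, 5],
  [0, 3, 1, 4, 3, 0, 4, 6, 4, 5, 2, 3, 5, 3, 3, 5],
  [6, 1, 4, 2, 6, 6, 5, 4, 2, 5, 2, 6, 2, 2, 1, 2],
  [4, 6, 5, 5, 6, 3, 5, 2, 5, 4, 6, 2, 4, 2, 2, 1],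
  [1, 1, 3, 1, 1, 6, 1, 4, 2, 4, 4, 2, 4, 5, 2, 3],
  [0, 1, 3, 0, 6, 0, 0, 3, 0, 0, 0, 6, 0, 0, 1, 0],
  [0, 1, 2, 3, 6, 0, 4, 2, 3, 2, 6, 6, 5, 3, 1, 6],
  [0, 3, 2, 2, 3, 0, 2, 5, 1, 4, 3, 2, 4, 6, 2, 4],
  [0, 5, 1, 5, 2, 0, 2, 1, 5, 4, 3, 0, 3, 5, 0, 3],
  [4, 6, 3, 1, 6, 3, 1, 4, 3, 3, 2, 5, 3, 4, 5, 5],
  [3, 1, 1, 3, 1, 4, 3, 6, 6, 6, 5, 6, 6, 1, 6, 2],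
  [0, 5, 0, 2, 2, 0, 5, 0, 1, 2, 6, 2, 5, 1, 5, 6],
  [3, 1, 6, 6, 1, 4, 6, 1, 4, 5, 0, 6, 5, 3, 6, 0],
  [5, 1, 4, 3, 1, 2, 3, 3, 1, 6, 1, 5, 6, 6, 5, 6],
  [3, 0, 1, 3, 0, 3, 4, 1, 3, 6, 0, 5, 1, 3, 2, 0],
  [1, 2, 3, 1, 2, 6, 1, 4, 6, 6, 6, 4, 6, 1, 4, 1],
  [0, 4, 2, 1, 3, 0, 6, 2, 6, 4, 0, 3, 3, 6, 4, 0],
  [1, 1, 1, 2, 1, 6, 2, 6, 1, 1, 4, 5, 1, 6, 5, 3],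
  [5, 3, 1, 3, 3, 2, 3, 6, 4, 2, 6, 6, 2, 3, 6, 1],
  [2, 6, 1, 4, 6, 5, 4, 6, 6, 3, 5, 5, 3, 1, 5, 2],
  [3, 0, 6, 2, 0, 3, 5, 6, 2, 3, 0, 5, 4, 2, 2, 0],
  [0, 1, 0, 0, 6, 0, 0, 0, 4, 4, 0, 6, 3, 4, 1, 0],
  [5, 6, 6, 6, 6, 2, 6, 1, 3, 3, 0, 0, 3, 4, 0, 0],
  [6, 6, 5, 0, 1, 6, 0, 5, 0, 2, 5, 6, 5, 0, 1, 5],
  [3, 2, 0, 3, 5, 3, 4, 0, 3, 4, 1, 0, 3, 3, 0, 1],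
  [3, 0, 4, 6, 0, 4, 6, 3, 0, 2, 3, 0, 2, 0, 0, 4],
  [6, 6, 6, 6, 1, 6, 1, 6, 2, 2, 5, 6, 5, 2, 1, 5],
  [1, 4, 3, 6, 4, 6, 6, 4, 3, 5, 3, 6, 5, 4, 6, 4],
  [6, 1, 4, 0, 1, 1, 0, 3, 3, 2, 1, 1, 2, 4, 1, 6],
  [2, 0, 4, 3, 0, 2, 4, 4, 6, 0, 2, 2, 0, 6, 5, 2],
  [2, 6, 2, 6, 6, 5, 6, 5, 2, 2, 5, 3, 2, 5, 3, 2],
  [3, 0, 3, 6, 0, 4, 6, 4, 5, 3, 6, 1, 3, 2, 1, 1],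
  [5, 3, 5, 6, 4, 5, 1, 5, 3, 3, 2, 4, 4, 3, 3, 2],
  [3, 1, 4, 6, 1, 4, 6, 3, 4, 4, 5, 2, 4, 3, 2, 2],
  [2, 0, 2, 1, 0, 2, 6, 2, 5, 1, 5, 0, 6, 5, 0, 5],
  [1, 5, 1, 6, 5, 6, 6, 6, 1, 0, 1, 0, 0, 6, 0, 6],
  [4, 2, 4, 4, 2, 3, 4, 3, 1, 3, 2, 1, 3, 6, 1, 5],
  [1, 2, 4, 1, 5, 1, 6, 4, 5, 5, 2, 0, 2, 5, 0, 2],
  [1, 4, 6, 3, 4, 6, 3, 1, 5, 3, 3, 6, 3, 2, 6, 4],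
  [0, 2, 6, 2, 5, 0, 5, 6, 2, 3, 4, 0, 4, 2, 0, 4],
  [1, 5, 6, 1, 2, 1, 6, 6, 1, 4, 6, 2, 3, 1, 5, 6],
  [4, 6, 1, 1, 6, 3, 1, 6, 3, 2, 0, 1, 2, 4, 1, 0],
  [5, 6, 3, 5, 1, 5, 2, 3, 4, 6, 2, 1, 1, 4, 6, 2],
  [2, 2, 2, 0, 2, 5, 0, 5, 4, 3, 5, 1, 3, 3, 1, 2],
  [1, 4, 0, 2, 4, 6, 2, 0, 1, 0, 6, 5, 0, 6, 5, 1],
  [5, 0, 3, 5, 0, 5, 2, 3, 1, 3, 2, 0, 4, 1, 0, 2],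
  [4, 2, 6, 2, 2, 3, 2, 1, 2, 2, 1, 5, 2, 5, 5, 6],
  [5, 1, 3, 4, 6, 5, 3, 3, 5, 4, 5, 4, 3, 5, 3, 5],
  [6, 1, 6, 3, 1, 1, 3, 1, 3, 5, 0, 4, 5, 4, 4, 0],
  [1, 0, 0, 4, 0, 1, 3, 0, 4, 3, 3, 2, 4, 4, 5, 3],
  [0, 3, 4, 1, 4, 0, 6, 4, 4, 2, 4, 2, 5, 4, 5, 4],
  [5, 6, 2, 6, 1, 5, 1, 2, 2, 6, 2, 1, 1, 2, 6, 2],
  [2, 3, 0, 0, 3, 5, 0, 0, 2, 5, 3, 2, 5, 5, 2, 4],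
  [2, 4, 3, 0, 3, 2, 0, 3, 6, 4, 5, 3, 3, 6, 4, 5],
  [5, 1, 6, 4, 6, 5, 3, 6, 1, 0, 5, 4, 0, 1, 3, 5],
  [1, 5, 1, 2, 2, 1, 5, 1, 2, 0, 6, 2, 0, 2, 5, 6],
  [3, 5, 0, 0, 5, 4, 0, 0, 1, 6, 5, 3, 6, 6, 3, 2],
  [6, 2, 0, 2, 2, 1, 2, 0, 3, 4, 5, 5, 4, 4, 5, 2],
  [6, 1, 3, 1, 6, 6, 6, 3, 2, 0, 1, 6, 0, 2, 1, 1],
  [2, 4, 2, 1, 3, 2, 6, 2, 4, 4, 5, 3, 3, 4, 4, 5],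
  [6, 5, 4, 4, 5, 1, 4, 3, 3, 1, 5, 3, 1, 4, 3, 2],
  [0, 4, 3, 6, 3, 0, 1, 3, 3, 5, 3, 5, 2, 3, 2, 3],
  [6, 6, 4, 6, 6, 1, 6, 3, 5, 3, 3, 5, 3, 2, 5, 4],
  [6, 1, 6, 1, 6, 6, 6, 6, 5, 3, 1, 6, 4, 5, 1, 1],
  [5, 5, 3, 6, 5, 2, 6, 4, 4, 1, 6, 2, 1, 3, 2, 1],
  [0, 2, 1, 3, 5, 0, 4, 1, 3, 6, 4, 0, 1, 3, 0, 4],
  [3, 5, 5, 2, 5, 4, 2, 2, 0, 0, 5, 3, 0, 0, 3, 2],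
  [2, 0, 4, 2, 0, 2, 5, 4, 6, 4, 5, 0, 3, 6, 0, 5],
  [5, 4, 3, 4, 4, 2, 4, 4, 0, 0, 4, 5, 0, 0, 5, 3],
  [2, 6, 1, 3, 1, 2, 4, 1, 6, 0, 2, 3, 0, 6, 4, 2],
  [5, 0, 5, 6, 0, 5, 1, 5, 2, 6, 2, 0, 1, 2, 0, 2],
  [1, 2, 2, 0, 5, 1, 0, 2, 4, 2, 2, 0, 5, 4, 0, 2],
  [0, 1, 2, 1, 1, 0, 1, 5, 3, 5, 5, 6, 5, 4, 6, 2],
  [5, 3, 4, 0, 4, 5, 0, 4, 1, 3, 2, 4, 4, 1, 3, 2],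
  [0, 4, 6, 3, 4, 0, 3, 1, 3, 2, 5, 4, 2, 4, 4, 2],
  [0, 6, 6, 1, 6, 0, 1, 1, 0, 1, 2, 6, 1, 0, 6, 5],
  [2, 6, 4, 3, 1, 2, 4, 4, 2, 3, 2, 3, 4, 2, 4, 2],
  [1, 1, 0, 3, 1, 6, 3, 0, 5, 4, 1, 6, 4, 2, 6, 6],
  [2, 5, 1, 3, 5, 5, 3, 6, 3, 3, 1, 3, 3, 4, 3, 6],
  [2, 1, 6, 6, 6, 2, 1, 6, 2, 2, 1, 1, 5, 2, 6, 1],
  [1, 0, 6, 6, 0, 6, 6, 1, 5, 4, 6, 4, 4, 2, 4, 1],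
  [6, 5, 3, 3, 2, 6, 4, 3, 6, 5, 0, 2, 2, 6, 5, 0],
  [5, 5, 4, 3, 2, 5, 4, 4, 6, 0, 5, 0, 0, 6, 0, 5],
  [0, 3, 1, 3, 3, 0, 3, 6, 5, 0, 0, 3, 0, 2, 3, 0],
  [3, 2, 6, 2, 5, 3, 5, 6, 3, 6, 0, 0, 1, 3, 0, 0],
  [6, 5, 5, 4, 2, 6, 3, 5, 0, 1, 0, 2, 6, 0, 5, 0],
  [5, 4, 2, 2, 4, 2, 2, 5, 4, 1, 4, 0, 1, 3, 0, 3],
  [2, 1, 5, 0, 6, 2, 0, 5, 0, 2, 1, 1, 5, 0, 6, 1],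
  [2, 3, 2, 1, 3, 5, 1, 5, 1, 1, 6, 6, 1, 6, 6, 1],
  [0, 6, 0, 0, 1, 0, 0, 0, 3, 3, 0, 1, 4, 3, 6, 0],
  [6, 2, 0, 5, 5, 6, 2, 0, 6, 5, 0, 5, 2, 6, 2, 0],
  [3, 5, 1, 5, 5, 4, 5, 6, 5, 5, 6, 2, 5, 2, 2, 1],
  [6, 0, 0, 3, 0, 6, 4, 0, 3, 4, 4, 5, 3, 3, 2, 4],
  [3, 1, 2, 2, 1, 4, 2, 5, 2, 3, 1, 5, 3, 5, 5, 6],
  [6, 6, 5, 4, 1, 6, 3, 5, 4, 5, 0, 1, 2, 4, 6, 0],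
  [0, 4, 5, 5, 4, 0, 5, 2, 6, 3, 4, 5, 3, 1, 5, 3],
  [6, 2, 5, 4, 5, 6, 3, 5, 5, 2, 0, 5, 5, 5, 2, 0],
  [1, 2, 3, 3, 2, 6, 3, 4, 4, 6, 2, 4, 6, 3, 4, 5],
  [3, 2, 3, 6, 2, 4, 6, 4, 2, 3, 3, 0, 3, 5, 0, 4],
  [0, 0, 2, 1, 0, 0, 6, 2, 1, 3, 0, 0, 4, 1, 0, 0],
  [2, 2, 4, 1, 2, 5, 1, 3, 3, 6, 1, 5, 6, 4, 5, 6],
  [2, 4, 6, 4, 4, 5, 4, 1, 3, 5, 1, 1, 5, 4, 1, 6],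
  [0, 0, 6, 2, 0, 0, 5, 6, 3, 6, 4, 5, 1, 3, 2, 4],
  [5, 6, 5, 0, 6, 2, 0, 2, 0, 6, 4, 1, 6, 0, 1, 3],
  [0, 1, 1, 6, 1, 0, 6, 6, 0, 6, 5, 1, 6, 0, 1, 2],
  [6, 5, 5, 0, 2, 6, 0, 5, 3, 5, 5, 0, 2, 3, 0, 5],
  [5, 1, 5, 1, 1, 2, 1, 2, 5, 5, 2, 4, 5, 2, 4, 5],
  [4, 6, 6, 4, 6, 3, 4, 1, 1, 1, 2, 1, 1, 6, 1, 5],
  [5, 1, 6, 3, 1, 2, 3, 1, 1, 4, 2, 2, 4, 6, 2, 5],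
  [6, 6, 6, 5, 6, 1, 5, 1, 6, 6, 3, 2, 6, 1, 2, 4],
  [2, 3, 3, 4, 4, 2, 3, 3, 5, 4, 2, 6, 3, 5, 1, 2],
  [6, 2, 1, 6, 5, 6, 1, 1, 6, 3, 1, 5, 4, 6, 2, 1],
  [0, 6, 4, 0, 1, 0, 0, 4, 0, 0, 0, 1, 0, 0, 6, 0],
  [1, 6, 1, 4, 6, 6, 4, 6, 4, 2, 0, 3, 2, 3, 3, 0],
  [5, 5, 5, 0, 5, 2, 0, 2, 3, 4, 2, 6, 4, 4, 6, 5],
  [1, 5, 2, 3, 2, 1, 4, 2, 2, 5, 0, 2, 2, 2, 5, 0],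
  [0, 6, 5, 6, 6, 0, 6, 2, 4, 2, 2, 1, 2, 3, 1, 5],
  [5, 1, 0, 2, 6, 5, 5, 0, 5, 1, 1, 6, 6, 5, 1, 1],
  [4, 0, 4, 1, 0, 3, 1, 3, 2, 4, 1, 6, 4, 5, 6, 6],
  [0, 5, 3, 3, 2, 0, 4, 3, 6, 5, 1, 2, 2, 6, 5, 1],
  [6, 2, 6, 5, 5, 6, 2, 6, 5, 0, 1, 5, 0, 5, 2, 1],
  [1, 1, 1, 4, 6, 1, 3, 1, 1, 2, 0, 6, 5, 1, 1, 0],
  [2, 3, 6, 4, 4, 2, 3, 6, 1, 0, 2, 6, 0, 1, 1, 2],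
  [3, 5, 3, 3, 5, 4, 3, 4, 6, 4, 5, 6, 4, 1, 6, 2],
  [6, 5, 3, 6, 2, 6, 1, 3, 2, 2, 5, 0, 5, 2, 0, 5],
  [5, 1, 4, 2, 6, 5, 5, 4, 2, 5, 1, 6, 2, 2, 1, 1],
  [0, 0, 5, 6, 0, 0, 1, 5, 6, 4, 0, 0, 3, 6, 0, 0],
  [1, 1, 2, 3, 6, 1, 4, 2, 3, 2, 0, 6, 5, 3, 1, 0],
  [0, 5, 5, 4, 2, 0, 3, 5, 0, 1, 1, 2, 6, 0, 5, 1],
  [2, 3, 4, 3, 3, 5, 3, 3, 0, 0, 3, 2, 0, 0, 2, 4],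
  [1, 5, 0, 2, 2, 1, 5, 0, 1, 2, 0, 2, 5, 1, 5, 0],
  [5, 4, 0, 0, 4, 2, 0, 0, 5, 2, 4, 5, 2, 2, 5, 3],
  [6, 6, 6, 3, 1, 6, 4, 6, 6, 5, 0, 1, 2, 6, 6, 0],
  [1, 2, 1, 2, 2, 6, 2, 6, 5, 3, 6, 0, 3, 2, 0, 1],
  [5, 0, 3, 4, 0, 5, 3, 3, 1, 0, 5, 5, 0, 1, 2, 5],
  [1, 0, 1, 5, 0, 6, 5, 6, 6, 0, 6, 1, 0, 1, 1, 1],
  [1, 0, 3, 5, 0, 1, 2, 3, 2, 6, 5, 0, 1, 2, 0, 5],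
  [4, 0, 5, 2, 0, 3, 2, 2, 6, 1, 0, 4, 1, 1, 4, 0],
  [0, 3, 0, 5, 3, 0, 5, 0, 1, 1, 6, 4, 1, 6, 4, 1],
  [6, 3, 2, 5, 3, 1, 5, 5, 6, 1, 3, 6, 1, 1, 6, 4],
  [5, 0, 4, 1, 0, 5, 6, 4, 5, 5, 6, 5, 2, 5, 2, 6],
  [1, 1, 2, 2, 1, 6, 2, 5, 6, 0, 1, 3, 0, 1, 3, 6],
  [0, 0, 1, 6, 0, 0, 6, 6, 3, 4, 3, 6, 4, 4, 6, 4],
  [1, 6, 2, 5, 6, 6, 5, 5, 1, 6, 6, 1, 6, 6, 1, 1],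
  [4, 2, 3, 6, 5, 4, 1, 3, 3, 5, 0, 3, 2, 3, 4, 0],
  [2, 5, 0, 5, 5, 5, 5, 0, 6, 4, 0, 4, 4, 1, 4, 0],
  [5, 0, 2, 0, 0, 5, 0, 2, 4, 2, 6, 5, 5, 4, 2, 6],
  [6, 3, 1, 6, 3, 1, 6, 6, 3, 4, 0, 0, 4, 4, 0, 0],
  [6, 3, 5, 2, 3, 1, 2, 2, 1, 6, 3, 6, 6, 6, 6, 4],
  [4, 0, 6, 4, 0, 4, 3, 6, 4, 1, 0, 2, 6, 4, 5, 0],
  [0, 6, 5, 4, 1, 0, 3, 5, 4, 5, 1, 1, 2, 4, 6, 1],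
  [1, 4, 2, 5, 4, 6, 5, 5, 6, 1, 4, 1, 1, 1, 1, 3],
  [1, 5, 0, 5, 5, 6, 5, 0, 4, 3, 2, 2, 3, 3, 2, 5],
  [2, 6, 2, 2, 6, 5, 2, 5, 3, 2, 6, 4, 2, 4, 4, 1],
  [4, 0, 1, 5, 0, 4, 2, 1, 5, 4, 0, 2, 3, 5, 5, 0],
  [6, 5, 4, 6, 5, 1, 6, 3, 1, 1, 1, 3, 1, 6, 3, 6],
  [4, 6, 2, 2, 6, 3, 2, 5, 0, 6, 6, 6, 6, 0, 6, 1],
  [6, 3, 1, 4, 3, 1, 4, 6, 2, 4, 4, 1, 4, 5, 1, 3],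
  [0, 3, 5, 6, 4, 0, 1, 5, 1, 3, 0, 4, 4, 1, 3, 0],
  [0, 6, 6, 3, 1, 0, 4, 6, 6, 5, 1, 1, 2, 6, 6, 1],
  [3, 1, 5, 0, 1, 4, 0, 2, 1, 1, 4, 0, 1, 6, 0, 3],
  [0, 2, 5, 4, 5, 0, 3, 5, 5, 2, 1, 5, 5, 5, 2, 1],
  [6, 2, 6, 1, 2, 1, 1, 1, 6, 0, 6, 0, 0, 1, 0, 1],
  [1, 6, 0, 5, 1, 1, 2, 0, 2, 6, 5, 1, 1, 2, 6, 5],
  [1, 6, 3, 5, 1, 1, 2, 3, 5, 2, 5, 1, 5, 5, 6, 5],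
  [0, 2, 0, 5, 5, 0, 2, 0, 6, 5, 1, 5, 2, 6, 2, 1],
  [5, 0, 4, 2, 0, 5, 5, 4, 5, 1, 1, 0, 6, 5, 0, 1],
  [6, 5, 2, 5, 5, 1, 5, 5, 2, 5, 5, 6, 5, 5, 6, 2],
  [2, 6, 3, 4, 6, 5, 4, 4, 6, 1, 6, 2, 1, 1, 2, 1],
  [6, 3, 0, 5, 3, 1, 5, 0, 6, 0, 1, 2, 0, 1, 2, 6],
  [1, 6, 4, 6, 1, 1, 1, 4, 5, 0, 6, 1, 0, 5, 6, 6],
  [1, 6, 1, 6, 1, 1, 1, 1, 2, 4, 6, 1, 3, 2, 6, 6],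
  [2, 1, 2, 0, 1, 5, 0, 5, 0, 1, 3, 6, 1, 0, 6, 4]]

end Cfsg.Agent.Recognition.CoverS5Data
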