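import Mathlib

/-!
Finite linear groups of degree four given by lists of natural numbers, checked by `decide`.
-/

set_option autoImplicit false

namespace Cfsg.Agent.Recognition.ListMatrix

open Matrix

/-- The matrix with the listed entries, row by row. -/
def toMat (r : ℕ) (l : List ℕ) : Matrix (Fin 4) (Fin 4) (ZMod r) :=
  Matrix.of fun i j => (l.getD (4 * i.1 + j.1) 0 : ZMod r)

/-- An entry of a product, before reduction. -/
def dot (a b : List ℕ) (i j : ℕ) : ℕ :=
  a.getD (4 * i) 0 * b.getD j 0 + a.getD (4 * i + 1) 0 * b.getD (4 + j) 0 +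
    a.getD (4 * i + 2) 0 * b.getD (8 + j) 0 + a.getD (4 * i + 3) 0 * b.getD (12 + j) 0

/-- Multiplication of listed matrices modulo `r`. -/
def mulM (r : ℕ) (a b : List ℕ) : List ℕ :=
  [dot a b 0 0 % r, dot a b 0 1 % r, dot a b 0 2 % r, dot a b 0 3 % r,
   dot a b 1 0 % r, dot a b 1 1 % r, dot a b 1 2 % r, dot a b 1 3 % r,
   dot a b 2 0 % r, dot a b 2 1 % r, dot a b 2 2 % r, dot a b 2 3 % r,
   dot a b 3 0 % r, dot a b 3 1 % r, dot a b 3 2 % r, dot a b 3 3 % r]

/-- Addition of listed matrices modulo `r`. -/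
def addM (r : ℕ) (a b : List ℕ) : List ℕ :=
  (List.range 16).map fun k => (a.getD k 0 + b.getD k 0) % r

def oneM : List ℕ := [1, 0, 0, 0, 0, 1, 0, 0, 0, 0, 1, 0, 0, 0, 0, 1]

def zeroM : List ℕ := [0, 0, 0, 0, 0, 0, 0, 0, 0, 0, 0, 0, 0, 0, 0, 0]

def negOneM (r : ℕ) : List ℕ :=
  [r - 1, 0, 0, 0, 0, r - 1, 0, 0, 0, 0, r - 1, 0, 0, 0, 0, r - 1]

/-- Powers. -/
def powM (r : ℕ) (a : List ℕ) : ℕ → List ℕ
  | 0 => oneM
  | n + 1 => mulM r (powM r a n) a

/-- `1 + a + … + a ^ n`. -/
def geomM (r : ℕ) (a : List ℕ) : ℕ → List ℕ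
  | 0 => oneM
  | n + 1 => addM r (geomM r a n) (powM r a (n + 1))

theorem toMat_mulM (r : ℕ) (a b : List ℕ) : toMat r (mulM r a b) = toMat r a * toMat r b := by
  ext i j
  fin_cases i <;> fin_cases j <;>
    simp [toMat, mulM, dot, Matrix.mul_apply, Fin.sum_univ_four]

theorem toMat_oneM (r : ℕ) : toMat r oneM = 1 := by
  ext i j
  fin_cases i <;> fin_cases j <;> simp [toMat, oneM]

theorem toMat_addM (r : ℕ) (a b : List ℕ) : toMat r (addM r a b) = toMat r a + toMat r b := by
  ext i j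
  fin_cases i <;> fin_cases j <;> simp [toMat, addM]

theorem toMat_powM (r : ℕ) (a : List ℕ) (n : ℕ) : toMat r (powM r a n) = toMat r a ^ n := by
  induction n with
  | zero => rw [powM, toMat_oneM, pow_zero]
  | succ n ih => rw [powM, toMat_mulM, ih, pow_succ]

theorem toMat_geomM (r : ℕ) (a : List ℕ) (n : ℕ) :
    toMat r (geomM r a n) = ∑ i ∈ Finset.range (n + 1), toMat r a ^ i := by
  induction n with
  | zero => simp [geomM, toMat_oneM]
  | succ n ih => rw [geomM, toMat_addM, ih, toMat_powM, ← Finset.sum_range_succ]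

theorem toMat_zeroM (r : ℕ) : toMat r zeroM = 0 := by
  ext i j
  fin_cases i <;> fin_cases j <;> simp [toMat, zeroM]

theorem toMat_negOneM (r : ℕ) [NeZero r] : toMat r (negOneM r) = -1 := by
  have h : ((r - 1 : ℕ) : ZMod r) = -1 := by
    rw [Nat.cast_sub (Nat.one_le_iff_ne_zero.2 (NeZero.ne r)), ZMod.natCast_self, Nat.cast_one,
      zero_sub]
  ext i j
  fin_cases i <;> fin_cases j <;> simp [toMat, negOneM, h]

/-- A unit from a listed matrix and a listed inverse. -/
def toGL (r : ℕ) (a a' : List ℕ) (h : mulM r a a' = oneM) (h' : mulM r a' a = oneM) :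
    GL (Fin 4) (ZMod r) :=
  ⟨toMat r a, toMat r a', by rw [← toMat_mulM, h, toMat_oneM],
    by rw [← toMat_mulM, h', toMat_oneM]⟩

/-- The list `L` contains the identity and is closed under left multiplication by both generators. -/
def closedList (r : ℕ) (L : List (List ℕ)) (a b : List ℕ) : Bool :=
  L.elem oneM && L.all fun c => L.elem (mulM r a c) && L.elem (mulM r b c)

theorem exists_mem_list {r : ℕ} [NeZero r] {L : List (List ℕ)} {a b : List ℕ}
    (hL : closedList r L a b = true) {x y g : GL (Fin 4) (ZMod r)}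
    (hx : x.1 = toMat r a) (hy : y.1 = toMat r b)
    (hg : g ∈ Subgroup.closure ({x, y} : Set (GL (Fin 4) (ZMod r)))) :
    ∃ c ∈ L, g.1 = toMat r c := by
  simp only [closedList, Bool.and_eq_true, List.all_eq_true, List.elem_iff] at hL
  have hg' : g ∈ Submonoid.closure ({x, y} : Set (GL (Fin 4) (ZMod r))) := by
    rwa [← Subgroup.mem_toSubmonoid, Subgroup.closure_toSubmonoid_of_finite] at hg
  induction hg' using Submonoid.closure_induction_left with
  | one => exact ⟨oneM, hL.1, by rw [toMat_oneM, Units.val_one]⟩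
  | mul_left z hz w hw ih =>
    obtain ⟨c, hc, he⟩ := ih (by rwa [← Subgroup.mem_toSubmonoid,
      Subgroup.closure_toSubmonoid_of_finite])
    rcases hz with rfl | rfl
    · exact ⟨_, (hL.2 c hc).1, by rw [Units.val_mul, he, hx, toMat_mulM]⟩
    · exact ⟨_, (hL.2 c hc).2, by rw [Units.val_mul, he, hy, toMat_mulM]⟩

end Cfsg.Agent.Recognition.ListMatrix
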