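import Mathlib
import Cfsg.Agent.Recognition.ListMatrix
import Cfsg.Agent.Recognition.CoverS5Data

/-!
The double cover `2.S5⁻` inside `GL(4, 7)`: element orders and fixed-point-free action.
-/

set_option autoImplicit false

namespace Cfsg.Agent.Recognition.CoverS5

open Matrix Cfsg.Agent.Recognition.ListMatrix Cfsg.Agent.Recognition.CoverS5Data

/-- First generator. -/
def gX : GL (Fin 4) (ZMod 7) := toGL 7 genX genX' (by decide +kernel) (by decide +kernel)

/-- Second generator. -/
def gY : GL (Fin 4) (ZMod 7) := toGL 7 genY genY' (by decide +kernel) (by decide +kernel)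

/-- The group `2.S5⁻`. -/
def grp : Subgroup (GL (Fin 4) (ZMod 7)) := Subgroup.closure {gX, gY}

/-- The value of a word. -/
def wordM : List Bool → List ℕ
  | [] => oneM
  | b :: w => mulM 7 (cond b genY genX) (wordM w)

/-- The value of a word in the group. -/
def wordG : List Bool → GL (Fin 4) (ZMod 7)
  | [] => 1
  | b :: w => cond b gY gX * wordG w

theorem wordG_mem : ∀ w, wordG w ∈ grp
  | [] => grp.one_mem
  | b :: w => by
    refine grp.mul_mem (Subgroup.subset_closure ?_) (wordG_mem w)
    cases b <;> simp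

theorem wordG_val : ∀ w, (wordG w).1 = toMat 7 (wordM w)
  | [] => by rw [wordG, wordM, toMat_oneM, Units.val_one]
  | b :: w => by
    rw [wordG, wordM, toMat_mulM, Units.val_mul, wordG_val w]
    cases b <;> rfl

theorem closed_elems : closedList 7 elems genX genY = true := by decide +kernel

/-- The test applied to each element. -/
def goodElt (c : List ℕ) : Bool :=
  c == oneM || (List.range 6).any (fun k => powM 7 c (k + 1) == negOneM 7) ||
    (geomM 7 c 2 == zeroM) || (geomM 7 c 4 == zeroM)

theorem elems_good : elems.all goodElt = true := by decide +kernel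

theorem cases_of_mem {g : GL (Fin 4) (ZMod 7)} (hg : g ∈ grp) :
    g = 1 ∨ (∃ k, 1 ≤ k ∧ k ≤ 6 ∧ g.1 ^ k = -1) ∨
      (∑ i ∈ Finset.range 3, g.1 ^ i) = 0 ∨ (∑ i ∈ Finset.range 5, g.1 ^ i) = 0 := by
  obtain ⟨c, hc, he⟩ := exists_mem_list closed_elems (x := gX) (y := gY) rfl rfl hg
  have h := List.all_eq_true.1 elems_good c hc
  simp only [goodElt, Bool.or_eq_true, beq_iff_eq, List.any_eq_true, List.mem_range] at h
  rcases h with ((h | ⟨k, hk, h⟩) | h) | h
  · exact Or.inl (Units.ext (by rw [he, h, toMat_oneM, Units.val_one]))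
  · exact Or.inr (Or.inl ⟨k + 1, by omega, by omega, by rw [he, ← toMat_powM, h, toMat_negOneM]⟩)
  · exact Or.inr (Or.inr (Or.inl (by rw [he, ← toMat_geomM, h, toMat_zeroM])))
  · exact Or.inr (Or.inr (Or.inr (by rw [he, ← toMat_geomM, h, toMat_zeroM])))

theorem pow_eq_one_of_sum {g : GL (Fin 4) (ZMod 7)} {n : ℕ}
    (h : (∑ i ∈ Finset.range n, g.1 ^ i) = 0) : g ^ n = 1 := by
  apply Units.ext
  have := geom_sum_mul g.1 n
  rw [h, zero_mul] at this
  rw [Units.val_pow_eq_pow_val, Units.val_one]
  exact (sub_eq_zero.1 this.symm)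

theorem fixed_eq_zero {g : GL (Fin 4) (ZMod 7)} (hg : g ∈ grp) (hne : g ≠ 1)
    (v : Fin 4 → ZMod 7) (hv : g.1.mulVec v = v) : v = 0 := by
  have hpow : ∀ i : ℕ, (g.1 ^ i).mulVec v = v := by
    intro i
    induction i with
    | zero => simp
    | succ i ih => rw [pow_succ, ← Matrix.mulVec_mulVec, hv, ih]
  have hsum : ∀ n : ℕ, (∑ i ∈ Finset.range n, g.1 ^ i).mulVec v = (n : ZMod 7) • v := by
    intro n
    rw [Matrix.sum_mulVec, Finset.sum_congr rfl (fun i _ => hpow i), Finset.sum_const,
      Finset.card_range, Nat.cast_smul_eq_nsmul]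
  have n2 : (2 : ZMod 7) ≠ 0 := by decide
  have n3 : ((3 : ℕ) : ZMod 7) ≠ 0 := by decide
  have n5 : ((5 : ℕ) : ZMod 7) ≠ 0 := by decide
  haveI := Fact.mk (show Nat.Prime 7 by norm_num)
  rcases cases_of_mem hg with h | ⟨k, -, -, h⟩ | h | h
  · exact absurd h hne
  · have h' := hpow k
    rw [h, Matrix.neg_mulVec, Matrix.one_mulVec] at h'
    funext i
    have h'' : (2 : ZMod 7) * v i = 0 := by
      have := congrFun h' i
      simp only [Pi.neg_apply] at this
      linear_combination -this
    exact (mul_eq_zero.1 h'').resolve_left n2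
  · have := hsum 3
    rw [h, Matrix.zero_mulVec] at this
    exact (smul_eq_zero.1 this.symm).resolve_left n3
  · have := hsum 5
    rw [h, Matrix.zero_mulVec] at this
    exact (smul_eq_zero.1 this.symm).resolve_left n5

theorem exists_orderOf (n : ℕ) (w : List Bool) (hn : 0 < n)
    (h1 : powM 7 (wordM w) n = oneM)
    (h2 : ∀ m < n, 0 < m → powM 7 (wordM w) m ≠ oneM)
    (h3 : ∀ m < n, 0 < m → toMat 7 (powM 7 (wordM w) m) = 1 → powM 7 (wordM w) m = oneM) :
    ∃ g : grp, orderOf g = n := by
  refine ⟨⟨wordG w, wordG_mem w⟩, ?_⟩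
  rw [← Subgroup.orderOf_coe, orderOf_eq_iff hn]
  refine ⟨Units.ext ?_, fun m hm hm0 h => h2 m hm hm0 (h3 m hm hm0 ?_)⟩
  · rw [Units.val_pow_eq_pow_val, wordG_val, ← toMat_powM, h1, toMat_oneM, Units.val_one]
  · rw [toMat_powM, ← wordG_val, ← Units.val_pow_eq_pow_val, h, Units.val_one]

theorem exists_orderOf_mem (n : ℕ) (hn : n ∈ [3, 4, 5, 6, 8, 10, 12]) :
    ∃ g : grp, orderOf g = n := by
  simp only [List.mem_cons, List.not_mem_nil, or_false] at hn
  rcases hn with rfl | rfl | rfl | rfl | rfl | rfl | rfl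
  · exact exists_orderOf 3 word3 (by norm_num) (by decide +kernel) (by decide +kernel) (by decide +kernel)
  · exact exists_orderOf 4 word4 (by norm_num) (by decide +kernel) (by decide +kernel) (by decide +kernel)
  · exact exists_orderOf 5 word5 (by norm_num) (by decide +kernel) (by decide +kernel) (by decide +kernel)
  · exact exists_orderOf 6 word6 (by norm_num) (by decide +kernel) (by decide +kernel) (by decide +kernel)
  · exact exists_orderOf 8 word8 (by norm_num) (by decide +kernel) (by decide +kernel) (by decide +kernel)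
  · exact exists_orderOf 10 word10 (by norm_num) (by decide +kernel) (by decide +kernel) (by decide +kernel)
  · exact exists_orderOf 12 word12 (by norm_num) (by decide +kernel) (by decide +kernel) (by decide +kernel)

/-- The central involution. -/
def zG : GL (Fin 4) (ZMod 7) := -1

theorem zG_mem : zG ∈ grp := by
  have h : wordG word4 ^ 2 = zG := Units.ext (by
    rw [Units.val_pow_eq_pow_val, wordG_val, ← toMat_powM,
      show powM 7 (wordM word4) 2 = negOneM 7 by decide +kernel, toMat_negOneM]
    rfl)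
  exact h ▸ grp.pow_mem (wordG_mem _) 2

end Cfsg.Agent.Recognition.CoverS5
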