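import Mathlib

/-!
Element orders in subgroups of three-dimensional special linear groups in characteristic three, by the
Cayley-Hamilton recurrence.
-/

set_option autoImplicit false

namespace Cfsg.Agent.Recognition.Cubic

open Matrix

variable {R : Type*} [CommRing R]

/-- The Cayley-Hamilton identity for three by three matrices. -/
theorem cayley_three (g : Matrix (Fin 3) (Fin 3) R) :
    g ^ 3 = g.trace • g ^ 2 - g.adjugate.trace • g + g.det • (1 : Matrix (Fin 3) (Fin 3) R) := by
  ext i j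
  fin_cases i <;> fin_cases j <;>
    simp [pow_succ, Matrix.mul_apply, Fin.sum_univ_three, Matrix.trace, Matrix.det_fin_three,
      Matrix.adjugate_fin_three] <;> ring

/-- The recurrence for the coefficients of the powers of a matrix of determinant one. -/
def step (a b : R) (c : R × R × R) : R × R × R := (c.2.2, c.1 - b * c.2.2, c.2.1 + a * c.2.2)

theorem pow_eq (g : Matrix (Fin 3) (Fin 3) R) (hg : g.det = 1) (n : ℕ) :
    g ^ n = ((step g.trace g.adjugate.trace)^[n] (1, 0, 0)).1 • (1 : Matrix (Fin 3) (Fin 3) R) +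
      ((step g.trace g.adjugate.trace)^[n] (1, 0, 0)).2.1 • g +
      ((step g.trace g.adjugate.trace)^[n] (1, 0, 0)).2.2 • g ^ 2 := by
  induction n with
  | zero => simp
  | succ n ih =>
    rw [Function.iterate_succ_apply', pow_succ, ih]
    generalize ((step g.trace g.adjugate.trace)^[n] (1, 0, 0)) = c
    simp only [step, add_mul, smul_mul_assoc, one_mul, ← pow_succ, ← pow_two]
    rw [cayley_three g, hg, one_smul]
    module

variable {K : Type*} [CommRing K]

theorem iterate_map (φ : K →+* R) (a b : K) (n : ℕ) :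
    (step (φ a) (φ b))^[n] (1, 0, 0) =
      (φ ((step a b)^[n] (1, 0, 0)).1, φ ((step a b)^[n] (1, 0, 0)).2.1, φ ((step a b)^[n] (1, 0, 0)).2.2) := by
  induction n with
  | zero => simp
  | succ n ih => rw [Function.iterate_succ_apply', Function.iterate_succ_apply', ih]; simp [step]

/-- A power of a special linear matrix is trivial once the recurrence says so. -/
theorem pow_eq_one (φ : K →+* R) (g : SpecialLinearGroup (Fin 3) R) (a b : K)
    (ha : φ a = g.1.trace) (hb : φ b = g.1.adjugate.trace) {n : ℕ}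
    (h : (step a b)^[n] (1, 0, 0) = (1, 0, 0)) : g ^ n = 1 := by
  refine Subtype.ext ((Matrix.SpecialLinearGroup.coe_pow g n).trans ?_)
  rw [pow_eq g.1 g.2, ← ha, ← hb, iterate_map, h]
  simp

/-- The images of three matrices which force the centre to be trivial. -/
def diag₁ : SpecialLinearGroup (Fin 3) R :=
  ⟨!![-1, 0, 0; 0, -1, 0; 0, 0, 1], by simp [Matrix.det_fin_three]⟩

/-- The second diagonal matrix. -/
def diag₂ : SpecialLinearGroup (Fin 3) R :=
  ⟨!![1, 0, 0; 0, -1, 0; 0, 0, -1], by simp [Matrix.det_fin_three]⟩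

/-- The permutation matrix. -/
def cyc : SpecialLinearGroup (Fin 3) R :=
  ⟨!![0, 1, 0; 0, 0, 1; 1, 0, 0], by simp [Matrix.det_fin_three]⟩

theorem center_eq_bot {F : Type*} [Field F] [CharP F 3] (S : Subgroup (SpecialLinearGroup (Fin 3) F))
    (h1 : diag₁ ∈ S) (h2 : diag₂ ∈ S) (h3 : cyc ∈ S) : Subgroup.center S = ⊥ := by
  haveI := Fact.mk Nat.prime_three
  rw [Subgroup.eq_bot_iff_forall]
  rintro ⟨z, hzS⟩ hz
  rw [Subgroup.mem_center_iff] at hz
  have e : ∀ d : SpecialLinearGroup (Fin 3) F, d ∈ S → ∀ i j, (d.1 * z.1) i j = (z.1 * d.1) i j := fun d hd i j =>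
    congrArg (fun x : S => x.1.1 i j) (hz ⟨d, hd⟩)
  have htwo : ∀ x : F, -x = x → x = 0 := fun x hx => by
    have h2x : (2 : F) * x = 0 := by linear_combination (-1 : F) * hx
    refine (mul_eq_zero.1 h2x).resolve_left fun h => ?_
    have h' : ((2 : ℕ) : F) = 0 := by simpa using h
    rw [CharP.cast_eq_zero_iff F 3] at h'
    omega
  have a02 := e _ h1 0 2
  have a12 := e _ h1 1 2
  have a20 := e _ h1 2 0
  have a21 := e _ h1 2 1
  have b01 := e _ h2 0 1
  have b10 := e _ h2 1 0
  have c01 := e _ h3 0 1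
  have c12 := e _ h3 1 2
  simp [diag₁, diag₂, cyc, Matrix.mul_apply, Fin.sum_univ_three] at a02 a12 a20 a21 b01 b10 c01 c12
  have z02 := htwo _ a02
  have z12 := htwo _ a12
  have z20 := htwo _ a20.symm
  have z21 := htwo _ a21.symm
  have z01 := htwo _ b01.symm
  have z10 := htwo _ b10
  have hdet := z.2
  rw [Matrix.det_fin_three, z02, z12, z20, z21, z01, z10] at hdet
  have hcube : (z.1 0 0 - 1) ^ 3 = 0 := by
    rw [sub_pow_char, one_pow, sub_eq_zero]
    rw [c12, c01] at hdet
    linear_combination hdet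
  have h00 : z.1 0 0 = 1 := sub_eq_zero.1 (pow_eq_zero_iff (n := 3) (by norm_num) |>.1 hcube)
  apply Subtype.ext
  apply Subtype.ext
  ext i j
  fin_cases i <;> fin_cases j <;>
    simp [z02, z12, z20, z21, z01, z10, h00, c12, c01]

/-- The set of element orders of a quotient by a trivial centre. -/
theorem range_orderOf_quotient {G : Type*} [Group G] (hZ : Subgroup.center G = ⊥) :
    Set.range (orderOf : G ⧸ Subgroup.center G → ℕ) = Set.range (orderOf : G → ℕ) := by
  have hinj : Function.Injective (QuotientGroup.mk' (Subgroup.center G)) := by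
    rw [← MonoidHom.ker_eq_bot_iff, QuotientGroup.ker_mk', hZ]
  ext n
  constructor
  · rintro ⟨x, rfl⟩
    obtain ⟨y, rfl⟩ := QuotientGroup.mk'_surjective _ x
    exact ⟨y, (orderOf_injective _ hinj y).symm⟩
  · rintro ⟨y, rfl⟩
    exact ⟨_, orderOf_injective _ hinj y⟩

/-- A spectrum generated by exponents and witnesses. -/
theorem range_orderOf_eq_divisors {G : Type*} [Group G] [Finite G] (L : List ℕ)
    (hall : ∀ g : G, ∃ N ∈ L, g ^ N = 1) (hex : ∀ N ∈ L, ∃ g : G, orderOf g = N) :
    Set.range (orderOf : G → ℕ) = {d | ∃ N ∈ L, d ∣ N ∧ N ≠ 0} := by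
  ext d
  constructor
  · rintro ⟨g, rfl⟩
    obtain ⟨N, hN, hg⟩ := hall g
    obtain ⟨h, hh⟩ := hex N hN
    exact ⟨N, hN, orderOf_dvd_of_pow_eq_one hg, hh ▸ (orderOf_pos h).ne'⟩
  · rintro ⟨N, hN, hd, hN0⟩
    obtain ⟨g, rfl⟩ := hex N hN
    exact ⟨g ^ (orderOf g / d), orderOf_pow_orderOf_div (orderOf_pos g).ne' hd⟩

theorem orderOf_eq_of_checks {G : Type*} [Monoid G] (g : G) (N : ℕ) (hN : 0 < N) (h : g ^ N = 1)
    (hmin : ∀ m, m < N → 0 < m → g ^ m ≠ 1) : orderOf g = N :=
  (orderOf_eq_iff hN).2 ⟨h, hmin⟩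

end Cfsg.Agent.Recognition.Cubic
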