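import Mathlib

/-!
# Normal subgroups of doubly transitive groups of degree two modulo four

A nontrivial normal subgroup contains, for any two points, an element exchanging them. On the
points fixed by a Sylow 2-subgroup of a point stabiliser such elements induce odd permutations,
while point stabilisers induce even ones; so only two points are fixed and the normal subgroup
is doubly transitive.
-/

set_option autoImplicit false

namespace Cfsg.Agent.Recognition.DegreeTwoModFour

open MulAction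

variable {G Ω : Type*} [Group G] [Finite G] [MulAction G Ω] [Finite Ω] [FaithfulSMul G Ω]

/-- a permutation of order two without fixed points on twice an odd number of points is odd -/
theorem sign_eq_neg_one {F : Type*} [Fintype F] [DecidableEq F] (σ : Equiv.Perm F)
    (h2 : σ * σ = 1) (hfree : ∀ y, σ y ≠ y) (hF : Fintype.card F % 4 = 2) :
    Equiv.Perm.sign σ = -1 := by
  haveI : Fact (Nat.Prime 2) := ⟨Nat.prime_two⟩
  obtain ⟨a⟩ : Nonempty F := Fintype.card_pos_iff.1 (by omega)
  have ho : orderOf σ = 2 := orderOf_eq_prime (by rw [pow_two, h2]) fun e => hfree a (by rw [e]; rfl)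
  obtain ⟨n, hn⟩ := Equiv.Perm.cycleType_prime_order (σ := σ) (ho.symm ▸ Nat.prime_two)
  rw [ho] at hn
  have hs : σ.support.card = (n + 1) * 2 := by
    rw [← Equiv.Perm.sum_cycleType, hn, Multiset.sum_replicate, smul_eq_mul]
  have hu : σ.support = Finset.univ := Finset.eq_univ_iff_forall.2 fun y => Equiv.Perm.mem_support.2 (hfree y)
  rw [hu, Finset.card_univ] at hs
  rw [Equiv.Perm.sign_of_cycleType, hn, Multiset.sum_replicate, Multiset.card_replicate, smul_eq_mul]
  exact Odd.neg_one_pow (Nat.odd_iff.2 (by omega))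

variable (h2 : IsMultiplyPretransitive G Ω 2) (hn : Nat.card Ω % 4 = 2)
variable (N : Subgroup G) [N.Normal] (hN : N ≠ ⊥)

include h2 hn hN in
omit [Finite G] in
/-- two points are exchanged by an element of a nontrivial normal subgroup -/
theorem exists_swap [Finite G] {x y : Ω} (hxy : x ≠ y) : ∃ g ∈ N, g • x = y ∧ g • y = x := by
  classical
  haveI := isPreprimitive_of_is_two_pretransitive h2
  haveI : IsPretransitive N Ω := by
    refine IsQuasiPreprimitive.isPretransitive_of_normal (G := G) fun hfix => hN ?_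
    refine (Subgroup.eq_bot_iff_forall _).2 fun g hg => eq_of_smul_eq_smul (α := Ω) fun z => ?_
    rw [one_smul]
    exact (hfix ▸ Set.mem_univ z : z ∈ fixedPoints N Ω) ⟨g, hg⟩
  haveI : Fact (Nat.Prime 2) := ⟨Nat.prime_two⟩
  have hd : 2 ∣ Nat.card N := by
    refine dvd_trans (show 2 ∣ Nat.card Ω by omega) ?_
    rw [← index_stabilizer_of_transitive (G := N) x]
    exact Subgroup.index_dvd_card _
  obtain ⟨⟨t, htN⟩, ht⟩ := exists_prime_orderOf_dvd_card' (G := N) 2 hd
  rw [← Subgroup.orderOf_coe] at ht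
  obtain ⟨z, hz⟩ : ∃ z : Ω, t • z ≠ z := by
    by_contra h
    push Not at h
    have : t = 1 := eq_of_smul_eq_smul (α := Ω) fun w => by rw [h w, one_smul]
    change orderOf t = 2 at ht
    rw [this, orderOf_one] at ht
    norm_num at ht
  have htt : t • t • z = z := by
    rw [← mul_smul, ← pow_two, show t ^ 2 = 1 from ht ▸ pow_orderOf_eq_one t, one_smul]
  obtain ⟨g, h1, h2'⟩ := (is_two_pretransitive_iff.1 h2) (Ne.symm hz) hxy
  refine ⟨g * t * g⁻¹, Subgroup.Normal.conj_mem inferInstance t htN g, ?_, ?_⟩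
  · rw [← h1, ← h2', mul_smul, mul_smul, inv_smul_smul]
  · rw [← h2', ← h1, mul_smul, mul_smul, inv_smul_smul, htt]

/-- conjugating back: two subgroups of the same order of full 2-part are conjugate -/
theorem exists_conj {A T T' : Subgroup G} (hT : T ≤ A) (hT' : T' ≤ A) (hp : IsPGroup 2 T)
    (hcard : Nat.card T' = Nat.card T) (hmax : ¬ 2 ∣ T.relIndex A) :
    ∃ k ∈ A, ∀ y : G, y ∈ T' ↔ k * y * k⁻¹ ∈ T := by
  haveI : Fact (Nat.Prime 2) := ⟨Nat.prime_two⟩
  have hmax' : ¬ 2 ∣ T'.relIndex A := by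
    have e1 := (T.subgroupOf A).card_mul_index
    have e2 := (T'.subgroupOf A).card_mul_index
    rw [Nat.card_congr (Subgroup.subgroupOfEquivOfLe hT).toEquiv] at e1
    rw [Nat.card_congr (Subgroup.subgroupOfEquivOfLe hT').toEquiv, hcard, ← e1] at e2
    have : T'.relIndex A = T.relIndex A := Nat.eq_of_mul_eq_mul_left Nat.card_pos e2
    rwa [this]
  have hp' : IsPGroup 2 T' := by
    obtain ⟨j, hj⟩ := IsPGroup.iff_card.1 hp
    exact IsPGroup.of_card (n := j) (hcard.trans hj)
  let P : Sylow 2 A := (hp.comap_of_injective A.subtype A.subtype_injective).toSylow hmax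
  let P' : Sylow 2 A := (hp'.comap_of_injective A.subtype A.subtype_injective).toSylow hmax'
  obtain ⟨⟨k, hk⟩, hkP⟩ := exists_smul_eq A P' P
  refine ⟨k, hk, fun y => ⟨fun hy => ?_, fun hy => ?_⟩⟩
  · have hmem : (⟨k, hk⟩ * ⟨y, hT' hy⟩ * ⟨k, hk⟩⁻¹ : A) ∈ ((⟨k, hk⟩ : A) • P' : Sylow 2 A) := by
      rw [Sylow.smul_def]
      exact ⟨⟨y, hT' hy⟩, hy, rfl⟩
    rw [hkP] at hmem
    exact hmem
  · have hyA : y ∈ A := by
      have := mul_mem (mul_mem (inv_mem hk) (hT hy)) hk
      simpa [mul_assoc] using this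
    have hmem : (⟨k, hk⟩ * ⟨y, hyA⟩ * ⟨k, hk⟩⁻¹ : A) ∈ P := hy
    rw [← hkP, Sylow.smul_def] at hmem
    obtain ⟨z, hz, e⟩ := hmem
    have : z = ⟨y, hyA⟩ := (MulAut.conj (⟨k, hk⟩ : A)).injective e
    rw [this] at hz
    exact hz

include h2 hn hN in
/-- a nontrivial normal subgroup is doubly transitive -/
theorem two_transitive : IsMultiplyPretransitive N Ω 2 := by
  classical
  haveI : Fintype Ω := Fintype.ofFinite Ω
  haveI : Fact (Nat.Prime 2) := ⟨Nat.prime_two⟩
  have hsw := fun {x y : Ω} (h : x ≠ y) => exists_swap h2 hn N hN h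
  haveI : IsPretransitive N Ω := ⟨fun x y => by
    by_cases h : x = y
    · exact ⟨1, by rw [one_smul, h]⟩
    · obtain ⟨g, hg, h1, -⟩ := hsw h
      exact ⟨⟨g, hg⟩, h1⟩⟩
  obtain ⟨a⟩ : Nonempty Ω := (Nat.card_pos_iff.1 (by omega)).1
  set A := N ⊓ stabilizer G a with hA
  obtain ⟨T₀⟩ : Nonempty (Sylow 2 A) := inferInstance
  set T := (T₀ : Subgroup A).map A.subtype with hTdef
  have hTA : T ≤ A := Subgroup.map_subtype_le _
  have hTp : IsPGroup 2 T := T₀.isPGroup'.map _
  have hTmax : ¬ 2 ∣ T.relIndex A := by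
    rw [Subgroup.relIndex, hTdef, Subgroup.subgroupOf, Subgroup.comap_map_eq_self_of_injective A.subtype_injective]
    exact T₀.not_dvd_index
  have hNA : Nat.card N = Nat.card Ω * Nat.card A := by
    rw [← index_stabilizer_of_transitive (G := N) a, mul_comm,
      ← (stabilizer N a).card_mul_index]
    congr 1
    have : stabilizer N a = A.subgroupOf N := by
      ext g
      exact ⟨fun h => ⟨g.2, h⟩, fun h => h.2⟩
    rw [this, Nat.card_congr (Subgroup.subgroupOfEquivOfLe (inf_le_left : A ≤ N)).toEquiv]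
  let R : Subgroup G := N ⊓ Subgroup.normalizer (T : Set G)
  let F : SubMulAction R Ω :=
    { carrier := {y | ∀ t ∈ T, t • y = y}
      smul_mem' := by
        rintro ⟨r, hr⟩ y hy t ht
        have h := hy (r⁻¹ * t * r) ((Subgroup.mem_normalizer_iff''.1 hr.2 t).1 ht)
        rw [mul_smul, mul_smul, inv_smul_eq_iff] at h
        exact h }
  haveI : Fintype F := Fintype.ofFinite F
  set φ := toPermHom R F
  have haF : ∀ t ∈ T, t • a = a := fun t ht => (hTA ht).2
  let a' : F := ⟨a, haF⟩
  -- exchanging two fixed points inside the normaliser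
  have hswap : ∀ x y : F, x ≠ y → ∃ r : R, r • x = y ∧ r • y = x := by
    intro x y hxy
    have hxy' : (x : Ω) ≠ y := fun e => hxy (Subtype.ext e)
    obtain ⟨g, hgN, hgx, hgy⟩ := hsw hxy'
    set B := N ⊓ stabilizer G (x : Ω) ⊓ stabilizer G (y : Ω)
    have hTB : T ≤ B := fun t ht => ⟨⟨(hTA ht).1, x.2 t ht⟩, y.2 t ht⟩
    have hT'B : T.map (MulAut.conj g).toMonoidHom ≤ B := by
      rintro _ ⟨t, ht, rfl⟩
      refine ⟨⟨Subgroup.Normal.conj_mem inferInstance t (hTA ht).1 g, ?_⟩, ?_⟩
      · show (g * t * g⁻¹) • (x : Ω) = x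
        rw [mul_smul, mul_smul, inv_smul_eq_iff.2 hgy.symm, y.2 t ht, hgy]
      · show (g * t * g⁻¹) • (y : Ω) = y
        rw [mul_smul, mul_smul, inv_smul_eq_iff.2 hgx.symm, x.2 t ht, hgx]
    have hBmax : ¬ 2 ∣ T.relIndex B := by
      intro h
      apply hTmax
      obtain ⟨h', hh', hh'x⟩ : ∃ k ∈ N, k • a = (x : Ω) := by
        obtain ⟨k, hk⟩ := exists_smul_eq N a (x : Ω)
        exact ⟨k, k.2, hk⟩
      have hB : Nat.card B ∣ Nat.card A := by
        have hle : B.map (MulAut.conj h'⁻¹).toMonoidHom ≤ A := by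
          rintro _ ⟨b, hb, rfl⟩
          refine ⟨Subgroup.Normal.conj_mem inferInstance b hb.1.1 _, ?_⟩
          show (h'⁻¹ * b * (h'⁻¹)⁻¹) • a = a
          rw [inv_inv, mul_smul, mul_smul, hh'x, (hb.1.2 : b • (x : Ω) = x), inv_smul_eq_iff, hh'x]
        have := Subgroup.card_dvd_of_le hle
        rwa [Subgroup.card_map_of_injective (MulAut.conj h'⁻¹).injective] at this
      have e1 := (T.subgroupOf A).card_mul_index
      have e2 := (T.subgroupOf B).card_mul_index
      rw [Nat.card_congr (Subgroup.subgroupOfEquivOfLe hTA).toEquiv] at e1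
      rw [Nat.card_congr (Subgroup.subgroupOfEquivOfLe hTB).toEquiv] at e2
      rw [← e1, ← e2] at hB
      exact h.trans (Nat.dvd_of_mul_dvd_mul_left Nat.card_pos hB)
    obtain ⟨k, hk, hkT⟩ := exists_conj hTB hT'B hTp
      (Subgroup.card_map_of_injective (MulAut.conj g).injective) hBmax
    have hkg : k * g ∈ R := by
      refine ⟨mul_mem hk.1.1 hgN, Subgroup.mem_normalizer_iff.2 fun t => ?_⟩
      rw [show k * g * t * (k * g)⁻¹ = k * (g * t * g⁻¹) * k⁻¹ by group, ← hkT]
      constructor
      · exact fun ht => ⟨t, ht, rfl⟩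
      · rintro ⟨s, hs, e⟩
        rwa [← (MulAut.conj g).injective e]
    refine ⟨⟨k * g, hkg⟩, Subtype.ext ?_, Subtype.ext ?_⟩
    · show (k * g) • (x : Ω) = y
      rw [mul_smul, hgx]; exact hk.2
    · show (k * g) • (y : Ω) = x
      rw [mul_smul, hgy]; exact hk.1.2
  haveI : IsPretransitive R F := ⟨fun x y => by
    by_cases h : x = y
    · exact ⟨1, by rw [one_smul, h]⟩
    · obtain ⟨r, hr, -⟩ := hswap x y h
      exact ⟨r, hr⟩⟩
  -- the kernel contains `T`
  have hTR : T ≤ R := le_inf (hTA.trans inf_le_left) Subgroup.le_normalizer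
  have hTker : T.subgroupOf R ≤ φ.ker := fun t ht => by
    refine Equiv.ext fun y => Subtype.ext ?_
    exact y.2 t ht
  have hstab : ∀ (x : F) (r : R), r • x = x → Odd (orderOf (φ r)) := by
    intro x r hr
    rw [← Nat.not_even_iff_odd, even_iff_two_dvd]
    intro hd
    obtain ⟨k, hk, hkx⟩ : ∃ k ∈ N, k • (x : Ω) = a := by
      obtain ⟨k, hk⟩ := exists_smul_eq N (x : Ω) a
      exact ⟨k, k.2, hk⟩
    set S := stabilizer R x
    have hTS : T.subgroupOf R ≤ S := fun t ht => Subtype.ext (x.2 t ht)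
    have hcard : Nat.card S ∣ Nat.card A := by
      have hle : (S.map R.subtype).map (MulAut.conj k).toMonoidHom ≤ A := by
        rintro _ ⟨_, ⟨s, hs, rfl⟩, rfl⟩
        refine ⟨Subgroup.Normal.conj_mem inferInstance _ s.2.1 k, ?_⟩
        show (k * (s : G) * k⁻¹) • a = a
        rw [mul_smul, mul_smul, inv_smul_eq_iff.2 hkx.symm,
          show (s : G) • (x : Ω) = x from congrArg Subtype.val hs, hkx]
      have := Subgroup.card_dvd_of_le hle
      rwa [Subgroup.card_map_of_injective (MulAut.conj k).injective,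
        Subgroup.card_map_of_injective R.subtype_injective] at this
    apply hTmax
    have hd2 : 2 ∣ Nat.card (S.map φ) := by
      exact hd.trans ((dvd_of_eq (Subgroup.orderOf_coe (⟨φ r, r, hr, rfl⟩ : S.map φ))).trans (orderOf_dvd_natCard _))
    set ψ := φ.comp S.subtype
    have hψ : Nat.card (S.map φ) * Nat.card ψ.ker = Nat.card S := by
      rw [← show ψ.range = S.map φ by rw [MonoidHom.range_comp, Subgroup.range_subtype],
        ← Subgroup.index_ker, mul_comm]
      exact ψ.ker.card_mul_index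
    have hTker' : Nat.card T ∣ Nat.card ψ.ker := by
      rw [← Nat.card_congr (Subgroup.subgroupOfEquivOfLe hTR).toEquiv,
        ← Nat.card_congr (Subgroup.subgroupOfEquivOfLe hTS).toEquiv]
      exact Subgroup.card_dvd_of_le fun t ht => hTker ht
    have e1 := (T.subgroupOf A).card_mul_index
    rw [Nat.card_congr (Subgroup.subgroupOfEquivOfLe hTA).toEquiv] at e1
    refine Nat.dvd_of_mul_dvd_mul_left (Nat.card_pos (α := T)) ?_
    show Nat.card T * 2 ∣ Nat.card T * (T.subgroupOf A).index
    rw [e1, mul_comm]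
    exact (mul_dvd_mul hd2 hTker').trans (hψ ▸ hcard)
  -- the fixed points
  have hfmod : Nat.card F % 4 = 2 := by
    have heven : Nat.card F % 2 = 0 := by
      have h := hTp.card_modEq_card_fixedPoints (α := Ω)
      have e : Nat.card (fixedPoints T Ω) = Nat.card F :=
        Nat.card_congr (Equiv.setCongr (Set.ext fun y => ⟨fun h t ht => h ⟨t, ht⟩, fun h t => h t t.2⟩))
      rw [e] at h
      unfold Nat.ModEq at h
      omega
    have h4 : ¬ 4 ∣ Nat.card F := by
      intro h4
      have h := (stabilizer R a').card_mul_index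
      rw [index_stabilizer_of_transitive] at h
      have h5 : Nat.card T * 4 ∣ Nat.card N := by
        refine dvd_trans ?_ ((dvd_of_eq h).trans (Subgroup.card_dvd_of_le (inf_le_left : R ≤ N)))
        refine mul_dvd_mul ?_ h4
        rw [← Nat.card_congr (Subgroup.subgroupOfEquivOfLe hTR).toEquiv]
        exact Subgroup.card_dvd_of_le fun t ht => Subtype.ext (haF t ht)
      have e1 := (T.subgroupOf A).card_mul_index
      rw [Nat.card_congr (Subgroup.subgroupOfEquivOfLe hTA).toEquiv] at e1
      rw [hNA, ← e1, mul_left_comm] at h5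
      have h6 := Nat.dvd_of_mul_dvd_mul_left Nat.card_pos h5
      have hodd : Nat.Coprime 4 (T.subgroupOf A).index :=
        Nat.Coprime.pow_left 2 (Nat.prime_two.coprime_iff_not_dvd.2 hTmax)
      have := hodd.dvd_of_dvd_mul_right h6
      omega
    omega
  have hsign : ∀ (x y : F) (r : R), x ≠ y → r • x = y → r • y = x → Equiv.Perm.sign (φ r) = -1 := by
    intro x y r hxy hrx hry
    have hrr : (r * r) • x = x := by rw [mul_smul, hrx, hry]
    set k := orderOf (φ (r * r))
    have hk : Odd k := hstab x _ hrr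
    have hfix : ∀ n : ℕ, (r * r) ^ n • x = x := fun n => (stabilizer R x).pow_mem hrr n
    have hσ : Equiv.Perm.sign (φ (r ^ k)) = Equiv.Perm.sign (φ r) := by
      rw [map_pow, map_pow]
      rcases Int.units_eq_one_or (Equiv.Perm.sign (φ r)) with e | e
      · rw [e, one_pow]
      · rw [e, hk.neg_one_pow]
    have hsq : φ (r ^ k) * φ (r ^ k) = 1 := by
      rw [← map_mul, ← (Commute.refl r).mul_pow, map_pow, pow_orderOf_eq_one]
    have hkx : r ^ k • x = y := by
      obtain ⟨j, hj⟩ := hk
      rw [hj, pow_succ, mul_smul, hrx, pow_mul, pow_two]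
      exact (stabilizer R y).pow_mem (show r * r ∈ stabilizer R y by
        rw [mem_stabilizer_iff, mul_smul, hry, hrx]) j
    rw [← hσ]
    refine sign_eq_neg_one _ hsq (fun z hz => ?_) (by rw [← Nat.card_eq_fintype_card, hfmod])
    have ho := hstab z (r ^ k) hz
    have h2' : orderOf (φ (r ^ k)) ∣ 2 := orderOf_dvd_of_pow_eq_one (by rw [pow_two, hsq])
    have h1 : φ (r ^ k) = 1 := by
      rw [← orderOf_eq_one_iff]
      rcases (Nat.dvd_prime Nat.prime_two).1 h2' with e | e
      · exact e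
      · rw [e] at ho
        exact absurd ho (by decide)
    exact hxy ((Equiv.congr_fun h1 x).symm.trans hkx)
  have htwo : ∀ x y z : F, x ≠ y → x ≠ z → y ≠ z → False := by
    intro x y z hxy hxz hyz
    obtain ⟨r, hr1, hr2⟩ := hswap x y hxy
    obtain ⟨r', hr1', hr2'⟩ := hswap y z hyz
    obtain ⟨r'', hr1'', hr2''⟩ := hswap x z hxz
    have hfix : (r'' * r' * r) • x = x := by rw [mul_smul, mul_smul, hr1, hr1', hr2'']
    have heven : Equiv.Perm.sign (φ (r'' * r' * r)) = 1 := by
      have hk := hstab x _ hfix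
      have h := congrArg Equiv.Perm.sign (pow_orderOf_eq_one (φ (r'' * r' * r)))
      rw [map_pow, map_one] at h
      rcases Int.units_eq_one_or (Equiv.Perm.sign (φ (r'' * r' * r))) with e | e
      · exact e
      · rw [e, hk.neg_one_pow] at h
        exact absurd h (by decide)
    rw [map_mul, map_mul, map_mul, map_mul, hsign x z r'' hxz hr1'' hr2'', hsign y z r' hyz hr1' hr2',
      hsign x y r hxy hr1 hr2] at heven
    exact absurd heven (by decide)
  -- conclusion
  obtain ⟨b, hba⟩ : ∃ b : F, b ≠ a' := by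
    haveI : Nontrivial F := Finite.one_lt_card_iff_nontrivial.1 (by omega)
    exact exists_ne a'
  have hbaΩ : (b : Ω) ≠ a := fun e => hba (Subtype.ext e)
  have horb : ∀ y : Ω, y ≠ a → ∃ k : A, (k : G) • y = b := by
    intro y hy
    obtain ⟨h, hha, hhb⟩ := (is_two_pretransitive_iff.1 h2) hbaΩ.symm hy.symm
    have hT'A : T.map (MulAut.conj h).toMonoidHom ≤ A := by
      rintro _ ⟨t, ht, rfl⟩
      refine ⟨Subgroup.Normal.conj_mem inferInstance t (hTA ht).1 h, ?_⟩
      show (h * t * h⁻¹) • a = a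
      rw [mul_smul, mul_smul, inv_smul_eq_iff.2 hha.symm, haF t ht, hha]
    obtain ⟨k, hk, hkT⟩ := exists_conj hTA hT'A hTp
      (Subgroup.card_map_of_injective (MulAut.conj h).injective) hTmax
    have hfixed : ∀ t ∈ T, t • k • y = k • y := by
      intro t ht
      have hm : k⁻¹ * t * k ∈ T.map (MulAut.conj h).toMonoidHom :=
        (hkT _).2 (by simpa [mul_assoc] using ht)
      obtain ⟨s, hs, e⟩ := hm
      have he : t = k * (h * s * h⁻¹) * k⁻¹ := by
        rw [show h * s * h⁻¹ = k⁻¹ * t * k from e]; group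
      rw [he, mul_smul, mul_smul, inv_smul_smul, mul_smul, mul_smul, inv_smul_eq_iff.2 hhb.symm,
        b.2 s hs, hhb]
    refine ⟨⟨k, hk⟩, ?_⟩
    by_contra hne
    refine htwo a' b ⟨k • y, hfixed⟩ hba.symm (fun e => ?_) (fun e => hne (congrArg Subtype.val e).symm)
    have e' : a = k • y := congrArg Subtype.val e
    exact hy (MulAction.injective k (e'.symm.trans (hk.2 : k • a = a).symm))
  rw [is_two_pretransitive_iff]
  intro x y x' y' hxy hxy'
  have hto : ∀ x y : Ω, x ≠ y → ∃ g : N, g • x = a ∧ g • y = (b : Ω) := by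
    intro x y hxy
    obtain ⟨g, hg⟩ := exists_smul_eq N x a
    obtain ⟨⟨k, hk⟩, hky⟩ := horb (g • y) fun e => hxy (MulAction.injective g (hg.trans e.symm))
    refine ⟨⟨k, hk.1⟩ * g, ?_, ?_⟩
    · rw [mul_smul, hg]; exact hk.2
    · rw [mul_smul]; exact hky
  obtain ⟨g, h1, h2'⟩ := hto x y hxy
  obtain ⟨g', h1', h2''⟩ := hto x' y' hxy'
  exact ⟨g'⁻¹ * g, by rw [mul_smul, h1, inv_smul_eq_iff, h1'], by rw [mul_smul, h2', inv_smul_eq_iff, h2'']⟩

include h2 hn in
omit N [N.Normal] in
/-- the minimal normal subgroup -/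
theorem exists_socle (hn2 : 2 < Nat.card Ω) :
    ∃ M : Subgroup G, M.Normal ∧ M ≠ ⊥ ∧ (∀ L : Subgroup G, L.Normal → L ≠ ⊥ → M ≤ L) ∧
      Subgroup.centralizer (M : Set G) = ⊥ := by
  classical
  haveI := isPretransitive_of_is_two_pretransitive (G := G) (α := Ω)
  have key : ∀ L K : Subgroup G, L.Normal → K.Normal → L ≠ ⊥ → K ≠ ⊥ →
      ¬ (∀ l ∈ L, ∀ k ∈ K, l * k = k * l) := by
    intro L K hL hK hL1 hK1 hcomm
    haveI := two_transitive h2 hn L hL1
    haveI := two_transitive h2 hn K hK1
    haveI := isPretransitive_of_is_two_pretransitive (G := K) (α := Ω)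
    obtain ⟨x, y, hxy⟩ : ∃ x y : Ω, x ≠ y := by
      haveI : Nontrivial Ω := Finite.one_lt_card_iff_nontrivial.1 (by omega)
      exact exists_pair_ne Ω
    obtain ⟨z, hzx, hzy⟩ : ∃ z, z ≠ x ∧ z ≠ y := by
      haveI := Fintype.ofFinite Ω
      by_contra h
      push Not at h
      have h1 : (Finset.univ : Finset Ω) ⊆ {x, y} := fun c _ => by
        by_cases hc : c = x
        · simp [hc]
        · simp [h c hc]
      have h2' := (Finset.card_le_card h1).trans Finset.card_le_two
      rw [Finset.card_univ, ← Nat.card_eq_fintype_card] at h2'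
      omega
    obtain ⟨l, hl1, hl2⟩ := (is_two_pretransitive_iff.1 (two_transitive h2 hn L hL1)) hxy hzx.symm
    obtain ⟨k, hk⟩ := exists_smul_eq K x y
    have h3 : (l : G) • (k : G) • x = (k : G) • (l : G) • x := by
      rw [← mul_smul, ← mul_smul, hcomm l l.2 k k.2]
    change l • k • x = (k : G) • (l : G) • x at h3
    rw [hk, hl2, show (l : G) • x = x from hl1] at h3
    exact hzy (h3.trans hk)
  obtain ⟨M, ⟨hM, hM1⟩, hmin⟩ := WellFounded.has_min (IsWellFounded.wf (r := ((· < ·) : Subgroup G → Subgroup G → Prop)))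
    {L : Subgroup G | L.Normal ∧ L ≠ ⊥} ⟨⊤, inferInstance, fun h => by
      obtain ⟨x, y, hxy⟩ : ∃ x y : Ω, x ≠ y := by
        haveI : Nontrivial Ω := Finite.one_lt_card_iff_nontrivial.1 (by omega)
        exact exists_pair_ne Ω
      obtain ⟨g, hg⟩ := exists_smul_eq G x y
      have : g = 1 := Subgroup.mem_bot.1 (h ▸ Subgroup.mem_top g)
      rw [this, one_smul] at hg
      exact hxy hg⟩
  refine ⟨M, hM, hM1, fun L hL hL1 => ?_, ?_⟩
  · by_contra hle
    refine key M L hM hL hM1 hL1 fun m hm l hl => ?_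
    have hbot : M ⊓ L = ⊥ := by
      by_contra hne
      exact hmin (M ⊓ L) ⟨Subgroup.normal_inf_normal M L, hne⟩
        (lt_of_le_of_ne inf_le_left fun e => hle (inf_eq_left.1 e))
    exact Subgroup.commute_of_normal_of_disjoint M L hM hL (disjoint_iff.2 hbot) m l hm hl
  · by_contra hne
    haveI := hM
    exact key M _ hM inferInstance hM1 hne fun m hm c hc => hc m hm

end Cfsg.Agent.Recognition.DegreeTwoModFour
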