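import Mathlib

/-!
Primitive groups whose derangements form one conjugacy class and which have no simple socle.
-/

set_option autoImplicit false

namespace Cfsg.Agent.Recognition.DerangementClass

open MulAction

/-- A subgroup meeting every conjugacy class is everything. -/
theorem eq_top_of_meets_classes {M : Type*} [Group M] [Finite M] (A : Subgroup M)
    (h : ∀ x, ∃ m, m * x * m⁻¹ ∈ A) : A = ⊤ := by
  classical
  by_contra hA
  haveI : Fintype M := Fintype.ofFinite M
  haveI : Fintype (M ⧸ A) := Fintype.ofFinite _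
  haveI : Fintype (Quotient (orbitRel M (M ⧸ A))) := Fintype.ofFinite _
  have hpos : ∀ x : M, 1 ≤ Fintype.card (fixedBy (M ⧸ A) x) := by
    intro x
    obtain ⟨m, hm⟩ := h x
    refine Fintype.card_pos_iff.2 ⟨⟨((m⁻¹ : M) : M ⧸ A), ?_⟩⟩
    rw [mem_fixedBy]
    refine QuotientGroup.eq.2 ?_
    have := A.inv_mem hm
    simpa [mul_assoc] using this
  have h1 : Fintype.card (fixedBy (M ⧸ A) (1 : M)) = Fintype.card (M ⧸ A) :=
    Fintype.card_congr (Equiv.subtypeUnivEquiv fun q => one_smul M q)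
  have h2 : 2 ≤ Fintype.card (M ⧸ A) := by
    rw [← Nat.card_eq_fintype_card]
    have h0 : A.index ≠ 0 := Subgroup.index_ne_zero_of_finite
    have h1 : A.index ≠ 1 := fun e => hA (Subgroup.index_eq_one.1 e)
    change 2 ≤ A.index
    omega
  have hsum := sum_card_fixedBy_eq_card_orbits_mul_card_group M (M ⧸ A)
  have horb : Fintype.card (Quotient (orbitRel M (M ⧸ A))) = 1 := by
    rw [Fintype.card_eq_one_iff_nonempty_unique]
    have := (pretransitive_iff_subsingleton_quotient M (M ⧸ A)).1 inferInstance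
    exact ⟨uniqueOfSubsingleton (Quotient.mk'' ((1 : M) : M ⧸ A))⟩
  rw [horb, one_mul] at hsum
  have hlt : ∑ _x : M, 1 < ∑ x : M, Fintype.card (fixedBy (M ⧸ A) x) :=
    Finset.sum_lt_sum (fun x _ => hpos x) ⟨1, Finset.mem_univ _, by omega⟩
  rw [hsum] at hlt
  simp at hlt

/-- A group whose nonidentity elements are conjugate to each other has a centre containing everything. -/
theorem isPGroup_of_orderOf_eq {M : Type*} [Group M] [Finite M] [Nontrivial M] (q : ℕ)
    (h : ∀ x : M, x ≠ 1 → orderOf x = q) : q.Prime ∧ IsPGroup q M := by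
  obtain ⟨x, hx⟩ := exists_ne (1 : M)
  have hq1 : q ≠ 1 := h x hx ▸ fun e => hx (orderOf_eq_one_iff.1 e)
  haveI := Fact.mk (Nat.minFac_prime hq1)
  obtain ⟨z, hz⟩ := exists_prime_orderOf_dvd_card' (G := M) q.minFac
    ((Nat.minFac_dvd q).trans (h x hx ▸ orderOf_dvd_natCard x))
  have hzq : q = q.minFac := by
    rw [← hz]
    exact (h z fun e => (Nat.minFac_prime hq1).ne_one (by rw [← hz, e, orderOf_one])).symm
  refine ⟨hzq ▸ Nat.minFac_prime hq1, fun y => ⟨1, ?_⟩⟩
  rw [pow_one]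
  rcases eq_or_ne y 1 with rfl | hy
  · exact one_pow q
  · exact h y hy ▸ pow_orderOf_eq_one y

variable {G : Type*} [Group G] [Finite G] {Ω : Type*} [Fintype Ω] [MulAction G Ω]

/-- Orbit counting for a transitive action. -/
theorem sum_fix (hne : Nonempty Ω) [IsPretransitive G Ω] [Fintype G] :
    ∑ g : G, Nat.card (fixedBy Ω g) = Nat.card G := by
  classical
  haveI : Fintype (Quotient (orbitRel G Ω)) := Fintype.ofFinite _
  have hsum := sum_card_fixedBy_eq_card_orbits_mul_card_group G Ω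
  have horb : Fintype.card (Quotient (orbitRel G Ω)) = 1 := by
    rw [Fintype.card_eq_one_iff_nonempty_unique]
    have := (pretransitive_iff_subsingleton_quotient G Ω).1 inferInstance
    exact ⟨uniqueOfSubsingleton (Quotient.mk'' hne.some)⟩
  simpa [horb, ← Nat.card_eq_fintype_card] using hsum

/-- A sharply 2-transitive group has one class of derangements. -/
theorem one_class_of_sharp (hΩ : 2 ≤ Fintype.card Ω) (h2 : IsMultiplyPretransitive G Ω 2)
    (hsh : ∀ g : G, g ≠ 1 → ∀ a b : Ω, a ≠ b → g • a = a → g • b ≠ b) :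
    (∃ d : G, ∀ ω : Ω, d • ω ≠ ω) ∧
      ∀ d e : G, (∀ ω : Ω, d • ω ≠ ω) → (∀ ω : Ω, e • ω ≠ ω) → IsConj d e := by
  classical
  haveI : Fintype G := Fintype.ofFinite G
  rw [is_two_pretransitive_iff] at h2
  obtain ⟨a, b, hab⟩ := Fintype.exists_pair_of_one_lt_card (show 1 < Fintype.card Ω by omega)
  haveI : IsPretransitive G Ω := ⟨fun x y => by
    obtain ⟨x', hx'⟩ := Fintype.exists_ne_of_one_lt_card (show 1 < Fintype.card Ω by omega) x
    obtain ⟨y', hy'⟩ := Fintype.exists_ne_of_one_lt_card (show 1 < Fintype.card Ω by omega) y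
    obtain ⟨g, hg, -⟩ := h2 hx'.symm hy'.symm
    exact ⟨g, hg⟩⟩
  have hex : ∃ d : G, ∀ ω : Ω, d • ω ≠ ω := by
    by_contra h
    push_neg at h
    have htop := eq_top_of_meets_classes (stabilizer G a) fun x => by
      obtain ⟨c, hc⟩ := h x
      obtain ⟨m, hm⟩ := exists_smul_eq G c a
      refine ⟨m, ?_⟩
      rw [mem_stabilizer_iff, ← hm, mul_smul, mul_smul, inv_smul_smul, hc]
    obtain ⟨g, hg⟩ := exists_smul_eq G a b
    exact hab ((mem_stabilizer_iff.1 (htop ▸ Subgroup.mem_top g)).symm.trans hg)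
  refine ⟨hex, fun d e hd he => ?_⟩
  set D : Finset G := Finset.univ.filter fun g => ∀ ω : Ω, g • ω ≠ ω with hD
  set n := Fintype.card Ω with hn
  -- the number of derangements
  have hcount : D.card + 1 = n := by
    have hsum := sum_fix (G := G) ⟨a⟩
    rw [← Finset.sum_filter_add_sum_filter_not Finset.univ (fun g : G => ∀ ω : Ω, g • ω ≠ ω)] at hsum
    have hz : ∑ g ∈ D, Nat.card (fixedBy Ω g) = 0 := Finset.sum_eq_zero fun g hg => by
      rw [Nat.card_eq_zero]
      exact Or.inl ⟨fun x => (Finset.mem_filter.1 hg).2 x.1 x.2⟩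
    set E := Finset.univ.filter (fun g : G => ¬ ∀ ω : Ω, g • ω ≠ ω) with hE
    have h1E : (1 : G) ∈ E := Finset.mem_filter.2 ⟨Finset.mem_univ _, fun h => h a (one_smul G a)⟩
    have h1 : Nat.card (fixedBy Ω (1 : G)) = n := by
      rw [hn, ← Nat.card_eq_fintype_card]
      exact Nat.card_congr (Equiv.subtypeUnivEquiv fun q => one_smul G q)
    have hother : ∀ g ∈ E.erase 1, Nat.card (fixedBy Ω g) = 1 := by
      intro g hg
      obtain ⟨hg1, hgE⟩ := Finset.mem_erase.1 hg
      have h' := (Finset.mem_filter.1 hgE).2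
      push_neg at h'
      obtain ⟨c, hc⟩ := h'
      refine Nat.card_eq_one_iff_unique.2 ⟨⟨fun x y => ?_⟩, ⟨⟨c, hc⟩⟩⟩
      by_contra hxy
      exact hsh g hg1 x.1 y.1 (fun e => hxy (Subtype.ext e)) x.2 y.2
    rw [hz, zero_add, ← Finset.add_sum_erase _ _ h1E, h1, Finset.sum_congr rfl hother,
      Finset.sum_const, smul_eq_mul, mul_one, Finset.card_erase_of_mem h1E] at hsum
    have hcard : D.card + E.card = Nat.card G := by
      rw [Nat.card_eq_fintype_card, ← Finset.card_univ]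
      exact Finset.card_filter_add_card_filter_not _
    have : 1 ≤ E.card := Finset.card_pos.2 ⟨1, h1E⟩
    omega
  -- the class of a derangement
  have hC : Nat.card (stabilizer (ConjAct G) d) ≤ n := by
    rw [hn, ← Nat.card_eq_fintype_card (α := Ω)]
    refine Nat.card_le_card_of_injective (fun c => ConjAct.ofConjAct (c : ConjAct G) • a) fun c c' h => ?_
    have hcomm : ∀ c : stabilizer (ConjAct G) d, ConjAct.ofConjAct (c : ConjAct G) * d =
        d * ConjAct.ofConjAct (c : ConjAct G) := fun c => by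
      have := mem_stabilizer_iff.1 c.2
      rw [ConjAct.smul_def] at this
      exact mul_inv_eq_iff_eq_mul.1 this
    set u := ConjAct.ofConjAct (c : ConjAct G)
    set v := ConjAct.ofConjAct (c' : ConjAct G)
    have hua : (v⁻¹ * u) • a = a := by
      rw [mul_smul]
      exact inv_smul_eq_iff.2 h
    have hud : (v⁻¹ * u) • d • a = d • a := by
      rw [← mul_smul, mul_assoc, hcomm c, ← mul_assoc]
      have hv : v⁻¹ * d = d * v⁻¹ := by
        rw [inv_mul_eq_iff_eq_mul, ← mul_assoc, hcomm c', mul_inv_cancel_right]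
      rw [hv, mul_assoc, mul_smul, hua]
    by_contra hne
    refine hsh _ ?_ a (d • a) (hd a).symm hua hud
    intro e
    rw [inv_mul_eq_one] at e
    exact hne (Subtype.ext (ConjAct.ofConjAct.injective e.symm))
  have horbcard := card_orbit_mul_card_stabilizer_eq_card_group (ConjAct G) d
  have hG : n * (n - 1) ≤ Nat.card G := by
    have hle := Fintype.card_le_of_surjective (fun g : G =>
      (⟨(g • a, g • b), fun e => hab (smul_left_cancel g e)⟩ : {p : Ω × Ω // p.1 ≠ p.2})) (fun p => by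
        obtain ⟨g, h1, h2⟩ := h2 hab p.2
        exact ⟨g, Subtype.ext (Prod.ext h1 h2)⟩)
    rw [Nat.card_eq_fintype_card]
    refine le_trans (le_of_eq ?_) hle
    rw [Fintype.card_subtype, ← Finset.univ_product_univ]
    rw [show ((Finset.univ ×ˢ Finset.univ).filter fun p : Ω × Ω => p.1 ≠ p.2) = Finset.univ.offDiag by
      ext p; simp]
    rw [Finset.offDiag_card, Finset.card_univ, ← hn, Nat.mul_sub, mul_one]
  have hsub : Finset.univ.filter (fun g : G => IsConj d g) ⊆ D := by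
    intro g hg
    obtain ⟨c, rfl⟩ := isConj_iff.1 (Finset.mem_filter.1 hg).2
    refine Finset.mem_filter.2 ⟨Finset.mem_univ _, fun ω hω => hd (c⁻¹ • ω) ?_⟩
    rw [mul_smul, mul_smul] at hω
    exact (eq_inv_smul_iff.2 hω)
  have heq : Finset.univ.filter (fun g : G => IsConj d g) = D := by
    refine Finset.eq_of_subset_of_card_le hsub ?_
    have ho : Fintype.card (orbit (ConjAct G) d) = (Finset.univ.filter (fun g : G => IsConj d g)).card := by
      rw [← Set.toFinset_card]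
      congr 1
      ext g
      simp only [Set.mem_toFinset, ConjAct.mem_orbit_conjAct, Finset.mem_filter, Finset.mem_univ, true_and]
      exact isConj_comm
    rw [← ho]
    simp only [← Nat.card_eq_fintype_card] at horbcard ⊢
    rw [show Nat.card (ConjAct G) = Nat.card G from rfl] at horbcard
    by_contra hlt
    have h1 : Nat.card (orbit (ConjAct G) d) + 1 ≤ n - 1 := by omega
    have h2 : n * (n - 1) + Nat.card (stabilizer (ConjAct G) d) ≤ (n - 1) * n := by
      calc n * (n - 1) + Nat.card (stabilizer (ConjAct G) d)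
          ≤ (Nat.card (orbit (ConjAct G) d) + 1) * Nat.card (stabilizer (ConjAct G) d) := by
            rw [add_mul, one_mul, horbcard]; omega
        _ ≤ (n - 1) * n := Nat.mul_le_mul h1 hC
    have : 0 < Nat.card (stabilizer (ConjAct G) d) := Nat.card_pos
    rw [mul_comm] at h2
    omega
  exact (Finset.mem_filter.1 (heq.symm ▸ Finset.mem_filter.2 ⟨Finset.mem_univ e, he⟩ :
    e ∈ Finset.univ.filter (fun g : G => IsConj d g))).2

/-- The regular normal subgroup case. -/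
theorem sharp_of_regular (hΩ : 2 ≤ Fintype.card Ω)
    (h1 : ∀ d e : G, (∀ ω : Ω, d • ω ≠ ω) → (∀ ω : Ω, e • ω ≠ ω) → IsConj d e)
    (N : Subgroup G) [N.Normal] [IsPretransitive N Ω] (hsr : ∀ n ∈ N, n ≠ 1 → ∀ ω : Ω, n • ω ≠ ω) :
    IsMultiplyPretransitive G Ω 2 ∧ ∀ g : G, g ≠ 1 → ∀ a b : Ω, a ≠ b → g • a = a → g • b ≠ b := by
  classical
  haveI : Fintype G := Fintype.ofFinite G
  obtain ⟨a, b, hab⟩ := Fintype.exists_pair_of_one_lt_card (show 1 < Fintype.card Ω by omega)
  obtain ⟨⟨n₀, hn₀⟩, hn₀b⟩ := exists_smul_eq N a b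
  have hn₀1 : n₀ ≠ 1 := fun h => hab (by
    rw [← hn₀b]
    change a = n₀ • a
    rw [h, one_smul])
  have hmem : ∀ g : G, (∀ ω : Ω, g • ω ≠ ω) → g ∈ N := by
    intro g hg
    obtain ⟨c, rfl⟩ := isConj_iff.1 (h1 n₀ g (hsr n₀ hn₀ hn₀1) hg)
    exact Subgroup.Normal.conj_mem ‹_› _ hn₀ c
  have hNcard : Nat.card N = Fintype.card Ω := by
    rw [← Nat.card_eq_fintype_card]
    refine Nat.card_congr (Equiv.ofBijective (fun m : N => m • a) ⟨fun x y h => ?_, fun w => exists_smul_eq N a w⟩)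
    by_contra hne
    refine hsr ((y⁻¹ * x : N) : G) (SetLike.coe_mem _) (fun e => hne ?_) a ?_
    · exact (inv_mul_eq_one.1 (Subtype.ext e : y⁻¹ * x = 1)).symm
    · change (y⁻¹ * x) • a = a
      rw [mul_smul]
      exact inv_smul_eq_iff.2 h
  haveI : IsPretransitive G Ω := ⟨fun x y => by
    obtain ⟨m, hm⟩ := exists_smul_eq N x y
    exact ⟨m, hm⟩⟩
  -- everything outside N fixes exactly one point
  have hfix : ∀ g : G, g ∉ N → Nat.card (fixedBy Ω g) ≤ 1 := by
    intro g hg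
    by_contra hlt
    have hsum := sum_fix (G := G) ⟨a⟩
    have hle : ∀ x : G, (if x = 1 then Fintype.card Ω else if x ∈ N then 0 else 1) ≤ Nat.card (fixedBy Ω x) := by
      intro x
      split_ifs with hx hxN
      · subst hx
        rw [← Nat.card_eq_fintype_card]
        exact le_of_eq (Nat.card_congr (Equiv.subtypeUnivEquiv fun q => one_smul G q)).symm
      · exact Nat.zero_le _
      · obtain ⟨c, hc⟩ : ∃ c : Ω, x • c = c := by
          by_contra h
          push_neg at h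
          exact hxN (hmem x h)
        exact Finite.card_pos_iff.2 ⟨⟨c, hc⟩⟩
    have hlt' : ∑ x : G, (if x = 1 then Fintype.card Ω else if x ∈ N then 0 else 1) <
        ∑ x : G, Nat.card (fixedBy Ω x) := by
      refine Finset.sum_lt_sum (fun x _ => hle x) ⟨g, Finset.mem_univ _, ?_⟩
      have hg1 : g ≠ 1 := fun h => hg (h ▸ N.one_mem)
      rw [if_neg hg1, if_neg hg]
      omega
    have hval : ∑ x : G, (if x = 1 then Fintype.card Ω else if x ∈ N then 0 else 1) =
        Fintype.card Ω + (Finset.univ.filter fun x : G => x ∉ N).card := by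
      rw [← Finset.add_sum_erase _ _ (Finset.mem_univ (1 : G)), if_pos rfl, Finset.card_filter]
      congr 1
      rw [← Finset.sum_erase (s := Finset.univ) (f := fun x : G => if x ∉ N then 1 else 0) (a := 1)
        (by simp [N.one_mem])]
      refine Finset.sum_congr rfl fun x hx => ?_
      rw [if_neg (Finset.ne_of_mem_erase hx)]
      split_ifs <;> rfl
    have hsplit := Finset.card_filter_add_card_filter_not (s := (Finset.univ : Finset G)) (fun x => x ∈ N)
    rw [Finset.card_univ, ← Fintype.card_subtype] at hsplit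
    rw [hval, hsum, Nat.card_eq_fintype_card, ← hNcard, Nat.card_eq_fintype_card] at hlt'
    omega
  refine ⟨?_, fun g hg x y hxy hx hy => ?_⟩
  · -- all nonidentity elements of N are conjugate, so N is abelian
    haveI : Nontrivial N := ⟨⟨⟨n₀, hn₀⟩, 1, fun h => hn₀1 (congrArg Subtype.val h)⟩⟩
    have hord : ∀ x : N, x ≠ 1 → orderOf x = orderOf n₀ := by
      intro x hx
      obtain ⟨c, hc⟩ := isConj_iff.1 (h1 n₀ x (hsr n₀ hn₀ hn₀1)
        (hsr x x.2 fun h => hx (Subtype.ext h)))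
      rw [← Subgroup.orderOf_coe, ← hc]
      exact orderOf_injective (MulAut.conj c).toMonoidHom (MulAut.conj c).injective n₀
    obtain ⟨hq, hpg⟩ := isPGroup_of_orderOf_eq (orderOf n₀) hord
    haveI := Fact.mk hq
    haveI := hpg.center_nontrivial
    obtain ⟨⟨z, hz⟩, hz1⟩ := exists_ne (1 : Subgroup.center N)
    have hzG1 : (z : G) ≠ 1 := fun h => hz1 (Subtype.ext (Subtype.ext h))
    have hcomm : ∀ x y : N, x * y = y * x := by
      intro x y
      rcases eq_or_ne x 1 with rfl | hx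
      · simp
      obtain ⟨c, hc⟩ := isConj_iff.1 (h1 z x (hsr z z.2 hzG1) (hsr x x.2 fun h => hx (Subtype.ext h)))
      have hy' : c⁻¹ * (y : G) * c ∈ N := by simpa using Subgroup.Normal.conj_mem ‹N.Normal› _ y.2 c⁻¹
      have hcm := congrArg Subtype.val (Subgroup.mem_center_iff.1 hz ⟨_, hy'⟩)
      refine Subtype.ext ?_
      change (x : G) * y = y * x
      simp only [Subgroup.coe_mul] at hcm
      calc (x : G) * y = c * ((z : G) * (c⁻¹ * y * c)) * c⁻¹ := by rw [← hc]; group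
        _ = c * ((c⁻¹ * y * c) * z) * c⁻¹ := by rw [hcm]
        _ = y * x := by rw [← hc]; group
    -- the stabiliser of a point is transitive on the rest
    have key : ∀ u v w : Ω, u ≠ v → u ≠ w → ∃ g : G, g • u = u ∧ g • v = w := by
      intro u v w huv huw
      obtain ⟨nv, hnv⟩ := exists_smul_eq N u v
      obtain ⟨nw, hnw⟩ := exists_smul_eq N u w
      have hv1 : (nv : G) ≠ 1 := fun h => huv (by
        rw [← hnv]; change u = (nv : G) • u; rw [h, one_smul])
      have hw1 : (nw : G) ≠ 1 := fun h => huw (by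
        rw [← hnw]; change u = (nw : G) • u; rw [h, one_smul])
      obtain ⟨c, hc⟩ := isConj_iff.1 (h1 nv nw (hsr _ nv.2 hv1) (hsr _ nw.2 hw1))
      obtain ⟨m, hm⟩ := exists_smul_eq N (c • u) u
      change (m : G) • c • u = u at hm
      refine ⟨(m : G) * c, by rw [mul_smul, hm], ?_⟩
      have hm' : (m : G) * nw = nw * m := congrArg Subtype.val (hcomm m nw)
      have hv : v = (nv : G) • u := hnv.symm
      have hw : w = (nw : G) • u := hnw.symm
      rw [hv, hw, ← mul_smul, mul_assoc, show c * (nv : G) = nw * c by rw [← hc]; group,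
        ← mul_assoc, hm', mul_assoc, mul_smul, mul_smul, hm]
    rw [is_two_pretransitive_iff]
    intro x y x' y' hxy hxy'
    obtain ⟨m, hm⟩ := exists_smul_eq G x x'
    have hne : x' ≠ m • y := fun e => hxy (smul_left_cancel m (hm.trans e))
    obtain ⟨g, hg1, hg2⟩ := key x' (m • y) y' hne hxy'
    exact ⟨g * m, by rw [mul_smul, hm, hg1], by rw [mul_smul, hg2]⟩
  · by_cases hgN : g ∈ N
    · exact hsr g hgN hg x hx
    · have := hfix g hgN
      rw [Finite.card_le_one_iff_subsingleton] at this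
      exact hxy (congrArg Subtype.val (Subsingleton.elim (⟨x, hx⟩ : fixedBy Ω g) ⟨y, hy⟩))

variable [FaithfulSMul G Ω]

/-- Without a simple socle there is a regular normal subgroup. -/
theorem exists_regular (hΩ : 2 ≤ Fintype.card Ω) (hprim : IsPreprimitive G Ω)
    (hnas : ¬ ∃ T : Subgroup G, T.Normal ∧ IsSimpleGroup T ∧ ¬ IsMulCommutative T ∧
      Subgroup.centralizer (T : Set G) = ⊥)
    (h1 : ∀ d e : G, (∀ ω : Ω, d • ω ≠ ω) → (∀ ω : Ω, e • ω ≠ ω) → IsConj d e) :
    ∃ N : Subgroup G, N.Normal ∧ IsPretransitive N Ω ∧ ∀ n ∈ N, n ≠ 1 → ∀ ω : Ω, n • ω ≠ ω := by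
  classical
  obtain ⟨a, b, hab⟩ := Fintype.exists_pair_of_one_lt_card (show 1 < Fintype.card Ω by omega)
  have htr : ∀ M : Subgroup G, M.Normal → M ≠ ⊥ → IsPretransitive M Ω := by
    intro M hM hM0
    refine IsQuasiPreprimitive.isPretransitive_of_normal fun h => hM0 ?_
    refine (Subgroup.eq_bot_iff_forall M).2 fun m hm => eq_of_smul_eq_smul (α := Ω) fun w => ?_
    have hw : w ∈ fixedPoints M Ω := h ▸ Set.mem_univ w
    rw [one_smul]
    exact hw ⟨m, hm⟩
  haveI : Nontrivial G := by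
    obtain ⟨g, hg⟩ := exists_smul_eq G a b
    exact ⟨⟨g, 1, fun h => hab (by rw [← hg, h, one_smul])⟩⟩
  obtain ⟨N, ⟨hN, hN0⟩, hNmin⟩ := (Set.toFinite {M : Subgroup G | M.Normal ∧ M ≠ ⊥}).exists_minimal
    ⟨⊤, inferInstance, top_ne_bot⟩
  haveI := hN
  haveI := htr N hN hN0
  by_contra hreg
  push_neg at hreg
  obtain ⟨n₁, hn₁, hn₁1, ω₁, hω₁⟩ := hreg N hN inferInstance
  have hsemi : ∀ M : Subgroup G, IsPretransitive M Ω → ∃ m ∈ M, m * n₁ ≠ n₁ * m := by
    intro M hM
    by_contra h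
    push_neg at h
    refine hn₁1 (eq_of_smul_eq_smul (α := Ω) fun w => ?_)
    obtain ⟨⟨m, hm⟩, hmw⟩ := hM.exists_smul_eq ω₁ w
    change m • ω₁ = w at hmw
    rw [one_smul, ← hmw, ← mul_smul, ← h m hm, mul_smul, hω₁]
  have hNcomm : ¬ ∀ x ∈ N, ∀ y ∈ N, x * y = y * x := fun h => by
    obtain ⟨m, hm, hne⟩ := hsemi N inferInstance
    exact hne (h m hm n₁ hn₁)
  have hC : Subgroup.centralizer (N : Set G) = ⊥ := by
    by_contra h
    obtain ⟨m, hm, hne⟩ := hsemi _ (htr _ inferInstance h)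
    exact hne (hm n₁ hn₁).symm
  -- minimal subgroups normalised by N
  let P : Subgroup G → Prop := fun T => T ≤ N ∧ T ≠ ⊥ ∧ ∀ n ∈ N, ∀ t ∈ T, n * t * n⁻¹ ∈ T
  let Q : Subgroup G → Prop := fun T => P T ∧ ∀ R, P R → R ≤ T → R = T
  obtain ⟨T₀, hT₀⟩ : ∃ T, Q T := by
    obtain ⟨T, hT, hmin⟩ := (Set.toFinite {T : Subgroup G | P T}).exists_minimal
      ⟨N, le_rfl, hN0, fun n hn t ht => N.mul_mem (N.mul_mem hn ht) (N.inv_mem hn)⟩
    exact ⟨T, hT, fun R hR hle => le_antisymm hle (hmin hR hle)⟩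
  have hQmap : ∀ T, Q T → ∀ g : G, Q (T.map (MulAut.conj g).toMonoidHom) := by
    have hPmap : ∀ T, P T → ∀ g : G, P (T.map (MulAut.conj g).toMonoidHom) := by
      rintro T ⟨h1, h2, h3⟩ g
      refine ⟨?_, fun h => h2 ((Subgroup.map_eq_bot_iff_of_injective _ (MulAut.conj g).injective).1 h), ?_⟩
      · rintro _ ⟨t, ht, rfl⟩
        exact hN.conj_mem t (h1 ht) g
      · rintro n hn _ ⟨t, ht, rfl⟩
        refine ⟨(g⁻¹ * n * g) * t * (g⁻¹ * n * g)⁻¹, h3 _ (by simpa using hN.conj_mem n hn g⁻¹) t ht, ?_⟩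
        simp [mul_assoc]
    rintro T ⟨hT, hTmin⟩ g
    refine ⟨hPmap T hT g, fun R hR hle => ?_⟩
    have hle' : R.map (MulAut.conj g⁻¹).toMonoidHom ≤ T := by
      rintro _ ⟨r, hr, rfl⟩
      obtain ⟨t, ht, rfl⟩ := hle hr
      simpa [mul_assoc] using ht
    rw [← hTmin _ (hPmap R hR g⁻¹) hle', Subgroup.map_map]
    convert (Subgroup.map_id R).symm
    ext x
    simp [mul_assoc]
  have hdisj : ∀ T T', Q T → Q T' → T ≠ T' → ∀ x ∈ T, x ∈ T' → x = 1 := by
    intro T T' hT hT' hne x hx hx'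
    by_contra hx1
    have hP : P (T ⊓ T') := ⟨inf_le_left.trans hT.1.1,
      fun h => hx1 ((Subgroup.eq_bot_iff_forall _).1 h x ⟨hx, hx'⟩),
      fun n hn t ht => ⟨hT.1.2.2 n hn t ht.1, hT'.1.2.2 n hn t ht.2⟩⟩
    exact hne ((hT.2 _ hP inf_le_left).symm.trans (hT'.2 _ hP inf_le_right))
  have hcom : ∀ T T', Q T → Q T' → T ≠ T' → ∀ x ∈ T, ∀ y ∈ T', x * y = y * x := by
    intro T T' hT hT' hne x hx y hy
    have h : x * y * x⁻¹ * y⁻¹ = 1 := hdisj T T' hT hT' hne _
      (by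
        rw [mul_assoc x y, mul_assoc x (y * x⁻¹)]
        exact T.mul_mem hx (hT.1.2.2 y (hT'.1.1 hy) _ (T.inv_mem hx)))
      (T'.mul_mem (hT'.1.2.2 x (hT.1.1 hx) y hy) (T'.inv_mem hy))
    rw [mul_inv_eq_one, mul_inv_eq_iff_eq_mul] at h
    exact h
  -- each element of N acts on T as an element of T
  have hgen : N = ⨆ g : G, T₀.map (MulAut.conj g).toMonoidHom := by
    refine le_antisymm ?_ (iSup_le fun g => (hQmap T₀ hT₀ g).1.1)
    refine hNmin ⟨⟨fun x hx c => ?_⟩, fun h => ?_⟩ (iSup_le fun g => (hQmap T₀ hT₀ g).1.1)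
    · have hle : (⨆ g : G, T₀.map (MulAut.conj g).toMonoidHom).map (MulAut.conj c).toMonoidHom ≤
          ⨆ g : G, T₀.map (MulAut.conj g).toMonoidHom := by
        rw [Subgroup.map_iSup]
        refine iSup_le fun g => le_iSup_of_le (c * g) ?_
        rw [Subgroup.map_map]
        rintro _ ⟨t, ht, rfl⟩
        exact ⟨t, ht, by simp [mul_assoc]⟩
      exact hle ⟨x, hx, rfl⟩
    · exact (hQmap T₀ hT₀ 1).1.2.1 (le_bot_iff.1 (h ▸ le_iSup (fun g : G => T₀.map (MulAut.conj g).toMonoidHom) 1))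
  have hact : ∀ T, Q T → ∀ n ∈ N, ∃ t ∈ T, ∀ u ∈ T, n * u * n⁻¹ = t * u * t⁻¹ := by
    intro T hT
    let S : Subgroup G :=
      { carrier := {x | ∃ t ∈ T, ∀ u ∈ T, x * u * x⁻¹ = t * u * t⁻¹}
        one_mem' := ⟨1, T.one_mem, fun u _ => rfl⟩
        mul_mem' := fun {x y} ⟨t, ht, hx⟩ ⟨s, hs, hy⟩ => ⟨t * s, T.mul_mem ht hs, fun u hu => by
          rw [show x * y * u * (x * y)⁻¹ = x * (y * u * y⁻¹) * x⁻¹ by group, hy u hu,
            hx _ (T.mul_mem (T.mul_mem hs hu) (T.inv_mem hs))]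
          group⟩
        inv_mem' := fun {x} ⟨t, ht, hx⟩ => ⟨t⁻¹, T.inv_mem ht, fun u hu => by
          have := hx (t⁻¹ * u * t) (T.mul_mem (T.mul_mem (T.inv_mem ht) hu) ht)
          rw [show t * (t⁻¹ * u * t) * t⁻¹ = u by group] at this
          conv_lhs => rw [← this]
          group⟩ }
    intro n hn
    have hle : N ≤ S := by
      rw [hgen]
      refine iSup_le fun g => ?_
      intro x hx
      by_cases he : T₀.map (MulAut.conj g).toMonoidHom = T
      · exact ⟨x, he ▸ hx, fun u _ => rfl⟩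
      · refine ⟨1, T.one_mem, fun u hu => ?_⟩
        rw [hcom _ T (hQmap T₀ hT₀ g) hT he x hx u hu, mul_inv_cancel_right, one_mul, inv_one, mul_one]
    exact hle hn
  have hsimple : ∀ T, Q T → ∀ R : Subgroup G, R ≤ T →
      (∀ t ∈ T, ∀ r ∈ R, t * r * t⁻¹ ∈ R) → R = ⊥ ∨ R = T := by
    intro T hT R hR hn
    by_cases h : R = ⊥
    · exact Or.inl h
    refine Or.inr (hT.2 R ⟨hR.trans hT.1.1, h, fun n hnN r hr => ?_⟩ hR)
    obtain ⟨t, ht, htu⟩ := hact T hT n hnN
    rw [htu r (hR hr)]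
    exact hn t ht r hr
  have hTcomm : ∀ T, Q T → ¬ ∀ x ∈ T, ∀ y ∈ T, x * y = y * x := by
    intro T hT hTc
    refine hn₁1 ?_
    have hcenT : ∀ n ∈ N, ∀ u ∈ T, n * u = u * n := by
      intro n hn u hu
      obtain ⟨t, ht, htu⟩ := hact T hT n hn
      have := htu u hu
      rw [hTc t ht u hu, mul_inv_cancel_right] at this
      exact mul_inv_eq_iff_eq_mul.1 this
    obtain ⟨⟨u, hu⟩, hu1⟩ := Subgroup.ne_bot_iff_exists_ne_one.1 hT.1.2.1
    have : u ∈ Subgroup.centralizer (N : Set G) := fun n hn => hcenT n hn u hu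
    rw [hC, Subgroup.mem_bot] at this
    exact absurd (Subtype.ext this) hu1
  have hcenter : ∀ T, Q T → ∀ x ∈ T, (∀ u ∈ T, x * u = u * x) → x = 1 := by
    intro T hT x hx hxc
    by_contra hx1
    let R : Subgroup G := T ⊓ Subgroup.centralizer (T : Set G)
    rcases hsimple T hT R inf_le_left (fun t ht r hr => by
      have hrt : t * r * t⁻¹ = r := by rw [hr.2 t ht, mul_inv_cancel_right]
      rw [hrt]; exact hr) with h | h
    · exact hx1 ((Subgroup.eq_bot_iff_forall _).1 h x ⟨hx, fun u hu => (hxc u hu).symm⟩)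
    · refine hTcomm T hT fun u hu v hv => ?_
      have : v ∈ R := h.symm ▸ hv
      exact this.2 u hu
  -- there is a second factor
  obtain ⟨g₀, hg₀⟩ : ∃ g : G, T₀.map (MulAut.conj g).toMonoidHom ≠ T₀ := by
    by_contra h
    push_neg at h
    have hNT : N = T₀ := by
      rw [hgen]
      exact le_antisymm (iSup_le fun g => (h g).le) (le_iSup_of_le 1 (h 1).ge)
    refine hnas ⟨N, hN, ?_, ?_, hC⟩
    · haveI : Nontrivial N := ⟨⟨⟨n₁, hn₁⟩, 1, fun e => hn₁1 (congrArg Subtype.val e)⟩⟩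
      refine ⟨fun R hR => ?_⟩
      rcases hsimple T₀ hT₀ (R.map N.subtype) (by rw [← hNT]; exact Subgroup.map_subtype_le R) (by
        rw [← hNT]
        rintro t ht _ ⟨r, hr, rfl⟩
        exact ⟨⟨t, ht⟩ * r * ⟨t, ht⟩⁻¹, hR.conj_mem r hr ⟨t, ht⟩, rfl⟩) with h | h
      · exact Or.inl ((Subgroup.map_eq_bot_iff_of_injective _ N.subtype_injective).1 h)
      · refine Or.inr (Subgroup.map_injective N.subtype_injective ?_)
        rw [h, ← MonoidHom.range_eq_map, Subgroup.range_subtype, hNT]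
    · exact fun hc => hNcomm fun x hx y hy => congrArg Subtype.val (hc.is_comm.comm (⟨x, hx⟩ : N) ⟨y, hy⟩)
  -- normalised subgroups fixing a point are trivial
  have hfixall : ∀ T, Q T → ¬ ∀ t ∈ T, t • a = a := by
    intro T hT h
    refine hT.1.2.1 ((Subgroup.eq_bot_iff_forall T).2 fun t ht => eq_of_smul_eq_smul (α := Ω) fun w => ?_)
    obtain ⟨⟨n, hn⟩, hnw⟩ := exists_smul_eq N a w
    change n • a = w at hnw
    rw [one_smul, ← hnw]
    have := h (n⁻¹ * t * n) (by simpa using hT.1.2.2 n⁻¹ (N.inv_mem hn) t ht)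
    rw [mul_smul, mul_smul, inv_smul_eq_iff] at this
    exact this
  have hmove : ∀ x : G, (∃ w : Ω, x • w = w) → ∃ n ∈ N, (n * x * n⁻¹) • a = a := by
    rintro x ⟨w, hw⟩
    obtain ⟨⟨n, hn⟩, hnw⟩ := exists_smul_eq N w a
    change n • w = a at hnw
    refine ⟨n, hn, ?_⟩
    rw [← hnw, mul_smul, mul_smul, inv_smul_smul, hw]
  have hmeet : ∀ T, Q T → ∀ R : Subgroup G, R ≤ T →
      (∀ x ∈ T, x ≠ 1 → ∃ t ∈ T, t * x * t⁻¹ ∈ R) → R = T := by
    intro T hT R hR h
    have := eq_top_of_meets_classes (R.subgroupOf T) fun x => by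
      rcases eq_or_ne x 1 with rfl | hx
      · exact ⟨1, by simp⟩
      obtain ⟨t, ht, htx⟩ := h x x.2 fun e => hx (Subtype.ext e)
      exact ⟨⟨t, ht⟩, htx⟩
    exact le_antisymm hR fun x hx => (this ▸ Subgroup.mem_top (⟨x, hx⟩ : T) : (⟨x, hx⟩ : T) ∈ R.subgroupOf T)
  -- a derangement in a factor
  obtain ⟨d₀, hd₀T, hd₀⟩ : ∃ d ∈ T₀, ∀ ω : Ω, d • ω ≠ ω := by
    by_contra h
    push_neg at h
    have := hmeet T₀ hT₀ (T₀ ⊓ stabilizer G a) inf_le_left fun x hx _ => by
      obtain ⟨n, hn, hna⟩ := hmove x (h x hx)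
      obtain ⟨t, ht, htu⟩ := hact T₀ hT₀ n hn
      exact ⟨t, ht, T₀.mul_mem (T₀.mul_mem ht hx) (T₀.inv_mem ht), htu x hx ▸ hna⟩
    exact hfixall T₀ hT₀ fun t ht => (this.symm ▸ ht : t ∈ T₀ ⊓ stabilizer G a).2
  have hnotder : ∀ T T', Q T → Q T' → T ≠ T' → ∀ x ∈ T, ∀ y ∈ T', x ≠ 1 → y ≠ 1 →
      ∃ w : Ω, (x * y) • w = w := by
    intro T T' hT hT' hne x hx y hy hx1 hy1
    by_contra h
    push_neg at h
    obtain ⟨g, hg⟩ := isConj_iff.1 (h1 d₀ (x * y) hd₀ h)
    have hmem : x * y ∈ T₀.map (MulAut.conj g).toMonoidHom := ⟨d₀, hd₀T, hg⟩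
    by_cases he : T₀.map (MulAut.conj g).toMonoidHom = T
    · rw [he] at hmem
      exact hy1 (hdisj T T' hT hT' hne y ((T.mul_mem_cancel_left hx).1 hmem) hy)
    · refine hx1 (hcenter T hT x hx fun u hu => ?_)
      have h1 := hcom _ T (hQmap T₀ hT₀ g) hT he _ hmem u hu
      have h2 := hcom T T' hT hT' hne u hu y hy
      calc x * u = (x * y) * y⁻¹ * u := by group
        _ = (x * y) * (u * y⁻¹) := by
              rw [mul_assoc, show y⁻¹ * u = u * y⁻¹ by
                rw [inv_mul_eq_iff_eq_mul, ← mul_assoc, ← h2, mul_inv_cancel_right]]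
        _ = u * x := by rw [← mul_assoc, h1]; group
  have hA : ∀ T T', Q T → Q T' → T ≠ T' → ∀ x ∈ T, x • a = a → x = 1 := by
    intro T T' hT hT' hne x hx hxa
    let R : Subgroup G :=
      { carrier := {r | r ∈ T ∧ ∃ s ∈ T', (r * s) • a = a}
        one_mem' := ⟨T.one_mem, 1, T'.one_mem, by simp⟩
        mul_mem' := fun {r r'} ⟨hr, s, hs, he⟩ ⟨hr', s', hs', he'⟩ => ⟨T.mul_mem hr hr', s * s',
          T'.mul_mem hs hs', by
            rw [show r * r' * (s * s') = r * (r' * s) * s' by group, hcom T T' hT hT' hne r' hr' s hs,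
              show r * (s * r') * s' = (r * s) * (r' * s') by group, mul_smul, he', he]⟩
        inv_mem' := fun {r} ⟨hr, s, hs, he⟩ => ⟨T.inv_mem hr, s⁻¹, T'.inv_mem hs, by
          rw [← mul_inv_rev, ← hcom T T' hT hT' hne r hr s hs, inv_smul_eq_iff, he]⟩ }
    obtain ⟨⟨y, hy⟩, hy1⟩ := Subgroup.ne_bot_iff_exists_ne_one.1 hT'.1.2.1
    have hRT : R = T := hmeet T hT R (fun r hr => hr.1) fun z hz hz1 => by
      obtain ⟨n, hn, hna⟩ := hmove _ (hnotder T T' hT hT' hne z hz y hy hz1 fun e => hy1 (Subtype.ext e))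
      obtain ⟨t, ht, htu⟩ := hact T hT n hn
      refine ⟨t, ht, T.mul_mem (T.mul_mem ht hz) (T.inv_mem ht), n * y * n⁻¹, hT'.1.2.2 n hn y hy, ?_⟩
      rw [← htu z hz, show n * z * n⁻¹ * (n * y * n⁻¹) = n * (z * y) * n⁻¹ by group]
      exact hna
    rcases hsimple T hT (T ⊓ stabilizer G a) inf_le_left (fun r hr u hu => by
      obtain ⟨-, s, hs, he⟩ := (hRT.symm ▸ hr : r ∈ R)
      refine ⟨T.mul_mem (T.mul_mem hr hu.1) (T.inv_mem hr), ?_⟩
      have hsu : s * u * s⁻¹ = u := by rw [← hcom T T' hT hT' hne u hu.1 s hs, mul_inv_cancel_right]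
      have : r * u * r⁻¹ = (r * s) * u * (r * s)⁻¹ := by
        conv_lhs => rw [← hsu]
        group
      change (r * u * r⁻¹) • a = a
      rw [this, mul_smul, mul_smul, show (r * s)⁻¹ • a = a from inv_smul_eq_iff.2 he.symm,
        show u • a = a from hu.2, he]) with h | h
    · exact (Subgroup.eq_bot_iff_forall _).1 h x ⟨hx, hxa⟩
    · exact absurd (fun t ht => (h.symm ▸ ht : t ∈ T ⊓ stabilizer G a).2) (hfixall T hT)
  -- orders agree across the two factors
  have hord : ∀ T T', Q T → Q T' → T ≠ T' → ∀ x ∈ T, ∀ y ∈ T', x ≠ 1 → y ≠ 1 → orderOf y ∣ orderOf x := by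
    intro T T' hT hT' hne x hx y hy hx1 hy1
    obtain ⟨n, hn, hna⟩ := hmove _ (hnotder T T' hT hT' hne x hx y hy hx1 hy1)
    rw [show n * (x * y) * n⁻¹ = (n * x * n⁻¹) * (n * y * n⁻¹) by group] at hna
    set x' := n * x * n⁻¹ with hx'
    set y' := n * y * n⁻¹ with hy'
    have ho : ∀ z : G, orderOf (n * z * n⁻¹) = orderOf z := fun z =>
      orderOf_injective (MulAut.conj n).toMonoidHom (MulAut.conj n).injective z
    have hxT : x' ∈ T := hT.1.2.2 n hn x hx
    have hyT : y' ∈ T' := hT'.1.2.2 n hn y hy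
    have h : (x' * y') ^ orderOf x' • a = a := Subgroup.pow_mem (stabilizer G a) hna _
    rw [(show Commute x' y' from hcom T T' hT hT' hne x' hxT y' hyT).mul_pow, pow_orderOf_eq_one,
      one_mul] at h
    have := hA T' T hT' hT (Ne.symm hne) _ (T'.pow_mem hyT _) h
    rw [← orderOf_dvd_iff_pow_eq_one, hx', hy', ho, ho] at this
    exact this
  -- conclusion
  set T₁ := T₀.map (MulAut.conj g₀).toMonoidHom with hT₁
  have hQ₁ := hQmap T₀ hT₀ g₀
  obtain ⟨⟨y, hy⟩, hy1⟩ := Subgroup.ne_bot_iff_exists_ne_one.1 hQ₁.1.2.1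
  have hy1' : y ≠ 1 := fun e => hy1 (Subtype.ext e)
  haveI : Nontrivial T₀ := (Subgroup.nontrivial_iff_ne_bot _).2 hT₀.1.2.1
  obtain ⟨hq, hpg⟩ := isPGroup_of_orderOf_eq (M := T₀) (orderOf y) fun x hx => by
    have hx' : (x : G) ≠ 1 := fun e => hx (Subtype.ext e)
    rw [← Subgroup.orderOf_coe]
    exact Nat.dvd_antisymm (hord T₁ T₀ hQ₁ hT₀ hg₀ y hy x x.2 hy1' hx')
      (hord T₀ T₁ hT₀ hQ₁ (Ne.symm hg₀) x x.2 y hy hx' hy1')
  haveI := Fact.mk hq
  haveI := hpg.center_nontrivial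
  obtain ⟨⟨z, hz⟩, hz1⟩ := exists_ne (1 : Subgroup.center T₀)
  refine hz1 (Subtype.ext (Subtype.ext (hcenter T₀ hT₀ z z.2 fun u hu => ?_)))
  exact (congrArg Subtype.val (Subgroup.mem_center_iff.1 hz ⟨u, hu⟩)).symm

end Cfsg.Agent.Recognition.DerangementClass
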