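import Mathlib

/-!
The subgroup generated by the fixed-point-free elements of a transitive group.
-/

set_option autoImplicit false

namespace Cfsg.Agent.Recognition.Derangements

open MulAction Finset

universe u v

variable {G : Type u} {Ω : Type v} [Group G] [MulAction G Ω]

/-- The subgroup generated by the derangements. -/
abbrev derGroup (G : Type u) (Ω : Type v) [Group G] [MulAction G Ω] : Subgroup G :=
  Subgroup.closure {g : G | ∀ ω : Ω, g • ω ≠ ω}

theorem one_le_fixed [Finite Ω] {g : G} (hg : g ∉ derGroup G Ω) : 1 ≤ Nat.card (fixedBy Ω g) := by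
  by_contra h
  refine hg (Subgroup.subset_closure fun ω hω => h ?_)
  haveI : Nonempty (fixedBy Ω g) := ⟨⟨ω, hω⟩⟩
  exact Nat.card_pos

/-- Orbit counting for a subgroup. -/
theorem sum_fixed_subgroup [Fintype G] [Finite Ω] (H : Subgroup G) [DecidablePred (· ∈ H)] :
    ∑ g ∈ univ.filter (fun g : G => g ∈ H), Nat.card (fixedBy Ω g) =
      Nat.card (orbitRel.Quotient H Ω) * Nat.card H := by
  classical
  haveI := Fintype.ofFinite Ω
  haveI := Fintype.ofFinite (orbitRel.Quotient H Ω)
  rw [Nat.card_eq_fintype_card (α := H), Nat.card_eq_fintype_card (α := orbitRel.Quotient H Ω),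
    ← sum_card_fixedBy_eq_card_orbits_mul_card_group H Ω, ← sum_subtype_eq_sum_filter]
  refine Finset.sum_bij' (fun g hg => (⟨g.1, g.2⟩ : H)) (fun h _ => ⟨h.1, h.2⟩)
    (fun _ _ => mem_univ _) (fun h _ => by simp) (fun _ _ => rfl) (fun _ _ => rfl) fun g hg => ?_
  rw [← Nat.card_eq_fintype_card]
  rfl

theorem sum_fixed [Fintype G] [Finite Ω] :
    ∑ g : G, Nat.card (fixedBy Ω g) = Nat.card (orbitRel.Quotient G Ω) * Nat.card G := by
  classical
  haveI := Fintype.ofFinite Ω
  haveI := Fintype.ofFinite (orbitRel.Quotient G Ω)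
  rw [Nat.card_eq_fintype_card (α := G), Nat.card_eq_fintype_card (α := orbitRel.Quotient G Ω),
    ← sum_card_fixedBy_eq_card_orbits_mul_card_group G Ω]
  simp only [Nat.card_eq_fintype_card]

theorem one_le_orbits (H : Subgroup G) [Finite Ω] [Nonempty Ω] :
    1 ≤ Nat.card (orbitRel.Quotient H Ω) := by
  haveI : Nonempty (orbitRel.Quotient H Ω) := ⟨Quotient.mk'' (Classical.arbitrary Ω)⟩
  exact Nat.card_pos

/-- Transitivity of the derangement subgroup, and fixed points outside it. -/
theorem main [Finite G] [Finite Ω] [Nonempty Ω] [IsPretransitive G Ω] :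
    Nat.card (orbitRel.Quotient (derGroup G Ω) Ω) = 1 ∧
      ∀ g : G, g ∉ derGroup G Ω → Nat.card (fixedBy Ω g) = 1 := by
  classical
  haveI := Fintype.ofFinite G
  set D := derGroup G Ω with hD
  have h1 := sum_fixed (G := G) (Ω := Ω)
  have horb : Nat.card (orbitRel.Quotient G Ω) = 1 := by
    rw [Nat.card_eq_one_iff_unique]
    exact ⟨(pretransitive_iff_subsingleton_quotient G Ω).1 inferInstance,
      ⟨Quotient.mk'' (Classical.arbitrary Ω)⟩⟩
  rw [horb, one_mul, ← sum_filter_add_sum_filter_not univ (fun g : G => g ∈ D),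
    sum_fixed_subgroup D] at h1
  have hD1 := one_le_orbits (Ω := Ω) D
  have hout : (univ.filter fun g : G => g ∉ D).card ≤
      ∑ g ∈ univ.filter (fun g : G => g ∉ D), Nat.card (fixedBy Ω g) := by
    rw [card_eq_sum_ones]
    exact sum_le_sum fun g hg => one_le_fixed (mem_filter.1 hg).2
  have hsplit : (univ.filter fun g : G => g ∈ D).card + (univ.filter fun g : G => g ∉ D).card =
      Nat.card G := by
    rw [card_filter_add_card_filter_not, card_univ, Nat.card_eq_fintype_card]
  have hcardD : (univ.filter fun g : G => g ∈ D).card = Nat.card D := by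
    rw [Nat.card_eq_fintype_card, Fintype.card_subtype]
  have hmul : Nat.card D ≤ Nat.card (orbitRel.Quotient D Ω) * Nat.card D :=
    Nat.le_mul_of_pos_left _ hD1
  refine ⟨?_, fun g hg => ?_⟩
  · have : Nat.card (orbitRel.Quotient D Ω) * Nat.card D = 1 * Nat.card D := by rw [one_mul]; omega
    exact Nat.eq_of_mul_eq_mul_right Nat.card_pos this
  · have hs : ∑ g ∈ univ.filter (fun g : G => g ∉ D), (1 : ℕ) =
        ∑ g ∈ univ.filter (fun g : G => g ∉ D), Nat.card (fixedBy Ω g) := by
      rw [← card_eq_sum_ones]; omega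
    exact ((sum_eq_sum_iff_of_le fun g hg => one_le_fixed (mem_filter.1 hg).2).1 hs g
      (mem_filter.2 ⟨mem_univ g, hg⟩)).symm

theorem fixedBy_prod (g : G) :
    Nat.card (fixedBy (Ω × Ω) g) = Nat.card (fixedBy Ω g) * Nat.card (fixedBy Ω g) := by
  rw [← Nat.card_prod]
  refine Nat.card_congr
    { toFun := fun z => (⟨z.1.1, congrArg Prod.fst z.2⟩, ⟨z.1.2, congrArg Prod.snd z.2⟩)
      invFun := fun z => ⟨(z.1.1, z.2.1), Prod.ext z.1.2 z.2.2⟩
      left_inv := fun _ => rfl
      right_inv := fun _ => rfl }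

/-- Ranks of the group and of its derangement subgroup. -/
theorem rank_eq [Finite G] [Finite Ω] [Nonempty Ω] [IsPretransitive G Ω] :
    Nat.card (orbitRel.Quotient (derGroup G Ω) (Ω × Ω)) - 1 =
      (Nat.card (orbitRel.Quotient G (Ω × Ω)) - 1) * (derGroup G Ω).index := by
  classical
  haveI := Fintype.ofFinite G
  set D := derGroup G Ω with hD
  have hfix := (main (G := G) (Ω := Ω)).2
  have h1 := sum_fixed (G := G) (Ω := Ω × Ω)
  rw [← sum_filter_add_sum_filter_not univ (fun g : G => g ∈ D), sum_fixed_subgroup D] at h1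
  have hout : ∑ g ∈ univ.filter (fun g : G => g ∉ D), Nat.card (fixedBy (Ω × Ω) g) =
      (univ.filter fun g : G => g ∉ D).card := by
    rw [card_eq_sum_ones]
    exact sum_congr rfl fun g hg => by rw [fixedBy_prod, hfix g (mem_filter.1 hg).2]
  rw [hout] at h1
  have hsplit : (univ.filter fun g : G => g ∈ D).card + (univ.filter fun g : G => g ∉ D).card =
      Nat.card G := by
    rw [card_filter_add_card_filter_not, card_univ, Nat.card_eq_fintype_card]
  have hcardD : (univ.filter fun g : G => g ∈ D).card = Nat.card D := by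
    rw [Nat.card_eq_fintype_card, Fintype.card_subtype]
  set rD := Nat.card (orbitRel.Quotient D (Ω × Ω)) with hrD
  set rG := Nat.card (orbitRel.Quotient G (Ω × Ω)) with hrG
  have hrD1 : 1 ≤ rD := one_le_orbits (Ω := Ω × Ω) D
  have hrG1 : 1 ≤ rG := by
    haveI : Nonempty (orbitRel.Quotient G (Ω × Ω)) := ⟨Quotient.mk'' (Classical.arbitrary _)⟩
    exact Nat.card_pos
  obtain ⟨a, ha⟩ := Nat.exists_eq_add_of_le hrD1
  obtain ⟨b, hb⟩ := Nat.exists_eq_add_of_le hrG1
  rw [ha, hb, Nat.add_sub_cancel_left, Nat.add_sub_cancel_left]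
  have hidx := Subgroup.card_mul_index D
  apply Nat.eq_of_mul_eq_mul_right (m := Nat.card D) Nat.card_pos
  rw [mul_assoc, mul_comm D.index, hidx]
  rw [ha, hb, add_mul, add_mul, one_mul, one_mul] at h1
  omega

end Cfsg.Agent.Recognition.Derangements
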