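import Cfsg.Agent.Lib.SmallSimple.Exceptional

/-!
# Values of the exceptional characters

For a strongly self-centralizing subgroup `P` with at least two orbits of nontrivial linear
characters: the values on `P#` of the characters that do not vanish there.
-/

set_option linter.style.haveILetI false

namespace Cfsg.Agent.Recognition.ExceptionalValues

open Cfsg.Agent.Characters Cfsg.Agent.OddChar
open Cfsg.Agent.SmallSimple.Exceptional

universe u

variable {G : Type u} [Group G] [Fintype G] {P : Subgroup G}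

/-- A character with constant coefficients in the `A φ`, `φ ≠ 1`, is constant on `P#`. -/
theorem value_of_const (hP : SelfCent P) {ι : Type*} (S : Finset ι) (χ : ι → Cfsg.IrrCharacter G) (k : ℤ)
    (hk : ∀ φ : P →* ℂˣ, φ ≠ 1 → ∑ i ∈ S, a P φ (χ i) = k) (y : P) (hy : y ≠ 1) :
    ∑ i ∈ S, (χ i : G → ℂ) y = (k : ℂ) := by
  classical
  haveI : Finite (P →* ℂˣ) := Nat.finite_of_card_ne_zero (by rw [card_dual hP]; exact Nat.card_pos.ne')
  haveI := Fintype.ofFinite (P →* ℂˣ)
  haveI := Fintype.ofFinite P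
  choose m hm ha using fun i => exists_mult hP (χ i)
  have hsum : ∑ φ : P →* ℂˣ, (φ y : ℂ) = 0 := by
    letI : CommGroup P := { (inferInstance : Group P) with mul_comm := hP.comm }
    obtain ⟨ψ, hψ⟩ := CommGroup.exists_apply_ne_one_of_hasEnoughRootsOfUnity P ℂ hy
    refine eq_zero_of_mul_eq_self_left (b := (ψ y : ℂ))
      (fun h => hψ (Units.ext (by simpa using h))) ?_
    rw [Finset.mul_sum]
    exact Fintype.sum_equiv (Equiv.mulLeft ψ) _ _ fun φ => by simp
  have h : ∀ φ : P →* ℂˣ,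
      (∑ i ∈ S, (m i φ : ℂ)) = (∑ i ∈ S, (m i 1 : ℂ)) - (k : ℂ) + if φ = 1 then (k : ℂ) else 0 := by
    intro φ
    split_ifs with h1
    · subst h1; ring
    · have := hk φ h1
      simp only [fun i => ha i φ] at this
      rw [add_zero, ← this]
      push_cast
      rw [Finset.sum_sub_distrib]
      ring
  calc ∑ i ∈ S, (χ i : G → ℂ) y = ∑ φ : P →* ℂˣ, (∑ i ∈ S, (m i φ : ℂ)) * (φ y : ℂ) := by
        rw [Finset.sum_congr rfl fun i _ => hm i y]
        rw [Finset.sum_comm]
        exact Finset.sum_congr rfl fun φ _ => (Finset.sum_mul _ _ _).symm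
    _ = _ := by
        rw [Finset.sum_congr rfl fun φ _ => congrArg (· * (φ y : ℂ)) (h φ)]
        simp only [add_mul, Finset.sum_add_distrib, ← Finset.mul_sum, hsum, mul_zero, zero_add,
          ite_mul, zero_mul, Finset.sum_ite_eq', Finset.mem_univ, if_true, MonoidHom.one_apply,
          Units.val_one, mul_one]

/-- The characters that do not vanish on `P#`. -/
theorem exceptional_chars (hP : SelfCent P) {e t : ℕ}
    (he : P.relIndex (Subgroup.normalizer (P : Set G)) = e) (het : e * t + 1 = Nat.card P)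
    (ht : 2 ≤ t) :
    ∃ (ε c : ℤ) (μ : Fin t → Cfsg.IrrCharacter G) (R : Finset (Cfsg.IrrCharacter G))
      (f : Cfsg.IrrCharacter G → ℤ),
      (ε = 1 ∨ ε = -1) ∧ Function.Injective μ ∧ (∀ j, μ j ≠ trivIrr G) ∧ trivIrr G ∉ R ∧
      (∀ j, μ j ∉ R) ∧
      (c + ε) ^ 2 + ((t : ℤ) - 1) * c ^ 2 + ∑ χ ∈ R, f χ ^ 2 = (e : ℤ) ∧
      (∀ χ ∈ R, f χ ≠ 0) ∧
      (∀ χ ∈ R, ∀ y : P, y ≠ 1 → (χ : G → ℂ) y = (f χ : ℂ)) ∧
      (∀ y : P, y ≠ 1 → ∑ j, (μ j : G → ℂ) y = (t : ℂ) * (c : ℂ) + (ε : ℂ)) ∧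
      (∀ χ, χ ∉ R → χ ≠ trivIrr G → (∀ j, μ j ≠ χ) → ∀ y : P, y ≠ 1 → (χ : G → ℂ) y = 0) ∧
      (∀ g : G, (∀ φ : P →* ℂˣ, A P φ g = 0) → ∀ i j, (μ i : G → ℂ) g = (μ j : G → ℂ) g) ∧
      (∀ j (d : ℕ), (μ j : G → ℂ) 1 = d → (Nat.card P : ℤ) ∣ (d : ℤ) - c + e * ε) ∧
      (∀ χ ∈ R, ∀ d : ℕ, (χ : G → ℂ) 1 = d → (Nat.card P : ℤ) ∣ (d : ℤ) - f χ) := by
  classical
  haveI := Fintype.ofFinite (Cfsg.IrrCharacter G)
  haveI : Finite (P →* ℂˣ) := Nat.finite_of_card_ne_zero (by rw [card_dual hP]; exact Nat.card_pos.ne')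
  haveI := Fintype.ofFinite (P →* ℂˣ)
  obtain ⟨r, hr1, hrinj, hsum⟩ := exists_reps hP he het
  haveI : NeZero t := ⟨by omega⟩
  set o : Fin t := 0
  have horbit : ∀ i j, SameOrbit P (r i) (r j) ↔ i = j := fun i j =>
    ⟨hrinj i j, fun h => h ▸ (sameOrbit_equivalence P).refl _⟩
  have hcover : ∀ φ : P →* ℂˣ, φ ≠ 1 → ∃ i, SameOrbit P (r i) φ := by
    let F : (Σ i : Fin t, {ψ : P →* ℂˣ // SameOrbit P (r i) ψ}) → {φ : P →* ℂˣ // φ ≠ 1} :=
      fun x => ⟨x.2.1, by
        obtain ⟨n, hn⟩ := x.2.2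
        rw [← hn]; exact conjDual_ne_one n (hr1 _)⟩
    have hinj : Function.Injective F := by
      rintro ⟨i, ψ, hψ⟩ ⟨j, ψ', hψ'⟩ h
      obtain rfl : ψ = ψ' := congrArg Subtype.val h
      obtain rfl := hrinj i j ((sameOrbit_equivalence P).trans hψ ((sameOrbit_equivalence P).symm hψ'))
      rfl
    have hc : Nat.card (Σ i : Fin t, {ψ : P →* ℂˣ // SameOrbit P (r i) ψ}) =
        Nat.card {φ : P →* ℂˣ // φ ≠ 1} := by
      rw [Nat.card_sigma, Finset.sum_congr rfl fun i _ => (card_orbit hP (hr1 i)).trans he,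
        Finset.sum_const, Finset.card_univ, Fintype.card_fin, smul_eq_mul, mul_comm,
        Nat.card_eq_fintype_card (α := {φ : P →* ℂˣ // φ ≠ 1}), Fintype.card_subtype_compl,
        Fintype.card_subtype_eq, ← Nat.card_eq_fintype_card, card_dual hP]
      omega
    intro φ hφ
    obtain ⟨x, hx⟩ := (hinj.bijective_of_nat_card_le hc.ge).2 ⟨φ, hφ⟩
    exact ⟨x.1, by have := x.2.2; rwa [show x.2.1 = φ from congrArg Subtype.val hx] at this⟩
  have hI : ∀ i j, Cfsg.classInner (A P (r i)) (A P (r j)) = (e : ℂ) + if i = j then 1 else 0 := by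
    intro i j
    rw [inner_A_eq hP (hr1 i) (hr1 j), he, if_congr (horbit i j) rfl rfl]
  have hgen : ∀ i, Cfsg.IsGeneralizedCharacter G (A P (r i)) := fun i => A_isGen _
  obtain ⟨ε, μ, hε, hμ, hd⟩ := Lattice.exists_differences o (fun i => A P (r i) - A P (r o))
    (sub_self _) (fun i _ => isGen_sub (hgen i) (hgen o))
    (fun i _ => by simp [A_one])
    (fun i hi => by
      simp only [classInner_sub_left, classInner_sub_right, hI, if_true, if_neg hi, if_neg (Ne.symm hi)]
      ring)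
    (fun i j hi hj hij => by
      simp only [classInner_sub_left, classInner_sub_right, hI, if_true, if_neg hi, if_neg (Ne.symm hj),
        if_neg hij]
      ring)
  let f : Cfsg.IrrCharacter G → Fin t → ℤ := fun χ i => a P (r i) χ
  have hrel : ∀ χ i, f χ i = f χ o + ε * ((if μ i = χ then 1 else 0) - (if μ o = χ then 1 else 0)) := by
    intro χ i
    have h := congrArg (fun θ : G → ℂ => Cfsg.classInner θ (χ : G → ℂ)) (hd i)
    simp only [classInner_sub_left, classInner_smul_left, classInner_irr,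
      Lattice.coeff_spec (hgen _)] at h
    have h' : ((f χ i : ℤ) : ℂ) - (f χ o : ℂ) =
        ((ε * ((if μ i = χ then 1 else 0) - (if μ o = χ then 1 else 0)) : ℤ) : ℂ) := by
      push_cast; exact h
    rw [← Int.cast_sub, Int.cast_inj] at h'
    linarith
  set c : ℤ := f (μ o) o - ε with hc
  have hkey : ∀ j, j ≠ o → f (μ j) o = c := by
    intro j hj
    have h := congrArg (fun θ : G → ℂ => Cfsg.classInner θ (A P (r o))) (hd j)
    simp only [classInner_sub_left, classInner_smul_left, hI, if_true, if_neg hj] at h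
    rw [classInner_conj_symm (A P (r o)) (μ j : G → ℂ), classInner_conj_symm (A P (r o)) (μ o : G → ℂ),
      Lattice.coeff_spec (hgen o), Lattice.coeff_spec (hgen o), map_intCast, map_intCast] at h
    have h' : (-1 : ℤ) = ε * (f (μ j) o - f (μ o) o) := by
      have h2 : ((-1 : ℤ) : ℂ) = ((ε * (f (μ j) o - f (μ o) o) : ℤ) : ℂ) := by
        push_cast; simp only [f, a]; linear_combination h
      exact_mod_cast h2
    rcases hε with h1 | h1 <;> rw [h1] at h' <;> rw [hc, h1] <;> linarith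
  have hμval : ∀ j i, f (μ j) i = c + if i = j then ε else 0 := by
    intro j i
    rw [hrel, if_congr (hμ.eq_iff) rfl rfl, if_congr (hμ.eq_iff) rfl rfl]
    by_cases hj : j = o
    · subst hj
      rw [if_pos rfl, show f (μ o) o = c + ε by omega]
      split_ifs <;> ring
    · rw [hkey j hj, if_neg (Ne.symm hj)]
      split_ifs <;> ring
  have htriv : ∀ i, f (trivIrr G) i = 1 := fun i =>
    Lattice.coeff_eq_of_inner (by simpa using inner_A_one (hr1 i))
  have hε0 : ε ≠ 0 := by rcases hε with h | h <;> omega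
  have hμne : ∀ j, μ j ≠ trivIrr G := by
    intro j hj
    obtain ⟨k, hk⟩ : ∃ k : Fin t, k ≠ j := by
      by_cases h : j = o
      · exact ⟨⟨1, by omega⟩, by subst h; simp [o, Fin.ext_iff]⟩
      · exact ⟨o, Ne.symm h⟩
    have h1 := hμval j j
    have h2 := hμval j k
    rw [hj, htriv, if_pos rfl] at h1
    rw [hj, htriv, if_neg hk] at h2
    omega
  set E : Finset (Cfsg.IrrCharacter G) := Finset.univ.image μ with hE
  set R := ((Finset.univ.erase (trivIrr G)) \ E).filter (fun χ => f χ o ≠ 0) with hR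
  have hmemR : ∀ χ, χ ∈ R ↔ (χ ≠ trivIrr G ∧ ∀ j, μ j ≠ χ) ∧ f χ o ≠ 0 := by
    intro χ
    simp [hR, hE]
  have hconst : ∀ χ, (∀ j, μ j ≠ χ) → ∀ φ : P →* ℂˣ, φ ≠ 1 → a P φ χ = f χ o := by
    intro χ hχ φ hφ
    obtain ⟨i, hi⟩ := hcover φ hφ
    rw [← a_orbit hi, show a P (r i) χ = f χ i from rfl, hrel, if_neg (hχ i), if_neg (hχ o)]
    ring
  have hval : ∀ χ, (∀ j, μ j ≠ χ) → ∀ y : P, y ≠ 1 → (χ : G → ℂ) y = (f χ o : ℂ) := by
    intro χ hχ y hy
    simpa using value_of_const hP ({χ} : Finset _) id (f χ o)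
      (fun φ hφ => by simpa using hconst χ hχ φ hφ) y hy
  refine ⟨ε, c, μ, R, fun χ => f χ o, hε, hμ, hμne, fun h => ((hmemR _).1 h).1.1 rfl,
    fun j h => ((hmemR _).1 h).1.2 j rfl, ?_, fun χ h => ((hmemR _).1 h).2,
    fun χ h => hval χ ((hmemR _).1 h).1.2, ?_, ?_, ?_, ?_, ?_⟩
  · show _ + ∑ χ ∈ R, f χ o ^ 2 = _
    rw [hR, Finset.sum_filter_of_ne (by intro χ _ h e; simp [e] at h)]
    have h := Lattice.sum_sq_of_norm (hgen o) (n := (e : ℤ) + 1) (by rw [hI, if_pos rfl]; push_cast; rfl)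
    change ∑ χ, f χ o ^ 2 = _ at h
    have hEsub : E ⊆ Finset.univ.erase (trivIrr G) := by
      intro χ hχ
      obtain ⟨j, -, rfl⟩ := Finset.mem_image.1 hχ
      exact Finset.mem_erase.2 ⟨hμne j, Finset.mem_univ _⟩
    rw [← Finset.add_sum_erase _ _ (Finset.mem_univ (trivIrr G)), htriv,
      ← Finset.sum_sdiff hEsub, hE, Finset.sum_image (fun a _ b _ h => hμ h),
      Finset.sum_congr rfl fun j _ => show f (μ j) o ^ 2 = c ^ 2 +
      if j = o then (c + ε) ^ 2 - c ^ 2 else 0 by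
        rw [hμval, if_congr (eq_comm (a := o) (b := j)) rfl rfl]; split_ifs <;> ring,
      Finset.sum_add_distrib, Finset.sum_const, Finset.card_univ, Fintype.card_fin,
      Finset.sum_ite_eq', if_pos (Finset.mem_univ o), nsmul_eq_mul] at h
    linarith
  · intro y hy
    rw [value_of_const hP Finset.univ μ ((t : ℤ) * c + ε) (fun φ hφ => ?_) y hy]
    · push_cast; rfl
    · obtain ⟨i, hi⟩ := hcover φ hφ
      rw [Finset.sum_congr rfl fun j _ => show a P φ (μ j) = c + if i = j then ε else 0 from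
          (a_orbit hi _).symm.trans (hμval j i), Finset.sum_add_distrib, Finset.sum_ite_eq,
        Finset.sum_const, Finset.card_univ, Fintype.card_fin, nsmul_eq_mul, if_pos (Finset.mem_univ i)]
  · intro χ h1 h2 h3 y hy
    rw [hval χ h3 y hy, show f χ o = 0 from by
      by_contra h0; exact h1 ((hmemR _).2 ⟨⟨h2, h3⟩, h0⟩), Int.cast_zero]
  · intro g hg i j
    have h : ∀ i, (μ i : G → ℂ) g = (μ o : G → ℂ) g := by
      intro i
      have h := congrFun (hd i) g
      simp only [Pi.sub_apply, hg, sub_self, Pi.smul_apply, smul_eq_mul] at h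
      rcases mul_eq_zero.1 h.symm with h0 | h0
      · exact absurd (Int.cast_eq_zero.1 h0) hε0
      · exact sub_eq_zero.1 h0
    rw [h i, h j]
  · intro j d hd'
    have h := degree_congr hP (μ j) hd'
    rw [hsum, Finset.sum_congr rfl fun i _ => hμval j i, Finset.sum_add_distrib, Finset.sum_ite_eq',
      if_pos (Finset.mem_univ j), Finset.sum_const, Finset.card_univ, Fintype.card_fin,
      nsmul_eq_mul] at h
    have hP1 : (Nat.card P : ℤ) = (e : ℤ) * t + 1 := by exact_mod_cast het.symm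
    obtain ⟨k, hk⟩ := h
    exact ⟨k - c, by rw [hP1] at hk ⊢; linarith⟩
  · intro χ hχ d hd'
    have h := degree_congr hP χ hd'
    rw [hsum, Finset.sum_congr rfl fun i _ => show a P (r i) χ = f χ o by
      rw [show a P (r i) χ = f χ i from rfl, hrel, if_neg (((hmemR _).1 hχ).1.2 i),
        if_neg (((hmemR _).1 hχ).1.2 o)]; ring] at h
    simp only [Finset.sum_const, Finset.card_univ, Fintype.card_fin, nsmul_eq_mul] at h
    have hP1 : (Nat.card P : ℤ) = (e : ℤ) * t + 1 := by exact_mod_cast het.symm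
    obtain ⟨k, hk⟩ := h
    exact ⟨k - f χ o, by rw [hP1] at hk ⊢; linarith⟩

end Cfsg.Agent.Recognition.ExceptionalValues
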