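import Mathlib

/-!
Manning's theorem: in an extremely primitive group a point stabiliser is faithful on each suborbit.
-/

set_option autoImplicit false

namespace Cfsg.Agent.Recognition.ExtremelyPrimitive

open MulAction
open scoped Pointwise

variable {G : Type*} [Group G] [Finite G] {Ω : Type*} [Fintype Ω] [MulAction G Ω] [FaithfulSMul G Ω]

omit [Finite G] [Fintype Ω] [FaithfulSMul G Ω] in
theorem eq_univ_of_invariant [IsPretransitive G Ω] {A B : Subgroup G} (h : A ⊔ B = ⊤) (S : Set Ω)
    (hA : A ≤ stabilizer G S) (hB : B ≤ stabilizer G S) {x : Ω} (hx : x ∈ S) : S = Set.univ := by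
  refine Set.eq_univ_iff_forall.2 fun y => ?_
  obtain ⟨g, rfl⟩ := exists_smul_eq G x y
  have hg : g ∈ stabilizer G S := sup_le hA hB (h.symm ▸ Subgroup.mem_top g)
  have h' : g • x ∈ g • S := Set.smul_mem_smul_set hx
  rwa [mem_stabilizer_iff.1 hg] at h'

/-- A normal subgroup of a point stabiliser fixing a second point is trivial. -/
theorem eq_bot_of_fixes (hprim : IsPreprimitive G Ω)
    (hep : ∀ (α : Ω) (ω : Ω), IsPreprimitive (stabilizer G α) (orbit (stabilizer G α) ω))
    (α β : Ω) (hβ : β ≠ α) (K : Subgroup G) (hK : K ≤ stabilizer G α)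
    (hn : ∀ h ∈ stabilizer G α, ∀ k ∈ K, h * k * h⁻¹ ∈ K) (hfix : ∀ k ∈ K, k • β = β) : K = ⊥ := by
  classical
  haveI := hprim
  by_contra hK0
  haveI : Nontrivial Ω := ⟨⟨β, α, hβ⟩⟩
  set H := stabilizer G α with hH
  set d : Ω → Ω → ℕ := fun a b => Nat.card (orbit (stabilizer G a) b) with hd
  set S : Finset Ω := Finset.univ.filter fun y => y ≠ α ∧ ∀ k ∈ K, k • y = y with hS
  set W : Finset Ω := Finset.univ.filter fun y => ∃ k ∈ K, k • y ≠ y with hW
  have hSmem : ∀ y, y ∈ S ↔ y ≠ α ∧ ∀ k ∈ K, k • y = y := fun y => by simp [hS]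
  have hWne : W.Nonempty := by
    by_contra h
    rw [Finset.not_nonempty_iff_eq_empty, Finset.filter_eq_empty_iff] at h
    refine hK0 ((Subgroup.eq_bot_iff_forall K).2 fun k hk => eq_of_smul_eq_smul (α := Ω) fun w => ?_)
    rw [one_smul]
    by_contra hw
    exact h (Finset.mem_univ w) ⟨k, hk, hw⟩
  obtain ⟨x, hxW, hxmax⟩ := W.exists_max_image (d α) hWne
  obtain ⟨k₀, hk₀, hk₀x⟩ := (Finset.mem_filter.1 hxW).2
  have hxα : x ≠ α := fun e => hk₀x (e ▸ hK hk₀)
  -- `K` is transitive on the suborbit of `x`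
  have htr : ∀ y ∈ orbit H x, ∃ k ∈ K, k • x = y := by
    intro y hy
    haveI := hep α x
    haveI : (K.subgroupOf H).Normal := ⟨fun k hk h => hn h h.2 k hk⟩
    have hne : fixedPoints (K.subgroupOf H) (orbit H x) ≠ Set.univ := fun h => hk₀x
      (congrArg Subtype.val ((h.symm ▸ Set.mem_univ _ : (⟨x, mem_orbit_self x⟩ : orbit H x) ∈
        fixedPoints (K.subgroupOf H) (orbit H x)) ⟨⟨k₀, hK hk₀⟩, hk₀⟩))
    haveI := IsQuasiPreprimitive.isPretransitive_of_normal (G := H) (X := orbit H x) hne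
    obtain ⟨⟨⟨k, hkH⟩, hk⟩, hkx⟩ :=
      exists_smul_eq (K.subgroupOf H) (⟨x, mem_orbit_self x⟩ : orbit H x) ⟨y, hy⟩
    exact ⟨k, hk, congrArg Subtype.val hkx⟩
  have hstab : ∀ g : G, ∀ a : Ω, stabilizer G (g • a) = (stabilizer G a).map (MulAut.conj g).toMonoidHom :=
    fun g a => stabilizer_smul_eq_stabilizer_map_conj g a
  have hscard : ∀ a b : Ω, Nat.card (stabilizer G a) = Nat.card (stabilizer G b) := fun a b => by
    obtain ⟨g, rfl⟩ := exists_smul_eq G a b
    rw [hstab, Subgroup.card_map_of_injective (MulAut.conj g).injective]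
  -- distinct points have distinct stabilisers, so two of them generate
  have hHne : H ≠ ⊥ := fun h => hK0 (le_bot_iff.1 (h ▸ hK))
  have hdist : ∀ a b : Ω, a ≠ b → stabilizer G a ⊔ stabilizer G b = ⊤ := by
    intro a b hab
    have hmax := (isCoatom_stabilizer_iff_preprimitive (G := G) a).2 hprim
    refine hmax.2 _ (lt_of_le_of_ne le_sup_left fun e => ?_)
    have hle : stabilizer G b ≤ stabilizer G a := e.symm ▸ le_sup_right
    have heq : stabilizer G b = stabilizer G a := Subgroup.eq_of_le_of_card_ge hle (hscard a b).le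
    let B : Set Ω := {y | stabilizer G y = stabilizer G a}
    have hB : IsBlock G B := isBlock_iff_smul_eq_or_disjoint.2 fun g => by
      by_cases hm : ∃ y ∈ B, g • y ∈ B
      · obtain ⟨y, hy, hgy⟩ := hm
        left
        refine Set.eq_of_subset_of_ncard_le ?_ (le_of_eq (Set.ncard_smul_set g B).symm) (Set.toFinite _)
        rintro _ ⟨z, hz, rfl⟩
        change stabilizer G (g • z) = stabilizer G a
        have e : stabilizer G z = stabilizer G y := (hz : stabilizer G z = stabilizer G a).trans (hy : stabilizer G y = stabilizer G a).symm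
        rw [hstab, e, ← hstab]
        exact hgy
      · right
        push_neg at hm
        refine Set.disjoint_left.2 ?_
        rintro _ ⟨z, hz, rfl⟩ h2
        exact hm z hz h2
    rcases hprim.isTrivialBlock_of_isBlock hB with hs | hu
    · exact hab (hs (show a ∈ B from rfl) (show b ∈ B from heq))
    · refine hHne ((Subgroup.eq_bot_iff_forall H).2 fun g hg => eq_of_smul_eq_smul (α := Ω) fun w => ?_)
      have h1 : stabilizer G w = stabilizer G a := Set.eq_univ_iff_forall.1 hu w
      have h2 : stabilizer G α = stabilizer G a := Set.eq_univ_iff_forall.1 hu α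
      rw [one_smul]
      rw [← mem_stabilizer_iff, h1.trans h2.symm]
      exact hg
  -- from a point fixed by `K` the suborbit of `x` grows
  have hgrow : ∀ γ ∈ S, d α x < d γ x := by
    intro γ hγ
    obtain ⟨hγα, hγK⟩ := (hSmem γ).1 hγ
    have hsub : orbit H x ⊆ orbit (stabilizer G γ) x := fun y hy => by
      obtain ⟨k, hk, rfl⟩ := htr y hy
      exact ⟨⟨k, hγK k hk⟩, rfl⟩
    refine lt_of_le_of_ne (Nat.card_mono (Set.toFinite _) hsub) fun e => ?_
    have he : orbit H x = orbit (stabilizer G γ) x :=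
      Set.eq_of_subset_of_ncard_le hsub (by
        rw [← Nat.card_coe_set_eq, ← Nat.card_coe_set_eq]; exact e.ge) (Set.toFinite _)
    have huniv := eq_univ_of_invariant (hdist α γ hγα.symm) (orbit H x)
      (fun g hg => by rw [mem_stabilizer_iff]; exact smul_orbit (⟨g, hg⟩ : H) x)
      (fun g hg => by rw [mem_stabilizer_iff, he]; exact smul_orbit (⟨g, hg⟩ : stabilizer G γ) x)
      (mem_orbit_self x)
    obtain ⟨⟨h, hh⟩, hhx⟩ := (huniv ▸ Set.mem_univ α : α ∈ orbit H x)
    have hhx' : h • x = α := hhx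
    refine hxα ?_
    have := congrArg (fun y => h⁻¹ • y) hhx'
    rwa [inv_smul_smul, inv_smul_eq_iff.2 (hh : h • α = α).symm] at this
  -- pairing
  have hsymm : ∀ a b : Ω, d a b = d b a := by
    have key : ∀ a b : Ω, d a b * Nat.card (stabilizer G a ⊓ stabilizer G b : Subgroup G) = Nat.card (stabilizer G a) := by
      intro a b
      have e : stabilizer (stabilizer G a) b = (stabilizer G a ⊓ stabilizer G b).subgroupOf (stabilizer G a) := by
        ext g
        simp only [mem_stabilizer_iff, Subgroup.mem_subgroupOf, Subgroup.mem_inf]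
        exact ⟨fun h => ⟨g.2, h⟩, fun h => h.2⟩
      change Nat.card (orbit (stabilizer G a) b) * _ = _
      rw [Nat.card_congr (orbitEquivQuotientStabilizer (stabilizer G a) b),
        ← Nat.card_congr (Subgroup.subgroupOfEquivOfLe (inf_le_left : stabilizer G a ⊓ stabilizer G b ≤ _)).toEquiv, ← e]
      exact (Subgroup.card_eq_card_quotient_mul_card_subgroup _).symm
    intro a b
    refine Nat.eq_of_mul_eq_mul_right (Nat.card_pos (α := (stabilizer G a ⊓ stabilizer G b : Subgroup G))) ?_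
    rw [key a b, inf_comm, key b a, hscard]
  -- the big suborbits at `α` and at `x`
  have hequiv : ∀ g : G, ∀ a b : Ω, d (g • a) (g • b) = d a b := by
    intro g a b
    change Nat.card (orbit (stabilizer G (g • a)) (g • b)) = Nat.card (orbit (stabilizer G a) b)
    have e : orbit (stabilizer G (g • a)) (g • b) = g • orbit (stabilizer G a) b := by
      ext y
      constructor
      · rintro ⟨⟨u, hu⟩, rfl⟩
        refine ⟨g⁻¹ • u • g • b, ⟨⟨g⁻¹ * u * g, ?_⟩, ?_⟩, ?_⟩
        · rw [mem_stabilizer_iff, mul_smul, mul_smul, (hu : u • g • a = g • a), inv_smul_smul]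
        · change (g⁻¹ * u * g) • b = g⁻¹ • u • g • b
          rw [mul_smul, mul_smul]
        · exact smul_inv_smul g _
      · rintro ⟨_, ⟨⟨u, hu⟩, rfl⟩, rfl⟩
        refine ⟨⟨g * u * g⁻¹, ?_⟩, ?_⟩
        · rw [mem_stabilizer_iff, mul_smul, mul_smul, inv_smul_smul, (hu : u • a = a)]
        · change (g * u * g⁻¹) • g • b = g • u • b
          rw [mul_smul, mul_smul, inv_smul_smul]
    rw [e, Nat.card_coe_set_eq, Nat.card_coe_set_eq, Set.ncard_smul_set]
  let Bα : Finset Ω := Finset.univ.filter fun y => d α x < d α y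
  let Bx : Finset Ω := Finset.univ.filter fun y => d α x < d x y
  have hBαS : Bα ⊆ S := by
    intro y hy
    have hy' := (Finset.mem_filter.1 hy).2
    refine (hSmem y).2 ⟨fun e => ?_, fun k hk => ?_⟩
    · have h1 : orbit H α = {α} := by
        ext z
        exact ⟨fun ⟨⟨h, hh⟩, hz⟩ => hz ▸ hh, fun hz => by rw [Set.mem_singleton_iff.1 hz]; exact mem_orbit_self α⟩
      have h2 : d α α = 1 := by
        change Nat.card (orbit H α) = 1
        rw [h1, Nat.card_unique]
      have h3 : 0 < d α x := Finite.card_pos_iff.2 ⟨⟨x, mem_orbit_self x⟩⟩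
      rw [e, h2] at hy'
      omega
    · by_contra hky
      exact absurd (hxmax y (Finset.mem_filter.2 ⟨Finset.mem_univ _, k, hk, hky⟩)) (not_le.2 hy')
  have hSBx : S ⊆ Bx := fun y hy => Finset.mem_filter.2 ⟨Finset.mem_univ _, hsymm y x ▸ hgrow y hy⟩
  have hcard : Bx.card ≤ Bα.card := by
    obtain ⟨g, hg⟩ := exists_smul_eq G x α
    refine Finset.card_le_card_of_injOn (g • ·) (fun y hy => ?_) (fun a _ b _ h => smul_left_cancel g h)
    refine Finset.mem_filter.2 ⟨Finset.mem_univ _, ?_⟩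
    rw [← hg, hequiv, hg]
    exact (Finset.mem_filter.1 hy).2
  have hSα : Bα = S := Finset.eq_of_subset_of_card_le hBαS ((Finset.card_le_card hSBx).trans hcard)
  have hSx : S = Bx := Finset.eq_of_subset_of_card_le hSBx (hcard.trans (Finset.card_le_card hBαS))
  have hinv : ∀ a : Ω, stabilizer G a ≤ stabilizer G {y : Ω | d α x < d a y} := by
    intro a g hg
    rw [mem_stabilizer_iff]
    refine Set.ext fun y => ?_
    rw [Set.mem_smul_set_iff_inv_smul_mem]
    change d α x < d a (g⁻¹ • y) ↔ d α x < d a y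
    have h := hequiv g a (g⁻¹ • y)
    rw [(hg : g • a = a), smul_inv_smul] at h
    rw [h]
  have hsame : {y : Ω | d α x < d α y} = {y : Ω | d α x < d x y} := by
    ext y
    have h : y ∈ Bα ↔ y ∈ Bx := by rw [hSα, hSx]
    simpa [Bα, Bx] using h
  have huniv := eq_univ_of_invariant (hdist α x hxα.symm) {y : Ω | d α x < d α y} (hinv α)
    (hsame ▸ hinv x) (show β ∈ {y : Ω | d α x < d α y} from by
      have : β ∈ Bα := hSα ▸ (hSmem β).2 ⟨hβ, hfix⟩
      exact (Finset.mem_filter.1 this).2)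
  have hα : α ∈ Bα := Finset.mem_filter.2 ⟨Finset.mem_univ _, (huniv.symm ▸ Set.mem_univ α : α ∈ {y : Ω | d α x < d α y})⟩
  exact ((hSmem α).1 (hBαS hα)).1 rfl

/-- Faithfulness on a suborbit. -/
theorem eq_one_of_fixes_orbit (hprim : IsPreprimitive G Ω)
    (hep : ∀ (α : Ω) (ω : Ω), IsPreprimitive (stabilizer G α) (orbit (stabilizer G α) ω))
    (α ω : Ω) (hω : ω ≠ α) (h : stabilizer G α) (hfix : ∀ x ∈ orbit (stabilizer G α) ω, h • x = x) :
    h = 1 := by
  let K : Subgroup G :=
    { carrier := {g | g • α = α ∧ ∀ x ∈ orbit (stabilizer G α) ω, g • x = x}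
      one_mem' := ⟨one_smul G α, fun x _ => one_smul G x⟩
      mul_mem' := fun {a b} ha hb => ⟨by rw [mul_smul, hb.1, ha.1], fun x hx => by rw [mul_smul, hb.2 x hx, ha.2 x hx]⟩
      inv_mem' := fun {a} ha => ⟨inv_smul_eq_iff.2 ha.1.symm, fun x hx => inv_smul_eq_iff.2 (ha.2 x hx).symm⟩ }
  have hb := eq_bot_of_fixes hprim hep α ω hω K (fun g hg => hg.1) (fun u hu k hk => by
    refine ⟨by rw [mul_smul, mul_smul, inv_smul_eq_iff.2 (hu : u • α = α).symm, hk.1, hu], fun x hx => ?_⟩
    rw [mul_smul, mul_smul, hk.2 (u⁻¹ • x) (mapsTo_smul_orbit (⟨u, hu⟩⁻¹ : stabilizer G α) ω hx), smul_inv_smul])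
    (fun k hk => hk.2 ω (mem_orbit_self ω))
  exact Subtype.ext ((Subgroup.eq_bot_iff_forall K).1 hb h ⟨h.2, hfix⟩)

end Cfsg.Agent.Recognition.ExtremelyPrimitive
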