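import Mathlib

/-!
An abelian subgroup acting irreducibly on an elementary abelian group: its centraliser spans a field,
and a group normalising it is semilinear over that field.
-/

set_option autoImplicit false

namespace Cfsg.Agent.Recognition.SemilinearBound

theorem ringEquiv_group_finite {F : Type*} [Field F] [Finite F] (p d : ℕ) [hp : Fact p.Prime]
    [CharP F p] (hcard : Nat.card F = p ^ d) :
    IsCyclic (F ≃+* F) ∧ Nat.card (F ≃+* F) = d := by
  letI := ZMod.algebra F p
  let e : (F ≃ₐ[ZMod p] F) ≃* (F ≃+* F) :=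
    { toFun := fun σ => σ.toRingEquiv
      invFun := fun σ => AlgEquiv.ofRingEquiv (f := σ) fun x =>
        RingHom.congr_fun (Subsingleton.elim (σ.toRingHom.comp (algebraMap (ZMod p) F)) (algebraMap (ZMod p) F)) x
      left_inv := fun σ => by ext; rfl
      right_inv := fun σ => by ext; rfl
      map_mul' := fun σ τ => rfl }
  refine ⟨isCyclic_of_surjective e.toMonoidHom e.surjective, ?_⟩
  rw [← Nat.card_congr e.toEquiv, IsGalois.card_aut_eq_finrank (ZMod p) F]
  have h := Module.natCard_eq_pow_finrank (K := ZMod p) (V := F)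
  rw [hcard, Nat.card_zmod] at h
  exact (Nat.pow_right_injective hp.out.two_le h).symm

theorem card_le_of_pow_eq {R : Type*} [CommRing R] [IsDomain R] [Finite R] {n : ℕ} (hn : 1 < n)
    (h : ∀ r : R, r ^ n = r) : Nat.card R ≤ n := by
  classical
  haveI : Fintype R := Fintype.ofFinite R
  letI : Field R := Fintype.fieldOfDomain R
  rw [Nat.card_eq_fintype_card, ← Finset.card_univ, ← FiniteField.X_pow_card_sub_X_natDegree_eq (K' := R) hn]
  refine Polynomial.card_le_degree_of_subset_roots (fun r _ => ?_)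
  rw [Polynomial.mem_roots (FiniteField.X_pow_card_sub_X_ne_zero R hn)]
  simp [Polynomial.IsRoot, h r]

variable {G : Type*} [Group G] (N : Subgroup G) [N.Normal]

/-- Conjugation as endomorphisms of a normal subgroup. -/
def cEnd : G →* AddMonoid.End (Additive N) where
  toFun g := MonoidHom.toAdditive (MulAut.conjNormal g : MulAut N).toMonoidHom
  map_one' := by
    refine AddMonoidHom.ext fun v => Additive.toMul.injective (Subtype.ext ?_)
    change (1 : G) * (v.toMul : N) * (1 : G)⁻¹ = (v.toMul : N)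
    rw [inv_one, mul_one, one_mul]
  map_mul' g h := by
    refine AddMonoidHom.ext fun v => Additive.toMul.injective (Subtype.ext ?_)
    change g * h * (v.toMul : N) * (g * h)⁻¹ = g * (h * (v.toMul : N) * h⁻¹) * g⁻¹
    rw [mul_inv_rev]
    simp only [mul_assoc]

theorem cEnd_apply (g : G) (v : Additive N) :
    (((cEnd N g v).toMul : N) : G) = g * ((v.toMul : N) : G) * g⁻¹ := rfl

variable [Finite G] [IsMulCommutative N]

/-- The statement for the normaliser of an irreducible abelian `M`. -/
theorem main (p d : ℕ) [hp : Fact p.Prime] (hcard : Nat.card N = p ^ d) (hNp : ∀ n ∈ N, n ^ p = 1)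
    (hd : 0 < d) (H M : Subgroup G) (hMH : M ≤ H) (hMn : ∀ h ∈ H, ∀ m ∈ M, h * m * h⁻¹ ∈ M)
    (hMc : ∀ x ∈ M, ∀ y ∈ M, x * y = y * x)
    (hfaith : ∀ h ∈ H, (∀ n ∈ N, h * n * h⁻¹ = n) → h = 1)
    (hirr : ∀ L : Subgroup G, L ≤ N → (∀ m ∈ M, ∀ l ∈ L, m * l * m⁻¹ ∈ L) → L = ⊥ ∨ L = N)
    (horb : ∀ h ∈ H, ∀ n ∈ N, ∃ m ∈ M, h * n * h⁻¹ = m * n * m⁻¹) :
    IsCyclic M ∧ (∀ i, 0 < i → i < d → ¬ Nat.card M ∣ p ^ i - 1) ∧
      ∃ ψ : H →* Multiplicative (ZMod d), ψ.ker = M.subgroupOf H := by
  classical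
  open scoped IsMulCommutative in
  let R : Subring (AddMonoid.End (Additive N)) := Subring.closure (cEnd N '' (M : Set G))
  haveI : IsMulCommutative R := Subring.isMulCommutative_closure (by
    rintro _ ⟨x, hx, rfl⟩ _ ⟨y, hy, rfl⟩
    rw [← map_mul, ← map_mul, hMc x hx y hy])
  have hsub : ∀ A : AddSubgroup (Additive N), (∀ m ∈ M, ∀ v ∈ A, cEnd N m v ∈ A) → A = ⊥ ∨ A = ⊤ := by
    intro A hA
    let L : Subgroup G := (AddSubgroup.toSubgroup' A).map N.subtype
    have hmem : ∀ v : Additive N, ((v.toMul : N) : G) ∈ L ↔ v ∈ A := by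
      intro v
      refine ⟨?_, fun hv => ⟨v.toMul, hv, rfl⟩⟩
      rintro ⟨w, hw, hwv⟩
      obtain rfl : w = v.toMul := N.subtype_injective hwv
      exact hw
    rcases hirr L (Subgroup.map_subtype_le _) (by
      rintro m hm _ ⟨w, hw, rfl⟩
      exact (hmem (cEnd N m (Additive.ofMul w))).2 (hA m hm _ hw)) with h | h
    · left
      refine (AddSubgroup.eq_bot_iff_forall A).2 fun v hv => ?_
      have := (hmem v).2 hv
      rw [h, Subgroup.mem_bot] at this
      apply Additive.toMul.injective
      exact Subtype.ext this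
    · right
      exact (AddSubgroup.eq_top_iff' A).2 fun v => (hmem v).1 (h.symm ▸ (v.toMul : N).2)
  have hcm : ∀ r ∈ R, ∀ m ∈ M, r * cEnd N m = cEnd N m * r := fun r hr m hm =>
    congrArg Subtype.val (mul_comm' (⟨r, hr⟩ : R) ⟨cEnd N m, Subring.subset_closure ⟨m, hm, rfl⟩⟩)
  have hinj : ∀ r ∈ R, r ≠ 0 → ∀ v, r v = 0 → v = 0 := by
    intro r hr hr0 v hv
    rcases hsub (AddMonoidHom.ker (r : Additive N →+ Additive N)) (fun m hm w hw => by
      have hw' : r w = 0 := hw
      change r (cEnd N m w) = 0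
      rw [show r (cEnd N m w) = (r * cEnd N m) w from rfl, hcm r hr m hm]
      change cEnd N m (r w) = 0
      rw [hw']
      exact map_zero _) with h | h
    · have : v ∈ AddMonoidHom.ker (r : Additive N →+ Additive N) := hv
      rwa [h, AddSubgroup.mem_bot] at this
    · refine absurd (AddMonoidHom.ext fun w => ?_) hr0
      have : w ∈ AddMonoidHom.ker (r : Additive N →+ Additive N) := h ▸ AddSubgroup.mem_top w
      exact this
  obtain ⟨v0, hv0⟩ : ∃ v0 : Additive N, v0 ≠ 0 := by
    haveI : Nontrivial N := Finite.one_lt_card_iff_nontrivial.1 (hcard ▸ Nat.one_lt_pow hd.ne' hp.out.one_lt)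
    exact exists_ne 0
  let ev : R →+ Additive N :=
    { toFun := fun r => r.1 v0, map_zero' := rfl, map_add' := fun _ _ => rfl }
  have hev : Function.Bijective ev := by
    refine ⟨(injective_iff_map_eq_zero ev).2 fun r hr => ?_, ?_⟩
    · by_contra h
      exact hv0 (hinj r.1 r.2 (fun e => h (Subtype.ext e)) v0 hr)
    · rcases hsub ev.range (fun m hm w hw => by
        obtain ⟨r, rfl⟩ := hw
        exact ⟨⟨cEnd N m, Subring.subset_closure ⟨m, hm, rfl⟩⟩ * r, rfl⟩) with h | h
      · exfalso
        have : v0 ∈ ev.range := ⟨1, rfl⟩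
        rw [h, AddSubgroup.mem_bot] at this
        exact hv0 this
      · exact AddMonoidHom.range_eq_top.1 h
  haveI : Finite R := Finite.of_injective ev hev.1
  have hRcard : Nat.card R = p ^ d := by
    rw [Nat.card_eq_of_bijective ev hev, ← hcard]
    exact Nat.card_congr Additive.toMul
  haveI : Nontrivial R := ⟨⟨1, 0, fun h => hv0 (congrArg (fun r : R => r.1 v0) h)⟩⟩
  haveI : NoZeroDivisors R := ⟨fun {a b} hab => by
    by_contra h
    push_neg at h
    have hb : b.1 v0 ≠ 0 := fun e => hv0 (hinj b.1 b.2 (fun e' => h.2 (Subtype.ext e')) v0 e)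
    exact hb (hinj a.1 a.2 (fun e' => h.1 (Subtype.ext e')) _ (congrArg (fun r : R => r.1 v0) hab))⟩
  open scoped IsMulCommutative in
  haveI : IsDomain R := NoZeroDivisors.to_isDomain R
  open scoped IsMulCommutative in
  haveI : CharP R p := by
    have hp0 : (p : R) = 0 := hev.1 (by
      rw [map_zero, ← nsmul_one, map_nsmul]
      apply Additive.toMul.injective
      rw [toMul_nsmul, toMul_zero]
      exact Subtype.ext (by simpa using hNp _ (ev 1).toMul.2))
    exact (CharP.charP_iff_prime_eq_zero hp.out).2 hp0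
  let cR : M →* R :=
    { toFun := fun m => ⟨cEnd N m, Subring.subset_closure ⟨m, m.2, rfl⟩⟩
      map_one' := Subtype.ext (map_one _)
      map_mul' := fun a b => Subtype.ext (map_mul _ (a : G) b) }
  have hcinj : ∀ g ∈ H, cEnd N g = 1 → g = 1 := fun g hg h => hfaith g hg fun n hn => by
    have := congrArg (fun r : AddMonoid.End (Additive N) => (((r (Additive.ofMul (⟨n, hn⟩ : N))).toMul : N) : G)) h
    simpa [cEnd_apply] using this
  have hcRinj : Function.Injective cR := (injective_iff_map_eq_one cR).2 fun m hm =>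
    Subtype.ext (hcinj m (hMH m.2) (congrArg Subtype.val hm))
  -- the centraliser of `M` in `H` is `M`
  have hcen : ∀ h ∈ H, (∀ m ∈ M, h * m * h⁻¹ = m) → h ∈ M := by
    intro h hh hc
    obtain ⟨r, hr⟩ := hev.2 (cEnd N h v0)
    have hcomm : ∀ s ∈ R, cEnd N h * s = s * cEnd N h := by
      intro s hs
      have hle : R ≤ Subring.centralizer ({cEnd N h} : Set (AddMonoid.End (Additive N))) := by
        refine Subring.closure_le.2 ?_
        rintro _ ⟨m, hm, rfl⟩
        refine Subring.mem_centralizer_iff.2 ?_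
        rintro _ rfl
        rw [← map_mul, ← map_mul, mul_inv_eq_iff_eq_mul.1 (hc m hm)]
      exact Subring.mem_centralizer_iff.1 (hle hs) _ rfl
    obtain ⟨m, hm, hmn⟩ := horb h hh _ (v0.toMul : N).2
    have h1 : cEnd N h v0 = cEnd N m v0 := Additive.toMul.injective (Subtype.ext hmn)
    have h2 : cEnd N h = cEnd N m := by
      refine AddMonoidHom.ext fun v => ?_
      obtain ⟨s, rfl⟩ := hev.2 v
      change cEnd N h (s.1 v0) = cEnd N m (s.1 v0)
      calc cEnd N h (s.1 v0) = (cEnd N h * s.1) v0 := rfl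
        _ = s.1 (cEnd N h v0) := by rw [hcomm s.1 s.2]; rfl
        _ = s.1 (cEnd N m v0) := by rw [h1]
        _ = (s.1 * cEnd N m) v0 := rfl
        _ = cEnd N m (s.1 v0) := by rw [hcm s.1 s.2 m hm]; rfl
    have h3 := hcinj (h * m⁻¹) (H.mul_mem hh (H.inv_mem (hMH hm))) (by
      rw [map_mul, h2, ← map_mul, mul_inv_cancel, map_one])
    rwa [mul_inv_eq_one.1 h3]
  open scoped IsMulCommutative in
  have hcyc : IsCyclic M := isCyclic_of_subgroup_isDomain cR hcRinj
  refine ⟨hcyc, fun i hi hid hdvd => ?_, ?_⟩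
  · open scoped IsMulCommutative in
    haveI : ExpChar R p := ExpChar.prime hp.out
    open scoped IsMulCommutative in
    let S : Subring R := (iterateFrobenius R p i).eqLocus (RingHom.id R)
    have hS : ∀ r ∈ R, ∃ hr : r ∈ R, (⟨r, hr⟩ : R) ∈ S := by
      have hle : R ≤ S.map R.subtype := by
        refine Subring.closure_le.2 ?_
        rintro _ ⟨m, hm, rfl⟩
        refine ⟨cR ⟨m, hm⟩, ?_, rfl⟩
        change cR ⟨m, hm⟩ ^ p ^ i = cR ⟨m, hm⟩
        have h1 : (⟨m, hm⟩ : M) ^ (p ^ i - 1) = 1 :=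
          orderOf_dvd_iff_pow_eq_one.1 ((orderOf_dvd_natCard _).trans hdvd)
        rw [← Nat.sub_add_cancel (Nat.one_le_pow i p hp.out.pos), pow_succ, ← map_pow, h1, map_one, one_mul]
      intro r hr
      obtain ⟨⟨s, hs⟩, hsS, rfl⟩ := hle hr
      exact ⟨hs, hsS⟩
    have hroot : ∀ r : R, r ^ p ^ i = r := fun r => (hS r.1 r.2).2
    open scoped IsMulCommutative in
    have hle : Nat.card R ≤ p ^ i := by
      exact card_le_of_pow_eq (Nat.one_lt_pow hi.ne' hp.out.one_lt) hroot
    rw [hRcard] at hle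
    exact absurd hle (not_le.2 (Nat.pow_lt_pow_right hp.out.one_lt hid))
  · have hmap : ∀ h ∈ H, ∀ r ∈ R, cEnd N h * r * cEnd N h⁻¹ ∈ R := by
      intro h hh r hr
      induction hr using Subring.closure_induction with
      | mem x hx =>
        obtain ⟨m, hm, rfl⟩ := hx
        rw [← map_mul, ← map_mul]
        exact Subring.subset_closure ⟨_, hMn h hh m hm, rfl⟩
      | zero => rw [mul_zero, zero_mul]; exact R.zero_mem
      | one => rw [mul_one, ← map_mul, mul_inv_cancel, map_one]; exact R.one_mem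
      | add x y _ _ hx hy => rw [mul_add, add_mul]; exact R.add_mem hx hy
      | neg x _ hx => convert R.neg_mem hx using 1; exact AddMonoidHom.ext fun v => map_neg (cEnd N h) _
      | mul x y _ _ hx hy =>
        have : cEnd N h * (x * y) * cEnd N h⁻¹ = (cEnd N h * x * cEnd N h⁻¹) * (cEnd N h * y * cEnd N h⁻¹) := by
          simp only [mul_assoc]
          rw [← mul_assoc (cEnd N h⁻¹) (cEnd N h), ← map_mul (cEnd N) h⁻¹ h, inv_mul_cancel, map_one, one_mul]
        rw [this]; exact R.mul_mem hx hy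
    let conjR : H → (R ≃+* R) := fun h =>
      { toFun := fun r => ⟨_, hmap h h.2 r.1 r.2⟩
        invFun := fun r => ⟨cEnd N (h : G)⁻¹ * r.1 * cEnd N (h : G), by
          simpa using hmap (h : G)⁻¹ (H.inv_mem h.2) r.1 r.2⟩
        left_inv := fun r => Subtype.ext (by
          simp only [mul_assoc]
          rw [← map_mul (cEnd N) (h : G)⁻¹ h, inv_mul_cancel, map_one, mul_one, ← mul_assoc, ← map_mul (cEnd N) (h : G)⁻¹ h,
            inv_mul_cancel, map_one, one_mul])
        right_inv := fun r => Subtype.ext (by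
          simp only [mul_assoc]
          rw [← map_mul (cEnd N) (h : G) (h : G)⁻¹, mul_inv_cancel, map_one, mul_one, ← mul_assoc,
            ← map_mul (cEnd N) (h : G) (h : G)⁻¹, mul_inv_cancel, map_one, one_mul])
        map_mul' := fun r s => Subtype.ext (by
          simp only [MulMemClass.coe_mul, mul_assoc]
          rw [← mul_assoc (cEnd N (h : G)⁻¹) (cEnd N (h : G)), ← map_mul (cEnd N) (h : G)⁻¹ h, inv_mul_cancel,
            map_one, one_mul])
        map_add' := fun r s => Subtype.ext (by simp only [AddMemClass.coe_add, mul_add, add_mul]) }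
    let φ : H →* (R ≃+* R) :=
      { toFun := conjR
        map_one' := RingEquiv.ext fun r => Subtype.ext (by simp [conjR])
        map_mul' := fun a b => RingEquiv.ext fun r => Subtype.ext (by
          change cEnd N ((a : G) * b) * r.1 * cEnd N ((a : G) * b)⁻¹ =
            cEnd N a * (cEnd N b * r.1 * cEnd N (b : G)⁻¹) * cEnd N (a : G)⁻¹
          rw [mul_inv_rev, map_mul, map_mul]
          simp only [mul_assoc]) }
    obtain ⟨hA1, hA2⟩ : IsCyclic (R ≃+* R) ∧ Nat.card (R ≃+* R) = d := by
      haveI : Fintype R := Fintype.ofFinite R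
      open scoped IsMulCommutative in
      letI : Field R := Fintype.fieldOfDomain R
      exact ringEquiv_group_finite p d hRcard
    let e : (R ≃+* R) ≃* Multiplicative (ZMod d) :=
      (zmodCyclicMulEquiv hA1).symm.trans (AddEquiv.toMultiplicative (ZMod.ringEquivCongr hA2).toAddEquiv)
    refine ⟨e.toMonoidHom.comp φ, ?_⟩
    ext h
    rw [MonoidHom.mem_ker, Subgroup.mem_subgroupOf, MonoidHom.comp_apply]
    change e (φ h) = 1 ↔ _
    rw [map_eq_one_iff e e.injective]
    constructor
    · intro hφ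
      refine hcen h h.2 fun m hm => ?_
      have h1 : cEnd N (h : G) * cEnd N m * cEnd N (h : G)⁻¹ = cEnd N m :=
        congrArg Subtype.val (RingEquiv.congr_fun hφ (cR ⟨m, hm⟩))
      rw [← map_mul, ← map_mul] at h1
      have h2 := hcinj (((h : G) * m * (h : G)⁻¹) * m⁻¹)
        (H.mul_mem (hMH (hMn h h.2 m hm)) (H.inv_mem (hMH hm))) (by
          rw [map_mul, h1, ← map_mul, mul_inv_cancel, map_one])
      exact mul_inv_eq_one.1 h2
    · intro hm
      refine RingEquiv.ext fun r => Subtype.ext ?_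
      change cEnd N (h : G) * r.1 * cEnd N (h : G)⁻¹ = r.1
      rw [← hcm r.1 r.2 h hm, mul_assoc, ← map_mul, mul_inv_cancel, map_one, mul_one]

end Cfsg.Agent.Recognition.SemilinearBound
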