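import Cfsg.Agent.Recognition.ExtremelyPrimitive
import Cfsg.Agent.Recognition.SemilinearBound
import Cfsg.Agent.Lib.Cores.Fitting

/-!
The structure of the point stabiliser of an extremely primitive group.
-/

set_option autoImplicit false

namespace Cfsg.Agent.Recognition.ExtremelyPrimitiveStab

open MulAction

/-- Automorphisms of an elementary abelian group as matrices. -/
theorem exists_glHom {H A : Type*} [Group H] [CommGroup A] [Finite A] {p e : ℕ} [Fact p.Prime]
    (he : Nat.card A = p ^ e) (hexp : ∀ x : A, x ^ p = 1) (ψ : H →* MulAut A) :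
    ∃ φ : H →* GL (Fin e) (ZMod p), φ.ker = ψ.ker := by
  have hpx : ∀ x : Additive A, p • x = 0 := fun x => by
    apply Additive.toMul.injective
    rw [toMul_nsmul, toMul_zero]
    exact hexp _
  letI : Module (ZMod p) (Additive A) := AddCommGroup.zmodModule (n := p) hpx
  haveI : Module.Finite (ZMod p) (Additive A) := Module.Finite.of_finite
  have hrank : Module.finrank (ZMod p) (Additive A) = e := by
    have h : Nat.card (Additive A) = Nat.card (ZMod p) ^ Module.finrank (ZMod p) (Additive A) :=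
      Module.natCard_eq_pow_finrank (K := ZMod p) (V := Additive A)
    rw [Nat.card_congr (Additive.toMul (α := A)), he, Nat.card_zmod] at h
    exact (Nat.pow_right_injective (Fact.out : p.Prime).two_le h).symm
  let b := Module.finBasisOfFinrankEq (ZMod p) (Additive A) hrank
  let L : MulAut A → (Additive A →ₗ[ZMod p] Additive A) :=
    fun f => AddMonoidHom.toZModLinearMap p (MonoidHom.toAdditive f.toMonoidHom)
  let φ₀ : MulAut A →* Matrix (Fin e) (Fin e) (ZMod p) :=
    { toFun := fun f => LinearMap.toMatrix b b (L f)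
      map_one' := by
        rw [show L 1 = LinearMap.id from LinearMap.ext fun _ => rfl, LinearMap.toMatrix_id]
      map_mul' := fun f g => by
        rw [show L (f * g) = (L f).comp (L g) from LinearMap.ext fun _ => rfl,
          LinearMap.toMatrix_comp b b b] }
  refine ⟨(φ₀.comp ψ).toHomUnits, ?_⟩
  ext g
  rw [MonoidHom.mem_ker, MonoidHom.mem_ker, Units.ext_iff]
  constructor
  · intro h
    have h1 : LinearMap.toMatrix b b (L (ψ g)) = LinearMap.toMatrix b b LinearMap.id := by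
      rw [LinearMap.toMatrix_id]
      exact h
    exact MulEquiv.ext fun a => congrArg Additive.toMul
      (LinearMap.congr_fun ((LinearMap.toMatrix b b).injective h1) (Additive.ofMul a))
  · intro h
    change φ₀ (ψ g) = 1
    rw [h, map_one]

variable {G : Type*} [Group G] [Finite G] {Ω : Type*} [Fintype Ω] [MulAction G Ω] [FaithfulSMul G Ω]
  (hprim : IsPreprimitive G Ω)
  (hep : ∀ (α : Ω) (ω : Ω), IsPreprimitive (stabilizer G α) (orbit (stabilizer G α) ω))
  (α : Ω)

include hprim hep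

/-- A nontrivial normal subgroup of the stabiliser is transitive on each suborbit. -/
theorem exists_mem_smul (A : Subgroup (stabilizer G α)) [hA : A.Normal] (hA0 : A ≠ ⊥) {ω : Ω} (hω : ω ≠ α)
    (y : Ω) (hy : y ∈ orbit (stabilizer G α) ω) : ∃ a ∈ A, a • ω = y := by
  haveI := hep α ω
  have hne : fixedPoints A (orbit (stabilizer G α) ω) ≠ Set.univ := by
    intro h
    refine hA0 ((Subgroup.eq_bot_iff_forall A).2 fun a ha => ?_)
    refine ExtremelyPrimitive.eq_one_of_fixes_orbit hprim hep α ω hω a fun x hx => ?_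
    exact congrArg Subtype.val ((h.symm ▸ Set.mem_univ _ : (⟨x, hx⟩ : orbit (stabilizer G α) ω) ∈
      fixedPoints A (orbit (stabilizer G α) ω)) ⟨a, ha⟩)
  haveI := IsQuasiPreprimitive.isPretransitive_of_normal (G := stabilizer G α) (X := orbit (stabilizer G α) ω) hne
  obtain ⟨⟨a, ha⟩, hay⟩ := exists_smul_eq A (⟨ω, mem_orbit_self ω⟩ : orbit (stabilizer G α) ω) ⟨y, hy⟩
  exact ⟨a, ha, congrArg Subtype.val hay⟩

/-- An abelian normal subgroup contains its centraliser. -/
theorem mem_of_commute (A : Subgroup (stabilizer G α)) [hA : A.Normal] (hA0 : A ≠ ⊥)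
    (hAc : ∀ a ∈ A, ∀ b ∈ A, a * b = b * a) {ω : Ω} (hω : ω ≠ α) (c : stabilizer G α)
    (hc : ∀ a ∈ A, c * a = a * c) : c ∈ A := by
  obtain ⟨a, ha, hac⟩ := exists_mem_smul hprim hep α A hA0 hω (c • ω) ⟨c, rfl⟩
  have h1 : a⁻¹ * c = 1 := by
    refine ExtremelyPrimitive.eq_one_of_fixes_orbit hprim hep α ω hω _ fun x hx => ?_
    obtain ⟨b, hb, rfl⟩ := exists_mem_smul hprim hep α A hA0 hω x hx
    have hab : a⁻¹ * c * b = b * (a⁻¹ * c) := by
      rw [mul_assoc, hc b hb, ← mul_assoc, ← mul_assoc, hAc a⁻¹ (A.inv_mem ha) b hb]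
    rw [← mul_smul, hab, mul_smul, mul_smul, ← hac, inv_smul_smul]
  rw [← inv_mul_eq_one.1 h1]
  exact ha

/-- An abelian normal subgroup is semiregular. -/
theorem eq_one_of_smul_eq (A : Subgroup (stabilizer G α)) [hA : A.Normal]
    (hAc : ∀ a ∈ A, ∀ b ∈ A, a * b = b * a) {ω : Ω} (hω : ω ≠ α) (a : stabilizer G α) (ha : a ∈ A)
    (hfix : a • ω = ω) : a = 1 := by
  by_cases hA0 : A = ⊥
  · exact (Subgroup.eq_bot_iff_forall A).1 hA0 a ha
  refine ExtremelyPrimitive.eq_one_of_fixes_orbit hprim hep α ω hω a fun x hx => ?_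
  obtain ⟨b, hb, rfl⟩ := exists_mem_smul hprim hep α A hA0 hω x hx
  rw [← mul_smul, hAc a ha b hb, mul_smul, hfix]

theorem card_orbit_eq (A : Subgroup (stabilizer G α)) [hA : A.Normal] (hA0 : A ≠ ⊥)
    (hAc : ∀ a ∈ A, ∀ b ∈ A, a * b = b * a) {ω : Ω} (hω : ω ≠ α) :
    Nat.card (orbit (stabilizer G α) ω) = Nat.card A := by
  refine (Nat.card_eq_of_bijective (fun a : A => (⟨(a : stabilizer G α) • ω, mem_orbit ω _⟩ : orbit (stabilizer G α) ω))
    ⟨fun a b h => ?_, fun ⟨y, hy⟩ => ?_⟩).symm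
  · have h1 : (a : stabilizer G α) • ω = (b : stabilizer G α) • ω := congrArg Subtype.val h
    refine Subtype.ext (inv_mul_eq_one.1 (eq_one_of_smul_eq hprim hep α A hAc hω _ (A.mul_mem (A.inv_mem b.2) a.2) ?_)).symm
    rw [mul_smul, h1, inv_smul_smul]
  · obtain ⟨a, ha, rfl⟩ := exists_mem_smul hprim hep α A hA0 hω y hy
    exact ⟨⟨a, ha⟩, rfl⟩

/-- A nontrivial normal subgroup of an abelian normal subgroup is all of it. -/
theorem eq_of_le (A B : Subgroup (stabilizer G α)) [hA : A.Normal] [hB : B.Normal] (hB0 : B ≠ ⊥) (hBA : B ≤ A)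
    (hAc : ∀ a ∈ A, ∀ b ∈ A, a * b = b * a) {ω : Ω} (hω : ω ≠ α) : B = A := by
  have hA0 : A ≠ ⊥ := fun h => hB0 (le_bot_iff.1 (h ▸ hBA))
  refine Subgroup.eq_of_le_of_card_ge hBA (le_of_eq ?_)
  rw [← card_orbit_eq hprim hep α A hA0 hAc hω,
    card_orbit_eq hprim hep α B hB0 (fun a ha b hb => hAc a (hBA ha) b (hBA hb)) hω]

theorem main (hH1 : stabilizer G α ≠ ⊥) (hHp : ¬ (Nat.card (stabilizer G α)).Prime) :
    Subgroup.center (stabilizer G α) = ⊥ ∧
    IsMulCommutative (Cfsg.fittingSubgroup (stabilizer G α)) ∧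
    ∃ p e : ℕ, p.Prime ∧ Nat.card (Cfsg.fittingSubgroup (stabilizer G α)) = p ^ e ∧
      (∀ x ∈ Cfsg.fittingSubgroup (stabilizer G α), x ^ p = 1) ∧
      (Cfsg.fittingSubgroup (stabilizer G α) ≠ ⊥ →
        p ^ e ∣ Fintype.card Ω - 1 ∧
        ∃ φ : stabilizer G α →* GL (Fin e) (ZMod p), φ.ker = Cfsg.fittingSubgroup (stabilizer G α)) := by
  classical
  set H := stabilizer G α with hH
  obtain ⟨ω, hω⟩ : ∃ ω : Ω, ω ≠ α := by
    by_contra h
    push_neg at h
    obtain ⟨⟨g, hg⟩, hg1⟩ := Subgroup.ne_bot_iff_exists_ne_one.1 hH1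
    exact hg1 (Subtype.ext (eq_of_smul_eq_smul (α := Ω) fun w => by rw [h w]; exact (hg : g • α = α).trans (one_smul G α).symm))
  have hZ : Subgroup.center H = ⊥ := by
    by_contra hZ
    have hZc : ∀ a ∈ Subgroup.center H, ∀ b ∈ Subgroup.center H, a * b = b * a :=
      fun a _ b hb => Subgroup.mem_center_iff.1 hb a
    have htop : Subgroup.center H = ⊤ := (Subgroup.eq_top_iff' _).2 fun c =>
      mem_of_commute hprim hep α _ hZ hZc hω c fun a ha => (Subgroup.mem_center_iff.1 ha c)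
    have hc : ∀ a b : H, a * b = b * a := fun a b => hZc a (htop ▸ Subgroup.mem_top a) b (htop ▸ Subgroup.mem_top b)
    haveI : Nontrivial H := (Subgroup.nontrivial_iff_ne_bot _).2 hH1
    haveI := Fact.mk (Nat.minFac_prime (Finite.one_lt_card (α := H)).ne')
    obtain ⟨u, hu⟩ := exists_prime_orderOf_dvd_card' (G := H) _ (Nat.minFac_dvd (Nat.card H))
    haveI : (Subgroup.zpowers u).Normal := ⟨fun n hn g => by rwa [hc g n, mul_inv_cancel_right]⟩
    have h := eq_of_le hprim hep α ⊤ (Subgroup.zpowers u) (fun h => (Nat.minFac_prime (Finite.one_lt_card (α := H)).ne').ne_one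
      (by rw [← hu, orderOf_eq_one_iff]; exact Subgroup.zpowers_eq_bot.1 h)) le_top (fun a _ b _ => hc a b) hω
    refine hHp ?_
    rw [← Subgroup.card_top (G := H), ← h, Nat.card_zpowers, hu]
    exact Nat.minFac_prime (Finite.one_lt_card (α := H)).ne'
  set F := Cfsg.fittingSubgroup H with hF
  by_cases hF0 : F = ⊥
  · refine ⟨hZ, ?_, 2, 0, Nat.prime_two, by rw [hF0, Subgroup.card_bot, pow_zero], fun x hx => ?_, fun h => absurd hF0 h⟩
    · rw [hF0]; infer_instance
    · rw [hF0, Subgroup.mem_bot] at hx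
      rw [hx, one_pow]
  haveI hFnil : Group.IsNilpotent F := Cores.fittingSubgroup_isNilpotent
  haveI : Nontrivial F := (Subgroup.nontrivial_iff_ne_bot F).2 hF0
  haveI hFn : F.Normal := Cores.fittingSubgroup_normal
  have hFc : ∀ a ∈ F, ∀ b ∈ F, a * b = b * a := by
    set A := (Subgroup.center F).map F.subtype with hA
    haveI : A.Normal := ConjAct.normal_of_characteristic_of_normal
    have hA0 : A ≠ ⊥ := fun h => by
      rw [hA, Subgroup.map_eq_bot_iff_of_injective _ F.subtype_injective] at h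
      exact (Group.IsNilpotent.center_ne_bot (G := F)) h
    have hAF : ∀ a ∈ A, ∀ b ∈ F, a * b = b * a := by
      rintro _ ⟨a, ha, rfl⟩ b hb
      exact congrArg Subtype.val (Subgroup.mem_center_iff.1 ha ⟨b, hb⟩).symm
    have hAle : A ≤ F := Subgroup.map_subtype_le _
    intro a ha b hb
    exact hAF a (mem_of_commute hprim hep α A hA0 (fun x hx y hy => hAF x hx y (hAle hy)) hω a
      fun x hx => (hAF x hx a ha).symm) b hb
  haveI hFcomm : IsMulCommutative F := ⟨⟨fun a b => Subtype.ext (hFc a a.2 b b.2)⟩⟩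
  haveI := Fact.mk (Nat.minFac_prime (Finite.one_lt_card (α := F)).ne')
  obtain ⟨u, hu⟩ := exists_prime_orderOf_dvd_card' (G := F) _ (Nat.minFac_dvd (Nat.card F))
  set p := (Nat.card F).minFac
  let B : Subgroup H :=
    { carrier := {x | x ∈ F ∧ x ^ p = 1}
      one_mem' := ⟨F.one_mem, one_pow p⟩
      mul_mem' := fun {a b} ha hb => ⟨F.mul_mem ha.1 hb.1, by
        rw [(show Commute a b from hFc a ha.1 b hb.1).mul_pow, ha.2, hb.2, one_mul]⟩
      inv_mem' := fun {a} ha => ⟨F.inv_mem ha.1, by rw [inv_pow, ha.2, inv_one]⟩ }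
  haveI : B.Normal := ⟨fun x hx g => ⟨hFn.conj_mem x hx.1 g, by rw [conj_pow, hx.2, mul_one, mul_inv_cancel]⟩⟩
  have hBF : B = F := eq_of_le hprim hep α F B (fun h => (Fact.out : p.Prime).ne_one (by
      rw [← hu, ← Subgroup.orderOf_coe, orderOf_eq_one_iff]
      exact (Subgroup.eq_bot_iff_forall B).1 h u ⟨u.2, by rw [← hu, ← Subgroup.orderOf_coe]; exact pow_orderOf_eq_one _⟩))
    (fun x hx => hx.1) hFc hω
  have hexp : ∀ x ∈ F, x ^ p = 1 := fun x hx => (hBF.symm ▸ hx : x ∈ B).2
  obtain ⟨e, he⟩ := IsPGroup.iff_card.1 (show IsPGroup p F from fun x => ⟨1, by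
    rw [pow_one]; exact Subtype.ext (by rw [SubmonoidClass.coe_pow, OneMemClass.coe_one]; exact hexp x x.2)⟩)
  refine ⟨hZ, hFcomm, p, e, Fact.out, he, hexp, fun _ => ⟨?_, ?_⟩⟩
  · -- the suborbits other than the point all have `p ^ e` points
    rw [← he, ← Finset.card_univ, ← Finset.card_erase_of_mem (Finset.mem_univ α),
      Finset.card_eq_sum_card_image (fun y => orbit H y) (Finset.univ.erase α)]
    refine Finset.dvd_sum fun O hO => ?_
    obtain ⟨y, hy, rfl⟩ := Finset.mem_image.1 hO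
    have hyα := Finset.ne_of_mem_erase hy
    rw [← card_orbit_eq hprim hep α F hF0 hFc hyα, Nat.card_eq_fintype_card, ← Set.toFinset_card]
    refine dvd_of_eq (congrArg Finset.card ?_)
    ext z
    simp only [Set.mem_toFinset, Finset.mem_filter, Finset.mem_erase, Finset.mem_univ, and_true]
    refine ⟨fun hz => ⟨fun e => ?_, orbit_eq_iff.2 hz⟩, fun hz => hz.2 ▸ mem_orbit_self z⟩
    obtain ⟨⟨h, hh⟩, hhz⟩ := e ▸ hz
    have hhz' : h • y = α := hhz
    exact hyα (smul_left_cancel h (hhz'.trans (hh : h • α = α).symm))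
  · -- conjugation on `F`
    open scoped IsMulCommutative in
    obtain ⟨φ, hφ⟩ := exists_glHom (A := F) (p := p) he
      (fun x => Subtype.ext (by rw [SubmonoidClass.coe_pow, OneMemClass.coe_one]; exact hexp _ x.2))
      (MulAut.conjNormal (H := F))
    refine ⟨φ, hφ.trans ?_⟩
    ext g
    rw [MonoidHom.mem_ker]
    constructor
    · intro h
      refine mem_of_commute hprim hep α F hF0 hFc hω g fun a ha => ?_
      have h1 : g * a * g⁻¹ = a := congrArg Subtype.val (MulEquiv.congr_fun h ⟨a, ha⟩)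
      exact mul_inv_eq_iff_eq_mul.1 h1
    · intro hg
      refine MulEquiv.ext fun v => Subtype.ext ?_
      change g * (v : H) * g⁻¹ = (v : H)
      rw [hFc g hg _ v.2, mul_inv_cancel_right]

end Cfsg.Agent.Recognition.ExtremelyPrimitiveStab
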