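import Mathlib
import Cfsg.Agent.Lib.Characters.Frobenius
import Cfsg.Agent.S0183

/-!
# Simple groups whose elements are tagged by maximal subgroups of an automorphism group

If every element `t` of a simple group `T` is tagged by a maximal non-normal subgroup `M t` of a
group `K` meeting a normal subgroup `L`, which covers `T`, in the centraliser of `t`, and commuting
elements tag compatibly, then `T` cannot be nonabelian.
-/

set_option autoImplicit false

namespace Cfsg.Agent.Recognition.MaximalPartition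

variable {K T : Type*} [Group K] [Group T]

/-- the tagging data -/
structure Tag (L : Subgroup K) (π : L →* T) (M : T → Subgroup K) : Prop where
  normal : L.Normal
  surj : Function.Surjective π
  one : M 1 = ⊤
  coatom : ∀ t, t ≠ 1 → IsCoatom (M t)
  not_normal : ∀ t, t ≠ 1 → ¬ (M t).Normal
  mem_iff : ∀ t, ∀ l : L, (l : K) ∈ M t ↔ π l * t = t * π l
  conj : ∀ t, ∀ l : L, M (π l * t * (π l)⁻¹) = (M t).map (MulAut.conj (l : K)).toMonoidHom
  mul : ∀ s t, s * t = t * s → M s ⊓ M t ≤ M (s * t)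

variable {L : Subgroup K} {π : L →* T} {M : T → Subgroup K}

theorem Tag.commute_of_eq (h : Tag L π M) {s t : T} (e : M s = M t) : s * t = t * s := by
  obtain ⟨l, hl⟩ := h.surj s
  have h1 : (l : K) ∈ M s := (h.mem_iff s l).2 (by rw [hl])
  rw [e, h.mem_iff, hl] at h1
  exact h1

theorem Tag.le_pow (h : Tag L π M) (t : T) (i : ℕ) : M t ≤ M (t ^ i) := by
  induction i with
  | zero => rw [pow_zero, h.one]; exact le_top
  | succ i ih =>
    rw [pow_succ]
    exact (le_inf ih le_rfl).trans (h.mul _ _ ((Commute.pow_self t i).eq))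

theorem Tag.pow_eq (h : Tag L π M) {t : T} {i : ℕ} (hi : t ^ i ≠ 1) : M (t ^ i) = M t := by
  have ht : t ≠ 1 := fun e => hi (by rw [e, one_pow])
  exact ((h.coatom t ht).le_iff.1 (h.le_pow t i)).resolve_left (h.coatom _ hi).1

theorem Tag.mul_eq (h : Tag L π M) {s t : T} (hst : s * t ≠ 1) (e : M s = M t) (hs : s ≠ 1) :
    M (s * t) = M s := by
  have h1 : M s ≤ M (s * t) := (le_inf le_rfl e.le).trans (h.mul s t (h.commute_of_eq e))
  exact ((h.coatom s hs).le_iff.1 h1).resolve_left (h.coatom _ hst).1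

theorem Tag.inv_eq [Finite T] (h : Tag L π M) {t : T} (ht : t ≠ 1) : M t⁻¹ = M t := by
  have hi : t ^ (orderOf t - 1) = t⁻¹ := by
    refine eq_inv_of_mul_eq_one_left ?_
    rw [← pow_succ, Nat.sub_add_cancel (orderOf_pos t), pow_orderOf_eq_one]
  rw [← hi]
  exact h.pow_eq (by rw [hi]; exact inv_ne_one.2 ht)

/-- conjugation fixing a tag centralizes -/
theorem Tag.commute_of_conj (h : Tag L π M) {t u : T} (ht : t ≠ 1) (e : M (u * t * u⁻¹) = M t) :
    u * t = t * u := by
  obtain ⟨l, rfl⟩ := h.surj u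
  rw [h.conj] at e
  have hl : (l : K) ∈ Subgroup.normalizer (M t : Set K) := by
    rw [Subgroup.mem_normalizer_iff]
    intro y
    constructor
    · intro hy
      rw [← e]
      exact ⟨y, hy, rfl⟩
    · intro hy
      rw [← e] at hy
      obtain ⟨z, hz, hzy⟩ := hy
      rwa [show z = y from (MulAut.conj (l : K)).injective hzy] at hz
  rcases (h.coatom t ht).le_iff.1 (Subgroup.le_normalizer (H := M t)) with e' | e'
  · exact absurd (Subgroup.normalizer_eq_top_iff.1 e') (h.not_normal t ht)
  · rw [e'] at hl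
    exact (h.mem_iff t l).1 hl

theorem Tag.cent_le (h : Tag L π M) {s t : T} (e : M s = M t) :
    Subgroup.centralizer ({s} : Set T) ≤ Subgroup.centralizer ({t} : Set T) := by
  intro u hu
  obtain ⟨l, rfl⟩ := h.surj u
  rw [Subgroup.mem_centralizer_singleton_iff] at hu ⊢
  have h1 : (l : K) ∈ M s := (h.mem_iff s l).2 hu
  rw [e, h.mem_iff] at h1
  exact h1

/-- the trace in `L` determines the tag -/
theorem Tag.trace [IsSimpleGroup T] (hna : ¬ IsMulCommutative T) (h : Tag L π M) {s t : T}
    (hs : s ≠ 1) (ht : t ≠ 1)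
    (e : Subgroup.centralizer ({s} : Set T) = Subgroup.centralizer ({t} : Set T)) : M s = M t := by
  haveI := h.normal
  by_contra hne
  set D := M t ⊓ L
  have hD : ∀ x : K, x ∈ L → (x ∈ M s ↔ x ∈ M t) := fun x hx => by
    have h1 := SetLike.ext_iff.1 e (π ⟨x, hx⟩)
    rw [Subgroup.mem_centralizer_singleton_iff, Subgroup.mem_centralizer_singleton_iff] at h1
    have h2 := h.mem_iff s ⟨x, hx⟩
    have h3 := h.mem_iff t ⟨x, hx⟩
    exact h2.trans (h1.trans h3.symm)
  have hDs : D = M s ⊓ L := by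
    ext x
    exact ⟨fun hx => ⟨(hD x hx.2).2 hx.1, hx.2⟩, fun hx => ⟨(hD x hx.2).1 hx.1, hx.2⟩⟩
  have hDn : D.Normal := by
    rw [← Subgroup.normalizer_eq_top_iff, eq_top_iff]
    have hle : M t ⊔ M s ≤ Subgroup.normalizer (D : Set K) := by
      refine sup_le (fun g hg => ?_) (fun g hg => ?_)
      · rw [Subgroup.mem_normalizer_iff]
        intro y
        constructor
        · exact fun hy => ⟨(M t).mul_mem ((M t).mul_mem hg hy.1) ((M t).inv_mem hg), h.normal.conj_mem y hy.2 g⟩
        · intro hy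
          have h1 := (M t).mul_mem ((M t).mul_mem ((M t).inv_mem hg) hy.1) hg
          have h2 := h.normal.conj_mem _ hy.2 g⁻¹
          refine ⟨?_, ?_⟩
          · rwa [show g⁻¹ * (g * y * g⁻¹) * g = y by group] at h1
          · rwa [show g⁻¹ * (g * y * g⁻¹) * g⁻¹⁻¹ = y by group] at h2
      · rw [hDs, Subgroup.mem_normalizer_iff]
        intro y
        constructor
        · exact fun hy => ⟨(M s).mul_mem ((M s).mul_mem hg hy.1) ((M s).inv_mem hg), h.normal.conj_mem y hy.2 g⟩
        · intro hy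
          have h1 := (M s).mul_mem ((M s).mul_mem ((M s).inv_mem hg) hy.1) hg
          have h2 := h.normal.conj_mem _ hy.2 g⁻¹
          refine ⟨?_, ?_⟩
          · rwa [show g⁻¹ * (g * y * g⁻¹) * g = y by group] at h1
          · rwa [show g⁻¹ * (g * y * g⁻¹) * g⁻¹⁻¹ = y by group] at h2
    refine le_trans ?_ hle
    rw [top_le_iff]
    refine (h.coatom t ht).2 _ (lt_of_le_of_ne le_sup_left fun e' => ?_)
    rcases (h.coatom s hs).le_iff.1 (e'.symm ▸ le_sup_right : M s ≤ M t) with e'' | e''
    · exact (h.coatom t ht).1 e''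
    · exact hne e''.symm
  have hCn : (Subgroup.centralizer ({t} : Set T)).Normal := by
    refine ⟨fun u hu v => ?_⟩
    obtain ⟨a, rfl⟩ := h.surj u
    obtain ⟨b, rfl⟩ := h.surj v
    rw [Subgroup.mem_centralizer_singleton_iff] at hu
    have ha : (a : K) ∈ D := ⟨(h.mem_iff t a).2 hu, a.2⟩
    have hb : ((b * a * b⁻¹ : L) : K) ∈ D := hDn.conj_mem _ ha b
    rw [Subgroup.mem_centralizer_singleton_iff, ← map_inv, ← map_mul, ← map_mul]
    exact (h.mem_iff t _).1 hb.1
  rcases hCn.eq_bot_or_eq_top with e' | e'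
  · refine ht ((Subgroup.eq_bot_iff_forall _).1 e' t ?_)
    rw [Subgroup.mem_centralizer_singleton_iff]
  · have hz : t ∈ Subgroup.center T := Subgroup.mem_center_iff.2 fun u =>
      Subgroup.mem_centralizer_singleton_iff.1 (e' ▸ Subgroup.mem_top u)
    rcases (inferInstance : (Subgroup.center T).Normal).eq_bot_or_eq_top with e'' | e''
    · exact ht (by rwa [e'', Subgroup.mem_bot] at hz)
    · exact hna ⟨⟨fun u v => (Subgroup.mem_center_iff.1 (e'' ▸ Subgroup.mem_top v) u)⟩⟩

/-- there is no such tagging -/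
theorem Tag.false [Finite T] [IsSimpleGroup T] (hna : ¬ IsMulCommutative T) (h : Tag L π M) :
    False := by
  classical
  have hcenter : ∀ t : T, (∀ u, u * t = t * u) → t = 1 := by
    intro t ht
    have hz : t ∈ Subgroup.center T := Subgroup.mem_center_iff.2 ht
    rcases (inferInstance : (Subgroup.center T).Normal).eq_bot_or_eq_top with e | e
    · rwa [e, Subgroup.mem_bot] at hz
    · exact absurd ⟨⟨fun u v => (Subgroup.mem_center_iff.1 (e ▸ Subgroup.mem_top v) u)⟩⟩ hna
  have hmemc : ∀ {u t : T}, u ∈ Subgroup.centralizer ({t} : Set T) ↔ u * t = t * u :=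
    fun {u t} => Subgroup.mem_centralizer_singleton_iff
  have hexit : ∀ t : T, t ≠ 1 → ∃ s, s ≠ 1 ∧ s * t = t * s ∧ M s ≠ M t := by
    intro t ht
    by_contra hne
    push Not at hne
    set C := Subgroup.centralizer ({t} : Set T)
    have hCF : Cfsg.IsFrobeniusComplement C := by
      refine ⟨fun e => ht ((Subgroup.eq_bot_iff_forall _).1 e t (hmemc.2 rfl)), fun e => ht (hcenter t
        fun u => hmemc.1 (show u ∈ C by rw [e]; exact Subgroup.mem_top u)), fun g hg => ?_⟩
      rw [Subgroup.eq_bot_iff_forall]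
      intro x hx
      by_contra hx1
      obtain ⟨y, hy, hyx⟩ := hx.2
      replace hyx : g * y * g⁻¹ = x := hyx
      have hy1 : y ≠ 1 := fun e => hx1 (by rw [← hyx, e, mul_one, mul_inv_cancel])
      have e1 : M x = M t := hne x hx1 (hmemc.1 hx.1)
      have e2 : M y = M t := hne y hy1 (hmemc.1 hy)
      refine hg (hmemc.2 (h.commute_of_conj ht ?_))
      obtain ⟨l, hl⟩ := h.surj g
      calc M (g * t * g⁻¹) = (M t).map (MulAut.conj (l : K)).toMonoidHom := by rw [← hl, h.conj]
        _ = (M y).map (MulAut.conj (l : K)).toMonoidHom := by rw [e2]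
        _ = M (g * y * g⁻¹) := by rw [← hl, h.conj]
        _ = M t := by rw [hyx, e1]
    obtain ⟨N, -, hN, hc⟩ := Characters.frobenius_kernel_theorem hCF
    rcases hN.eq_bot_or_eq_top with e | e
    · rw [e, Subgroup.isComplement'_bot_left] at hc
      exact hCF.2.1 hc
    · rw [e, Subgroup.isComplement'_top_left] at hc
      exact hCF.1 hc
  have hdiff : ∀ {s t : T}, s ≠ 1 → t ≠ 1 → s * t = t * s → M s ≠ M t → orderOf s ∣ orderOf t := by
    intro s t hs ht hst hne
    refine orderOf_dvd_of_pow_eq_one ?_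
    by_contra hpow
    have hst1 : s * t ≠ 1 := fun e => hne (by rw [eq_inv_of_mul_eq_one_left e, h.inv_eq ht])
    have e1 : (s * t) ^ orderOf t = s ^ orderOf t := by
      rw [(show Commute s t from hst).mul_pow, pow_orderOf_eq_one, mul_one]
    have e2 : M (s * t) = M s := by
      rw [← h.pow_eq hpow, ← e1, h.pow_eq (by rw [e1]; exact hpow)]
    refine hne ?_
    have e3 : M (s⁻¹ * (s * t)) = M s⁻¹ :=
      h.mul_eq (by rwa [inv_mul_cancel_left]) (by rw [h.inv_eq hs, e2]) (inv_ne_one.2 hs)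
    rw [inv_mul_cancel_left, h.inv_eq hs] at e3
    exact e3.symm
  have heqord : ∀ {s t : T}, s ≠ 1 → t ≠ 1 → s * t = t * s → M s ≠ M t → orderOf s = orderOf t :=
    fun hs ht hst hne => Nat.dvd_antisymm (hdiff hs ht hst hne) (hdiff ht hs hst.symm hne.symm)
  have hprime : ∀ t : T, t ≠ 1 → (orderOf t).Prime := by
    intro t ht
    obtain ⟨s, hs, hst, hne⟩ := hexit t ht
    have h1 : orderOf t ≠ 1 := fun e => ht (orderOf_eq_one_iff.1 e)
    obtain ⟨q, hq, hqd⟩ := Nat.exists_prime_and_dvd h1
    obtain ⟨i, hi⟩ := hqd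
    have ho : orderOf (t ^ i) = q := by
      rw [orderOf_pow, hi, Nat.gcd_eq_right (dvd_mul_left i q),
        Nat.mul_div_cancel _ (Nat.pos_of_ne_zero fun e => by
          rw [e, mul_zero] at hi
          exact (orderOf_pos t).ne' hi)]
    have hti : t ^ i ≠ 1 := fun e => hq.ne_one (by rw [← ho, e, orderOf_one])
    rw [← heqord hs ht hst hne, heqord hs hti ((show Commute s t from hst).pow_right i).eq
      (by rw [h.pow_eq hti]; exact hne), ho]
    exact hq
  have hexp : ∀ t u : T, t ≠ 1 → u ≠ 1 → u * t = t * u → orderOf u = orderOf t := by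
    intro t u ht hu hut
    by_cases e : M u = M t
    · obtain ⟨s, hs, hst, hne⟩ := hexit t ht
      have hsu : s * u = u * s := hmemc.1 (h.cent_le e.symm (hmemc.2 hst))
      rw [← heqord hs hu hsu (by rw [e]; exact hne), heqord hs ht hst hne]
    · exact heqord hu ht hut e
  have hcpg : ∀ t : T, t ≠ 1 → IsPGroup (orderOf t) (Subgroup.centralizer ({t} : Set T)) := by
    intro t ht u
    refine ⟨1, ?_⟩
    rw [pow_one]
    by_cases hu : (u : T) = 1
    · rw [show u = 1 from Subtype.ext hu, one_pow]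
    · refine Subtype.ext ?_
      rw [Subgroup.coe_pow, ← hexp t u ht hu (hmemc.1 u.2), pow_orderOf_eq_one, Subgroup.coe_one]
  rcases Nat.even_or_odd (Nat.card T) with he | ho
  · obtain ⟨t, ht⟩ := @exists_prime_orderOf_dvd_card' T _ _ 2 ⟨Nat.prime_two⟩ he.two_dvd
    have ht1 : t ≠ 1 := fun e => by rw [e, orderOf_one] at ht; omega
    obtain ⟨s, hs, hst, hne⟩ := hexit t ht1
    refine hne (h.trace hna hs ht1 ?_)
    have hab : ∀ w : T, w ≠ 1 → orderOf w = 2 → ∀ u ∈ Subgroup.centralizer ({w} : Set T),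
        ∀ v ∈ Subgroup.centralizer ({w} : Set T), u * v = v * u := by
      intro w hw hw2 u hu v hv
      have hsq : ∀ z ∈ Subgroup.centralizer ({w} : Set T), z⁻¹ = z := by
        intro z hz
        obtain ⟨j, hj⟩ := hcpg w hw ⟨z, hz⟩
        by_cases hz1 : z = 1
        · rw [hz1, inv_one]
        · refine inv_eq_of_mul_eq_one_right ?_
          rw [← sq, ← hw2, ← hexp w z hw hz1 (hmemc.1 hz), pow_orderOf_eq_one]
      calc u * v = (u * v)⁻¹ := (hsq _ (mul_mem hu hv)).symm
        _ = v * u := by rw [mul_inv_rev, hsq u hu, hsq v hv]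
    have hs2 : orderOf s = 2 := (hexp t s ht1 hs hst).trans ht
    refine le_antisymm (fun u hu => ?_) (fun u hu => ?_)
    · exact hmemc.2 (hab s hs hs2 u hu t (hmemc.2 hst.symm))
    · exact hmemc.2 (hab t ht1 ht u hu s (hmemc.2 hst))
  · have hCN : Cfsg.IsCNGroup T := fun t ht => by
      haveI := Fact.mk (hprime t ht)
      exact (hcpg t ht).isNilpotent
    exact hna ⟨⟨IsSimpleGroup.comm_iff_isSolvable.2 (S0183.result ho hCN)⟩⟩

end Cfsg.Agent.Recognition.MaximalPartition
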