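import Mathlib
import Cfsg.Prelude.Def_Transfer
import Cfsg.Agent.Lib.Characters.Burnside
import Cfsg.Agent.Recognition.DerangementClass

/-!
# Derangements in the minimal normal subgroup of a quasiprimitive group

The factors of a nonabelian minimal normal subgroup are handled as its minimal nontrivial
subgroups that it normalises; no product decomposition is needed.
-/

set_option autoImplicit false

namespace Cfsg.Agent.Recognition.SocleFactors

open MulAction

variable {G : Type*} [Group G]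

/-- no point is fixed -/
def IsDer (Ω : Type*) [MulAction G Ω] (g : G) : Prop := ∀ ω : Ω, g • ω ≠ ω

/-- nontrivial, inside `N` and normalised by `N` -/
def NormIn (N T : Subgroup G) : Prop := T ≤ N ∧ T ≠ ⊥ ∧ ∀ n ∈ N, ∀ t ∈ T, n * t * n⁻¹ ∈ T

/-- minimal among those -/
def IsFactor (N T : Subgroup G) : Prop := NormIn N T ∧ ∀ R, NormIn N R → R ≤ T → R = T

/-- what the factors of `N` need -/
structure Socle (N : Subgroup G) : Prop where
  normal : N.Normal
  min : ∀ M : Subgroup G, M.Normal → M ≠ ⊥ → M ≤ N → M = N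
  cent : ∀ u ∈ N, (∀ n ∈ N, n * u = u * n) → u = 1

variable {N T T' : Subgroup G}

theorem exists_factor [Finite G] (hN : N ≠ ⊥) : ∃ T, IsFactor N T := by
  obtain ⟨T, hT, hmin⟩ := (Set.toFinite {T : Subgroup G | NormIn N T}).exists_minimal
    ⟨N, le_rfl, hN, fun n hn t ht => N.mul_mem (N.mul_mem hn ht) (N.inv_mem hn)⟩
  exact ⟨T, hT, fun R hR hle => le_antisymm hle (hmin hR hle)⟩

theorem Socle.map_factor (h : Socle N) (hT : IsFactor N T) (g : G) :
    IsFactor N (T.map (MulAut.conj g).toMonoidHom) := by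
  have hmap : ∀ T, NormIn N T → ∀ g : G, NormIn N (T.map (MulAut.conj g).toMonoidHom) := by
    rintro T ⟨h1, h2, h3⟩ g
    refine ⟨?_, fun e => h2 ((Subgroup.map_eq_bot_iff_of_injective _ (MulAut.conj g).injective).1 e), ?_⟩
    · rintro _ ⟨t, ht, rfl⟩
      exact h.normal.conj_mem t (h1 ht) g
    · rintro n hn _ ⟨t, ht, rfl⟩
      refine ⟨(g⁻¹ * n * g) * t * (g⁻¹ * n * g)⁻¹, h3 _ (by simpa using h.normal.conj_mem n hn g⁻¹) t ht, ?_⟩
      simp [mul_assoc]
  obtain ⟨hT, hTmin⟩ := hT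
  refine ⟨hmap T hT g, fun R hR hle => ?_⟩
  have hle' : R.map (MulAut.conj g⁻¹).toMonoidHom ≤ T := by
    rintro _ ⟨r, hr, rfl⟩
    obtain ⟨t, ht, rfl⟩ := hle hr
    simpa [mul_assoc] using ht
  rw [← hTmin _ (hmap R hR g⁻¹) hle', Subgroup.map_map]
  convert (Subgroup.map_id R).symm
  ext x
  simp [mul_assoc]

theorem disjoint_factor (hT : IsFactor N T) (hT' : IsFactor N T') (hne : T ≠ T') {x : G}
    (hx : x ∈ T) (hx' : x ∈ T') : x = 1 := by
  by_contra hx1
  have hP : NormIn N (T ⊓ T') := ⟨inf_le_left.trans hT.1.1,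
    fun h => hx1 ((Subgroup.eq_bot_iff_forall _).1 h x ⟨hx, hx'⟩),
    fun n hn t ht => ⟨hT.1.2.2 n hn t ht.1, hT'.1.2.2 n hn t ht.2⟩⟩
  exact hne ((hT.2 _ hP inf_le_left).symm.trans (hT'.2 _ hP inf_le_right))

theorem comm_factor (hT : IsFactor N T) (hT' : IsFactor N T') (hne : T ≠ T') {x y : G}
    (hx : x ∈ T) (hy : y ∈ T') : x * y = y * x := by
  have h : x * y * x⁻¹ * y⁻¹ = 1 := disjoint_factor hT hT' hne
    (by
      rw [mul_assoc x y, mul_assoc x (y * x⁻¹)]
      exact T.mul_mem hx (hT.1.2.2 y (hT'.1.1 hy) _ (T.inv_mem hx)))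
    (T'.mul_mem (hT'.1.2.2 x (hT.1.1 hx) y hy) (T'.inv_mem hy))
  rw [mul_inv_eq_one, mul_inv_eq_iff_eq_mul] at h
  exact h

theorem Socle.eq_iSup (h : Socle N) (hT : IsFactor N T) :
    N = ⨆ g : G, T.map (MulAut.conj g).toMonoidHom := by
  refine (h.min _ ⟨fun x hx c => ?_⟩ (fun e => ?_) (iSup_le fun g => (h.map_factor hT g).1.1)).symm
  · have hle : (⨆ g : G, T.map (MulAut.conj g).toMonoidHom).map (MulAut.conj c).toMonoidHom ≤
        ⨆ g : G, T.map (MulAut.conj g).toMonoidHom := by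
      rw [Subgroup.map_iSup]
      refine iSup_le fun g => le_iSup_of_le (c * g) ?_
      rw [Subgroup.map_map]
      rintro _ ⟨t, ht, rfl⟩
      exact ⟨t, ht, by simp [mul_assoc]⟩
    exact hle ⟨x, hx, rfl⟩
  · exact (h.map_factor hT 1).1.2.1
      (le_bot_iff.1 (e ▸ le_iSup (fun g : G => T.map (MulAut.conj g).toMonoidHom) 1))

theorem Socle.act (h : Socle N) (hT : IsFactor N T) {n : G} (hn : n ∈ N) :
    ∃ t ∈ T, ∀ u ∈ T, n * u * n⁻¹ = t * u * t⁻¹ := by
  let S : Subgroup G :=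
    { carrier := {x | ∃ t ∈ T, ∀ u ∈ T, x * u * x⁻¹ = t * u * t⁻¹}
      one_mem' := ⟨1, T.one_mem, fun u _ => rfl⟩
      mul_mem' := fun {x y} ⟨t, ht, hx⟩ ⟨s, hs, hy⟩ => ⟨t * s, T.mul_mem ht hs, fun u hu => by
        rw [show x * y * u * (x * y)⁻¹ = x * (y * u * y⁻¹) * x⁻¹ by group, hy u hu,
          hx _ (T.mul_mem (T.mul_mem hs hu) (T.inv_mem hs))]
        group⟩
      inv_mem' := fun {x} ⟨t, ht, hx⟩ => ⟨t⁻¹, T.inv_mem ht, fun u hu => by
        have := hx (t⁻¹ * u * t) (T.mul_mem (T.mul_mem (T.inv_mem ht) hu) ht)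
        rw [show t * (t⁻¹ * u * t) * t⁻¹ = u by group] at this
        conv_lhs => rw [← this]
        group⟩ }
  have hle : N ≤ S := by
    rw [h.eq_iSup hT]
    refine iSup_le fun g => ?_
    intro x hx
    by_cases he : T.map (MulAut.conj g).toMonoidHom = T
    · exact ⟨x, he ▸ hx, fun u _ => rfl⟩
    · refine ⟨1, T.one_mem, fun u hu => ?_⟩
      rw [comm_factor (h.map_factor hT g) hT he hx hu, mul_inv_cancel_right, one_mul, inv_one, mul_one]
  exact hle hn

theorem Socle.simple (h : Socle N) (hT : IsFactor N T) (R : Subgroup G) (hR : R ≤ T)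
    (hn : ∀ t ∈ T, ∀ r ∈ R, t * r * t⁻¹ ∈ R) : R = ⊥ ∨ R = T := by
  by_cases hR0 : R = ⊥
  · exact Or.inl hR0
  refine Or.inr (hT.2 R ⟨hR.trans hT.1.1, hR0, fun n hnN r hr => ?_⟩ hR)
  obtain ⟨t, ht, htu⟩ := h.act hT hnN
  rw [htu r (hR hr)]
  exact hn t ht r hr

theorem Socle.isSimple (h : Socle N) (hT : IsFactor N T) : IsSimpleGroup T := by
  haveI : Nontrivial T := (Subgroup.nontrivial_iff_ne_bot _).2 hT.1.2.1
  refine ⟨fun R hR => ?_⟩
  rcases h.simple hT (R.map T.subtype) (Subgroup.map_subtype_le R) (by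
    rintro t ht _ ⟨r, hr, rfl⟩
    exact ⟨⟨t, ht⟩ * r * ⟨t, ht⟩⁻¹, hR.conj_mem r hr ⟨t, ht⟩, rfl⟩) with e | e
  · exact Or.inl ((Subgroup.map_eq_bot_iff_of_injective _ T.subtype_injective).1 e)
  · refine Or.inr (Subgroup.map_injective T.subtype_injective ?_)
    rw [e, ← MonoidHom.range_eq_map, Subgroup.range_subtype]

theorem Socle.not_comm (h : Socle N) (hT : IsFactor N T) : ¬ IsMulCommutative T := by
  intro hc
  refine hT.1.2.1 ((Subgroup.eq_bot_iff_forall T).2 fun u hu => ?_)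
  have : u ∈ Subgroup.centralizer (N : Set G) := fun n hn => by
    obtain ⟨t, ht, htu⟩ := h.act hT hn
    have e := htu u hu
    rw [show t * u = u * t from congrArg Subtype.val (hc.is_comm.comm (⟨t, ht⟩ : T) ⟨u, hu⟩),
      mul_inv_cancel_right] at e
    exact mul_inv_eq_iff_eq_mul.1 e
  exact h.cent u (hT.1.1 hu) this

theorem Socle.center_trivial (h : Socle N) (hT : IsFactor N T) {x : G} (hx : x ∈ T)
    (hc : ∀ u ∈ T, x * u = u * x) : x = 1 := by
  rcases h.simple hT (T ⊓ Subgroup.centralizer (T : Set G)) inf_le_left (fun t ht r hr => by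
      rw [hr.2 t ht, mul_inv_cancel_right]; exact hr) with e | e
  · exact (Subgroup.eq_bot_iff_forall _).1 e x ⟨hx, fun u hu => (hc u hu).symm⟩
  · exact absurd ⟨⟨fun u v => Subtype.ext ((e.symm ▸ v.2 : (v : G) ∈ T ⊓ Subgroup.centralizer (T : Set G)).2 u u.2)⟩⟩
      (h.not_comm hT)

/-- two products from two distinct factors are conjugate only with the same orders -/
theorem Socle.orders_of_conj (h : Socle N) (hT : IsFactor N T) (hT' : IsFactor N T') (hne : T ≠ T')
    {t s s' g : G} (ht : t ∈ T) (ht1 : t ≠ 1) (hs : s ∈ T') (hs1 : s ≠ 1) (hs' : s' ∈ T')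
    (hg : g * (t * s) * g⁻¹ = t * s') : orderOf s = orderOf s' := by
  classical
  set A := T.map (MulAut.conj g).toMonoidHom
  set B := T'.map (MulAut.conj g).toMonoidHom
  have hA : IsFactor N A := h.map_factor hT g
  have hB : IsFactor N B := h.map_factor hT' g
  have hu : g * t * g⁻¹ ∈ A := ⟨t, ht, rfl⟩
  have hv : g * s * g⁻¹ ∈ B := ⟨s, hs, rfl⟩
  have hprod : (g * t * g⁻¹) * (g * s * g⁻¹) = t * s' := by rw [← hg]; group
  have hAB : A ≠ B := fun e => hne (Subgroup.map_injective (MulAut.conj g).injective e)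
  have hone : ∀ {x : G}, g * x * g⁻¹ = 1 → x = 1 := fun {x} e => by
    rwa [mul_inv_eq_one, mul_eq_left] at e
  have horder : ∀ x : G, orderOf (g * x * g⁻¹) = orderOf x := fun x =>
    orderOf_injective (MulAut.conj g).toMonoidHom (MulAut.conj g).injective x
  -- a factor commuting with `t * s'` is neither `A` nor `B`
  have hmem : ∀ W, IsFactor N W → W ≠ T → W ≠ T' → W ≠ A ∧ W ≠ B := by
    intro W hW hWT hWT'
    have hWc : ∀ w ∈ W, (t * s') * w = w * (t * s') := fun w hw =>
      ((show Commute t w from comm_factor hT hW (Ne.symm hWT) ht hw).mul_left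
        (comm_factor hT' hW (Ne.symm hWT') hs' hw)).eq
    refine ⟨fun e => ?_, fun e => ?_⟩
    · subst e
      refine ht1 (hone (h.center_trivial hA hu fun w hw => ?_))
      have hBw : Commute (g * s * g⁻¹) w := comm_factor hB hA hAB.symm hv hw
      have h2 : Commute (g * t * g⁻¹ * (g * s * g⁻¹)) w := hprod ▸ hWc w hw
      have h3 := h2.mul_left hBw.inv_left
      rwa [mul_inv_cancel_right] at h3
    · subst e
      refine hs1 (hone (h.center_trivial hB hv fun w hw => ?_))
      have hAw : Commute (g * t * g⁻¹) w := comm_factor hA hB hAB hu hw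
      have h2 : Commute (g * t * g⁻¹ * (g * s * g⁻¹)) w := hprod ▸ hWc w hw
      have h3 := hAw.inv_left.mul_left h2
      rwa [inv_mul_cancel_left] at h3
  have hAcase : A = T ∨ A = T' := by
    by_contra e
    push Not at e
    exact (hmem A hA e.1 e.2).1 rfl
  have hBcase : B = T ∨ B = T' := by
    by_contra e
    push Not at e
    exact (hmem B hB e.1 e.2).2 rfl
  have huniq : ∀ {u u' v v' : G}, u ∈ T → u' ∈ T → v ∈ T' → v' ∈ T' → u * v = u' * v' →
      u = u' ∧ v = v' := by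
    intro u u' v v' hu hu' hv hv' e
    have h1 : u'⁻¹ * u = v' * v⁻¹ := by
      rw [eq_mul_inv_iff_mul_eq, mul_assoc, e, inv_mul_cancel_left]
    have h2 : u'⁻¹ * u = 1 := disjoint_factor hT hT' hne (T.mul_mem (T.inv_mem hu') hu)
      (h1 ▸ T'.mul_mem hv' (T'.inv_mem hv))
    have h3 : u = u' := (inv_mul_eq_one.1 h2).symm
    exact ⟨h3, mul_left_cancel (h3 ▸ e)⟩
  rcases hAcase with eA | eA
  · have eB : B = T' := hBcase.resolve_left fun e => hAB (eA.trans e.symm)
    obtain ⟨-, h2⟩ := huniq (eA ▸ hu) ht (eB ▸ hv) hs' hprod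
    rw [← horder s, h2]
  · have eB : B = T := hBcase.resolve_right fun e => hAB (eA.trans e.symm)
    have hc := comm_factor hA hB hAB hu hv
    obtain ⟨h1, h2⟩ := huniq (eB ▸ hv) ht (eA ▸ hu) hs' (hc.symm.trans hprod)
    rw [← horder s, h1, ← h2, horder t]

/-- `t * s` lies in no factor -/
theorem Socle.not_mem_factor (h : Socle N) (hT : IsFactor N T) (hT' : IsFactor N T') (hne : T ≠ T')
    {t s : G} (ht : t ∈ T) (ht1 : t ≠ 1) (hs : s ∈ T') (hs1 : s ≠ 1) {W : Subgroup G}
    (hW : IsFactor N W) : t * s ∉ W := by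
  intro hmem
  by_cases hWT : W = T
  · subst hWT
    exact hs1 (disjoint_factor hT' hT hne.symm hs ((W.mul_mem_cancel_left ht).1 hmem))
  · refine ht1 (h.center_trivial hT ht fun u hu => ?_)
    have h1 : Commute (t * s) u := comm_factor hW hT hWT hmem hu
    have h2 : Commute s u := comm_factor hT' hT hne.symm hs hu
    have h3 := h1.mul_left h2.inv_left
    rwa [mul_inv_cancel_right] at h3

theorem not_isConj_factor (h : Socle N) (hT : IsFactor N T) (hT' : IsFactor N T') (hne : T ≠ T')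
    {u t s : G} (hu : u ∈ T) (ht : t ∈ T) (ht1 : t ≠ 1) (hs : s ∈ T') (hs1 : s ≠ 1) :
    ¬ IsConj u (t * s) := by
  intro e
  obtain ⟨g, hg⟩ := isConj_iff.1 e
  exact h.not_mem_factor hT hT' hne ht ht1 hs hs1 (h.map_factor hT g) ⟨u, hu, hg⟩

variable [Finite G] {Ω : Type*} [MulAction G Ω] [FaithfulSMul G Ω]

/-- either all of a factor consists of derangements, or some element of it stays a derangement
after multiplication by elements of other factors -/
theorem Socle.derangements [Nonempty Ω] (h : Socle N) (hNt : IsPretransitive N Ω) (hT : IsFactor N T) :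
    (∀ t ∈ T, t ≠ 1 → IsDer Ω t) ∨
      ∃ t ∈ T, t ≠ 1 ∧ ∀ T', IsFactor N T' → T' ≠ T → ∀ s ∈ T', IsDer Ω (t * s) := by
  classical
  obtain ⟨a⟩ := ‹Nonempty Ω›
  have hmove : ∀ x : G, (∃ w : Ω, x • w = w) → ∃ n ∈ N, (n * x * n⁻¹) • a = a := by
    rintro x ⟨w, hw⟩
    obtain ⟨⟨n, hn⟩, hnw⟩ := exists_smul_eq N w a
    change n • w = a at hnw
    refine ⟨n, hn, ?_⟩
    rw [← hnw, mul_smul, mul_smul, inv_smul_smul, hw]
  let R : Subgroup G :=
    { carrier := {r | r ∈ T ∧ ∃ z ∈ N, (∀ u ∈ T, z * u = u * z) ∧ (r * z) • a = a}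
      one_mem' := ⟨T.one_mem, 1, N.one_mem, fun u _ => by simp, by simp⟩
      mul_mem' := fun {r r'} ⟨hr, z, hz, hzc, he⟩ ⟨hr', z', hz', hzc', he'⟩ =>
        ⟨T.mul_mem hr hr', z * z', N.mul_mem hz hz',
          fun u hu => ((show Commute z u from hzc u hu).mul_left (hzc' u hu)).eq, by
          rw [show r * r' * (z * z') = r * (r' * z) * z' by group, ← hzc r' hr',
            show r * (z * r') * z' = (r * z) * (r' * z') by group, mul_smul, he', he]⟩
      inv_mem' := fun {r} ⟨hr, z, hz, hzc, he⟩ => ⟨T.inv_mem hr, z⁻¹, N.inv_mem hz,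
        fun u hu => ((show Commute z u from hzc u hu).inv_left).eq, by
        rw [← mul_inv_rev, hzc r hr, inv_smul_eq_iff, he]⟩ }
  by_cases hall : ∀ t ∈ T, t ≠ 1 → ∃ u ∈ T, u * t * u⁻¹ ∈ R
  · left
    have hRT : R = T := by
      have := DerangementClass.eq_top_of_meets_classes (R.subgroupOf T) fun x => by
        rcases eq_or_ne x 1 with rfl | hx
        · exact ⟨1, by simp⟩
        obtain ⟨t, ht, htx⟩ := hall x x.2 fun e => hx (Subtype.ext e)
        exact ⟨⟨t, ht⟩, htx⟩
      exact le_antisymm (fun r hr => hr.1)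
        fun x hx => (this ▸ Subgroup.mem_top (⟨x, hx⟩ : T) : (⟨x, hx⟩ : T) ∈ R.subgroupOf T)
    have hbot : T ⊓ stabilizer G a = ⊥ := by
      refine (h.simple hT _ inf_le_left fun r hr u hu => ?_).resolve_right fun e => ?_
      · obtain ⟨-, z, hz, hzc, he⟩ := (hRT.symm ▸ hr : r ∈ R)
        refine ⟨T.mul_mem (T.mul_mem hr hu.1) (T.inv_mem hr), ?_⟩
        change (r * u * r⁻¹) • a = a
        have : r * u * r⁻¹ = (r * z) * u * (r * z)⁻¹ := by
          rw [show r * z * u = r * (z * u) by group, hzc u hu.1]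
          group
        rw [this, mul_smul, mul_smul, show (r * z)⁻¹ • a = a from inv_smul_eq_iff.2 he.symm,
          show u • a = a from hu.2, he]
      · refine hT.1.2.1 ((Subgroup.eq_bot_iff_forall T).2 fun t ht =>
          eq_of_smul_eq_smul (α := Ω) fun w => ?_)
        obtain ⟨⟨n, hn⟩, hnw⟩ := exists_smul_eq N a w
        change n • a = w at hnw
        rw [one_smul, ← hnw]
        have h1 : n⁻¹ * t * n ∈ T ⊓ stabilizer G a := by
          rw [e]
          simpa using hT.1.2.2 n⁻¹ (N.inv_mem hn) t ht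
        have h2 : (n⁻¹ * t * n) • a = a := h1.2
        rw [mul_smul, mul_smul, inv_smul_eq_iff] at h2
        exact h2
    intro t ht ht1 w hw
    obtain ⟨n, hn, hna⟩ := hmove t ⟨w, hw⟩
    have h2 := (Subgroup.eq_bot_iff_forall _).1 hbot _ ⟨hT.1.2.2 n hn t ht, hna⟩
    rw [mul_inv_eq_one, mul_eq_left] at h2
    exact ht1 h2
  · right
    push Not at hall
    obtain ⟨t, ht, ht1, htR⟩ := hall
    refine ⟨t, ht, ht1, fun T' hT' hne s hs w hw => ?_⟩
    obtain ⟨n, hn, hna⟩ := hmove (t * s) ⟨w, hw⟩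
    obtain ⟨u, hu, hut⟩ := h.act hT hn
    refine htR u hu ⟨T.mul_mem (T.mul_mem hu ht) (T.inv_mem hu), n * s * n⁻¹,
      h.normal.conj_mem s (hT'.1.1 hs) n,
      fun v hv => comm_factor hT' hT hne (hT'.1.2.2 n hn s hs) hv, ?_⟩
    rw [← hut t ht, show n * t * n⁻¹ * (n * s * n⁻¹) = n * (t * s) * n⁻¹ by group]
    exact hna

omit [MulAction G Ω] [FaithfulSMul G Ω] in
/-- a nonsolvable group has elements of three prime orders -/
theorem three_orders {M : Type*} [Group M] [Finite M] (h : ¬ Group.IsSolvable M) :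
    ∃ x y z : M, (orderOf x).Prime ∧ (orderOf y).Prime ∧ (orderOf z).Prime ∧
      orderOf x ≠ orderOf y ∧ orderOf x ≠ orderOf z ∧ orderOf y ≠ orderOf z := by
  classical
  have hcard : 2 < (Nat.card M).primeFactors.card := by
    by_contra hle
    refine h ?_
    have hprod := Nat.prod_factorization_pow_eq_self (Nat.card_pos (α := M)).ne'
    rw [Finsupp.prod, Nat.support_factorization] at hprod
    generalize hs : (Nat.card M).primeFactors = s at hprod hle
    have hp : ∀ p ∈ s, Nat.Prime p := fun p hp => Nat.prime_of_mem_primeFactors (hs ▸ hp)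
    rcases Nat.lt_or_ge s.card 1 with h0 | h0
    · rw [Finset.card_eq_zero.1 (show s.card = 0 by omega), Finset.prod_empty] at hprod
      exact Characters.burnside_pa_qb (p := 2) (q := 2) (a := 0) (b := 0) Nat.prime_two Nat.prime_two
        (by rw [← hprod]; simp)
    rcases Nat.lt_or_ge s.card 2 with h1 | h1
    · obtain ⟨p, rfl⟩ := Finset.card_eq_one.1 (show s.card = 1 by omega)
      rw [Finset.prod_singleton] at hprod
      exact Characters.burnside_pa_qb (q := 2) (b := 0) (hp p (by simp)) Nat.prime_two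
        (hprod.symm.trans (by simp; rfl))
    · obtain ⟨p, q, hpq, rfl⟩ := Finset.card_eq_two.1 (show s.card = 2 by omega)
      rw [Finset.prod_pair hpq] at hprod
      exact Characters.burnside_pa_qb (hp p (by simp)) (hp q (by simp)) hprod.symm
  obtain ⟨p, hp, q, hq, r, hr, hpq, hpr, hqr⟩ := Finset.two_lt_card.1 hcard
  have hex : ∀ p ∈ (Nat.card M).primeFactors, ∃ x : M, orderOf x = p := fun p hp => by
    haveI := Fact.mk (Nat.prime_of_mem_primeFactors hp)
    exact exists_prime_orderOf_dvd_card' p (Nat.dvd_of_mem_primeFactors hp)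
  obtain ⟨x, rfl⟩ := hex p hp
  obtain ⟨y, rfl⟩ := hex q hq
  obtain ⟨z, rfl⟩ := hex r hr
  exact ⟨x, y, z, Nat.prime_of_mem_primeFactors hp, Nat.prime_of_mem_primeFactors hq,
    Nat.prime_of_mem_primeFactors hr, hpq, hpr, hqr⟩

omit [Finite G] [MulAction G Ω] [FaithfulSMul G Ω] in
theorem not_solvable_of_simple {M : Subgroup G} (hs : IsSimpleGroup M) (hc : ¬ IsMulCommutative M) :
    ¬ Group.IsSolvable M := fun hsol => hc ⟨⟨by
  haveI := hs
  exact IsSimpleGroup.comm_iff_isSolvable.2 hsol⟩⟩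

/-- the four shapes of a minimal normal subgroup of a quasiprimitive group -/
theorem cases [Nontrivial Ω] [IsPretransitive G Ω]
    (htr : ∀ M : Subgroup G, M.Normal → M ≠ ⊥ → IsPretransitive M Ω) :
    ∃ N : Subgroup G, N.Normal ∧ N ≠ ⊥ ∧ IsPretransitive N Ω ∧
      ((∃ r : ℕ, r.Prime ∧ Cfsg.IsElementaryAbelian r N ∧ ∀ a : Ω, stabilizer N a = ⊥) ∨
      (∃ S : Subgroup G, S.Normal ∧ IsSimpleGroup S ∧ ¬ IsMulCommutative S ∧
        Subgroup.centralizer (S : Set G) = ⊥) ∨
      ((∀ n ∈ N, n ≠ 1 → IsDer Ω n) ∧ ¬ Group.IsSolvable N) ∨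
      (Socle N ∧ ∃ T T' : Subgroup G, IsFactor N T ∧ IsFactor N T' ∧ T ≠ T')) := by
  classical
  obtain ⟨a, b, hab⟩ := exists_pair_ne Ω
  haveI : Nontrivial G := by
    obtain ⟨g, hg⟩ := exists_smul_eq G a b
    exact ⟨⟨g, 1, fun h => hab (by rw [← hg, h, one_smul])⟩⟩
  obtain ⟨N, ⟨hN, hN0⟩, hNmin⟩ := (Set.toFinite {M : Subgroup G | M.Normal ∧ M ≠ ⊥}).exists_minimal
    ⟨⊤, inferInstance, top_ne_bot⟩
  haveI := hN
  have hmin : ∀ M : Subgroup G, M.Normal → M ≠ ⊥ → M ≤ N → M = N := fun M h1 h2 h3 =>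
    le_antisymm h3 (hNmin ⟨h1, h2⟩ h3)
  refine ⟨N, hN, hN0, htr N hN hN0, ?_⟩
  -- a transitive subgroup centralizing a subgroup makes it semiregular
  have hsemi : ∀ M : Subgroup G, IsPretransitive M Ω → ∀ n : G, (∀ m ∈ M, m * n = n * m) →
      n ≠ 1 → IsDer Ω n := by
    intro M hM n hc hn1 w hw
    refine hn1 (eq_of_smul_eq_smul (α := Ω) fun v => ?_)
    obtain ⟨⟨m, hm⟩, hmv⟩ := hM.exists_smul_eq w v
    change m • w = v at hmv
    rw [one_smul, ← hmv, ← mul_smul, ← hc m hm, mul_smul, hw]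
  by_cases hNc : IsMulCommutative N
  · left
    haveI : Nontrivial N := (Subgroup.nontrivial_iff_ne_bot N).2 hN0
    obtain ⟨r, hr, hrd⟩ := Nat.exists_prime_and_dvd (Finite.one_lt_card (α := N)).ne'
    haveI := Fact.mk hr
    obtain ⟨x, hx⟩ := exists_prime_orderOf_dvd_card' (G := N) r hrd
    let E : Subgroup G :=
      { carrier := {g | g ∈ N ∧ g ^ r = 1}
        one_mem' := ⟨N.one_mem, one_pow r⟩
        mul_mem' := fun {u v} hu hv => ⟨N.mul_mem hu.1 hv.1, by
          rw [(show Commute u v from congrArg Subtype.val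
            (hNc.is_comm.comm (⟨u, hu.1⟩ : N) ⟨v, hv.1⟩)).mul_pow, hu.2, hv.2, one_mul]⟩
        inv_mem' := fun {u} hu => ⟨N.inv_mem hu.1, by rw [inv_pow, hu.2, inv_one]⟩ }
    have hE : E = N := by
      refine hmin E ⟨fun g hg c => ⟨hN.conj_mem g hg.1 c, by
        rw [conj_pow, hg.2, mul_one, mul_inv_cancel]⟩⟩ (fun e => ?_) fun g hg => hg.1
      have hmem : (x : G) ∈ E := ⟨x.2, by
        rw [← Subgroup.coe_pow, ← hx, pow_orderOf_eq_one, Subgroup.coe_one]⟩
      rw [e, Subgroup.mem_bot, OneMemClass.coe_eq_one] at hmem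
      rw [hmem, orderOf_one] at hx
      exact hr.ne_one hx.symm
    refine ⟨r, hr, ⟨hNc, fun g hg => ?_⟩, fun w => ?_⟩
    · exact (hE.symm ▸ hg : g ∈ E).2
    · rw [eq_bot_iff]
      intro n hn
      rw [Subgroup.mem_bot]
      by_contra hn1
      exact hsemi N (htr N hN hN0) n (fun m hm => congrArg Subtype.val
        (hNc.is_comm.comm (⟨m, hm⟩ : N) n)) (fun e => hn1 (Subtype.ext e)) w hn
  have hns : ¬ Group.IsSolvable N := by
    intro hsol
    haveI := hsol
    haveI : Nontrivial N := (Subgroup.nontrivial_iff_ne_bot N).2 hN0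
    apply hNc
    have hlt := Group.IsSolvable.commutator_lt_top_of_nontrivial N
    have hmap : (commutator N).map N.subtype ≠ N := fun e => hlt.ne (Subgroup.map_injective
      N.subtype_injective (by rw [e, ← MonoidHom.range_eq_map, Subgroup.range_subtype]))
    have hcn : ((commutator N).map N.subtype).Normal := by
      rw [Subgroup.map_subtype_commutator]
      infer_instance
    have hbot : commutator N = ⊥ := by
      refine (Subgroup.map_eq_bot_iff_of_injective _ N.subtype_injective).1 ?_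
      by_contra h
      exact hmap (hmin _ hcn h (Subgroup.map_subtype_le _))
    refine ⟨⟨fun u v => ?_⟩⟩
    have := Subgroup.commutator_mem_commutator (Subgroup.mem_top u) (Subgroup.mem_top v)
    rw [← commutator_def, hbot, Subgroup.mem_bot, commutatorElement_eq_one_iff_mul_comm] at this
    exact this
  by_cases hC : Subgroup.centralizer (N : Set G) = ⊥
  swap
  · right; right; left
    exact ⟨fun n hn hn1 => hsemi _ (htr _ inferInstance hC) n
      (fun m hm => (Subgroup.mem_centralizer_iff.1 hm n hn).symm) hn1, hns⟩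
  right
  have hs : Socle N := ⟨hN, hmin, fun u _ hu => (Subgroup.eq_bot_iff_forall _).1 hC u hu⟩
  obtain ⟨T, hT⟩ := exists_factor hN0
  by_cases hg : ∃ g : G, T.map (MulAut.conj g).toMonoidHom ≠ T
  · obtain ⟨g, hg⟩ := hg
    exact Or.inr (Or.inr ⟨hs, _, T, hs.map_factor hT g, hT, hg⟩)
  · left
    push Not at hg
    have hNT : N = T := by
      rw [hs.eq_iSup hT]
      exact le_antisymm (iSup_le fun g => (hg g).le) (le_iSup_of_le 1 (hg 1).ge)
    subst hNT
    exact ⟨N, hN, hs.isSimple hT, hs.not_comm hT, hC⟩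

end Cfsg.Agent.Recognition.SocleFactors
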