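import Mathlib
import Cfsg.Agent.Recognition.ExtremelyPrimitive
import Cfsg.Agent.Recognition.SocleFactors
import Cfsg.Agent.Recognition.MaximalPartition

/-!
# An extremely primitive group is affine or almost simple

If all projections of `N ⊔ C(N)` at a point stabiliser onto a factor of the minimal normal subgroup
`N` are full, the stabilisers of the points `t • a` tag the factor by maximal subgroups, which is
impossible. Otherwise the stabiliser meets `N` in the product of its projections, so the orbit of a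
point stabiliser through `t • a` is block-decomposed by the factors; this makes `N` regular and the
stabiliser of prime order, and then it fixes a second point.
-/

set_option autoImplicit false

namespace Cfsg.Agent.Recognition.ExtremelyPrimitiveType

open MulAction SocleFactors
open scoped Pointwise

theorem comm_of_bot_coatom {H : Type*} [Group H] (h : IsCoatom (⊥ : Subgroup H)) (x y : H) :
    x * y = y * x := by
  by_cases hx : x = 1
  · rw [hx, one_mul, mul_one]
  obtain ⟨i, rfl⟩ := Subgroup.mem_zpowers_iff.1 (show y ∈ Subgroup.zpowers x by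
    rw [h.2 _ (bot_lt_iff_ne_bot.2 fun e => hx (Subgroup.zpowers_eq_bot.1 e))]
    exact Subgroup.mem_top y)
  exact (Commute.zpow_right rfl i).eq

variable {G : Type*} [Group G] [Finite G] {Ω : Type*} [Fintype Ω] [MulAction G Ω] [FaithfulSMul G Ω]
  [Nontrivial Ω]
variable (hprim : IsPreprimitive G Ω)
  (hep : ∀ (α : Ω) (ω : Ω), IsPreprimitive (stabilizer G α) (orbit (stabilizer G α) ω))
  {N T : Subgroup G} (hs : Socle N) (hNt : IsPretransitive N Ω) (hT : IsFactor N T) (a : Ω)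

include hprim hep hs hT in
theorem stab_ne_bot : stabilizer G a ≠ ⊥ := by
  haveI := hprim
  intro e
  have h := (isCoatom_stabilizer_iff_preprimitive (G := G) a).2 hprim
  rw [e] at h
  exact hs.not_comm hT ⟨⟨fun x y => Subtype.ext (comm_of_bot_coatom h x y)⟩⟩

include hprim hep hs hT in
theorem not_fixes_two {b : Ω} (hb : b ≠ a) : ∃ h ∈ stabilizer G a, h • b ≠ b := by
  by_contra e
  push Not at e
  exact stab_ne_bot hprim hep hs hT a (ExtremelyPrimitive.eq_bot_of_fixes hprim hep a b hb _ le_rfl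
    (fun h hh k hk => (stabilizer G a).mul_mem ((stabilizer G a).mul_mem hh hk) ((stabilizer G a).inv_mem hh)) e)

include hprim hep hs hT in
theorem coatom {b : Ω} (hb : b ≠ a) : IsCoatom (stabilizer (stabilizer G a) b) := by
  haveI := hep a b
  obtain ⟨h, hh, hne⟩ := not_fixes_two hprim hep hs hT a hb
  haveI : Nontrivial (orbit (stabilizer G a) b) :=
    ⟨⟨_, mem_orbit b (⟨h, hh⟩ : stabilizer G a)⟩, ⟨b, mem_orbit_self b⟩, fun e => hne (congrArg Subtype.val e)⟩
  have h := (isCoatom_stabilizer_iff_preprimitive (G := stabilizer G a)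
    (⟨b, mem_orbit_self b⟩ : orbit (stabilizer G a) b)).2 (hep a b)
  convert h using 1
  ext x
  exact ⟨fun hx => Subtype.ext hx, fun hx => congrArg Subtype.val hx⟩

include hNt hT in
theorem not_le_stab : ¬ T ≤ stabilizer G a := by
  intro hle
  refine hT.1.2.1 ((Subgroup.eq_bot_iff_forall T).2 fun t ht => eq_of_smul_eq_smul (α := Ω) fun w => ?_)
  obtain ⟨⟨n, hn⟩, hnw⟩ := exists_smul_eq N a w
  change n • a = w at hnw
  have h : (n⁻¹ * t * n) • a = a := hle (by simpa using hT.1.2.2 n⁻¹ (N.inv_mem hn) t ht)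
  rw [mul_smul, mul_smul, inv_smul_eq_iff] at h
  rw [one_smul, ← hnw, h]

/-- every inner automorphism of `T` is induced from the point stabiliser inside `N ⊔ C(N)` -/
def Full (N T : Subgroup G) (a : Ω) : Prop :=
  ∀ t ∈ T, ∃ l ∈ stabilizer G a ⊓ (N ⊔ Subgroup.centralizer (N : Set G)),
    ∀ u ∈ T, l * u * l⁻¹ = t * u * t⁻¹

include hprim hep hs hNt hT in
theorem not_full : ¬ Full N T a := by
  classical
  intro hfull
  haveI := hs.normal
  haveI := hs.isSimple hT
  set H := stabilizer G a with hH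
  set C := Subgroup.centralizer (N : Set G)
  have hcen : ∀ x ∈ T, ∀ y ∈ T, (∀ u ∈ T, x * u * x⁻¹ = y * u * y⁻¹) → x = y := by
    intro x hx y hy e
    have := hs.center_trivial hT (T.mul_mem (T.inv_mem hy) hx) fun u hu => by
      have h1 := e u hu
      calc y⁻¹ * x * u = y⁻¹ * (x * u * x⁻¹) * x := by group
        _ = y⁻¹ * (y * u * y⁻¹) * x := by rw [h1]
        _ = u * (y⁻¹ * x) := by group
    exact (inv_mul_eq_one.1 this).symm
  have hTH : ∀ x ∈ T, x • a = a → x = 1 := by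
    intro x hx hxa
    have hn : ∀ t ∈ T, ∀ r ∈ T ⊓ H, t * r * t⁻¹ ∈ T ⊓ H := fun t ht r hr => by
      obtain ⟨l, hl, hlt⟩ := hfull t ht
      refine ⟨T.mul_mem (T.mul_mem ht hr.1) (T.inv_mem ht), ?_⟩
      rw [← hlt r hr.1]
      exact H.mul_mem (H.mul_mem hl.1 hr.2) (H.inv_mem hl.1)
    rcases hs.simple hT (T ⊓ H) inf_le_left hn with e | e
    · exact (Subgroup.eq_bot_iff_forall _).1 e x ⟨hx, hxa⟩
    · exact absurd (fun t ht => (e.ge ht).2) (not_le_stab hNt hT a)
  have hinj : ∀ x ∈ T, ∀ y ∈ T, x • a = y • a → x = y := by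
    intro x hx y hy e
    refine (inv_mul_eq_one.1 (hTH _ (T.mul_mem (T.inv_mem hy) hx) ?_)).symm
    rw [mul_smul, e, inv_smul_smul]
  have hact : ∀ x ∈ N ⊔ C, ∃ t ∈ T, ∀ u ∈ T, x * u * x⁻¹ = t * u * t⁻¹ := by
    intro x hx
    obtain ⟨n, hn, c, hc, rfl⟩ := (Subgroup.mem_sup_of_normal_right (t := C)).1 hx
    obtain ⟨t, ht, hnt⟩ := hs.act hT hn
    refine ⟨t, ht, fun u hu => ?_⟩
    rw [← hnt u hu, mul_inv_rev]
    have h1 : u * c = c * u := Subgroup.mem_centralizer_iff.1 hc u (hT.1.1 hu)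
    rw [show n * c * u * (c⁻¹ * n⁻¹) = n * (c * u) * c⁻¹ * n⁻¹ by group, ← h1]
    group
  choose f hf hfu using hact
  let L : Subgroup H := (N ⊔ C).subgroupOf H
  let π : L →* T := MonoidHom.mk' (fun l => ⟨f ((l : H) : G) l.2, hf _ l.2⟩) fun l m => Subtype.ext <|
    hcen _ (hf _ (l * m).2) _ (T.mul_mem (hf _ l.2) (hf _ m.2)) fun u hu => by
      rw [← hfu _ (l * m).2 u hu]
      change ((l : H) : G) * ((m : H) : G) * u * (((l : H) : G) * ((m : H) : G))⁻¹ = _
      have h1 := hfu ((m : H) : G) m.2 u hu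
      have h2 := hfu ((l : H) : G) l.2 _ (T.mul_mem (T.mul_mem (hf _ m.2) hu) (T.inv_mem (hf _ m.2)))
      calc ((l : H) : G) * ((m : H) : G) * u * (((l : H) : G) * ((m : H) : G))⁻¹ =
            ((l : H) : G) * (((m : H) : G) * u * ((m : H) : G)⁻¹) * ((l : H) : G)⁻¹ := by group
        _ = ((l : H) : G) * (f _ m.2 * u * (f _ m.2)⁻¹) * ((l : H) : G)⁻¹ := congrArg
            (fun z => ((l : H) : G) * z * ((l : H) : G)⁻¹) h1
        _ = f _ l.2 * (f _ m.2 * u * (f _ m.2)⁻¹) * (f _ l.2)⁻¹ := h2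
        _ = f _ l.2 * f _ m.2 * u * (f _ l.2 * f _ m.2)⁻¹ := by group
  have hπ : ∀ l : L, ∀ u ∈ T, ((l : H) : G) * u * ((l : H) : G)⁻¹ = (π l : G) * u * (π l : G)⁻¹ :=
    fun l u hu => hfu _ l.2 u hu
  have hsurj : Function.Surjective π := fun t => by
    obtain ⟨l, hl, hlt⟩ := hfull t t.2
    exact ⟨⟨⟨l, hl.1⟩, hl.2⟩, Subtype.ext (hcen _ (π _).2 _ t.2 fun u hu =>
      (hπ ⟨⟨l, hl.1⟩, hl.2⟩ u hu).symm.trans (hlt u hu))⟩
  have hlact : ∀ l : L, ∀ t : T, ((l : H) : G) • (t : G) • a = ((π l * t * (π l)⁻¹ : T) : G) • a := by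
    intro l t
    rw [Subgroup.coe_mul, Subgroup.coe_mul, Subgroup.coe_inv, ← hπ l t t.2, mul_smul, mul_smul,
      inv_smul_eq_iff.2 (mem_stabilizer_iff.1 (l : H).2).symm]
  have hne : ∀ t : T, t ≠ 1 → (t : G) • a ≠ a := fun t ht e => ht (Subtype.ext (hTH _ t.2 e))
  let M : T → Subgroup H := fun t => stabilizer H ((t : G) • a)
  refine MaximalPartition.Tag.false (T := T) (hs.not_comm hT) (L := L) (π := π) (M := M) ?_
  refine ⟨?_, hsurj, ?_, fun t ht => coatom hprim hep hs hT a (hne t ht), ?_, ?_, ?_, ?_⟩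
  · haveI : C.Normal := inferInstanceAs (Subgroup.centralizer (N : Set G)).Normal
    infer_instance
  · rw [eq_top_iff]
    intro x _
    change (x : G) • ((1 : T) : G) • a = ((1 : T) : G) • a
    rw [Subgroup.coe_one, one_smul]
    exact x.2
  · intro t ht hnorm
    have hbot : M t = ⊥ := by
      refine (Subgroup.map_eq_bot_iff_of_injective _ H.subtype_injective).1
        (ExtremelyPrimitive.eq_bot_of_fixes hprim hep a _ (hne t ht) ((M t).map H.subtype)
          (Subgroup.map_subtype_le _) ?_ ?_)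
      · rintro h hh _ ⟨k, hk, rfl⟩
        exact ⟨_, hnorm.conj_mem k hk ⟨h, hh⟩, rfl⟩
      · rintro _ ⟨k, hk, rfl⟩
        exact hk
    have hcoat : IsCoatom (⊥ : Subgroup H) := by
      rw [← hbot]
      exact coatom hprim hep hs hT a (hne t ht)
    refine hs.not_comm hT ⟨⟨fun x y => ?_⟩⟩
    obtain ⟨l, rfl⟩ := hsurj x
    obtain ⟨m, rfl⟩ := hsurj y
    rw [← map_mul, ← map_mul]
    exact congrArg π (Subtype.ext (comm_of_bot_coatom hcoat l m))
  · intro t l
    change ((l : H) : G) • (t : G) • a = (t : G) • a ↔ _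
    rw [hlact]
    constructor
    · exact fun e => mul_inv_eq_iff_eq_mul.1 (Subtype.ext (hinj _ (π l * t * (π l)⁻¹).2 _ t.2 e))
    · intro e
      rw [mul_inv_eq_iff_eq_mul.2 e]
  · intro t l
    change stabilizer H (((π l * t * (π l)⁻¹ : T) : G) • a) = _
    rw [← hlact]
    exact stabilizer_smul_eq_stabilizer_map_conj (l : H) ((t : G) • a)
  · rintro s t hst g ⟨hgs, hgt⟩
    have hgs' : (g : G) • (s : G) • a = (s : G) • a := hgs
    have hgt' : (g : G) • (t : G) • a = (t : G) • a := hgt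
    change (g : G) • ((s * t : T) : G) • a = ((s * t : T) : G) • a
    have hg : (g : G)⁻¹ • a = a := inv_smul_eq_iff.2 (mem_stabilizer_iff.1 g.2).symm
    have hconj : ∀ x : G, (g * x * (g : G)⁻¹) • a = (g : G) • x • a := fun x => by
      rw [mul_smul, mul_smul, hg]
    rw [← hconj, Subgroup.coe_mul]
    by_cases hW : T.map (MulAut.conj (g : G)).toMonoidHom = T
    · have hm : ∀ x : T, (g : G) * x * (g : G)⁻¹ ∈ T := fun x => hW.le ⟨x, x.2, rfl⟩
      have e1 := hinj _ (hm s) _ s.2 ((hconj _).trans hgs')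
      have e2 := hinj _ (hm t) _ t.2 ((hconj _).trans hgt')
      rw [show (g : G) * (s * t) * (g : G)⁻¹ = ((g : G) * s * (g : G)⁻¹) * ((g : G) * t * (g : G)⁻¹) by group,
        e1, e2]
    · have hc : ((g : G) * s * (g : G)⁻¹) * t = t * ((g : G) * s * (g : G)⁻¹) :=
        comm_factor (hs.map_factor hT g) hT hW ⟨s, s.2, rfl⟩ t.2
      rw [show (g : G) * (s * t) * (g : G)⁻¹ = ((g : G) * s * (g : G)⁻¹) * ((g : G) * t * (g : G)⁻¹) by group,
        mul_smul, hconj (t : G), hgt', ← mul_smul, hc, mul_smul, hconj (s : G), hgs', ← mul_smul,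
        show (t : G) * s = s * t from congrArg Subtype.val hst.symm]

/-- the elements of `N` inducing on every factor what the stabiliser in `N` induces -/
def localStab (hs : Socle N) (a : Ω) : Subgroup G where
  carrier := {n | n ∈ N ∧ ∀ W, IsFactor N W → ∃ r ∈ N ⊓ stabilizer G a, ∀ u ∈ W, r * u * r⁻¹ = n * u * n⁻¹}
  one_mem' := ⟨N.one_mem, fun _ _ => ⟨1, Subgroup.one_mem _, fun _ _ => rfl⟩⟩
  mul_mem' := fun {x y} hx hy => ⟨N.mul_mem hx.1 hy.1, fun W hW => by
    obtain ⟨r, hr, hrx⟩ := hx.2 W hW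
    obtain ⟨r', hr', hry⟩ := hy.2 W hW
    refine ⟨r * r', Subgroup.mul_mem _ hr hr', fun u hu => ?_⟩
    rw [show r * r' * u * (r * r')⁻¹ = r * (r' * u * r'⁻¹) * r⁻¹ by group, hry u hu,
      hrx _ (hW.1.2.2 y hy.1 u hu)]
    group⟩
  inv_mem' := fun {x} hx => ⟨N.inv_mem hx.1, fun W hW => by
    obtain ⟨r, hr, hrx⟩ := hx.2 W hW
    refine ⟨r⁻¹, Subgroup.inv_mem _ hr, fun u hu => ?_⟩
    have h1 := hrx (x⁻¹ * u * x⁻¹⁻¹) (hW.1.2.2 x⁻¹ (N.inv_mem hx.1) u hu)
    rw [show x * (x⁻¹ * u * x⁻¹⁻¹) * x⁻¹ = u by group] at h1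
    calc r⁻¹ * u * r⁻¹⁻¹ = r⁻¹ * (r * (x⁻¹ * u * x⁻¹⁻¹) * r⁻¹) * r⁻¹⁻¹ := by rw [h1]
      _ = x⁻¹ * u * x⁻¹⁻¹ := by group⟩

include hprim hep hs hNt hT in
theorem localStab_le : localStab hs a ≤ stabilizer G a := by
  haveI := hprim
  have hN := hs.normal
  set H := stabilizer G a
  rcases ((isCoatom_stabilizer_iff_preprimitive (G := G) a).2 hprim).le_iff.1
    (le_sup_left : H ≤ H ⊔ localStab hs a) with e | e
  · exfalso
    refine not_full hprim hep hs hNt hT a fun t ht => ?_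
    have huniv := ExtremelyPrimitive.eq_univ_of_invariant (x := a) e (orbit (localStab hs a) a)
      (fun g hg => ?_) (fun g hg => mem_stabilizer_iff.2 (smul_orbit (⟨g, hg⟩ : localStab hs a) a))
      (mem_orbit_self a)
    · obtain ⟨⟨n, hn⟩, hna⟩ := (huniv.symm ▸ Set.mem_univ (t • a) : t • a ∈ orbit (localStab hs a) a)
      change n • a = t • a at hna
      obtain ⟨r, hr, hrn⟩ := hn.2 T hT
      have hmem : n⁻¹ * t ∈ N ⊓ stabilizer G a := ⟨N.mul_mem (N.inv_mem hn.1) (hT.1.1 ht), by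
        change (n⁻¹ * t) • a = a
        rw [mul_smul, ← hna, inv_smul_smul]⟩
      refine ⟨r * (n⁻¹ * t), ⟨H.mul_mem hr.2 hmem.2,
        Subgroup.mem_sup_left (N.mul_mem hr.1 hmem.1)⟩, fun u hu => ?_⟩
      rw [show r * (n⁻¹ * t) * u * (r * (n⁻¹ * t))⁻¹ = r * ((n⁻¹ * t) * u * (n⁻¹ * t)⁻¹) * r⁻¹ by group,
        hrn _ (hT.1.2.2 _ hmem.1 u hu)]
      group
    · rw [mem_stabilizer_iff]
      have key : ∀ g ∈ H, g • orbit (localStab hs a) a ⊆ orbit (localStab hs a) a := by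
        rintro g hg _ ⟨_, ⟨⟨n, hn⟩, rfl⟩, rfl⟩
        refine ⟨⟨g * n * g⁻¹, hN.conj_mem n hn.1 g, fun W hW => ?_⟩, ?_⟩
        · obtain ⟨r, hr, hrn⟩ := hn.2 _ (hs.map_factor hW g⁻¹)
          refine ⟨g * r * g⁻¹, ⟨hN.conj_mem r hr.1 g, H.mul_mem (H.mul_mem hg hr.2) (H.inv_mem hg)⟩, fun u hu => ?_⟩
          have h1 := hrn (g⁻¹ * u * g⁻¹⁻¹) ⟨u, hu, rfl⟩
          calc g * r * g⁻¹ * u * (g * r * g⁻¹)⁻¹ = g * (r * (g⁻¹ * u * g⁻¹⁻¹) * r⁻¹) * g⁻¹ := by group
            _ = g * (n * (g⁻¹ * u * g⁻¹⁻¹) * n⁻¹) * g⁻¹ := by rw [h1]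
            _ = g * n * g⁻¹ * u * (g * n * g⁻¹)⁻¹ := by group
        · change (g * n * g⁻¹) • a = g • n • a
          rw [mul_smul, mul_smul, inv_smul_eq_iff.2 (hg : g • a = a).symm]
      refine Set.Subset.antisymm (key g hg) fun y hy => ?_
      rw [Set.mem_smul_set_iff_inv_smul_mem]
      exact key g⁻¹ (H.inv_mem hg) (Set.smul_mem_smul_set hy)
  · exact le_sup_right.trans e.le

include hprim hep hs hNt in
/-- only one factor meets a given point other than `a` -/
theorem eq_fix_of_two_factors {W W' : Subgroup G} (hW : IsFactor N W) (hW' : IsFactor N W')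
    (hne : W ≠ W') {w w' : G} (hw : w ∈ W) (hw' : w' ∈ W') (e : w • a = w' • a) : w • a = a := by
  have hmem : w⁻¹ * w' ∈ N ⊓ stabilizer G a := ⟨N.mul_mem (N.inv_mem (hW.1.1 hw)) (hW'.1.1 hw'), by
    change (w⁻¹ * w') • a = a
    rw [mul_smul, ← e, inv_smul_smul]⟩
  have h1 : w⁻¹ ∈ localStab hs a := by
    refine ⟨N.inv_mem (hW.1.1 hw), fun U hU => ?_⟩
    by_cases hUW : U = W
    · subst hUW
      refine ⟨_, hmem, fun u hu => ?_⟩
      rw [show w⁻¹ * w' * u * (w⁻¹ * w')⁻¹ = w⁻¹ * (w' * u * w'⁻¹) * w⁻¹⁻¹ by group,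
        comm_factor hW' hU hne.symm hw' hu, mul_inv_cancel_right]
    · refine ⟨1, Subgroup.one_mem _, fun u hu => ?_⟩
      rw [comm_factor hW hU (Ne.symm hUW) (W.inv_mem hw) hu, mul_inv_cancel_right, one_mul, inv_one,
        mul_one]
  have h2 : w⁻¹ • a = a := localStab_le hprim hep hs hNt hW a h1
  exact (inv_smul_eq_iff.1 h2).symm

include hprim hep hs hNt hT in
/-- a factor is normal, or the stabiliser fixes its own points in the factor -/
theorem normal_or_fix_point {t : G} (ht : t ∈ T) (hta : t • a ≠ a) :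
    T.Normal ∨ ∀ h ∈ stabilizer G a, (∃ u ∈ T, h • t • a = u • a) → h • t • a = t • a := by
  haveI := hep a (t • a)
  have hN := hs.normal
  set H := stabilizer G a
  set B := orbit H (t • a)
  have hB : ∀ y ∈ B, y ≠ a := by
    rintro _ ⟨⟨h, hh⟩, rfl⟩ e
    change h • t • a = a at e
    refine hta ?_
    rw [← inv_smul_smul h (t • a), e, inv_smul_eq_iff, (hh : h • a = a)]
  have hnorm : ∀ h ∈ H, ∀ u ∈ T, u • a ∈ B → (∃ v ∈ T, h • u • a = v • a) →
      T.map (MulAut.conj h).toMonoidHom = T := by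
    rintro h hh u hu huB ⟨v, hv, e⟩
    by_contra hne
    have e' : (h * u * h⁻¹) • a = h • u • a := by
      rw [mul_smul, mul_smul, inv_smul_eq_iff.2 (hh : h • a = a).symm]
    have h3 := eq_fix_of_two_factors hprim hep hs hNt a hT (hs.map_factor hT h) (Ne.symm hne) hv ⟨u, hu, rfl⟩
      (by rw [← e]; exact e'.symm)
    refine hB (h • u • a) ?_ (e.trans h3)
    exact mapsTo_smul_orbit (⟨h, hh⟩ : H) (t • a) huB
  let P : Set B := {y | ∃ u ∈ T, u • a = (y : Ω)}
  have hPt : (⟨t • a, mem_orbit_self _⟩ : B) ∈ P := ⟨t, ht, rfl⟩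
  have hblock : IsBlock H P := isBlock_iff_smul_eq_or_disjoint.2 fun h => by
    by_cases hm : ∃ y ∈ P, h • y ∈ P
    · obtain ⟨⟨y, hyB⟩, ⟨u, hu, rfl⟩, v, hv, hv'⟩ := hm
      left
      have hT' := hnorm h h.2 u hu hyB ⟨v, hv, hv'.symm⟩
      have key : ∀ g : H, T.map (MulAut.conj (g : G)).toMonoidHom = T → ∀ z ∈ P, g • z ∈ P := by
        rintro g hg ⟨_, hzB⟩ ⟨x, hx, rfl⟩
        refine ⟨(g : G) * x * (g : G)⁻¹, hg ▸ ⟨x, hx, rfl⟩, ?_⟩
        change _ = (g : G) • x • a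
        rw [mul_smul, mul_smul, inv_smul_eq_iff.2 (mem_stabilizer_iff.1 g.2).symm]
      refine Set.Subset.antisymm (fun z hz => ?_) fun z hz => ?_
      · obtain ⟨z', hz', rfl⟩ := hz
        exact key h hT' z' hz'
      · rw [Set.mem_smul_set_iff_inv_smul_mem]
        refine key h⁻¹ ?_ z hz
        conv_lhs => rw [← hT', Subgroup.map_map]
        convert Subgroup.map_id T
        ext x
        simp [mul_assoc]
    · right
      push Not at hm
      refine Set.disjoint_left.2 ?_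
      rintro _ ⟨y, hy, rfl⟩ h2
      exact hm y hy h2
  rcases (hep a (t • a)).isTrivialBlock_of_isBlock hblock with hsing | huniv
  · refine Or.inr fun h hh hu => ?_
    obtain ⟨u, hu, e⟩ := hu
    exact congrArg Subtype.val (hsing
      (show (⟨h • t • a, mem_orbit (t • a) (⟨h, hh⟩ : H)⟩ : B) ∈ P from ⟨u, hu, e.symm⟩) hPt)
  · left
    have hHT : ∀ h ∈ H, T.map (MulAut.conj h).toMonoidHom = T := fun h hh => by
      obtain ⟨u, hu, e⟩ := (huniv.symm ▸ Set.mem_univ _ :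
        (⟨h • t • a, mem_orbit (t • a) (⟨h, hh⟩ : H)⟩ : B) ∈ P)
      exact hnorm h hh t ht (mem_orbit_self _) ⟨u, hu, e.symm⟩
    refine ⟨fun x hx g => ?_⟩
    obtain ⟨⟨n, hn⟩, hna⟩ := hNt.exists_smul_eq a (g • a)
    change n • a = g • a at hna
    have hh : n⁻¹ * g ∈ H := by rw [mem_stabilizer_iff, mul_smul, ← hna, inv_smul_smul]
    have h1 : (n⁻¹ * g) * x * (n⁻¹ * g)⁻¹ ∈ T := by
      have := Subgroup.mem_map_of_mem (MulAut.conj (n⁻¹ * g)).toMonoidHom hx
      rwa [hHT _ hh] at this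
    have h2 := hT.1.2.2 n hn _ h1
    rwa [show n * (n⁻¹ * g * x * (n⁻¹ * g)⁻¹) * n⁻¹ = g * x * g⁻¹ by group] at h2

include hprim hep hs hNt hT a in
theorem false_of_not_normal (hC : Subgroup.centralizer (N : Set G) = ⊥)
    (hnn : ∀ W, IsFactor N W → ¬ W.Normal) : False := by
  classical
  have hN := hs.normal
  have hNne : N ≠ ⊥ := fun e => hT.1.2.1 (le_bot_iff.1 (e ▸ hT.1.1))
  set H := stabilizer G a with hH
  have hpt : ∀ {W}, IsFactor N W → ∀ u ∈ W, u • a ≠ a → ∀ h ∈ H,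
      (∃ v ∈ W, h • u • a = v • a) → h • u • a = u • a := fun {W} hW u hu hua =>
    (normal_or_fix_point hprim hep hs hNt hW a hu hua).resolve_left (hnn W hW)
  -- `N` is regular
  have hreg : ∀ n ∈ N, n • a = a → n = 1 := by
    have hfix : ∀ W, IsFactor N W → ∀ u ∈ W, ∀ r ∈ N ⊓ H, r • u • a = u • a := by
      intro W hW u hu r hr
      by_cases hua : u • a = a
      · rw [hua]; exact hr.2
      refine hpt hW u hu hua r hr.2 ⟨r * u * r⁻¹, hW.1.2.2 r hr.1 u hu, ?_⟩
      rw [mul_smul, mul_smul, inv_smul_eq_iff.2 (hr.2 : r • a = a).symm]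
    have hconj : ∀ W, IsFactor N W → ∀ u ∈ W, ∀ r ∈ N ⊓ H, u⁻¹ * r * u ∈ N ⊓ H := by
      intro W hW u hu r hr
      refine ⟨N.mul_mem (N.mul_mem (N.inv_mem (hW.1.1 hu)) hr.1) (hW.1.1 hu), ?_⟩
      change (u⁻¹ * r * u) • a = a
      rw [mul_smul, mul_smul, hfix W hW u hu r hr, inv_smul_smul]
    have hNR : ∀ n ∈ N, ∀ r ∈ N ⊓ H, n • a = n • a → r • n • a = n • a := by
      intro n hn
      let S : Subgroup G :=
        { carrier := {x | ∀ r ∈ N ⊓ H, x⁻¹ * r * x ∈ N ⊓ H ∧ x * r * x⁻¹ ∈ N ⊓ H}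
          one_mem' := fun r hr => ⟨by simpa using hr, by simpa using hr⟩
          mul_mem' := fun {x y} hx hy r hr => ⟨by
            have := (hy _ (hx r hr).1).1
            simpa [mul_assoc] using this, by
            have := (hx _ (hy r hr).2).2
            simpa [mul_assoc] using this⟩
          inv_mem' := fun {x} hx r hr => ⟨by simpa using (hx r hr).2, by simpa using (hx r hr).1⟩ }
      have hle : N ≤ S := by
        rw [hs.eq_iSup hT]
        exact iSup_le fun g u hu r hr => ⟨hconj _ (hs.map_factor hT g) u hu r hr, by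
          simpa using hconj _ (hs.map_factor hT g) u⁻¹ (Subgroup.inv_mem _ hu) r hr⟩
      intro r hr _
      have h1 : (n⁻¹ * r * n) • a = a := (hle hn r hr).1.2
      rwa [mul_smul, mul_smul, inv_smul_eq_iff] at h1
    intro n hn hna
    refine eq_of_smul_eq_smul (α := Ω) fun w => ?_
    obtain ⟨⟨m, hm⟩, rfl⟩ := hNt.exists_smul_eq a w
    rw [one_smul]
    exact hNR m hm n ⟨hn, hna⟩ rfl
  have heq : ∀ x ∈ N, ∀ y ∈ N, x • a = y • a → x = y := fun x hx y hy e =>
    (inv_mul_eq_one.1 (hreg _ (N.mul_mem (N.inv_mem hy) hx) (by rw [mul_smul, e, inv_smul_smul]))).symm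
  have hconjN : ∀ h ∈ H, ∀ x : G, (h * x * h⁻¹) • a = h • x • a := fun h hh x => by
    rw [mul_smul, mul_smul, inv_smul_eq_iff.2 (hh : h • a = a).symm]
  have hfix_conj : ∀ h ∈ H, ∀ x ∈ N, (h • x • a = x • a ↔ h * x * h⁻¹ = x) := fun h hh x hx =>
    ⟨fun e => heq _ (hN.conj_mem x hx h) x hx ((hconjN h hh x).trans e),
      fun e => by rw [← hconjN h hh x, e]⟩
  -- normalising a factor is centralising it
  have hcent : ∀ {W}, IsFactor N W → ∀ u ∈ W, u ≠ 1 → ∀ h ∈ H, (h • u • a = u • a ↔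
      ∀ v ∈ W, h * v * h⁻¹ = v) := by
    intro W hW u hu hu1 h hh
    refine ⟨fun e v hv => ?_, fun e => (hfix_conj h hh u (hW.1.1 hu)).2 (e u hu)⟩
    have he : W.map (MulAut.conj h).toMonoidHom = W := by
      by_contra hne
      refine hu1 (disjoint_factor (hs.map_factor hW h) hW hne ⟨u, hu, ?_⟩ hu)
      exact (hfix_conj h hh u (hW.1.1 hu)).1 e
    by_cases hv1 : v = 1
    · rw [hv1, mul_one, mul_inv_cancel]
    · refine (hfix_conj h hh v (hW.1.1 hv)).1 (hpt hW v hv (fun e' => hv1 (hreg v (hW.1.1 hv) e')) h hh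
        ⟨h * v * h⁻¹, he ▸ ⟨v, hv, rfl⟩, (hconjN h hh v).symm⟩)
  have hne1 : ∀ x ∈ N, x ≠ 1 → x • a ≠ a := fun x hx hx1 e => hx1 (hreg x hx e)
  obtain ⟨x₀, y₀, -, hx₀, hy₀, -, hxy, -, -⟩ :=
    three_orders (not_solvable_of_simple (hs.isSimple hT) (hs.not_comm hT))
  set x : G := (x₀ : G)
  set y : G := (y₀ : G)
  have hox : orderOf x = orderOf x₀ := Subgroup.orderOf_coe x₀
  have hoy : orderOf y = orderOf y₀ := Subgroup.orderOf_coe y₀
  have hx1 : x ≠ 1 := fun e => hx₀.ne_one (by rw [← hox, e, orderOf_one])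
  -- all factors have the same centraliser in `H`
  have hsame : ∀ W, IsFactor N W → stabilizer H (x • a) ≤ Subgroup.comap H.subtype (Subgroup.centralizer (W : Set G)) := by
    intro W hW
    intro h hh
    have hhT := (hcent hT x x₀.2 hx1 h h.2).1 hh
    refine Subgroup.mem_centralizer_iff.2 fun v hv => ?_
    suffices (h : G) * v * (h : G)⁻¹ = v by exact (mul_inv_eq_iff_eq_mul.1 this).symm
    by_cases hWT : W = T
    · exact hhT v (hWT ▸ hv)
    obtain ⟨x', y', -, hx', hy', -, hxy', -, -⟩ :=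
      three_orders (not_solvable_of_simple (hs.isSimple hW) (hs.not_comm hW))
    obtain ⟨s, hs', hso⟩ : ∃ s : W, (orderOf s).Prime ∧ orderOf s ≠ orderOf x := by
      by_cases e : orderOf x' = orderOf x
      · exact ⟨y', hy', fun e' => hxy' (e.trans e'.symm)⟩
      · exact ⟨x', hx', e⟩
    have hs1 : (s : G) ≠ 1 := fun e => hs'.ne_one (by rw [← Subgroup.orderOf_coe, e, orderOf_one])
    have hxs : Commute x (s : G) := comm_factor hT hW (Ne.symm hWT) x₀.2 s.2
    have hxsN : x * s ∈ N := N.mul_mem (hT.1.1 x₀.2) (hW.1.1 s.2)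
    have hxs1 : x * s ≠ 1 := fun e => hx1 (disjoint_factor hT hW (Ne.symm hWT) x₀.2
      (by rw [eq_inv_of_mul_eq_one_left e]; exact W.inv_mem s.2))
    -- fixing `x * s` means centralising both
    have hboth : ∀ g ∈ H, g • (x * (s : G)) • a = (x * (s : G)) • a →
        g * x * g⁻¹ = x ∧ g * s * g⁻¹ = s := by
      intro g hg e
      have e1 := (hfix_conj g hg _ hxsN).1 e
      have hpow : ∀ k : ℕ, g * (x * (s : G)) ^ k * g⁻¹ = (x * (s : G)) ^ k := fun k => by
        rw [← conj_pow, e1]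
      have hcop : (orderOf x).Coprime (orderOf (s : G)) := by
        rw [hox, Subgroup.orderOf_coe]
        exact (Nat.coprime_primes hx₀ hs').2 (by rw [← hox]; exact hso.symm)
      obtain ⟨i, hi⟩ := exists_pow_eq_self_of_coprime (x := x) hcop.symm
      obtain ⟨j, hj⟩ := exists_pow_eq_self_of_coprime (x := (s : G)) hcop
      constructor
      · rw [← hi, ← pow_mul]
        have := hpow (orderOf (s : G) * i)
        rwa [hxs.mul_pow, pow_mul (s : G), pow_orderOf_eq_one, one_pow, mul_one] at this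
      · rw [← hj, ← pow_mul]
        have := hpow (orderOf x * j)
        rwa [hxs.mul_pow, pow_mul x, pow_orderOf_eq_one, one_pow, one_mul] at this
    have hle : stabilizer H ((x * (s : G)) • a) ≤ stabilizer H (x • a) := fun g hg =>
      (hfix_conj g g.2 x (hT.1.1 x₀.2)).2 (hboth g g.2 hg).1
    have he : stabilizer H (x • a) = stabilizer H ((x * (s : G)) • a) :=
      (((coatom hprim hep hs hT a (hne1 _ hxsN hxs1)).le_iff.1 hle).resolve_left
        (coatom hprim hep hs hT a (hne1 _ (hT.1.1 x₀.2) hx1)).1)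
    rw [he] at hh
    exact (hcent hW s s.2 hs1 h h.2).1
      ((hfix_conj h h.2 s (hW.1.1 s.2)).2 (hboth h h.2 hh).2) v hv
  have hbot : stabilizer H (x • a) = ⊥ := by
    refine (Subgroup.eq_bot_iff_forall _).2 fun h hh => Subtype.ext ?_
    refine (Subgroup.eq_bot_iff_forall _).1 hC _ (Subgroup.mem_centralizer_iff.2 fun n hn => ?_)
    have hle : N ≤ Subgroup.centralizer {(h : G)} := by
      rw [hs.eq_iSup hT]
      exact iSup_le fun g v hv => Subgroup.mem_centralizer_singleton_iff.2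
        (Subgroup.mem_centralizer_iff.1 (hsame _ (hs.map_factor hT g) hh) v hv)
    exact Subgroup.mem_centralizer_singleton_iff.1 (hle hn)
  have hco : IsCoatom (⊥ : Subgroup H) := hbot ▸ coatom hprim hep hs hT a (hne1 _ (hT.1.1 x₀.2) hx1)
  haveI : Nontrivial H := (Subgroup.nontrivial_iff_ne_bot _).2 (stab_ne_bot hprim hep hs hT a)
  obtain ⟨g, hg1⟩ := exists_ne (1 : H)
  have hgen : ∀ k : H, k ∈ Subgroup.zpowers g := fun k => by
    rw [hco.2 _ (bot_lt_iff_ne_bot.2 fun e => hg1 (Subgroup.zpowers_eq_bot.1 e))]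
    exact Subgroup.mem_top k
  set p := orderOf g
  have hp : 0 < p := orderOf_pos g
  have hmove : ∀ i : ℕ, 0 < i → i < p → T.map (MulAut.conj ((g : G) ^ i)).toMonoidHom ≠ T := by
    intro i hi0 hip e
    have hgi : g ^ i ∈ stabilizer H (x • a) := by
      change ((g ^ i : H) : G) • x • a = x • a
      refine hpt hT x x₀.2 (hne1 _ (hT.1.1 x₀.2) hx1) _ (g ^ i : H).2
        ⟨(g : G) ^ i * x * ((g : G) ^ i)⁻¹, e ▸ ⟨x, x₀.2, rfl⟩, ?_⟩
      rw [Subgroup.coe_pow]
      exact (hconjN _ (H.pow_mem g.2 i) x).symm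
    rw [hbot, Subgroup.mem_bot] at hgi
    exact pow_ne_one_of_lt_orderOf hi0.ne' hip hgi
  -- `(x * g) ^ p` lies in `N` and commutes with `g`
  have hind : ∀ k : ℕ, k < p → ∃ m ∈ N, (∀ v ∈ T, m * v = v * m) ∧
      (x * (g : G)) ^ (k + 1) = x * m * (g : G) ^ (k + 1) := by
    intro k
    induction k with
    | zero => exact fun _ => ⟨1, N.one_mem, fun v _ => by simp, by simp⟩
    | succ k ih =>
      intro hk
      obtain ⟨m, hm, hmc, e⟩ := ih (by omega)
      refine ⟨m * ((g : G) ^ (k + 1) * x * ((g : G) ^ (k + 1))⁻¹),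
        N.mul_mem hm (hN.conj_mem x (hT.1.1 x₀.2) _), fun v hv => ?_, ?_⟩
      · exact ((show Commute m v from hmc v hv).mul_left (comm_factor (hs.map_factor hT _) hT
          (hmove (k + 1) (by omega) hk) ⟨x, x₀.2, rfl⟩ hv)).eq
      · rw [pow_succ, e, pow_succ (g : G) (k + 1)]
        group
  obtain ⟨m, hm, hmc, e⟩ := hind (p - 1) (by omega)
  rw [Nat.sub_add_cancel hp, show (g : G) ^ p = 1 by rw [← Subgroup.coe_pow, pow_orderOf_eq_one, Subgroup.coe_one],
    mul_one] at e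
  set n := x * m
  have hnN : n ∈ N := N.mul_mem (hT.1.1 x₀.2) hm
  have hn1 : n ≠ 1 := fun h0 => hx1 (hs.center_trivial hT x₀.2 fun v hv => by
    rw [eq_inv_of_mul_eq_one_left h0]
    exact ((show Commute m v from hmc v hv).inv_left).eq)
  have hnx : Commute x n := (Commute.refl x).mul_right (hmc x x₀.2).symm
  have hgn : (g : G) * n * (g : G)⁻¹ = n := by
    conv_lhs => rw [← e, ← conj_pow]
    have h1 : (g : G) * (x * g) * (g : G)⁻¹ = x⁻¹ * (x * g) * x⁻¹⁻¹ := by group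
    rw [h1, conj_pow, e, hnx.inv_left.eq, inv_inv, inv_mul_cancel_right]
  refine stab_ne_bot hprim hep hs hT a (ExtremelyPrimitive.eq_bot_of_fixes hprim hep a _ (hne1 n hnN hn1)
    H le_rfl (fun h hh k hk => H.mul_mem (H.mul_mem hh hk) (H.inv_mem hh)) fun k hk => ?_)
  have hgfix : g ∈ stabilizer H (n • a) := (hfix_conj g g.2 n hnN).2 hgn
  exact (Subgroup.zpowers_le.2 hgfix (hgen ⟨k, hk⟩) : (⟨k, hk⟩ : H) ∈ stabilizer H (n • a))

/-- an extremely primitive group is affine or almost simple -/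
theorem affine_or_almostSimple {G : Type*} [Group G] [Finite G] {Ω : Type*} [Fintype Ω] [MulAction G Ω]
    [FaithfulSMul G Ω] [Nontrivial Ω] (hprim : IsPreprimitive G Ω)
    (hep : ∀ (α : Ω) (ω : Ω), IsPreprimitive (stabilizer G α) (orbit (stabilizer G α) ω)) :
    (∃ N : Subgroup G, N.Normal ∧ N ≠ ⊥ ∧ IsMulCommutative N ∧ ∀ ω : Ω, stabilizer N ω = ⊥) ∨
      (∃ T : Subgroup G, T.Normal ∧ IsSimpleGroup T ∧ ¬ IsMulCommutative T ∧
        Subgroup.centralizer (T : Set G) = ⊥) := by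
  classical
  haveI := hprim
  haveI := hprim.toIsPretransitive
  have htr : ∀ M : Subgroup G, M.Normal → M ≠ ⊥ → IsPretransitive M Ω := fun M hM hM0 =>
    IsQuasiPreprimitive.isPretransitive_of_normal fun h =>
      hM0 ((Subgroup.eq_bot_iff_forall M).2 fun m hm => eq_of_smul_eq_smul (α := Ω) fun w => by
        rw [one_smul]; exact (h ▸ Set.mem_univ w : w ∈ fixedPoints M Ω) ⟨m, hm⟩)
  obtain ⟨a⟩ : Nonempty Ω := inferInstance
  haveI : Nontrivial G := by
    obtain ⟨b, hb⟩ := exists_ne a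
    obtain ⟨g, hg⟩ := exists_smul_eq G a b
    exact ⟨⟨g, 1, fun h => hb (by rw [← hg, h, one_smul])⟩⟩
  obtain ⟨N, ⟨hN, hN0⟩, hNmin⟩ := (Set.toFinite {M : Subgroup G | M.Normal ∧ M ≠ ⊥}).exists_minimal
    ⟨⊤, inferInstance, top_ne_bot⟩
  haveI := hN
  have hmin : ∀ M : Subgroup G, M.Normal → M ≠ ⊥ → M ≤ N → M = N := fun M h1 h2 h3 =>
    le_antisymm h3 (hNmin ⟨h1, h2⟩ h3)
  have hNt := htr N hN hN0
  by_cases hNc : IsMulCommutative N
  · refine Or.inl ⟨N, hN, hN0, hNc, fun w => (Subgroup.eq_bot_iff_forall _).2 fun n hn => Subtype.ext ?_⟩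
    refine eq_of_smul_eq_smul (α := Ω) fun v => ?_
    obtain ⟨m, rfl⟩ := hNt.exists_smul_eq w v
    rw [Subgroup.coe_one, one_smul]
    change n • m • w = m • w
    rw [← mul_smul, hNc.is_comm.comm n m, mul_smul, mem_stabilizer_iff.1 hn]
  have hs : Socle N := ⟨hN, hmin, fun u hu huc => by
    have hbot : N ⊓ Subgroup.centralizer (N : Set G) = ⊥ := by
      by_contra hne
      refine hNc ⟨⟨fun x y => Subtype.ext ?_⟩⟩
      exact Subgroup.mem_centralizer_iff.1
        ((hmin _ inferInstance hne inf_le_left).ge y.2).2 x x.2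
    exact (Subgroup.eq_bot_iff_forall _).1 hbot u ⟨hu, huc⟩⟩
  obtain ⟨T, hT⟩ := exists_factor hN0
  by_cases hC : Subgroup.centralizer (N : Set G) = ⊥
  · by_cases hnor : ∃ W, IsFactor N W ∧ W.Normal
    · obtain ⟨W, hW, hWn⟩ := hnor
      obtain rfl := hmin W hWn hW.1.2.1 hW.1.1
      exact Or.inr ⟨W, hWn, hs.isSimple hW, hs.not_comm hW, hC⟩
    · push Not at hnor
      exact (false_of_not_normal hprim hep hs hNt hT a hC hnor).elim
  · refine (not_full hprim hep hs hNt hT a fun t ht => ?_).elim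
    obtain ⟨⟨c, hc⟩, hca⟩ := (htr _ inferInstance hC).exists_smul_eq a (t • a)
    change c • a = t • a at hca
    refine ⟨c⁻¹ * t, ⟨show (c⁻¹ * t) • a = a by rw [mul_smul, ← hca, inv_smul_smul],
      Subgroup.mul_mem _ (Subgroup.mem_sup_right (Subgroup.inv_mem _ hc)) (Subgroup.mem_sup_left (hT.1.1 ht))⟩,
      fun u hu => ?_⟩
    have hcu : ∀ v ∈ T, c⁻¹ * v = v * c⁻¹ := fun v hv =>
      (Subgroup.mem_centralizer_iff.1 (Subgroup.inv_mem _ hc) v (hT.1.1 hv)).symm
    rw [show c⁻¹ * t * u * (c⁻¹ * t)⁻¹ = c⁻¹ * (t * u * t⁻¹) * c⁻¹⁻¹ by group,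
      hcu _ (T.mul_mem (T.mul_mem ht hu) (T.inv_mem ht)), inv_inv, inv_mul_cancel_right]

end Cfsg.Agent.Recognition.ExtremelyPrimitiveType
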