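import Mathlib
import Cfsg.Agent.Recognition.Extension
import Cfsg.Agent.Recognition.ListMatrix

/-!
A group of order forty acting on the space of dimension four over three elements without fixed
points, whose element orders are the divisors of eight and ten.
-/

set_option autoImplicit false

namespace Cfsg.Agent.Recognition.Frobenius40

open Matrix Cfsg.Agent.Recognition.ListMatrix Cfsg.Agent.Recognition.Extension

/-- Generator of order `5`. -/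
def genA : List ℕ := [2, 2, 0, 1, 1, 0, 2, 2, 0, 1, 0, 2, 2, 0, 1, 0]

/-- Its inverse. -/
def genA' : List ℕ := [2, 0, 2, 0, 0, 2, 1, 2, 2, 0, 2, 1, 0, 2, 0, 2]

/-- Generator of order `8`. -/
def genB : List ℕ := [0, 1, 2, 1, 1, 2, 1, 2, 0, 0, 0, 1, 0, 0, 1, 1]

/-- Its inverse. -/
def genB' : List ℕ := [1, 1, 0, 0, 1, 0, 1, 1, 0, 0, 2, 1, 0, 0, 1, 0]

/-- All forty elements. -/
def elems : List (List ℕ) := [
  [1, 0, 0, 0, 0, 1, 0, 0, 0, 0, 1, 0, 0, 0, 0, 1],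
  [2, 2, 0, 1, 1, 0, 2, 2, 0, 1, 0, 2, 2, 0, 1, 0],
  [0, 1, 2, 1, 1, 2, 1, 2, 0, 0, 0, 1, 0, 0, 1, 1],
  [2, 1, 2, 0, 0, 1, 2, 2, 2, 0, 1, 2, 1, 2, 0, 1],
  [0, 2, 0, 0, 2, 0, 0, 1, 2, 0, 1, 0, 2, 1, 1, 2],
  [2, 0, 1, 1, 0, 1, 1, 2, 1, 2, 0, 1, 0, 2, 1, 0],
  [1, 2, 2, 2, 2, 2, 0, 2, 0, 0, 1, 1, 0, 0, 1, 2],
  [2, 0, 2, 2, 2, 2, 1, 0, 2, 2, 2, 1, 0, 2, 2, 2],
  [0, 2, 1, 1, 2, 1, 1, 1, 0, 2, 2, 2, 2, 1, 1, 0],
  [2, 1, 0, 0, 1, 1, 0, 0, 2, 1, 1, 2, 1, 1, 2, 2],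
  [1, 1, 2, 0, 1, 2, 0, 0, 0, 2, 0, 2, 2, 2, 2, 0],
  [2, 1, 2, 1, 0, 2, 2, 0, 0, 2, 1, 0, 1, 1, 1, 1],
  [0, 2, 2, 1, 1, 2, 0, 2, 2, 2, 2, 0, 2, 1, 2, 2],
  [2, 2, 0, 0, 2, 0, 2, 2, 0, 0, 1, 2, 0, 0, 2, 0],
  [2, 0, 2, 0, 0, 2, 1, 2, 2, 0, 2, 1, 0, 2, 0, 2],
  [1, 0, 0, 2, 2, 2, 1, 2, 2, 1, 1, 0, 2, 0, 0, 2],
  [0, 1, 1, 0, 2, 0, 2, 0, 1, 1, 2, 2, 0, 2, 0, 1],
  [1, 1, 2, 1, 1, 0, 0, 0, 1, 1, 1, 1, 1, 0, 2, 1],
  [1, 1, 0, 1, 2, 1, 2, 0, 2, 1, 2, 2, 1, 0, 1, 2],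
  [2, 1, 0, 1, 2, 2, 0, 1, 2, 0, 0, 2, 1, 1, 1, 2],
  [2, 0, 0, 0, 0, 2, 0, 0, 0, 0, 2, 0, 0, 0, 0, 2],
  [1, 1, 0, 2, 2, 0, 1, 1, 0, 2, 0, 1, 1, 0, 2, 0],
  [1, 2, 1, 0, 0, 2, 1, 1, 1, 0, 2, 1, 2, 1, 0, 2],
  [1, 0, 1, 0, 0, 1, 2, 1, 1, 0, 1, 2, 0, 1, 0, 1],
  [1, 0, 1, 1, 1, 1, 2, 0, 1, 1, 1, 2, 0, 1, 1, 1],
  [0, 2, 1, 2, 2, 1, 2, 1, 0, 0, 0, 2, 0, 0, 2, 2],
  [0, 1, 0, 0, 1, 0, 0, 2, 1, 0, 2, 0, 1, 2, 2, 1],
  [1, 0, 2, 2, 0, 2, 2, 1, 2, 1, 0, 2, 0, 1, 2, 0],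
  [2, 2, 1, 0, 2, 1, 0, 0, 0, 1, 0, 1, 1, 1, 1, 0],
  [0, 1, 2, 2, 1, 2, 2, 2, 0, 1, 1, 1, 1, 2, 2, 0],
  [2, 1, 1, 1, 1, 1, 0, 1, 0, 0, 2, 2, 0, 0, 2, 1],
  [1, 2, 0, 0, 2, 2, 0, 0, 1, 2, 2, 1, 2, 2, 1, 1],
  [1, 2, 1, 2, 0, 1, 1, 0, 0, 1, 2, 0, 2, 2, 2, 2],
  [0, 1, 1, 2, 2, 1, 0, 1, 1, 1, 1, 0, 1, 2, 1, 1],
  [2, 0, 0, 1, 1, 1, 2, 1, 1, 2, 2, 0, 1, 0, 0, 1],
  [1, 1, 0, 0, 1, 0, 1, 1, 0, 0, 2, 1, 0, 0, 1, 0],
  [0, 2, 2, 0, 1, 0, 1, 0, 2, 2, 1, 1, 0, 1, 0, 2],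
  [2, 2, 1, 2, 2, 0, 0, 0, 2, 2, 2, 2, 2, 0, 1, 2],
  [2, 2, 0, 2, 1, 2, 1, 0, 1, 2, 1, 1, 2, 0, 2, 1],
  [1, 2, 0, 2, 1, 1, 0, 2, 1, 0, 0, 1, 2, 2, 2, 1]]

/-- First generator. -/
def gA : GL (Fin 4) (ZMod 3) := toGL 3 genA genA' (by decide +kernel) (by decide +kernel)

/-- Second generator. -/
def gB : GL (Fin 4) (ZMod 3) := toGL 3 genB genB' (by decide +kernel) (by decide +kernel)

/-- The group of order forty. -/
def grp : Subgroup (GL (Fin 4) (ZMod 3)) := Subgroup.closure {gA, gB}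

theorem closed_elems : closedList 3 elems genA genB = true := by decide +kernel

/-- The test applied to each element. -/
def goodElt (c : List ℕ) : Bool :=
  (c == oneM || (List.range 5).any (fun k => powM 3 c (k + 1) == negOneM 3) ||
    (geomM 3 c 4 == zeroM)) && (powM 3 c 8 == oneM || powM 3 c 10 == oneM)

theorem elems_good : elems.all goodElt = true := by decide +kernel

theorem cases_of_mem {g : GL (Fin 4) (ZMod 3)} (hg : g ∈ grp) :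
    (g = 1 ∨ (∃ k, g.1 ^ k = -1) ∨ (∑ i ∈ Finset.range 5, g.1 ^ i) = 0) ∧
      (g ^ 8 = 1 ∨ g ^ 10 = 1) := by
  obtain ⟨c, hc, he⟩ := exists_mem_list closed_elems (x := gA) (y := gB) rfl rfl hg
  have h := List.all_eq_true.1 elems_good c hc
  simp only [goodElt, Bool.and_eq_true, Bool.or_eq_true, beq_iff_eq, List.any_eq_true,
    List.mem_range] at h
  obtain ⟨h1, h2⟩ := h
  refine ⟨?_, ?_⟩
  · rcases h1 with (h | ⟨k, -, h⟩) | h
    · exact Or.inl (Units.ext (by rw [he, h, toMat_oneM, Units.val_one]))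
    · exact Or.inr (Or.inl ⟨k + 1, by rw [he, ← toMat_powM, h, toMat_negOneM]⟩)
    · exact Or.inr (Or.inr (by rw [he, ← toMat_geomM, h, toMat_zeroM]))
  · rcases h2 with h | h
    · exact Or.inl (Units.ext (by
        rw [Units.val_pow_eq_pow_val, he, ← toMat_powM, h, toMat_oneM, Units.val_one]))
    · exact Or.inr (Units.ext (by
        rw [Units.val_pow_eq_pow_val, he, ← toMat_powM, h, toMat_oneM, Units.val_one]))

theorem two_ne : (2 : ZMod 3) ≠ 0 := by decide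

theorem five_ne : ((5 : ℕ) : ZMod 3) ≠ 0 := by decide

theorem fixed_eq_zero {g : GL (Fin 4) (ZMod 3)} (hg : g ∈ grp) (hne : g ≠ 1)
    (v : Fin 4 → ZMod 3) (hv : g.1.mulVec v = v) : v = 0 := by
  have hpow : ∀ i : ℕ, (g.1 ^ i).mulVec v = v := by
    intro i
    induction i with
    | zero => simp
    | succ i ih => rw [pow_succ, ← Matrix.mulVec_mulVec, hv, ih]
  haveI := Fact.mk Nat.prime_three
  rcases (cases_of_mem hg).1 with h | ⟨k, h⟩ | h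
  · exact absurd h hne
  · have h' := hpow k
    rw [h, Matrix.neg_mulVec, Matrix.one_mulVec] at h'
    funext i
    have h'' : (2 : ZMod 3) * v i = 0 := by
      have := congrFun h' i
      simp only [Pi.neg_apply] at this
      linear_combination -this
    exact (mul_eq_zero.1 h'').resolve_left two_ne
  · have : ((5 : ℕ) : ZMod 3) • v = 0 := by
      have hs : (∑ i ∈ Finset.range 5, g.1 ^ i).mulVec v = ((5 : ℕ) : ZMod 3) • v := by
        rw [Matrix.sum_mulVec, Finset.sum_congr rfl (fun i _ => hpow i), Finset.sum_const,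
          Finset.card_range, Nat.cast_smul_eq_nsmul]
      rw [← hs, h, Matrix.zero_mulVec]
    exact (smul_eq_zero.1 this).resolve_left five_ne

/-- The linear action. -/
noncomputable def natural : grp →* MulAut (Multiplicative (Fin 4 → ZMod 3)) :=
  glAut.comp grp.subtype

theorem fpf_natural (g : grp) (hg : g ≠ 1) : Fpf natural g :=
  fpf_glAut grp.subtype g fun v hv =>
    fixed_eq_zero g.2 (fun h => hg (Subtype.ext h)) v hv

theorem pow_ne (w : List ℕ) {g : GL (Fin 4) (ZMod 3)} (hg : g.1 = toMat 3 w) (m : ℕ)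
    (h : toMat 3 (powM 3 w m) ≠ 1) : g ^ m ≠ 1 := fun he => h (by
  rw [toMat_powM, ← hg, ← Units.val_pow_eq_pow_val, he, Units.val_one])

theorem pow_eq (w : List ℕ) {g : GL (Fin 4) (ZMod 3)} (hg : g.1 = toMat 3 w) (m : ℕ)
    (h : powM 3 w m = oneM) : g ^ m = 1 := Units.ext (by
  rw [Units.val_pow_eq_pow_val, hg, ← toMat_powM, h, toMat_oneM, Units.val_one])

theorem exists_eight : ∃ g : grp, orderOf g = 8 := by
  refine ⟨⟨gB, Subgroup.subset_closure (by simp)⟩, ?_⟩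
  rw [← Subgroup.orderOf_coe, orderOf_eq_iff (by norm_num)]
  refine ⟨pow_eq genB rfl 8 (by decide +kernel), fun m hm hm0 => ?_⟩
  interval_cases m <;> exact pow_ne genB rfl _ (by decide +kernel)

theorem exists_ten : ∃ g : grp, orderOf g = 10 := by
  refine ⟨⟨gA * gB ^ 4, grp.mul_mem (Subgroup.subset_closure (by simp))
    (grp.pow_mem (Subgroup.subset_closure (by simp)) 4)⟩, ?_⟩
  have hv : (gA * gB ^ 4).1 = toMat 3 (mulM 3 genA (powM 3 genB 4)) := by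
    rw [toMat_mulM, toMat_powM, Units.val_mul, Units.val_pow_eq_pow_val]; rfl
  rw [← Subgroup.orderOf_coe, orderOf_eq_iff (by norm_num)]
  refine ⟨pow_eq _ hv 10 (by decide +kernel), fun m hm hm0 => ?_⟩
  interval_cases m <;> exact pow_ne _ hv _ (by decide +kernel)

theorem exists_large (N : ℕ) :
    ∃ (H : Type) (_ : Group H) (_ : Fintype H), N < Fintype.card H ∧
      Set.range (orderOf : H → ℕ) = {d | d ∣ 8 ∨ d ∣ 10 ∨ d = 3} := by
  haveI := Fact.mk Nat.prime_three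
  refine exists_large_spectrum N (G := (Fin (N + 1) → Multiplicative (Fin 4 → ZMod 3))
    ⋊[copies natural (N + 1)] grp) ((Nat.lt_succ_self N).trans (lt_card_copies _ _))
    (Set.Subset.antisymm ?_ ?_)
  · rintro _ ⟨y, rfl⟩
    by_cases h : y.right = 1
    · have hd := orderOf_dvd_mul 3 (pow_eq_one_copies pow_char_eq_one (N + 1)) y
      rw [h, orderOf_one, one_mul] at hd
      rcases (Nat.dvd_prime Nat.prime_three).1 hd with h' | h'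
      · exact Or.inl (h'.dvd.trans (one_dvd _))
      · exact Or.inr (Or.inr h')
    · rw [orderOf_of_fpf y ((fpf_natural _ h).copies (N + 1))]
      rw [← Subgroup.orderOf_coe]
      rcases (cases_of_mem y.right.2).2 with h' | h'
      · exact Or.inl (orderOf_dvd_of_pow_eq_one h')
      · exact Or.inr (Or.inl (orderOf_dvd_of_pow_eq_one h'))
  · rintro d (hd | hd | hd)
    · obtain ⟨g, hg⟩ := exists_eight
      exact range_orderOf_subset ⟨g ^ (orderOf g / d),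
        orderOf_pow_orderOf_div (by omega) (hg ▸ hd)⟩
    · obtain ⟨g, hg⟩ := exists_ten
      exact range_orderOf_subset ⟨g ^ (orderOf g / d),
        orderOf_pow_orderOf_div (by omega) (hg ▸ hd)⟩
    · refine ⟨SemidirectProduct.inl fun _ => Multiplicative.ofAdd fun _ => (1 : ZMod 3), ?_⟩
      rw [orderOf_injective _ SemidirectProduct.inl_injective, hd]
      refine orderOf_eq_prime (pow_eq_one_copies pow_char_eq_one (N + 1) _) fun h => ?_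
      exact one_ne_zero (congrFun (congrArg Multiplicative.toAdd (congrFun h 0)) 0)

end Cfsg.Agent.Recognition.Frobenius40
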