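import Mathlib

/-!
A primitive group with a Jordan set of at most half the points is triply transitive.
-/

set_option autoImplicit false

namespace Cfsg.Agent.Recognition.MarggraffThree

open MulAction
open scoped Pointwise

variable {G Ω : Type*} [Group G] [MulAction G Ω]

/-- One step of the connection avoiding two points. -/
def Step (G : Type*) [Group G] [MulAction G Ω] (Γ : Set Ω) (a b x y : Ω) : Prop :=
  ∃ g : G, a ∉ g • Γ ∧ b ∉ g • Γ ∧ x ∈ g • Γ ∧ y ∈ g • Γ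

/-- Connection avoiding two points. -/
def Conn (G : Type*) [Group G] [MulAction G Ω] (Γ : Set Ω) (a b : Ω) : Ω → Ω → Prop :=
  Relation.EqvGen (Step G Γ a b)

/-- The component of a point. -/
def comp (G : Type*) [Group G] [MulAction G Ω] (Γ : Set Ω) (a b x : Ω) : Set Ω :=
  {y | Conn G Γ a b x y}

/-- The line through two points. -/
def line (G : Type*) [Group G] [MulAction G Ω] (Γ : Set Ω) (a b : Ω) : Set Ω :=
  {y | ∀ g : G, a ∉ g • Γ → b ∉ g • Γ → y ∉ g • Γ}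

variable {Γ : Set Ω}

theorem step_smul {a b x y : Ω} (h : G) (hs : Step G Γ a b x y) :
    Step G Γ (h • a) (h • b) (h • x) (h • y) := by
  obtain ⟨g, h1, h2, h3, h4⟩ := hs
  refine ⟨h * g, ?_, ?_, ?_, ?_⟩ <;> rw [mul_smul, Set.smul_mem_smul_set_iff] <;> assumption

theorem conn_smul {a b x y : Ω} (h : G) (hs : Conn G Γ a b x y) :
    Conn G Γ (h • a) (h • b) (h • x) (h • y) := by
  induction hs with
  | rel x y hxy => exact Relation.EqvGen.rel _ _ (step_smul h hxy)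
  | refl x => exact Relation.EqvGen.refl _
  | symm x y _ ih => exact Relation.EqvGen.symm _ _ ih
  | trans x y z _ _ ih ih' => exact Relation.EqvGen.trans _ _ _ ih ih'

theorem conn_avoid {a b x y : Ω} (hs : Conn G Γ a b x y) : (x ≠ a ∧ x ≠ b) ↔ (y ≠ a ∧ y ≠ b) := by
  induction hs with
  | rel x y hxy =>
    obtain ⟨g, h1, h2, h3, h4⟩ := hxy
    exact ⟨fun _ => ⟨fun e => h1 (e ▸ h4), fun e => h2 (e ▸ h4)⟩,
      fun _ => ⟨fun e => h1 (e ▸ h3), fun e => h2 (e ▸ h3)⟩⟩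
  | refl x => exact Iff.rfl
  | symm x y _ ih => exact ih.symm
  | trans x y z _ _ ih ih' => exact ih.trans ih'

/-- A connection inside a component survives when other outside points are avoided. -/
theorem conn_restrict {a b x p q y z : Ω} (hp : p ∉ comp G Γ a b x) (hq : q ∉ comp G Γ a b x)
    (hs : Conn G Γ a b y z) :
    (y ∈ comp G Γ a b x ↔ z ∈ comp G Γ a b x) ∧ (y ∈ comp G Γ a b x → Conn G Γ p q y z) := by
  induction hs with
  | rel y z hyz =>
    obtain ⟨g, h1, h2, h3, h4⟩ := hyz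
    refine ⟨⟨fun h => Relation.EqvGen.trans _ _ _ h (Relation.EqvGen.rel _ _ ⟨g, h1, h2, h3, h4⟩),
      fun h => Relation.EqvGen.trans _ _ _ h (Relation.EqvGen.rel _ _ ⟨g, h1, h2, h4, h3⟩)⟩, fun h => ?_⟩
    refine Relation.EqvGen.rel _ _ ⟨g, fun hm => hp ?_, fun hm => hq ?_, h3, h4⟩
    · exact Relation.EqvGen.trans _ _ _ h (Relation.EqvGen.rel _ _ ⟨g, h1, h2, h3, hm⟩)
    · exact Relation.EqvGen.trans _ _ _ h (Relation.EqvGen.rel _ _ ⟨g, h1, h2, h3, hm⟩)
  | refl y => exact ⟨Iff.rfl, fun _ => Relation.EqvGen.refl _⟩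
  | symm y z _ ih => exact ⟨ih.1.symm, fun h => Relation.EqvGen.symm _ _ (ih.2 (ih.1.2 h))⟩
  | trans y w z _ _ ih ih' =>
    exact ⟨ih.1.trans ih'.1, fun h => Relation.EqvGen.trans _ _ _ (ih.2 h) (ih'.2 (ih.1.1 h))⟩

theorem conn_move (htr : ∀ x ∈ Γ, ∀ y ∈ Γ, ∃ g : G, (∀ z ∉ Γ, g • z = z) ∧ g • x = y)
    {a b x y : Ω} (hs : Conn G Γ a b x y) : ∃ k : G, k • a = a ∧ k • b = b ∧ k • x = y := by
  induction hs with
  | rel x y hxy =>
    obtain ⟨g, h1, h2, h3, h4⟩ := hxy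
    rw [Set.mem_smul_set_iff_inv_smul_mem] at h1 h2 h3 h4
    obtain ⟨k, hk, hkxy⟩ := htr _ h3 _ h4
    refine ⟨g * k * g⁻¹, ?_, ?_, ?_⟩
    · rw [mul_smul, mul_smul, hk _ h1, smul_inv_smul]
    · rw [mul_smul, mul_smul, hk _ h2, smul_inv_smul]
    · rw [mul_smul, mul_smul, hkxy, smul_inv_smul]
  | refl x => exact ⟨1, one_smul _ _, one_smul _ _, one_smul _ _⟩
  | symm x y _ ih =>
    obtain ⟨k, ha, hb, hxy⟩ := ih
    exact ⟨k⁻¹, inv_smul_eq_iff.2 ha.symm, inv_smul_eq_iff.2 hb.symm, inv_smul_eq_iff.2 hxy.symm⟩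
  | trans x y z _ _ ih ih' =>
    obtain ⟨k, ha, hb, hxy⟩ := ih
    obtain ⟨k', ha', hb', hyz⟩ := ih'
    exact ⟨k' * k, by rw [mul_smul, ha, ha'], by rw [mul_smul, hb, hb'], by rw [mul_smul, hxy, hyz]⟩

theorem line_symm (a b : Ω) : line G Γ a b = line G Γ b a := by
  ext y
  exact ⟨fun h g h1 h2 => h g h2 h1, fun h g h1 h2 => h g h2 h1⟩

theorem line_smul (h : G) (a b : Ω) : h • line G Γ a b = line G Γ (h • a) (h • b) := by
  ext y
  rw [Set.mem_smul_set_iff_inv_smul_mem]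
  constructor
  · intro hy g h1 h2 h3
    refine hy (h⁻¹ * g) ?_ ?_ ?_ <;>
      simp only [mul_smul, Set.mem_inv_smul_set_iff, smul_inv_smul] <;> assumption
  · intro hy g h1 h2 h3
    refine hy (h * g) ?_ ?_ ?_
    · rwa [mul_smul, Set.smul_mem_smul_set_iff]
    · rwa [mul_smul, Set.smul_mem_smul_set_iff]
    · rwa [mul_smul, Set.mem_smul_set_iff_inv_smul_mem]

/-- The main argument. -/
theorem three_transitive [Finite Ω] [Finite G] (h1 : 1 < Γ.ncard) (h2 : 2 * Γ.ncard ≤ Nat.card Ω)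
    (htr : ∀ x ∈ Γ, ∀ y ∈ Γ, ∃ g : G, (∀ z ∉ Γ, g • z = z) ∧ g • x = y)
    (h2t : ∀ {a b c d : Ω} (_ : a ≠ b) (_ : c ≠ d), ∃ g : G, g • a = c ∧ g • b = d) :
    MulAction.IsMultiplyPretransitive G Ω 3 := by
  classical
  -- lines have only two points
  have hexch : ∀ {a b c : Ω}, a ≠ b → c ≠ a → c ∈ line G Γ a b → line G Γ a c = line G Γ a b := by
    intro a b c hab hca hc
    refine Set.eq_of_subset_of_ncard_le (fun y hy g ha hb => hy g ha (hc g ha hb)) ?_ (Set.toFinite _)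
    obtain ⟨k, hka, hkb⟩ := h2t hab (Ne.symm hca)
    conv_rhs => rw [← hka, ← hkb, ← line_smul, Set.ncard_smul_set]
  have hline : ∀ a b : Ω, a ≠ b → ∀ y ∈ line G Γ a b, y = a ∨ y = b := by
    by_contra hcon
    push_neg at hcon
    obtain ⟨a₀, b₀, hab₀, c₀, hc₀, hca₀, hcb₀⟩ := hcon
    have hthird : ∀ a b : Ω, a ≠ b → ∃ c ∈ line G Γ a b, c ≠ a ∧ c ≠ b := by
      intro a b hab
      obtain ⟨k, rfl, rfl⟩ := h2t hab₀ hab
      exact ⟨k • c₀, (line_smul k a₀ b₀) ▸ Set.smul_mem_smul_set hc₀, by simpa using hca₀, by simpa using hcb₀⟩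
    obtain ⟨x, hx⟩ := Set.nonempty_of_ncard_ne_zero (s := Γ) (by omega)
    have hnot : ∀ f f' : Ω, f ∉ Γ → f' ∉ Γ → x ∉ line G Γ f f' := fun f f' hf hf' hmem =>
      hmem 1 (by rwa [one_smul]) (by rwa [one_smul]) (by rwa [one_smul])
    have hF : ∀ f : ↥(Γᶜ : Set Ω), x ≠ (f : Ω) := fun f e => f.2 (e ▸ hx)
    choose t ht htx htf using fun f : ↥(Γᶜ : Set Ω) => hthird x f (hF f)
    have hmemx : ∀ p q : Ω, p ∈ line G Γ p q := fun p q g hp _ => hp
    have htΓ : ∀ f, t f ∈ Γ \ {x} := by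
      intro f
      refine ⟨?_, htx f⟩
      by_contra hn
      have hh : line G Γ (f : Ω) (t f) = line G Γ (f : Ω) x :=
        hexch (hF f).symm (htf f) (line_symm (G := G) (Γ := Γ) x (f : Ω) ▸ ht f)
      exact hnot f (t f) f.2 hn (hh ▸ (line_symm (G := G) (Γ := Γ) x (f : Ω) ▸ hmemx x f))
    have htinj : Function.Injective (fun f => (⟨t f, htΓ f⟩ : ↥(Γ \ {x}))) := by
      intro f f' e
      have e' : t f = t f' := congrArg Subtype.val e
      by_contra hne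
      have hne' : (f' : Ω) ≠ (f : Ω) := fun w => hne (Subtype.ext w.symm)
      have hl : line G Γ x (f : Ω) = line G Γ x (f' : Ω) := by
        rw [← hexch (hF f) (htx f) (ht f), ← hexch (hF f') (htx f') (ht f'), e']
      have hm : (f' : Ω) ∈ line G Γ (f : Ω) x := by
        rw [line_symm, hl, line_symm]; exact hmemx _ _
      have := hexch (hF f).symm hne' hm
      exact hnot f f' f.2 f'.2 (this ▸ (line_symm (G := G) (Γ := Γ) x (f : Ω) ▸ hmemx x f))
    have hle := Nat.card_le_card_of_injective _ htinj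
    rw [Nat.card_coe_set_eq, Nat.card_coe_set_eq, Set.ncard_compl,
      Set.ncard_diff_singleton_of_mem hx] at hle
    omega
  have hcover : ∀ a b y : Ω, a ≠ b → y ≠ a → y ≠ b → ∃ g : G, a ∉ g • Γ ∧ b ∉ g • Γ ∧ y ∈ g • Γ := by
    intro a b y hab hya hyb
    by_contra hcon
    push_neg at hcon
    rcases hline a b hab y (fun g h1 h2 h3 => hcon g h1 h2 h3) with h | h <;> contradiction
  -- connectedness
  have hconn : ∀ a b x y : Ω, a ≠ b → x ≠ a → x ≠ b → y ≠ a → y ≠ b → Conn G Γ a b x y := by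
    by_contra hcon
    push_neg at hcon
    obtain ⟨a₁, b₁, x₁, y₁, hab₁, hxa₁, hxb₁, hya₁, hyb₁, hn₁⟩ := hcon
    let T := {t : Ω × Ω × Ω // t.1 ≠ t.2.1 ∧ t.2.2 ≠ t.1 ∧ t.2.2 ≠ t.2.1}
    haveI : Nonempty T := ⟨⟨(a₁, b₁, x₁), hab₁, hxa₁, hxb₁⟩⟩
    obtain ⟨⟨⟨a, b, x⟩, hab, hxa, hxb⟩, hmax⟩ :=
      Finite.exists_max fun t : T => (comp G Γ t.1.1 t.1.2.1 t.1.2.2).ncard
    simp only at hab hxa hxb hmax
    set W := comp G Γ a b x with hW
    have hxW : x ∈ W := Relation.EqvGen.refl _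
    have hWav : ∀ y ∈ W, y ≠ a ∧ y ≠ b := fun y hy => (conn_avoid hy).1 ⟨hxa, hxb⟩
    -- a third point outside
    obtain ⟨z, hzW, hza, hzb⟩ : ∃ z, z ∉ W ∧ z ≠ a ∧ z ≠ b := by
      by_contra hcon2
      push_neg at hcon2
      obtain ⟨k, hka, hkb⟩ := h2t hab hab₁
      have hin : ∀ w, w ≠ a₁ → w ≠ b₁ → Conn G Γ a₁ b₁ (k • x) w := by
        intro w hwa hwb
        have hw : k⁻¹ • w ∈ W := by
          by_contra hw
          have h' : k⁻¹ • w ≠ a := fun e => hwa (by rw [← hka, ← e, smul_inv_smul])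
          exact hwb (by rw [← hkb, ← hcon2 _ hw h', smul_inv_smul])
        have := conn_smul k hw
        rwa [hka, hkb, smul_inv_smul] at this
      exact hn₁ (Relation.EqvGen.trans _ _ _ (Relation.EqvGen.symm _ _ (hin x₁ hxa₁ hxb₁)) (hin y₁ hya₁ hyb₁))
    obtain ⟨g₀, hga, hgb, hgz⟩ := hcover a b z hab hza hzb
    have hsub : g₀ • Γ ⊆ Wᶜ := fun w hw hwW =>
      hzW (Relation.EqvGen.trans _ _ _ hwW (Relation.EqvGen.rel _ _ ⟨g₀, hga, hgb, hw, hgz⟩))
    have hsize : Γ.ncard + 2 ≤ Wᶜ.ncard := by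
      have hd : Disjoint (g₀ • Γ) {a, b} := by
        rw [Set.disjoint_right]
        rintro w (rfl | rfl) <;> assumption
      have := Set.ncard_le_ncard (t := Wᶜ) (s := g₀ • Γ ∪ {a, b})
        (Set.union_subset hsub (by rintro w (rfl | rfl) hw <;> [exact (hWav _ hw).1 rfl; exact (hWav _ hw).2 rfl]))
        (Set.toFinite _)
      rw [Set.ncard_union_eq hd (Set.toFinite _) (Set.toFinite _), Set.ncard_smul_set, Set.ncard_pair hab] at this
      exact this
    have hstable : ∀ p q, p ∉ W → q ∉ W → p ≠ q → comp G Γ p q x = W := by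
      intro p q hp hq hpq
      refine (Set.eq_of_subset_of_ncard_le (fun y hy => (conn_restrict hp hq hy).2 hxW) ?_ (Set.toFinite _)).symm
      exact hmax ⟨(p, q, x), hpq, fun (e : x = p) => hp (e ▸ hxW), fun (e : x = q) => hq (e ▸ hxW)⟩
    -- a translate crossing the component
    obtain ⟨u, hu, v, hv, huv⟩ := (Set.one_lt_ncard (Set.toFinite _)).1 h1
    obtain ⟨k, hku, hkv⟩ := h2t huv hxa
    have hxk : x ∈ k • Γ := hku ▸ Set.smul_mem_smul_set hu
    have hak : a ∈ k • Γ := hkv ▸ Set.smul_mem_smul_set hv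
    have haW : a ∉ W := fun e => (hWav a e).1 rfl
    -- it contains all but one of the outside points
    have hone : (Wᶜ \ (k • Γ)).ncard ≤ 1 := by
      rw [Set.ncard_le_one (Set.toFinite _)]
      rintro p ⟨hp, hpk⟩ q ⟨hq, hqk⟩
      by_contra hpq
      exact haW ((hstable p q hp hq hpq) ▸ (Relation.EqvGen.rel _ _ ⟨k, hpk, hqk, hxk, hak⟩ : Conn G Γ p q x a))
    have hinter : (Wᶜ ∩ (k • Γ)).ncard + 1 ≤ Γ.ncard := by
      rw [← Set.ncard_smul_set k Γ]
      have : insert x (Wᶜ ∩ k • Γ) ⊆ k • Γ := Set.insert_subset hxk Set.inter_subset_right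
      have h' := Set.ncard_le_ncard this (Set.toFinite _)
      rwa [Set.ncard_insert_of_notMem (fun h => h.1 hxW) (Set.toFinite _)] at h'
    have := Set.ncard_inter_add_ncard_diff_eq_ncard Wᶜ (k • Γ) (Set.toFinite _)
    omega
  rw [MulAction.isMultiplyPretransitive_iff]
  intro e e'
  obtain ⟨g, hg0, hg1⟩ := h2t (e.injective.ne (show (0 : Fin 3) ≠ 1 by decide)) (e'.injective.ne (show (0 : Fin 3) ≠ 1 by decide))
  obtain ⟨k, hk0, hk1, hk2⟩ := conn_move htr (hconn (e' 0) (e' 1) (g • e 2) (e' 2)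
    (e'.injective.ne (by decide)) (fun h => e.injective.ne (show (2 : Fin 3) ≠ 0 by decide) (smul_left_cancel g (h.trans hg0.symm)))
    (fun h => e.injective.ne (show (2 : Fin 3) ≠ 1 by decide) (smul_left_cancel g (h.trans hg1.symm)))
    (e'.injective.ne (by decide)) (e'.injective.ne (by decide)))
  refine ⟨k * g, ?_⟩
  ext i
  fin_cases i
  · show (k * g) • e 0 = e' 0
    rw [mul_smul, hg0, hk0]
  · show (k * g) • e 1 = e' 1
    rw [mul_smul, hg1, hk1]
  · show (k * g) • e 2 = e' 2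
    rw [mul_smul, hk2]

end Cfsg.Agent.Recognition.MarggraffThree
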