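import Cfsg.Agent.Recognition.Extension
import Cfsg.Agent.Recognition.PSL2Spectrum

/-!
The minimal Frobenius group `p^d : q`, with `d` the order of `p` modulo `q`.
-/

set_option autoImplicit false

namespace Cfsg.Agent.Recognition.MinimalFrobenius

open Cfsg.Agent.Recognition.Extension

/-- A nonzero additive subgroup stable under a field generator is everything. -/
theorem eq_top_of_stable {K : Type} [Field K] [Finite K] (p d q : ℕ) [Fact p.Prime] [CharP K p]
    (hK : Nat.card K = p ^ d) (c : Kˣ) (hc : orderOf c = q) (hq : q.Prime)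
    (hmin : ∀ e, 0 < e → e ≤ d → q ∣ p ^ e - 1 → e = d)
    (W : AddSubgroup K) (hW : W ≠ ⊥) (hst : ∀ w ∈ W, (c : K) * w ∈ W) : W = ⊤ := by
  let R : Subring K :=
    { carrier := {r | ∀ w ∈ W, r * w ∈ W}
      zero_mem' := fun w _ => by rw [zero_mul]; exact W.zero_mem
      one_mem' := fun w hw => by rwa [one_mul]
      add_mem' := fun ha hb w hw => by rw [add_mul]; exact W.add_mem (ha w hw) (hb w hw)
      neg_mem' := fun ha w hw => by rw [neg_mul]; exact W.neg_mem (ha w hw)
      mul_mem' := fun ha hb w hw => by rw [mul_assoc]; exact ha _ (hb w hw) }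
  obtain ⟨e, hed, he⟩ := (Nat.dvd_prime_pow (Fact.out : p.Prime)).1
    (hK ▸ AddSubgroup.card_addSubgroup_dvd_card R.toAddSubgroup)
  have he0 : 0 < e := by
    rcases Nat.eq_zero_or_pos e with h | h
    · exfalso
      rw [h, pow_zero, Nat.card_eq_one_iff_unique] at he
      exact one_ne_zero (congrArg Subtype.val
        (he.1.elim (⟨1, R.one_mem⟩ : R.toAddSubgroup) ⟨0, R.zero_mem⟩))
    · exact h
  have hcR : (c : K) ∈ R := hst
  let U : Subgroup Kˣ :=
    { carrier := {u | (u : K) ∈ R}
      one_mem' := R.one_mem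
      mul_mem' := fun ha hb => R.mul_mem ha hb
      inv_mem' := fun {u} hu => by
        obtain ⟨n, hn⟩ := mem_powers_iff_mem_zpowers.2 (Subgroup.inv_mem _ (Subgroup.mem_zpowers u))
        show ((u⁻¹ : Kˣ) : K) ∈ R
        rw [← hn]
        simpa using R.pow_mem hu n }
  have hqd : q ∣ p ^ e - 1 := by
    have hcard : Nat.card U = Nat.card {a : R // a ≠ 0} := Nat.card_congr
      { toFun := fun u => ⟨⟨((u : Kˣ) : K), u.2⟩, fun h => (u : Kˣ).ne_zero (congrArg Subtype.val h)⟩
        invFun := fun a => ⟨Units.mk0 ((a : R) : K) (fun h => a.2 (Subtype.ext h)), (a : R).2⟩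
        left_inv := fun u => by ext; simp
        right_inv := fun a => by ext; simp }
    haveI : Fintype R := Fintype.ofFinite R
    have hR : Nat.card {a : R // a ≠ 0} = p ^ e - 1 := by
      classical
      rw [Nat.card_eq_fintype_card, Fintype.card_subtype_compl, Fintype.card_subtype_eq,
        ← Nat.card_eq_fintype_card, ← he]
      rfl
    rw [← hR, ← hcard, ← hc, ← Subgroup.orderOf_mk c (show c ∈ U from hcR)]
    exact orderOf_dvd_natCard _
  have hed' : e = d := hmin e he0 hed hqd
  have htop : R.toAddSubgroup = ⊤ := AddSubgroup.eq_top_of_card_eq _ (by rw [he, hK, hed'])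
  obtain ⟨⟨w, hw⟩, hw0⟩ := AddSubgroup.ne_bot_iff_exists_ne_zero.1 hW
  have hw0' : w ≠ 0 := fun h => hw0 (Subtype.ext h)
  refine (AddSubgroup.eq_top_iff' W).2 fun x => ?_
  have hx : x * w⁻¹ ∈ R := by
    change x * w⁻¹ ∈ R.toAddSubgroup
    rw [htop]
    exact AddSubgroup.mem_top _
  simpa [mul_assoc, inv_mul_cancel₀ hw0'] using hx w hw

theorem conj_inl {M L : Type} [CommGroup M] [Group L] {φ : L →* MulAut M} (x : M ⋊[φ] L) (k : M) :
    x * SemidirectProduct.inl k * x⁻¹ = SemidirectProduct.inl (φ x.right k) := by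
  ext
  · simp [mul_assoc, mul_comm x.left]
  · simp

/-- The minimal group with element orders `1`, `p`, `q` and normal Sylow `p`-subgroup. -/
theorem exists_minimal (p q : ℕ) (hp : p.Prime) (hq : q.Prime) (hne : p ≠ q) :
    ∃ (A : Type) (_ : Group A) (_ : Finite A) (d : ℕ),
      0 < d ∧ Nat.card A = p ^ d * q ∧ q ∣ p ^ d - 1 ∧
      Set.range (orderOf : A → ℕ) = {1, p, q} ∧
      (∀ H : Subgroup A, (∃ x ∈ H, orderOf x = p) → (∃ y ∈ H, orderOf y = q) → H = ⊤) ∧
      ∀ N : Subgroup A, N.Normal → N ≠ ⊥ → p ^ d ∣ Nat.card N := by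
  classical
  haveI := Fact.mk hp
  haveI := Fact.mk hq
  have hpq : (p : ZMod q) ≠ 0 := by
    rw [Ne, ZMod.natCast_eq_zero_iff, Nat.prime_dvd_prime_iff_eq hq hp]
    exact Ne.symm hne
  set u : (ZMod q)ˣ := Units.mk0 (p : ZMod q) hpq
  set d := orderOf u with hd
  have hd0 : 0 < d := orderOf_pos u
  have hcast : ∀ e : ℕ, q ∣ p ^ e - 1 ↔ d ∣ e := by
    intro e
    rw [hd, orderOf_dvd_iff_pow_eq_one, ← ZMod.natCast_eq_zero_iff,
      Nat.cast_sub (Nat.one_le_pow _ _ hp.pos), Nat.cast_pow, Nat.cast_one, sub_eq_zero,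
      ← Units.val_eq_one, Units.val_pow_eq_pow_val]
    rfl
  let K := GaloisField p d
  haveI : Fintype K := Fintype.ofFinite K
  have hK : Nat.card K = p ^ d := GaloisField.card p d hd0.ne'
  obtain ⟨c, hc⟩ : ∃ c : Kˣ, orderOf c = q := exists_prime_orderOf_dvd_card' q (by
    rw [Nat.card_units, hK]; exact (hcast d).2 dvd_rfl)
  have hmin : ∀ e, 0 < e → e ≤ d → q ∣ p ^ e - 1 → e = d :=
    fun e he hle h => le_antisymm hle (Nat.le_of_dvd he ((hcast e).1 h))
  set C := Subgroup.zpowers c
  let φ : C →* MulAut (Multiplicative K) := (PSL2Spectrum.unitsAct K).comp C.subtype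
  have hcardC : Nat.card C = q := by rw [Nat.card_zpowers, hc]
  have hfpf : ∀ v : C, v ≠ 1 → Fpf φ v := by
    intro v hv k hk
    have h : ((v : Kˣ) : K) * k.toAdd = k.toAdd := congrArg Multiplicative.toAdd hk
    have h' : (((v : Kˣ) : K) - 1) * k.toAdd = 0 := by rw [sub_mul, h, one_mul, sub_self]
    apply Multiplicative.toAdd.injective
    refine (mul_eq_zero.1 h').resolve_left (fun e => hv (Subtype.ext (Units.ext ?_)))
    exact sub_eq_zero.1 e
  have hexp : ∀ k : Multiplicative K, k ^ p = 1 := fun k => by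
    apply Multiplicative.toAdd.injective
    rw [toAdd_pow, toAdd_one, nsmul_eq_mul, CharP.cast_eq_zero, zero_mul]
  -- a nonzero invariant part of the kernel is the whole kernel
  have hW : ∀ H : Subgroup (Multiplicative K ⋊[φ] C),
      (∃ k : Multiplicative K, k ≠ 1 ∧ SemidirectProduct.inl k ∈ H) →
      (∃ x ∈ H, SemidirectProduct.right x ≠ 1) ∨ H.Normal →
      ∀ k, SemidirectProduct.inl k ∈ H := by
    intro H hk hcases
    let W : AddSubgroup K :=
      { carrier := {w | (SemidirectProduct.inl (Multiplicative.ofAdd w) : Multiplicative K ⋊[φ] C) ∈ H}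
        zero_mem' := by simp
        add_mem' := fun {a b} ha hb => by
          simp only [Set.mem_ofPred_eq] at ha hb ⊢
          rw [ofAdd_add, map_mul]
          exact H.mul_mem ha hb
        neg_mem' := fun {a} ha => by
          simp only [Set.mem_ofPred_eq] at ha ⊢
          rw [ofAdd_neg, map_inv]
          exact H.inv_mem ha }
    have hW0 : W ≠ ⊥ := by
      obtain ⟨k, hk1, hkH⟩ := hk
      intro h
      have : k.toAdd ∈ W := hkH
      rw [h, AddSubgroup.mem_bot] at this
      exact hk1 (Multiplicative.toAdd.injective this)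
    have hst : ∀ v : C, (∀ k, SemidirectProduct.inl k ∈ H → SemidirectProduct.inl (φ v k) ∈ H) →
        ∀ n : ℕ, ∀ k, SemidirectProduct.inl k ∈ H → SemidirectProduct.inl (φ (v ^ n) k) ∈ H := by
      intro v hv n
      induction n with
      | zero => intro k hk; simpa using hk
      | succ n ih =>
        intro k hk
        rw [pow_succ', map_mul, MulAut.mul_apply]
        exact hv _ (ih k hk)
    have hc' : ∀ k, SemidirectProduct.inl k ∈ H →
        SemidirectProduct.inl (φ ⟨c, Subgroup.mem_zpowers c⟩ k) ∈ H := by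
      rcases hcases with ⟨x, hx, hxr⟩ | hN
      · obtain ⟨n, hn⟩ : ∃ n : ℕ, x.right ^ n = ⟨c, Subgroup.mem_zpowers c⟩ := by
          have := mem_zpowers_of_prime_card hcardC hxr (g' := (⟨c, Subgroup.mem_zpowers c⟩ : C))
          exact (mem_powers_iff_mem_zpowers).2 this
        rw [← hn]
        exact hst _ (fun k hk => conj_inl x k ▸ H.mul_mem (H.mul_mem hx hk) (H.inv_mem hx)) n
      · intro k hk
        have := hN.conj_mem _ hk (SemidirectProduct.inr (⟨c, Subgroup.mem_zpowers c⟩ : C))
        rwa [conj_inl, SemidirectProduct.right_inr] at this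
    have htop := eq_top_of_stable p d q hK c hc hq hmin W hW0 (fun w hw => hc' (Multiplicative.ofAdd w) hw)
    intro k
    have : k.toAdd ∈ W := htop ▸ AddSubgroup.mem_top _
    exact this
  have hcard : Nat.card (Multiplicative K ⋊[φ] C) = p ^ d * q := by
    rw [SemidirectProduct.card, hcardC]
    exact congrArg (· * q) hK
  refine ⟨Multiplicative K ⋊[φ] C, inferInstance, inferInstance, d, hd0, hcard,
    (hcast d).2 dvd_rfl, ?_, ?_, ?_⟩
  · refine Set.Subset.antisymm ?_ ?_
    · rintro _ ⟨x, rfl⟩
      by_cases hx : x.right = 1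
      · rw [eq_inl_of_right_eq_one (φ := φ) x hx, orderOf_injective _ SemidirectProduct.inl_injective]
        rcases (Nat.dvd_prime hp).1 (orderOf_dvd_of_pow_eq_one (hexp x.left)) with h | h
        · exact Or.inl h
        · exact Or.inr (Or.inl h)
      · rw [orderOf_of_fpf (φ := φ) x (hfpf _ hx)]
        have h := orderOf_dvd_natCard x.right
        rw [hcardC] at h
        rcases (Nat.dvd_prime hq).1 h with h | h
        · exact Or.inl h
        · exact Or.inr (Or.inr h)
    · rintro m (rfl | rfl | rfl)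
      · exact ⟨1, orderOf_one⟩
      · refine ⟨SemidirectProduct.inl (Multiplicative.ofAdd 1), ?_⟩
        rw [orderOf_injective _ SemidirectProduct.inl_injective]
        exact orderOf_eq_prime (hexp _) (fun h => (one_ne_zero (α := K)) (congrArg Multiplicative.toAdd h))
      · refine ⟨SemidirectProduct.inr ⟨c, Subgroup.mem_zpowers c⟩, ?_⟩
        rw [orderOf_inr, Subgroup.orderOf_mk, hc]
  · rintro H ⟨x, hx, hxo⟩ ⟨y, hy, hyo⟩
    have hxr : x.right = 1 := by
      rw [← orderOf_eq_one_iff]
      refine Nat.eq_one_of_dvd_coprimes ((Nat.coprime_primes hp hq).2 hne) (by have := orderOf_right_dvd x; rwa [hxo] at this) ?_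
      rw [← hcardC]
      exact orderOf_dvd_natCard x.right
    have hyr : y.right ≠ 1 := by
      intro h
      rw [eq_inl_of_right_eq_one (φ := φ) y h, orderOf_injective _ SemidirectProduct.inl_injective] at hyo
      have := orderOf_dvd_of_pow_eq_one (hexp y.left)
      rw [hyo, Nat.prime_dvd_prime_iff_eq hq hp] at this
      exact hne this.symm
    have hall := hW H ⟨x.left, fun h => hp.ne_one (by
      rw [← hxo, eq_inl_of_right_eq_one (φ := φ) x hxr, h, map_one, orderOf_one]),
      eq_inl_of_right_eq_one (φ := φ) x hxr ▸ hx⟩ (Or.inl ⟨y, hy, hyr⟩)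
    have hinr : ∀ v : C, SemidirectProduct.inr v ∈ H := by
      intro v
      have h1 : SemidirectProduct.inr y.right ∈ H := by
        rw [eq_inv_mul_of_mul_eq (SemidirectProduct.inl_left_mul_inr_right y)]
        exact H.mul_mem (H.inv_mem (hall y.left)) hy
      obtain ⟨n, hn⟩ : ∃ n : ℕ, y.right ^ n = v := by
        have := mem_zpowers_of_prime_card hcardC hyr (g' := v)
        exact (mem_powers_iff_mem_zpowers).2 this
      rw [← hn, map_pow]
      exact H.pow_mem h1 n
    refine (Subgroup.eq_top_iff' H).2 fun g => ?_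
    rw [← SemidirectProduct.inl_left_mul_inr_right g]
    exact H.mul_mem (hall _) (hinr _)
  · intro N hN hN0
    obtain ⟨⟨y, hy⟩, hy1⟩ := Subgroup.ne_bot_iff_exists_ne_one.1 hN0
    have hy1' : y ≠ 1 := fun h => hy1 (Subtype.ext h)
    have hk : ∃ k : Multiplicative K, k ≠ 1 ∧ SemidirectProduct.inl k ∈ N := by
      by_cases hr : y.right = 1
      · refine ⟨y.left, fun h => hy1' ?_, eq_inl_of_right_eq_one (φ := φ) y hr ▸ hy⟩
        rw [eq_inl_of_right_eq_one (φ := φ) y hr, h, map_one]
      · refine ⟨φ y.right (Multiplicative.ofAdd 1) * (Multiplicative.ofAdd 1)⁻¹, fun h => ?_, ?_⟩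
        · exact (one_ne_zero (α := K)) (congrArg Multiplicative.toAdd (hfpf _ hr _ (mul_inv_eq_one.1 h)))
        · rw [map_mul, ← conj_inl, map_inv, mul_assoc, mul_assoc]
          exact N.mul_mem hy (by
            rw [← mul_assoc]
            exact hN.conj_mem _ (N.inv_mem hy) _)
    have hle : (SemidirectProduct.inl : Multiplicative K →* Multiplicative K ⋊[φ] C).range ≤ N := by
      rintro _ ⟨k, rfl⟩
      exact hW N hk (Or.inr hN) k
    have hr : Nat.card (SemidirectProduct.inl : Multiplicative K →* Multiplicative K ⋊[φ] C).range = p ^ d := by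
      rw [← hK]
      exact (Nat.card_congr (MonoidHom.ofInjective SemidirectProduct.inl_injective).toEquiv).symm
    rw [← hr]
    exact Subgroup.card_dvd_of_le hle

end Cfsg.Agent.Recognition.MinimalFrobenius
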