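import Mathlib
import Cfsg.Agent.Recognition.Extension

/-!
Element orders in `SL(2, F)` from the trace, and the natural module in characteristic 2.
-/

set_option autoImplicit false

namespace Cfsg.Agent.Recognition.SL2Orders

open Matrix Cfsg.Agent.Recognition.Extension
open scoped MatrixGroups

universe u

variable {F : Type u} [Field F]

/-- The recurrence of the powers of a matrix of trace `t` and determinant one. -/
def lucU (t : F) : ℕ → F
  | 0 => 0
  | 1 => 1
  | n + 2 => t * lucU t (n + 1) - lucU t n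

theorem sq_eq (g : SL(2, F)) :
    (g : Matrix (Fin 2) (Fin 2) F) * g
      = (g.1 0 0 + g.1 1 1) • (g : Matrix (Fin 2) (Fin 2) F) - 1 := by
  have h := g.2
  rw [Matrix.det_fin_two] at h
  ext i j
  fin_cases i <;> fin_cases j <;> simp [Matrix.mul_apply, Fin.sum_univ_two]
  · linear_combination -h
  · ring
  · ring
  · linear_combination -h

theorem pow_succ_eq (g : SL(2, F)) (n : ℕ) :
    (g : Matrix (Fin 2) (Fin 2) F) ^ (n + 1)
      = lucU (g.1 0 0 + g.1 1 1) (n + 1) • (g : Matrix (Fin 2) (Fin 2) F)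
        - lucU (g.1 0 0 + g.1 1 1) n • 1 := by
  induction n with
  | zero => simp [lucU]
  | succ n ih =>
    rw [pow_succ, ih, Matrix.sub_mul, Matrix.smul_mul, Matrix.smul_mul, Matrix.one_mul, sq_eq]
    simp only [lucU, smul_sub, smul_smul, sub_smul, mul_comm]
    abel

theorem pow_mem_center (g : SL(2, F)) {k : ℕ} (hk : 0 < k)
    (h : lucU (g.1 0 0 + g.1 1 1) k = 0) : g ^ k ∈ Subgroup.center SL(2, F) := by
  obtain ⟨n, rfl⟩ : ∃ n, k = n + 1 := ⟨k - 1, by omega⟩
  have hm := pow_succ_eq g n
  rw [h, zero_smul, zero_sub, ← neg_smul] at hm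
  rw [Matrix.SpecialLinearGroup.mem_center_iff]
  refine ⟨-lucU (g.1 0 0 + g.1 1 1) n, ?_, ?_⟩
  · have hd := (g ^ (n + 1)).2
    rw [Matrix.SpecialLinearGroup.coe_pow, hm, Matrix.det_smul, Matrix.det_one, mul_one] at hd
    exact hd
  · rw [Matrix.SpecialLinearGroup.coe_pow, hm, Matrix.scalar_apply,
      Matrix.smul_one_eq_diagonal]

theorem center_eq_bot [CharP F 2] : Subgroup.center SL(2, F) = ⊥ := by
  refine (Subgroup.eq_bot_iff_forall _).2 fun A hA => ?_
  obtain ⟨r, hr, hA'⟩ := Matrix.SpecialLinearGroup.mem_center_iff.1 hA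
  rw [Fintype.card_fin] at hr
  have hr1 : r = 1 := by
    have h2 : (2 : F) = 0 := CharTwo.two_eq_zero
    have : (r - 1) ^ 2 = 0 := by linear_combination hr + (1 - r) * h2
    exact sub_eq_zero.1 (pow_eq_zero_iff two_ne_zero |>.1 this)
  apply Subtype.ext
  rw [← hA', hr1]
  simp

/-- In characteristic 2 the projective group is the linear group. -/
noncomputable def equivPSL [CharP F 2] :
    SL(2, F) ≃* Matrix.ProjectiveSpecialLinearGroup (Fin 2) F :=
  QuotientGroup.quotientBot.symm.trans (QuotientGroup.quotientMulEquivOfEq center_eq_bot.symm)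

theorem pow_eq_one [CharP F 2] (g : SL(2, F)) {k : ℕ} (hk : 0 < k)
    (h : lucU (g.1 0 0 + g.1 1 1) k = 0) : g ^ k = 1 := by
  have := pow_mem_center g hk h
  rwa [center_eq_bot, Subgroup.mem_bot] at this

/-- A matrix of trace `t`. -/
def companion (t : F) : SL(2, F) := ⟨!![t, -1; 1, 0], by simp [Matrix.det_fin_two]⟩

theorem companion_trace (t : F) : (companion t).1 0 0 + (companion t).1 1 1 = t := by
  simp [companion]

theorem companion_not_mem_center (t : F) : companion t ∉ Subgroup.center SL(2, F) := by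
  intro h
  obtain ⟨r, -, hr⟩ := Matrix.SpecialLinearGroup.mem_center_iff.1 h
  have := congrArg (fun A : Matrix (Fin 2) (Fin 2) F => A 1 0) hr
  simp [companion, Matrix.scalar_apply] at this

theorem orderOf_mk_companion {p : ℕ} (hp : p.Prime) (t : F) (h : lucU t p = 0) :
    orderOf (QuotientGroup.mk (companion t) :
      Matrix.ProjectiveSpecialLinearGroup (Fin 2) F) = p := by
  haveI := Fact.mk hp
  refine orderOf_eq_prime ?_ ?_
  · rw [← QuotientGroup.mk_pow, QuotientGroup.eq_one_iff]
    exact pow_mem_center _ hp.pos ((companion_trace t).symm ▸ h)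
  · rw [Ne, QuotientGroup.eq_one_iff]
    exact companion_not_mem_center t

theorem orderOf_companion [CharP F 2] {p : ℕ} (hp : p.Prime) (t : F) (h : lucU t p = 0) :
    orderOf (companion t) = p := by
  haveI := Fact.mk hp
  refine orderOf_eq_prime (pow_eq_one _ hp.pos ((companion_trace t).symm ▸ h)) fun h1 => ?_
  exact companion_not_mem_center t (h1 ▸ one_mem _)

/-- The natural module. -/
noncomputable def natAut : SL(2, F) →* MulAut (Multiplicative (Fin 2 → F)) :=
  glAut.comp Matrix.SpecialLinearGroup.toGL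

theorem fpf_natAut [CharP F 2] (g : SL(2, F)) (hg : g ^ 2 ≠ 1) : Fpf natAut g := by
  refine fpf_glAut _ g fun v hv => ?_
  by_contra hne
  refine hg (pow_eq_one g two_pos ?_)
  have hd : ((g : Matrix (Fin 2) (Fin 2) F) - 1).det = 0 := by
    rw [← Matrix.exists_mulVec_eq_zero_iff]
    refine ⟨v, hne, ?_⟩
    rw [Matrix.sub_mulVec, Matrix.one_mulVec]
    exact sub_eq_zero.2 hv
  have h := g.2
  rw [Matrix.det_fin_two] at h hd
  simp at hd
  have h2 : (2 : F) = 0 := CharTwo.two_eq_zero
  simp only [lucU]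
  linear_combination -hd + h + h2

theorem fpf_natAut_of_prime [CharP F 2] (g : SL(2, F)) (hp : (orderOf g).Prime)
    (h2 : orderOf g ≠ 2) : Fpf natAut g := by
  refine fpf_natAut g fun h => h2 ?_
  exact ((Nat.prime_dvd_prime_iff_eq hp Nat.prime_two).1 (orderOf_dvd_iff_pow_eq_one.2 h))

end Cfsg.Agent.Recognition.SL2Orders
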