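import Mathlib
import Cfsg.Agent.Recognition.SL2Orders

/-!
The spectrum of `F₄² ⋊ SL(2, 4)` and of powers of the module.
-/

set_option autoImplicit false

namespace Cfsg.Agent.Recognition.NaturalExtension

open Matrix Cfsg.Agent.Recognition.Extension Cfsg.Agent.Recognition.SL2Orders
open scoped MatrixGroups

variable {F : Type*} [Field F] [Fintype F] [CharP F 2]

theorem orderOf_mem_of_card_four (hF : Fintype.card F = 4) (g : SL(2, F)) :
    orderOf g ∈ ({1, 2, 3, 5} : Finset ℕ) := by
  have h2 : (2 : F) = 0 := CharTwo.two_eq_zero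
  have key : ∀ k, k.Prime → lucU (g.1 0 0 + g.1 1 1) k = 0 → orderOf g = 1 ∨ orderOf g = k :=
    fun k hk h => (Nat.dvd_prime hk).1 (orderOf_dvd_iff_pow_eq_one.2 (pow_eq_one g hk.pos h))
  set t := g.1 0 0 + g.1 1 1 with ht
  have hroot : t ^ 4 = t := by rw [← hF]; exact FiniteField.pow_card t
  have hf : t * (t + 1) * (t ^ 2 + t + 1) = 0 := by
    linear_combination hroot + (t ^ 3 + t ^ 2 + t) * h2
  simp only [mul_eq_zero] at hf
  simp only [Finset.mem_insert, Finset.mem_singleton]
  rcases hf with (h | h) | h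
  · have := key 2 Nat.prime_two (by simp [lucU, h]); tauto
  · have := key 3 Nat.prime_three (by simp only [lucU]; linear_combination (t - 1) * h); tauto
  · have := key 5 Nat.prime_five (by
      simp only [lucU]
      linear_combination (t ^ 2 + t + 1) * h - (t ^ 3 + 3 * t ^ 2 + t) * h2)
    tauto

theorem exists_trace_five (hF : Fintype.card F = 4) : ∃ t : F, lucU t 5 = 0 := by
  classical
  have h2 : (2 : F) = 0 := CharTwo.two_eq_zero
  obtain ⟨t, -, ht0, ht1⟩ : ∃ t ∈ (Finset.univ : Finset F), t ≠ 0 ∧ t ≠ 1 := by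
    by_contra h
    push Not at h
    have hsub : (Finset.univ : Finset F) ⊆ {0, 1} := by
      intro x hx
      by_cases h0 : x = 0
      · simp [h0]
      · simp [h x hx h0]
    have := (Finset.card_le_card hsub).trans Finset.card_le_two
    rw [Finset.card_univ, hF] at this
    omega
  have hroot : t ^ 4 = t := by rw [← hF]; exact FiniteField.pow_card t
  have hf : t * ((t - 1) * (t ^ 2 + t + 1)) = 0 := by linear_combination hroot
  have h := ((mul_eq_zero.1 hf).resolve_left ht0)
  have h' := (mul_eq_zero.1 h).resolve_left (sub_ne_zero.2 ht1)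
  refine ⟨t, ?_⟩
  simp only [lucU]
  linear_combination (t ^ 2 + t + 1) * h' - (t ^ 3 + 3 * t ^ 2 + t) * h2

variable {M : Type*} [CommGroup M]

/-- Spectrum of a module extension of `SL(2, 4)` where elements outside involutions act freely. -/
theorem range_orderOf_ext (hF : Fintype.card F = 4) (φ : SL(2, F) →* MulAut M)
    (hexp : ∀ k : M, k ^ 2 = 1) (hfpf : ∀ g : SL(2, F), g ^ 2 ≠ 1 → Fpf φ g)
    (v : M) (hv : φ (companion (0 : F)) v ≠ v) :
    Set.range (orderOf : M ⋊[φ] SL(2, F) → ℕ) = ↑({1, 2, 3, 4, 5} : Finset ℕ) := by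
  classical
  have h1 := fun x : SL(2, F) => orderOf_mem_of_card_four hF x
  refine Set.Subset.antisymm ?_ ?_
  · rintro _ ⟨x, rfl⟩
    rw [Finset.mem_coe]
    by_cases hg : x.right ^ 2 = 1
    · have h4 : orderOf x ∣ 2 * 2 :=
        (orderOf_dvd_mul 2 hexp x).trans (Nat.mul_dvd_mul_right (orderOf_dvd_iff_pow_eq_one.2 hg) 2)
      have : orderOf x ∈ Nat.divisors 4 := Nat.mem_divisors.2 ⟨h4, by norm_num⟩
      exact (by decide : Nat.divisors 4 ⊆ ({1, 2, 3, 4, 5} : Finset ℕ)) this
    · rw [orderOf_of_fpf x (hfpf _ hg)]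
      exact (by decide : ({1, 2, 3, 5} : Finset ℕ) ⊆ ({1, 2, 3, 4, 5} : Finset ℕ)) (h1 _)
  intro n hn
  have hsl : ∀ {p : ℕ} (t : F), p.Prime → lucU t p = 0 →
      p ∈ Set.range (orderOf : M ⋊[φ] SL(2, F) → ℕ) := fun t hp h =>
    ⟨_, (orderOf_inr _).trans (orderOf_companion hp t h)⟩
  simp only [Finset.coe_insert, Finset.coe_singleton, Set.mem_insert_iff, Set.mem_singleton_iff] at hn
  rcases hn with rfl | rfl | rfl | rfl | rfl
  · exact ⟨1, orderOf_one⟩
  · exact hsl (0 : F) Nat.prime_two (by simp [lucU])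
  · exact hsl (1 : F) Nat.prime_three (by simp [lucU])
  · set g := companion (0 : F) with hg
    have hg2 : g ^ 2 = 1 :=
      pow_eq_one g two_pos (by rw [hg, companion_trace]; simp [lucU])
    refine ⟨(⟨v, g⟩ : M ⋊[φ] SL(2, F)), ?_⟩
    haveI := Fact.mk Nat.prime_two
    have e2 : ((⟨v, g⟩ : M ⋊[φ] SL(2, F)) ^ 2).left = v * φ g v := by
      rw [pow_two]; rfl
    refine orderOf_eq_prime_pow (p := 2) (n := 1) ?_ ?_
    · intro h
      rw [pow_one] at h
      rw [h] at e2
      apply hv
      have hvv : v * v = 1 := by rw [← pow_two]; exact hexp v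
      exact mul_left_cancel (e2.symm.trans hvv.symm)
    · rw [pow_succ, pow_mul, pow_one]
      set y := (⟨v, g⟩ : M ⋊[φ] SL(2, F)) ^ 2
      have hy : y.right = 1 := (pow_right _ 2).trans hg2
      rw [eq_inl_of_right_eq_one y hy, ← map_pow, hexp, map_one]
  · obtain ⟨t, ht⟩ := exists_trace_five hF
    exact hsl t Nat.prime_five ht

omit [Fintype F] [CharP F 2] in
theorem moved (v : Multiplicative (Fin 2 → F)) (h : v = Multiplicative.ofAdd ![1, 0]) :
    natAut (companion (0 : F)) v ≠ v := by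
  subst h
  intro h
  have h' : Matrix.mulVec (companion (0 : F)).1 ![1, 0] 0 = 1 :=
    congrFun (congrArg Multiplicative.toAdd h) 0
  simp [companion, dotProduct, Fin.sum_univ_two, Matrix.mulVec] at h'

theorem range_orderOf_single (hF : Fintype.card F = 4) :
    Set.range (orderOf : Multiplicative (Fin 2 → F) ⋊[natAut] SL(2, F) → ℕ) =
      ↑({1, 2, 3, 4, 5} : Finset ℕ) :=
  range_orderOf_ext hF natAut (pow_char_eq_one (p := 2)) fpf_natAut _ (moved _ rfl)

theorem range_orderOf_copies (hF : Fintype.card F = 4) (N : ℕ) :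
    Set.range (orderOf : (Fin (N + 1) → Multiplicative (Fin 2 → F)) ⋊[copies natAut (N + 1)] SL(2, F) → ℕ)
      = ↑({1, 2, 3, 4, 5} : Finset ℕ) :=
  range_orderOf_ext hF _ (pow_eq_one_copies (pow_char_eq_one (p := 2)) _)
    (fun g hg => (fpf_natAut g hg).copies _) (fun _ => Multiplicative.ofAdd ![1, 0])
    fun h => moved _ rfl (congrFun h 0)

end Cfsg.Agent.Recognition.NaturalExtension
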