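import Mathlib
import Cfsg.Agent.Recognition.Extension

/-!
Powers of an elementary abelian normal subgroup glued on top of the group keep the spectrum.
-/

set_option autoImplicit false

namespace Cfsg.Agent.Recognition.NormalModule

open Cfsg.Agent.Recognition.Extension

universe u

variable {G : Type u} [Group G] (V : Subgroup G) [V.Normal]

/-- `(v, g) ↦ v g`. -/
def mulHom : V ⋊[MulAut.conjNormal] G →* G where
  toFun x := (x.left : G) * x.right
  map_one' := by simp
  map_mul' a b := by
    simp only [SemidirectProduct.mul_left, SemidirectProduct.mul_right, Subgroup.coe_mul,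
      MulAut.conjNormal_apply]
    group

theorem pow_right' (x : V ⋊[MulAut.conjNormal] G) (n : ℕ) : (x ^ n).right = x.right ^ n :=
  map_pow (SemidirectProduct.rightHom : V ⋊[MulAut.conjNormal] G →* G) x n

theorem orderOf_pair [Finite G] (p : ℕ) (hp : p.Prime) (hexp : ∀ x : V, x ^ p = 1)
    (x : V ⋊[MulAut.conjNormal] G) :
    orderOf x = orderOf x.right ∨ orderOf x = orderOf (mulHom V x) := by
  set n := orderOf x.right with hn
  have hnx : n ∣ orderOf x := orderOf_map_dvd SemidirectProduct.rightHom x
  set y := x ^ n with hy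
  have hyr : y.right = 1 := by rw [hy, pow_right', hn, pow_orderOf_eq_one]
  have hyp : y ^ p = 1 := by
    have hyl : y = SemidirectProduct.inl y.left := by ext <;> simp [hyr]
    rw [hyl, ← map_pow, hexp, map_one]
  have hxd : orderOf x ∣ n * p := by
    rw [orderOf_dvd_iff_pow_eq_one, pow_mul]; exact hyp
  by_cases h1 : y = 1
  · exact Or.inl (Nat.dvd_antisymm (orderOf_dvd_iff_pow_eq_one.2 h1) hnx)
  · right
    set a := orderOf (mulHom V x) with ha
    have hax : a ∣ orderOf x := orderOf_map_dvd (mulHom V) x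
    have han : ¬ a ∣ n := by
      rw [ha, orderOf_dvd_iff_pow_eq_one, ← map_pow, ← hy]
      intro h
      refine h1 ?_
      have h' : (y.left : G) * y.right = 1 := h
      rw [hyr, mul_one] at h'
      ext <;> simp [hyr, OneMemClass.coe_eq_one.1 h']
    -- both orders lie over the order modulo `V`
    set m := orderOf (QuotientGroup.mk' V x.right) with hm
    have hmn : m ∣ n := orderOf_map_dvd _ _
    have hma : m ∣ a := by
      have heq : QuotientGroup.mk' V x.right = QuotientGroup.mk' V (mulHom V x) := by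
        show (x.right : G ⧸ V) = ((x.left : G) * x.right : G)
        rw [QuotientGroup.mk_mul, (QuotientGroup.eq_one_iff (x.left : G)).2 x.left.2, one_mul]
      rw [hm, heq]; exact orderOf_map_dvd _ _
    have bound : ∀ z : G, orderOf (QuotientGroup.mk' V z) = m → orderOf z ∣ m * p := by
      intro z hz
      rw [orderOf_dvd_iff_pow_eq_one, pow_mul]
      have hzV : z ^ m ∈ V := by
        rw [← QuotientGroup.eq_one_iff, QuotientGroup.mk_pow, ← hz]
        exact pow_orderOf_eq_one _
      exact congrArg Subtype.val (hexp ⟨z ^ m, hzV⟩)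
    have heq : QuotientGroup.mk' V (mulHom V x) = QuotientGroup.mk' V x.right := by
      show (((x.left : G) * x.right : G) : G ⧸ V) = (x.right : G ⧸ V)
      rw [QuotientGroup.mk_mul, (QuotientGroup.eq_one_iff (x.left : G)).2 x.left.2, one_mul]
    have hmpos : 0 < m := orderOf_pos _
    have key : ∀ b : ℕ, m ∣ b → b ∣ m * p → b = m ∨ b = m * p := by
      rintro b ⟨c, rfl⟩ hb
      rcases (Nat.dvd_prime hp).1 (Nat.dvd_of_mul_dvd_mul_left hmpos hb) with rfl | rfl
      · exact Or.inl (mul_one m)
      · exact Or.inr rfl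
    have haeq : a = m * p :=
      (key a hma (bound _ (by rw [heq]))).resolve_left fun h => han (h ▸ hmn)
    have hneq : n = m :=
      (key n hmn (bound _ hm.symm)).resolve_right fun h => han (by rw [haeq, h])
    refine Nat.dvd_antisymm ?_ hax
    rw [haeq, ← hneq]
    exact hxd

theorem range_orderOf_semidirect [Finite G] (p : ℕ) (hp : p.Prime) (hexp : ∀ x : V, x ^ p = 1) :
    Set.range (orderOf : V ⋊[MulAut.conjNormal] G → ℕ) = Set.range (orderOf : G → ℕ) := by
  refine Set.Subset.antisymm ?_ ?_
  · rintro _ ⟨x, rfl⟩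
    rcases orderOf_pair V p hp hexp x with h | h
    · exact ⟨_, h.symm⟩
    · exact ⟨_, h.symm⟩
  · rintro _ ⟨g, rfl⟩
    exact ⟨SemidirectProduct.inr g, orderOf_injective _ SemidirectProduct.inr_injective g⟩

/-- Projection of `(V^N) ⋊ G` to a coordinate. -/
def projHom {M L : Type*} [CommGroup M] [Group L] (φ : L →* MulAut M) (N : ℕ) (i : Fin N) :
    (Fin N → M) ⋊[copies φ N] L →* M ⋊[φ] L where
  toFun x := ⟨x.left i, x.right⟩
  map_one' := rfl
  map_mul' _ _ := rfl

theorem range_orderOf_copies {M L : Type*} [CommGroup M] [Group L] [Finite L]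
    (φ : L →* MulAut M) {p : ℕ} (hp : p.Prime) (hexp : ∀ k : M, k ^ p = 1) (N : ℕ)
    (h : Set.range (orderOf : M ⋊[φ] L → ℕ) = Set.range (orderOf : L → ℕ)) :
    Set.range (orderOf : (Fin N → M) ⋊[copies φ N] L → ℕ) = Set.range (orderOf : L → ℕ) := by
  refine Set.Subset.antisymm ?_ range_orderOf_subset
  rintro _ ⟨x, rfl⟩
  set n := orderOf x.right with hn
  have hnx : n ∣ orderOf x := orderOf_right_dvd x
  have hd : orderOf x ∣ n * p := orderOf_dvd_mul p (pow_eq_one_copies hexp N) x
  by_cases h1 : x ^ n = 1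
  · exact ⟨x.right, (Nat.dvd_antisymm (orderOf_dvd_iff_pow_eq_one.2 h1) hnx).symm⟩
  · obtain ⟨i, hi⟩ : ∃ i, projHom φ N i (x ^ n) ≠ 1 := by
      by_contra hno
      push Not at hno
      refine h1 ?_
      have hr : (x ^ n).right = 1 := by rw [pow_right, hn, pow_orderOf_eq_one]
      rw [eq_inl_of_right_eq_one _ hr]
      have : (x ^ n).left = 1 := funext fun i => congrArg SemidirectProduct.left (hno i)
      rw [this, map_one]
    rw [map_pow] at hi
    have hni : n ∣ orderOf (projHom φ N i x) := orderOf_right_dvd (projHom φ N i x)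
    have hdi : orderOf (projHom φ N i x) ∣ n * p := orderOf_dvd_mul p hexp (projHom φ N i x)
    have hox : orderOf (projHom φ N i x) ∣ orderOf x := orderOf_map_dvd _ x
    have hnpos : 0 < n := orderOf_pos _
    have key : ∀ b : ℕ, n ∣ b → b ∣ n * p → ¬ b ∣ n → b = n * p := by
      rintro b ⟨c, rfl⟩ hb hc
      rcases (Nat.dvd_prime hp).1 (Nat.dvd_of_mul_dvd_mul_left hnpos hb) with rfl | rfl
      · exact absurd (mul_one n).dvd hc
      · rfl
    have e1 := key _ hni hdi fun hdn => hi (orderOf_dvd_iff_pow_eq_one.1 hdn)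
    have e2 := key _ hnx hd fun hdn => h1 (orderOf_dvd_iff_pow_eq_one.1 hdn)
    have hmem : orderOf (projHom φ N i x) ∈ Set.range (orderOf : M ⋊[φ] L → ℕ) := ⟨_, rfl⟩
    rw [h, e1, ← e2] at hmem
    exact hmem

end Cfsg.Agent.Recognition.NormalModule
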