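import Mathlib
import Cfsg.Agent.Recognition.Extension
import Cfsg.Agent.Recognition.SL2Orders

/-!
Large groups with the spectra of `PGL(2, 2)` and `PGL(2, 3)`, and the spectrum of `PGL(2, 2)`.
-/

set_option autoImplicit false

namespace Cfsg.Agent.Recognition.PGLSmall

open Matrix Cfsg.Agent.Recognition.Extension Cfsg.Agent.Recognition.SL2Orders
open scoped MatrixGroups

/-- Inversion. -/
def invAct (M : Type) [CommGroup M] : ℤˣ →* MulAut M where
  toFun u :=
    { toFun := fun m => m ^ (u : ℤ)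
      invFun := fun m => m ^ (u : ℤ)
      left_inv := fun m => by
        show (m ^ (u : ℤ)) ^ (u : ℤ) = m
        rw [← _root_.zpow_mul, ← Units.val_mul, Int.units_mul_self, Units.val_one, zpow_one]
      right_inv := fun m => by
        show (m ^ (u : ℤ)) ^ (u : ℤ) = m
        rw [← _root_.zpow_mul, ← Units.val_mul, Int.units_mul_self, Units.val_one, zpow_one]
      map_mul' := fun m m' => mul_zpow m m' _ }
  map_one' := by ext m; simp
  map_mul' a b := by
    ext m
    show m ^ ((a * b : ℤˣ) : ℤ) = (m ^ (b : ℤ)) ^ (a : ℤ)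
    rw [← _root_.zpow_mul, ← Units.val_mul, mul_comm b]

theorem pow_three_eq_one : ∀ k : Multiplicative (ZMod 3), k ^ 3 = 1 := by decide

theorem exists_large_two (N : ℕ) :
    ∃ (H : Type) (_ : Group H) (_ : Fintype H), N < Fintype.card H ∧
      Set.range (orderOf : H → ℕ) = {1, 2, 3} := by
  have hfpf : ∀ u : ℤˣ, u ≠ 1 → Fpf (invAct (Multiplicative (ZMod 3))) u := by
    intro u hu k hk
    rcases Int.units_eq_one_or u with rfl | rfl
    · exact absurd rfl hu
    · have h : k ^ (-1 : ℤ) = k := hk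
      have h2 : k * k = 1 := by
        rw [_root_.zpow_neg_one] at h
        exact mul_eq_one_iff_eq_inv.2 h.symm
      have hall : ∀ a : Multiplicative (ZMod 3), a * a = 1 → a = 1 := by decide
      exact hall k h2
  refine exists_large_spectrum N (G := (Fin (N + 1) → Multiplicative (ZMod 3))
    ⋊[copies (invAct (Multiplicative (ZMod 3))) (N + 1)] ℤˣ)
    ((Nat.lt_succ_self N).trans (lt_card_copies _ _)) (Set.Subset.antisymm ?_ ?_)
  · rintro _ ⟨y, rfl⟩
    by_cases h : y.right = 1
    · have hd := orderOf_dvd_mul 3 (pow_eq_one_copies pow_three_eq_one (N + 1)) y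
      rw [h, orderOf_one, one_mul] at hd
      rcases (Nat.dvd_prime Nat.prime_three).1 hd with h' | h' <;> simp [h']
    · rw [orderOf_of_fpf y ((hfpf _ h).copies (N + 1))]
      rcases (Nat.dvd_prime Nat.prime_two).1 (orderOf_dvd_of_pow_eq_one (x := y.right) (n := 2)
        (Int.units_sq _)) with h' | h' <;> simp [h']
  · rintro d (rfl | rfl | rfl)
    · exact ⟨1, orderOf_one⟩
    · refine range_orderOf_subset ⟨-1, ?_⟩
      haveI := Fact.mk Nat.prime_two
      exact orderOf_eq_prime (Int.units_sq _) (by decide)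
    · refine ⟨SemidirectProduct.inl fun _ => Multiplicative.ofAdd (1 : ZMod 3), ?_⟩
      rw [orderOf_injective _ SemidirectProduct.inl_injective]
      haveI := Fact.mk Nat.prime_three
      refine orderOf_eq_prime (pow_eq_one_copies pow_three_eq_one (N + 1) _) fun h => ?_
      exact one_ne_zero (congrArg Multiplicative.toAdd (congrFun h 0))

theorem sl2_two_cases : ∀ g : SL(2, ZMod 2), g ^ 2 = 1 ∨ g ^ 3 = 1 := by decide +kernel

theorem sl2_two_orders : (∃ g : SL(2, ZMod 2), g ^ 2 = 1 ∧ g ≠ 1) ∧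
    (∃ g : SL(2, ZMod 2), g ^ 3 = 1 ∧ g ≠ 1) := by decide +kernel

/-- The swap. -/
def swapMat : SL(2, ZMod 2) := ⟨!![0, 1; 1, 0], by decide⟩

theorem swapMat_sq : swapMat ^ 2 = 1 := by decide

theorem swapMat_mulVec :
    ((![1, 0] : Fin 2 → ZMod 2) + (swapMat : Matrix (Fin 2) (Fin 2) (ZMod 2)).mulVec ![1, 0]) 0 ≠ 0 := by
  decide

theorem exists_large_three (N : ℕ) :
    ∃ (H : Type) (_ : Group H) (_ : Fintype H), N < Fintype.card H ∧
      Set.range (orderOf : H → ℕ) = {1, 2, 3, 4} := by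
  haveI := Fact.mk Nat.prime_two
  refine exists_large_spectrum N (G := (Fin (N + 1) → Multiplicative (Fin 2 → ZMod 2))
    ⋊[copies natAut (N + 1)] SL(2, ZMod 2))
    ((Nat.lt_succ_self N).trans (lt_card_copies _ _)) (Set.Subset.antisymm ?_ ?_)
  · rintro _ ⟨y, rfl⟩
    by_cases h : y.right ^ 2 = 1
    · have hd : orderOf y ∣ 2 ^ 2 :=
        (orderOf_dvd_mul 2 (pow_eq_one_copies pow_char_eq_one (N + 1)) y).trans
          (mul_dvd_mul_right (orderOf_dvd_of_pow_eq_one h) 2)
      obtain ⟨i, hi, he⟩ := (Nat.dvd_prime_pow Nat.prime_two).1 hd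
      rw [he]
      interval_cases i <;> simp
    · rw [orderOf_of_fpf y ((fpf_natAut _ h).copies (N + 1))]
      rcases (Nat.dvd_prime Nat.prime_three).1 (orderOf_dvd_of_pow_eq_one
        ((sl2_two_cases y.right).resolve_left h)) with h' | h' <;> simp [h']
  · rintro d (rfl | rfl | rfl | rfl)
    · exact ⟨1, orderOf_one⟩
    · obtain ⟨g, h1, h2⟩ := sl2_two_orders.1
      exact range_orderOf_subset ⟨g, orderOf_eq_prime h1 h2⟩
    · obtain ⟨g, h1, h2⟩ := sl2_two_orders.2
      haveI := Fact.mk Nat.prime_three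
      exact range_orderOf_subset ⟨g, orderOf_eq_prime h1 h2⟩
    · let t : SL(2, ZMod 2) := swapMat
      let v : Fin (N + 1) → Multiplicative (Fin 2 → ZMod 2) := fun _ => Multiplicative.ofAdd ![1, 0]
      refine ⟨⟨v, t⟩, ?_⟩
      have h4 : orderOf (⟨v, t⟩ : (Fin (N + 1) → Multiplicative (Fin 2 → ZMod 2))
          ⋊[copies natAut (N + 1)] SL(2, ZMod 2)) ∣ 2 ^ 2 :=
        (orderOf_dvd_mul 2 (pow_eq_one_copies pow_char_eq_one (N + 1)) _).trans
          (mul_dvd_mul_right (orderOf_dvd_of_pow_eq_one swapMat_sq) 2)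
      refine (orderOf_eq_prime_pow (p := 2) (n := 1) ?_ (orderOf_dvd_iff_pow_eq_one.1 h4))
      intro hc
      rw [pow_one, sq] at hc
      have h0 := congrFun (congrArg SemidirectProduct.left hc) 0
      have h1 : (![1, 0] : Fin 2 → ZMod 2) + (t : Matrix (Fin 2) (Fin 2) (ZMod 2)).mulVec ![1, 0] = 0 :=
        congrArg Multiplicative.toAdd h0
      exact swapMat_mulVec (congrFun h1 0)

theorem gl2_two_cases : ∀ g : GL (Fin 2) (ZMod 2), g ^ 2 = 1 ∨ g ^ 3 = 1 := by decide +kernel

end Cfsg.Agent.Recognition.PGLSmall
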