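import Mathlib
import Cfsg.Agent.Recognition.Extension
import Cfsg.Agent.Recognition.TwoByTwo
import Cfsg.Agent.Recognition.PGL2Orders

/-!
A binary module of `PSL(2, p)` on which the elements of order `p` act without fixed points and
some element of each torus does not.
-/

set_option autoImplicit false

namespace Cfsg.Agent.Recognition.PSLModule

open Matrix Cfsg.Agent.Recognition.TwoByTwo Cfsg.Agent.Recognition.Extension
open scoped MatrixGroups

section generic

variable (L : Type) [Group L] (p : ℕ)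

/-- Binary functions summing to zero over each orbit of an element of order `p`. -/
def orbitSumZero : AddSubgroup (L → ZMod 2) where
  carrier := {f | ∀ u : L, orderOf u = p → ∀ x, ∑ i ∈ Finset.range p, f (u ^ i * x) = 0}
  zero_mem' := fun u _ x => by simp
  add_mem' := fun hf hg u hu x => by
    simp [Finset.sum_add_distrib, hf u hu x, hg u hu x]
  neg_mem' := fun hf u hu x => by simp [hf u hu x]

variable {L p}

theorem translate_mem (g : L) {f : L → ZMod 2} (hf : f ∈ orbitSumZero L p) :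
    (fun x => f (g⁻¹ * x)) ∈ orbitSumZero L p := by
  intro u hu x
  have h := hf (g⁻¹ * u * g) (by
    rw [← hu]; simpa using ((MulAut.conj g⁻¹).orderOf_eq u)) (g⁻¹ * x)
  rw [← h]
  refine Finset.sum_congr rfl fun i _ => congrArg f ?_
  rw [show g⁻¹ * u * g = g⁻¹ * u * g⁻¹⁻¹ by rw [inv_inv], conj_pow, inv_inv]
  group

variable (L p)

/-- The action by translation. -/
def act : L →* MulAut (Multiplicative (orbitSumZero L p)) where
  toFun g :=
    { toFun := fun f => Multiplicative.ofAdd ⟨fun x => f.toAdd.1 (g⁻¹ * x), translate_mem g f.toAdd.2⟩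
      invFun := fun f => Multiplicative.ofAdd ⟨fun x => f.toAdd.1 (g * x), by
        simpa using translate_mem g⁻¹ f.toAdd.2⟩
      left_inv := fun f => by
        apply Multiplicative.toAdd.injective; apply Subtype.ext; funext x; simp
      right_inv := fun f => by
        apply Multiplicative.toAdd.injective; apply Subtype.ext; funext x; simp
      map_mul' := fun f f' => rfl }
  map_one' := by
    ext f; simp
  map_mul' a b := by
    ext f; simp [mul_assoc]

variable {L p}

theorem act_apply (g : L) (f : Multiplicative (orbitSumZero L p)) (x : L) :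
    (act L p g f).toAdd.1 x = f.toAdd.1 (g⁻¹ * x) := rfl

theorem pow_two_eq_one (k : Multiplicative (orbitSumZero L p)) : k ^ 2 = 1 := by
  apply Multiplicative.toAdd.injective
  apply Subtype.ext
  funext x
  rw [toAdd_pow, toAdd_one, two_nsmul]
  exact CharTwo.add_self_eq_zero _

theorem fpf_of_orderOf (hp : Odd p) {g : L} (hg : orderOf g = p) : Fpf (act L p) g := by
  intro k hk
  apply Multiplicative.toAdd.injective
  apply Subtype.ext
  funext x
  have hconst : ∀ i : ℕ, k.toAdd.1 (g ^ i * x) = k.toAdd.1 x := by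
    intro i
    induction i with
    | zero => simp
    | succ i ih =>
      rw [pow_succ', mul_assoc, ← ih]
      conv_lhs => rw [← hk, act_apply, inv_mul_cancel_left]
  have h := k.toAdd.2 g hg x
  rw [Finset.sum_congr rfl fun i _ => hconst i, Finset.sum_const, Finset.card_range,
    nsmul_eq_mul, (ZMod.natCast_eq_one_iff_odd.2 hp), one_mul] at h
  exact h

/-- The left part of a power. -/
theorem left_pow (f : Multiplicative (orbitSumZero L p)) (g : L) (k : ℕ) (x : L) :
    (((⟨f, g⟩ : Multiplicative (orbitSumZero L p) ⋊[act L p] L)) ^ k).left.toAdd.1 x =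
      ∑ i ∈ Finset.range k, f.toAdd.1 ((g ^ i)⁻¹ * x) := by
  induction k generalizing x with
  | zero => simp
  | succ k ih =>
    rw [pow_succ, SemidirectProduct.mul_left, Extension.pow_right, toAdd_mul, AddSubgroup.coe_add,
      Pi.add_apply, ih, act_apply, Finset.sum_range_succ]

/-- An orbit meeting the support of `f` once gives an element of twice the order. -/
theorem orderOf_witness (f : Multiplicative (orbitSumZero L p)) {g : L} {m : ℕ}
    (hg : orderOf g = m) (hm : 0 < m) (x : L)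
    (h : ∀ i < m, f.toAdd.1 ((g ^ i)⁻¹ * x) = if i = 0 then 1 else 0) :
    orderOf ((⟨f, g⟩ : Multiplicative (orbitSumZero L p) ⋊[act L p] L)) = 2 * m := by
  set y : Multiplicative (orbitSumZero L p) ⋊[act L p] L := ⟨f, g⟩ with hy
  have h2 : orderOf y ∣ m * 2 := hg ▸ orderOf_dvd_mul 2 pow_two_eq_one y
  obtain ⟨c, hc⟩ : m ∣ orderOf y := hg ▸ orderOf_right_dvd y
  rw [hc] at h2 ⊢
  rcases (Nat.dvd_prime Nat.prime_two).1 (Nat.dvd_of_mul_dvd_mul_left hm h2) with rfl | rfl
  · exfalso
    have h1 : y ^ m = 1 := orderOf_dvd_iff_pow_eq_one.1 (by rw [hc, mul_one])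
    have hl := left_pow f g m x
    rw [← hy, h1, Finset.sum_congr rfl (fun i hi => h i (Finset.mem_range.1 hi)),
      Finset.sum_ite_eq', if_pos (Finset.mem_range.2 hm)] at hl
    exact zero_ne_one hl
  · exact mul_comm m 2

theorem range_orderOf_copies_subset [Finite L] {S : Set ℕ} (hp : Odd p) (N : ℕ)
    (hS : ∀ g : L, orderOf g = p → p ∈ S)
    (hS' : ∀ g : L, orderOf g ≠ p → ∀ d, d ∣ orderOf g * 2 → d ∈ S) :
    Set.range (orderOf : (Fin N → Multiplicative (orbitSumZero L p)) ⋊[copies (act L p) N] L → ℕ)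
      ⊆ S := by
  rintro _ ⟨y, rfl⟩
  by_cases h : orderOf y.right = p
  · rw [orderOf_of_fpf y ((fpf_of_orderOf hp h).copies N), h]
    exact hS _ h
  · exact hS' _ h _ (orderOf_dvd_mul 2 (pow_eq_one_copies pow_two_eq_one N) y)

/-- The diagonal embedding. -/
def diag (N : ℕ) :
    Multiplicative (orbitSumZero L p) ⋊[act L p] L →*
      (Fin N → Multiplicative (orbitSumZero L p)) ⋊[copies (act L p) N] L where
  toFun y := ⟨fun _ => y.left, y.right⟩
  map_one' := rfl
  map_mul' _ _ := rfl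

theorem diag_injective (N : ℕ) : Function.Injective (diag (L := L) (p := p) (N + 1)) := by
  intro a b h
  have hl := congrArg SemidirectProduct.left h
  exact SemidirectProduct.ext (congrFun hl 0) (congrArg SemidirectProduct.right h :)

end generic

section psl

variable {p : ℕ} [Fact p.Prime]

/-- The projective group. -/
abbrev PSL (p : ℕ) := SL(2, ZMod p) ⧸ Subgroup.center SL(2, ZMod p)

theorem two_ne_zero' (h5 : 5 ≤ p) : (2 : ZMod p) ≠ 0 := by
  intro h
  have : p ∣ 2 := (ZMod.natCast_eq_zero_iff 2 p).1 (by exact_mod_cast h)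
  have := Nat.le_of_dvd two_pos this
  omega

theorem mk_eq_one_iff (g : SL(2, ZMod p)) :
    (QuotientGroup.mk g : PSL p) = 1 ↔
      ∃ c : ZMod p, (g : Matrix (Fin 2) (Fin 2) (ZMod p)) = c • 1 := by
  rw [QuotientGroup.eq_one_iff, Matrix.SpecialLinearGroup.mem_center_iff]
  constructor
  · rintro ⟨c, -, hc⟩
    exact ⟨c, by rw [← hc, Matrix.scalar_apply, Matrix.smul_one_eq_diagonal]⟩
  · rintro ⟨c, hc⟩
    refine ⟨c, ?_, by rw [hc, Matrix.scalar_apply, Matrix.smul_one_eq_diagonal]⟩
    have hd := g.2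
    rw [hc, Matrix.det_smul, Matrix.det_one, mul_one] at hd
    exact hd

theorem scalar_of_sq_eq_one (h5 : 5 ≤ p) (g : SL(2, ZMod p))
    (h : (g : Matrix (Fin 2) (Fin 2) (ZMod p)) * g = 1) :
    ∃ c : ZMod p, (g : Matrix (Fin 2) (Fin 2) (ZMod p)) = c • 1 := by
  rw [cayley_two, g.2, one_smul, sub_eq_iff_eq_add] at h
  have hT : g.1 0 0 + g.1 1 1 ≠ 0 := by
    intro hT
    rw [hT, zero_smul] at h
    have h00 := congrFun (congrFun h 0) 0
    simp only [Matrix.add_apply, Matrix.one_apply_eq, Matrix.zero_apply] at h00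
    exact two_ne_zero' h5 (by linear_combination -h00)
  refine ⟨(g.1 0 0 + g.1 1 1)⁻¹ * 2, ?_⟩
  have h' := congrArg ((g.1 0 0 + g.1 1 1)⁻¹ • ·) h
  simp only [smul_smul, inv_mul_cancel₀ hT, one_smul] at h'
  refine h'.trans ?_
  rw [← two_smul (ZMod p) (1 : Matrix (Fin 2) (Fin 2) (ZMod p)), smul_smul]

theorem mk_pow_half (h5 : 5 ≤ p) {m : ℕ} (g : SL(2, ZMod p))
    (h : (g : Matrix (Fin 2) (Fin 2) (ZMod p)) ^ (2 * m) = 1) :
    (QuotientGroup.mk g : PSL p) ^ m = 1 := by
  rw [← QuotientGroup.mk_pow, mk_eq_one_iff]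
  refine scalar_of_sq_eq_one h5 _ ?_
  rw [Matrix.SpecialLinearGroup.coe_pow, ← pow_add, ← two_mul]
  exact h

theorem orderOf_cases (h5 : 5 ≤ p) (x : PSL p) :
    orderOf x ∣ (p - 1) / 2 ∨ orderOf x ∣ (p + 1) / 2 ∨ orderOf x = p := by
  obtain ⟨g, rfl⟩ := QuotientGroup.mk_surjective x
  have hodd : Odd p := (Fact.out : p.Prime).odd_of_ne_two (by omega)
  obtain ⟨k, hk⟩ := hodd
  have h1 : (p - 1) / 2 = k := by omega
  have h2 : (p + 1) / 2 = k + 1 := by omega
  rw [h1, h2]
  have hcard : Fintype.card (ZMod p) = p ^ 1 := by rw [ZMod.card, pow_one]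
  rcases pow_cases hcard (by omega) (g : Matrix (Fin 2) (Fin 2) (ZMod p)) with h | h | ⟨c, hc⟩
  · refine Or.inl (orderOf_dvd_of_pow_eq_one (mk_pow_half h5 g ?_))
    have hu : IsUnit (g : Matrix (Fin 2) (Fin 2) (ZMod p)) :=
      (Matrix.isUnit_iff_isUnit_det _).2 (by rw [g.2]; exact isUnit_one)
    rw [pow_one] at h
    refine hu.mul_right_cancel ?_
    rw [← pow_succ, ← hk, one_mul]
    exact h
  · refine Or.inr (Or.inl (orderOf_dvd_of_pow_eq_one (mk_pow_half h5 g ?_)))
    rw [pow_one] at h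
    rw [show 2 * (k + 1) = p + 1 by omega, pow_succ, h, Matrix.sub_mul, Matrix.smul_mul,
      Matrix.one_mul, cayley_two, g.2]
    module
  · have hpow : (QuotientGroup.mk g : PSL p) ^ p = 1 := by
      rw [← QuotientGroup.mk_pow, mk_eq_one_iff]
      exact ⟨c, by rw [Matrix.SpecialLinearGroup.coe_pow, hc]⟩
    rcases (Nat.dvd_prime Fact.out).1 (orderOf_dvd_of_pow_eq_one hpow) with h' | h'
    · exact Or.inl (h'.dvd.trans (one_dvd _))
    · exact Or.inr (Or.inr h')

/-- The unipotent element. -/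
theorem exists_orderOf_p : ∃ x : PSL p, orderOf x = p := by
  set u : SL(2, ZMod p) := ⟨!![1, 1; 0, 1], by simp [Matrix.det_fin_two]⟩
  refine ⟨QuotientGroup.mk u, orderOf_eq_prime ?_ ?_⟩
  · have hk : ∀ k : ℕ, (!![(1 : ZMod p), 1; 0, 1]) ^ k = !![1, (k : ZMod p); 0, 1] := by
      intro k
      induction k with
      | zero => simp [Matrix.one_fin_two]
      | succ k ih =>
        rw [pow_succ, ih, Nat.cast_succ]
        ext i j
        fin_cases i <;> fin_cases j <;> simp [Matrix.mul_apply, Fin.sum_univ_two] <;> ring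
    rw [← QuotientGroup.mk_pow, mk_eq_one_iff]
    refine ⟨1, ?_⟩
    rw [Matrix.SpecialLinearGroup.coe_pow]
    show (!![(1 : ZMod p), 1; 0, 1]) ^ p = _
    rw [hk, ZMod.natCast_self, one_smul, Matrix.one_fin_two]
  · rw [Ne, mk_eq_one_iff]
    rintro ⟨c, hc⟩
    simpa [u] using congrFun (congrFun hc 0) 1

/-- The images of the matrices of trace `τ`. -/
def trSet (τ : ZMod p) : Set (PSL p) :=
  {x | ∃ M : SL(2, ZMod p), (QuotientGroup.mk M : PSL p) = x ∧ M.1 0 0 + M.1 1 1 = τ}

theorem trace_of_mk_eq {M M' : SL(2, ZMod p)}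
    (h : (QuotientGroup.mk M' : PSL p) = QuotientGroup.mk M) :
    M'.1 0 0 + M'.1 1 1 = M.1 0 0 + M.1 1 1 ∨ M'.1 0 0 + M'.1 1 1 = -(M.1 0 0 + M.1 1 1) := by
  rw [QuotientGroup.eq, Matrix.SpecialLinearGroup.mem_center_iff] at h
  obtain ⟨r, hr, hr'⟩ := h
  rw [Fintype.card_fin] at hr
  have hM : (M : Matrix (Fin 2) (Fin 2) (ZMod p)) = r • (M' : Matrix (Fin 2) (Fin 2) (ZMod p)) := by
    have : (M' : Matrix (Fin 2) (Fin 2) (ZMod p)) * Matrix.scalar (Fin 2) r = M := by
      rw [hr', ← Matrix.SpecialLinearGroup.coe_mul, mul_inv_cancel_left]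
    rw [← this, Matrix.scalar_apply, ← Matrix.smul_one_eq_diagonal, Matrix.mul_smul, Matrix.mul_one]
  have hr1 : (r - 1) * (r + 1) = 0 := by linear_combination hr
  rcases mul_eq_zero.1 hr1 with h1 | h1
  · left; rw [hM, sub_eq_zero.1 h1, one_smul]
  · right
    rw [hM, eq_neg_of_add_eq_zero_left h1]
    simp only [neg_smul, one_smul, Matrix.neg_apply]
    ring

theorem mem_trSet_mk (τ : ZMod p) (M : SL(2, ZMod p)) :
    (QuotientGroup.mk M : PSL p) ∈ trSet τ ↔
      M.1 0 0 + M.1 1 1 = τ ∨ M.1 0 0 + M.1 1 1 = -τ := by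
  constructor
  · rintro ⟨M', hM', ht⟩
    rcases trace_of_mk_eq hM' with h | h
    · exact Or.inl (h.symm.trans ht)
    · exact Or.inr (by linear_combination -ht + h)
  · rintro (h | h)
    · exact ⟨M, rfl, h⟩
    · refine ⟨-M, ?_, ?_⟩
      · rw [QuotientGroup.eq, Matrix.SpecialLinearGroup.mem_center_iff]
        refine ⟨-1, by rw [Fintype.card_fin]; ring, ?_⟩
        rw [Matrix.SpecialLinearGroup.coe_mul, Matrix.scalar_apply, ← Matrix.smul_one_eq_diagonal]
        have hu : (((-M)⁻¹ : SL(2, ZMod p)) : Matrix (Fin 2) (Fin 2) (ZMod p)) *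
            ((-M : SL(2, ZMod p)) : Matrix (Fin 2) (Fin 2) (ZMod p)) = 1 := by
          rw [← Matrix.SpecialLinearGroup.coe_mul, inv_mul_cancel,
            Matrix.SpecialLinearGroup.coe_one]
        conv_rhs => rw [show (M : Matrix (Fin 2) (Fin 2) (ZMod p)) =
          -((-M : SL(2, ZMod p)) : Matrix (Fin 2) (Fin 2) (ZMod p)) by simp, Matrix.mul_neg, hu]
        rw [neg_smul, one_smul]
      · show (-M : SL(2, ZMod p)).1 0 0 + (-M : SL(2, ZMod p)).1 1 1 = τ
        simp only [Matrix.SpecialLinearGroup.coe_neg, Matrix.neg_apply]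
        linear_combination -h

/-- A lift of an element of order `p` of the shape `1 + N` with `N ^ 2 = 0`. -/
theorem exists_unipotent_lift (h5 : 5 ≤ p) {u : PSL p} (hu : orderOf u = p) :
    ∃ U : SL(2, ZMod p), (QuotientGroup.mk U : PSL p) = u ∧
      ((U : Matrix (Fin 2) (Fin 2) (ZMod p)) - 1) * ((U : Matrix (Fin 2) (Fin 2) (ZMod p)) - 1) = 0 := by
  have hP : p.Prime := Fact.out
  obtain ⟨U, rfl⟩ := QuotientGroup.mk_surjective u
  have h1 : (QuotientGroup.mk (U ^ p) : PSL p) = 1 := by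
    rw [QuotientGroup.mk_pow]
    exact orderOf_dvd_iff_pow_eq_one.1 hu.dvd
  -- the sign of the lift
  obtain ⟨r, hr⟩ := (mk_eq_one_iff _).1 h1
  have hr2 : (r - 1) * (r + 1) = 0 := by
    have hd := (U ^ p).2
    rw [hr, Matrix.det_smul, Matrix.det_one, Fintype.card_fin] at hd
    linear_combination hd
  have key : ∀ V : SL(2, ZMod p), (V : Matrix (Fin 2) (Fin 2) (ZMod p)) ^ p = 1 →
      ((V : Matrix (Fin 2) (Fin 2) (ZMod p)) - 1) * ((V : Matrix (Fin 2) (Fin 2) (ZMod p)) - 1) = 0 := by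
    intro V hV
    set N := (V : Matrix (Fin 2) (Fin 2) (ZMod p)) - 1 with hN
    haveI : CharP (Matrix (Fin 2) (Fin 2) (ZMod p)) p := inferInstance
    haveI : ExpChar (Matrix (Fin 2) (Fin 2) (ZMod p)) p := ExpChar.prime hP
    have hNp : N ^ p = 0 := by
      rw [hN, sub_pow_char_of_commute p (Commute.one_right _), one_pow, hV, sub_self]
    have hdet : N.det = 0 := by
      have h' := congrArg Matrix.det hNp
      rw [Matrix.det_pow, Matrix.det_zero] at h'
      exact eq_zero_of_pow_eq_zero h'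
    have hNN : N * N = (N 0 0 + N 1 1) • N := by
      rw [cayley_two, hdet, zero_smul, sub_zero]
    have hpow : ∀ k : ℕ, N ^ (k + 1) = (N 0 0 + N 1 1) ^ k • N := by
      intro k
      induction k with
      | zero => simp
      | succ k ih => rw [pow_succ, ih, Matrix.smul_mul, hNN, smul_smul, pow_succ]
    rw [hNN]
    have hNp' : N ^ (p - 1 + 1) = 0 := by rw [Nat.sub_add_cancel hP.one_le]; exact hNp
    rw [hpow] at hNp'
    rcases smul_eq_zero.1 hNp' with h | h
    · rw [eq_zero_of_pow_eq_zero h, zero_smul]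
    · rw [h, smul_zero]
  have hodd : Odd p := hP.odd_of_ne_two (by omega)
  rcases mul_eq_zero.1 hr2 with h | h
  · refine ⟨U, rfl, key U ?_⟩
    rw [← Matrix.SpecialLinearGroup.coe_pow, hr, sub_eq_zero.1 h, one_smul]
  · refine ⟨-U, ?_, key (-U) ?_⟩
    · rw [QuotientGroup.eq, Matrix.SpecialLinearGroup.mem_center_iff]
      refine ⟨-1, by rw [Fintype.card_fin]; ring, ?_⟩
      rw [Matrix.SpecialLinearGroup.coe_mul, Matrix.scalar_apply, ← Matrix.smul_one_eq_diagonal]
      have hu' : (((-U)⁻¹ : SL(2, ZMod p)) : Matrix (Fin 2) (Fin 2) (ZMod p)) *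
          ((-U : SL(2, ZMod p)) : Matrix (Fin 2) (Fin 2) (ZMod p)) = 1 := by
        rw [← Matrix.SpecialLinearGroup.coe_mul, inv_mul_cancel, Matrix.SpecialLinearGroup.coe_one]
      conv_rhs => rw [show (U : Matrix (Fin 2) (Fin 2) (ZMod p)) =
        -((-U : SL(2, ZMod p)) : Matrix (Fin 2) (Fin 2) (ZMod p)) by simp, Matrix.mul_neg, hu']
      rw [neg_smul, one_smul]
    · rw [Matrix.SpecialLinearGroup.coe_neg, hodd.neg_pow, ← Matrix.SpecialLinearGroup.coe_pow, hr,
        eq_neg_of_add_eq_zero_left h, neg_smul, one_smul, neg_neg]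

/-- If a nilpotent matrix is trace-orthogonal to `X` then `X` has a square discriminant. -/
theorem disc_isSquare {K : Type*} [Field K] (n00 n01 n10 n11 x00 x01 x10 x11 : K)
    (hsq : n00 * n00 + n01 * n10 = 0) (htr : n00 + n11 = 0)
    (hne : n00 ≠ 0 ∨ n01 ≠ 0 ∨ n10 ≠ 0)
    (horth : n00 * x00 + n01 * x10 + n10 * x01 + n11 * x11 = 0) :
    IsSquare ((x00 - x11) ^ 2 + 4 * x01 * x10) := by
  have hn11 : n11 = -n00 := by linear_combination htr
  subst hn11
  by_cases hg : n10 = 0
  · have ha : n00 = 0 := by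
      have h0 : n00 * n00 = 0 := by linear_combination hsq - n01 * hg
      exact mul_self_eq_zero.1 h0
    have hb : n01 ≠ 0 := by
      rcases hne with h | h | h
      · exact absurd ha h
      · exact h
      · exact absurd hg h
    have hx : x10 = 0 := by
      refine (mul_eq_zero.1 (show n01 * x10 = 0 from ?_)).resolve_left hb
      rw [ha, hg] at horth
      linear_combination horth
    exact ⟨x00 - x11, by rw [hx]; ring⟩
  · refine ⟨2 * x10 * (n00 / n10) + x11 - x00, ?_⟩
    obtain ⟨t, rfl⟩ : ∃ t, n00 = t * n10 := ⟨n00 / n10, by rw [div_mul_cancel₀ _ hg]⟩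
    have hb : n01 = -(t * t * n10) := by
      apply mul_right_cancel₀ hg
      linear_combination hsq
    subst hb
    have hq : t * (x00 - x11) - t * t * x10 + x01 = 0 := by
      apply mul_left_cancel₀ hg
      linear_combination horth
    rw [mul_div_cancel_right₀ _ hg]
    linear_combination (4 * x10) * hq

/-- The indicator of a trace class. -/
noncomputable def ind (τ : ZMod p) : PSL p → ZMod 2 := (trSet τ).indicator 1

theorem ind_mem (h5 : 5 ≤ p) {τ : ZMod p} (hτ : τ ≠ 0) (hns : ¬ IsSquare (τ ^ 2 - 4)) :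
    ind τ ∈ orbitSumZero (PSL p) p := by
  classical
  intro u hu x
  obtain ⟨U, hU, hN⟩ := exists_unipotent_lift h5 hu
  obtain ⟨X, hX⟩ := QuotientGroup.mk_surjective x
  set N := (U : Matrix (Fin 2) (Fin 2) (ZMod p)) - 1 with hNdef
  have hUpow : ∀ i : ℕ, (U : Matrix (Fin 2) (Fin 2) (ZMod p)) ^ i = 1 + (i : ZMod p) • N := by
    intro i
    induction i with
    | zero => simp
    | succ i ih =>
      rw [pow_succ, ih, show (U : Matrix (Fin 2) (Fin 2) (ZMod p)) = 1 + N by rw [hNdef]; simp,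
        Matrix.add_mul, Matrix.one_mul, Matrix.smul_mul, Matrix.mul_add, Matrix.mul_one, hN,
        add_zero, Nat.cast_succ]
      module
  set t := X.1 0 0 + X.1 1 1 with ht
  set c := N 0 0 * X.1 0 0 + N 0 1 * X.1 1 0 + N 1 0 * X.1 0 1 + N 1 1 * X.1 1 1 with hc
  let R : ZMod p → ZMod 2 := fun z => if t + z * c = τ ∨ t + z * c = -τ then 1 else 0
  have hterm : ∀ i : ℕ, ind τ (u ^ i * x) = R (i : ZMod p) := by
    intro i
    have hiff : u ^ i * x ∈ trSet τ ↔ t + (i : ZMod p) * c = τ ∨ t + (i : ZMod p) * c = -τ := by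
      rw [← hU, ← hX, ← QuotientGroup.mk_pow, ← QuotientGroup.mk_mul, mem_trSet_mk]
      have : (U ^ i * X).1 0 0 + (U ^ i * X).1 1 1 = t + (i : ZMod p) * c := by
        rw [Matrix.SpecialLinearGroup.coe_mul, Matrix.SpecialLinearGroup.coe_pow, hUpow]
        simp [Matrix.mul_apply, Fin.sum_univ_two, Matrix.one_apply, ht, hc]
        ring
      rw [this]
    simp only [ind, R, Set.indicator_apply, Pi.one_apply, hiff]
  rw [Finset.sum_congr rfl fun i _ => hterm i]
  have hsum : ∑ i ∈ Finset.range p, R (i : ZMod p) = ∑ z : ZMod p, R z := by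
    refine Finset.sum_nbij' (fun i => (i : ZMod p)) (fun z => z.val) ?_ ?_ ?_ ?_ ?_
    · intro i _; exact Finset.mem_univ _
    · intro z _; exact Finset.mem_range.2 (ZMod.val_lt z)
    · intro i hi; exact ZMod.val_natCast_of_lt (Finset.mem_range.1 hi)
    · intro z _; exact ZMod.natCast_zmod_val z
    · intro i _; rfl
  rw [hsum]
  have h2 := two_ne_zero' (p := p) h5
  by_cases hc0 : c = 0
  · refine Finset.sum_eq_zero fun z _ => if_neg ?_
    rw [hc0, mul_zero, add_zero]
    intro htt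
    refine hns ?_
    have htt2 : t ^ 2 = τ ^ 2 := by rcases htt with h | h <;> rw [h]; ring
    have hd := X.2
    rw [Matrix.det_fin_two] at hd
    have hN00 := congrFun (congrFun hN 0) 0
    have hN01 := congrFun (congrFun hN 0) 1
    have hN10 := congrFun (congrFun hN 1) 0
    have hN11 := congrFun (congrFun hN 1) 1
    simp only [Matrix.mul_apply, Fin.sum_univ_two, Matrix.zero_apply] at hN00 hN01 hN10 hN11
    have hne : N 0 0 ≠ 0 ∨ N 0 1 ≠ 0 ∨ N 1 0 ≠ 0 := by
      by_contra hno
      push Not at hno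
      obtain ⟨e1, e2, e3⟩ := hno
      have e4 : N 1 1 = 0 := mul_self_eq_zero.1 (by rw [e2] at hN11; linear_combination hN11)
      have hU1 : (u : PSL p) = 1 := by
        rw [← hU, mk_eq_one_iff]
        refine ⟨1, ?_⟩
        have hN0 : N = 0 := by ext i j; fin_cases i <;> fin_cases j <;> simp [e1, e2, e3, e4]
        rw [one_smul]
        exact sub_eq_zero.1 hN0
      rw [hU1, orderOf_one] at hu
      omega
    have htr : N 0 0 + N 1 1 = 0 := by
      by_contra hne'
      have e2 : N 0 1 = 0 := (mul_eq_zero.1 (show (N 0 0 + N 1 1) * N 0 1 = 0 by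
        linear_combination hN01)).resolve_left hne'
      have e3 : N 1 0 = 0 := (mul_eq_zero.1 (show (N 0 0 + N 1 1) * N 1 0 = 0 by
        linear_combination hN10)).resolve_left hne'
      have e1 : N 0 0 = 0 := mul_self_eq_zero.1 (by rw [e2] at hN00; linear_combination hN00)
      rcases hne with h | h | h <;> contradiction
    have hsq := disc_isSquare (N 0 0) (N 0 1) (N 1 0) (N 1 1) (X.1 0 0) (X.1 0 1) (X.1 1 0) (X.1 1 1)
      (by linear_combination hN00) htr hne (by rw [← hc]; exact hc0)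
    have : τ ^ 2 - 4 = (X.1 0 0 - X.1 1 1) ^ 2 + 4 * X.1 0 1 * X.1 1 0 := by
      rw [← htt2, ht]; linear_combination (4 : ZMod p) * hd
    rw [this]; exact hsq
  · have hz1 : t + ((τ - t) / c) * c = τ := by rw [div_mul_cancel₀ _ hc0]; ring
    have hz2 : t + ((-τ - t) / c) * c = -τ := by rw [div_mul_cancel₀ _ hc0]; ring
    have hne : (τ - t) / c ≠ (-τ - t) / c := by
      intro h
      rw [h, hz2] at hz1
      exact hτ ((mul_eq_zero.1 (show (2 : ZMod p) * τ = 0 by linear_combination -hz1)).resolve_left h2)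
    have hfilter : (Finset.univ.filter fun z : ZMod p => t + z * c = τ ∨ t + z * c = -τ) =
        {(τ - t) / c, (-τ - t) / c} := by
      ext z
      simp only [Finset.mem_filter, Finset.mem_univ, true_and, Finset.mem_insert,
        Finset.mem_singleton, eq_div_iff hc0]
      constructor
      · rintro (h | h)
        · left; linear_combination h
        · right; linear_combination h
      · rintro (h | h)
        · left; linear_combination h
        · right; linear_combination h
    simp only [R, Finset.sum_boole, hfilter, Finset.card_pair hne]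
    rfl

theorem exists_param_root (m : ℕ) (hm : m ∣ p + 1 ∨ m ∣ p - 1) :
    ∃ w : AlgebraicClosure (ZMod p), orderOf w = m ∧ w ≠ 0 ∧
      ((m ∣ p + 1 → w ^ p = w⁻¹) ∧ (w ^ p = w ∨ w ^ p = w⁻¹)) := by
  have hP : p.Prime := Fact.out
  have hcard : Fintype.card (ZMod p) = p ^ 1 := by rw [ZMod.card, pow_one]
  have hsq : p ^ 1 * p ^ 1 - 1 = (p + 1) * (p - 1) := by
    rw [← Nat.sq_sub_sq, pow_one, one_pow, sq]
  obtain ⟨w, hw⟩ := exists_orderOf_eq hcard (m := m) (by
    rw [hsq]
    rcases hm with h | h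
    · exact h.mul_right _
    · exact h.mul_left _) one_pos
  have hm0 : m ≠ 0 := by
    rintro rfl
    rcases hm with h | h
    · exact absurd (Nat.eq_zero_of_zero_dvd h) (by omega)
    · have := hP.two_le
      exact absurd (Nat.eq_zero_of_zero_dvd h) (by omega)
  have hw0 : w ≠ 0 := by
    intro h
    have h1 := pow_orderOf_eq_one w
    rw [hw, h, zero_pow hm0] at h1
    exact zero_ne_one h1
  have hplus : m ∣ p + 1 → w ^ p = w⁻¹ := fun h => by
    refine eq_inv_of_mul_eq_one_left ?_
    rw [← pow_succ]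
    exact orderOf_dvd_iff_pow_eq_one.1 (hw.dvd.trans h)
  refine ⟨w, hw, hw0, hplus, ?_⟩
  rcases hm with h | h
  · exact Or.inr (hplus h)
  · left
    have h' : w ^ (p - 1 + 1) = w := by
      rw [pow_succ, orderOf_dvd_iff_pow_eq_one.1 (hw.dvd.trans h), one_mul]
    rwa [Nat.sub_add_cancel hP.one_le] at h'

theorem exists_trace (h5 : 5 ≤ p) : ∃ τ : ZMod p, τ ≠ 0 ∧ ¬ IsSquare (τ ^ 2 - 4) := by
  obtain ⟨w, hw, hw0, hplus, -⟩ := exists_param_root (p := p) (p + 1) (Or.inl dvd_rfl)
  have hwp := hplus dvd_rfl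
  haveI : CharP (AlgebraicClosure (ZMod p)) p := charP_of_injective_algebraMap
    (FaithfulSMul.algebraMap_injective (ZMod p) (AlgebraicClosure (ZMod p))) p
  haveI : ExpChar (AlgebraicClosure (ZMod p)) p := ExpChar.prime Fact.out
  have h2K : (2 : AlgebraicClosure (ZMod p)) ≠ 0 := by
    rw [← map_ofNat (algebraMap (ZMod p) (AlgebraicClosure (ZMod p))) 2]
    exact (map_ne_zero _).2 (two_ne_zero' h5)
  obtain ⟨τ, hτ⟩ := mem_range_of_pow_card (w + w⁻¹) (by
    rw [ZMod.card, add_pow_char, inv_pow, hwp, inv_inv, add_comm])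
  have hne : ∀ k : ℕ, 0 < k → k ≤ 4 → w ^ k ≠ 1 := by
    intro k hk hk4 h
    have := Nat.le_of_dvd hk (hw ▸ orderOf_dvd_of_pow_eq_one h)
    omega
  refine ⟨τ, ?_, ?_⟩
  · intro h
    rw [h, map_zero] at hτ
    have h2 : w ^ 2 = -1 := by
      linear_combination (-w) * hτ - mul_inv_cancel₀ hw0
    exact hne 4 (by norm_num) le_rfl (by rw [show 4 = 2 * 2 from rfl, pow_mul, h2]; ring)
  · rintro ⟨e, he⟩
    have hsq : (w - w⁻¹ - algebraMap _ _ e) * (w - w⁻¹ + algebraMap _ _ e) = 0 := by
      have h' := congrArg (algebraMap (ZMod p) (AlgebraicClosure (ZMod p))) he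
      rw [map_sub, map_pow, map_mul, map_ofNat, hτ] at h'
      linear_combination h' - 4 * mul_inv_cancel₀ hw0
    have hmem : ∃ b : ZMod p, w = algebraMap _ _ b := by
      rcases mul_eq_zero.1 hsq with h | h
      · refine ⟨(τ + e) / 2, ?_⟩
        rw [map_div₀, map_add, map_ofNat, hτ, eq_div_iff h2K]
        linear_combination h
      · refine ⟨(τ - e) / 2, ?_⟩
        rw [map_div₀, map_sub, map_ofNat, hτ, eq_div_iff h2K]
        linear_combination h
    obtain ⟨b, rfl⟩ := hmem
    rw [← map_pow, ZMod.pow_card] at hwp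
    exact hne 2 two_pos (by norm_num) (by rw [sq]; exact mul_eq_one_iff_eq_inv₀ hw0 |>.2 hwp)

/-- Parameters of a torus giving an element of order `m` in the projective group. -/
theorem exists_param (h5 : 5 ≤ p) {m : ℕ} (hm : 2 ≤ m) (hdvd : 2 * m ∣ p + 1 ∨ 2 * m ∣ p - 1) :
    ∃ a : ZMod p, a ^ 2 - 1 ≠ 0 ∧
      ∀ k, (∃ c : ZMod p, torusMat a (a ^ 2 - 1) ^ k = c • 1) ↔ m ∣ k := by
  obtain ⟨w, hw, hw0, -, hwp⟩ := exists_param_root (p := p) (2 * m) hdvd
  haveI : CharP (AlgebraicClosure (ZMod p)) p := charP_of_injective_algebraMap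
    (FaithfulSMul.algebraMap_injective (ZMod p) (AlgebraicClosure (ZMod p))) p
  haveI : ExpChar (AlgebraicClosure (ZMod p)) p := ExpChar.prime Fact.out
  set ι := algebraMap (ZMod p) (AlgebraicClosure (ZMod p)) with hι
  have h2K : (2 : AlgebraicClosure (ZMod p)) ≠ 0 := by
    rw [← map_ofNat ι 2]
    exact (map_ne_zero _).2 (two_ne_zero' h5)
  have h2p : (2 : AlgebraicClosure (ZMod p)) ^ p = 2 := by
    rw [← map_ofNat ι 2, ← map_pow, ZMod.pow_card]
  obtain ⟨a, ha⟩ := mem_range_of_pow_card ((w + w⁻¹) / 2) (by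
    rw [ZMod.card, div_pow, add_pow_char, inv_pow, h2p]
    rcases hwp with h | h
    · rw [h]
    · rw [h, inv_inv, add_comm])
  set s := (w - w⁻¹) / 2 with hsdef
  have hs : s ^ 2 = ι (a ^ 2 - 1) := by
    rw [map_sub, map_pow, map_one, hι, ha, hsdef]
    field_simp
    ring
  have hw2 : w ^ 2 ≠ 1 := fun h => by
    have := Nat.le_of_dvd two_pos (hw ▸ orderOf_dvd_of_pow_eq_one h)
    omega
  have hs0 : s ≠ 0 := div_ne_zero (fun h => hw2 (by
    linear_combination w * h + mul_inv_cancel₀ hw0)) h2K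
  refine ⟨a, fun h => hs0 ?_, fun k => ?_⟩
  · rw [h, map_zero] at hs
    exact eq_zero_of_pow_eq_zero hs
  · rw [torusMat_pow_scalar_iff ι a _ s hs hs0 (two_ne_zero' h5),
      show ι a + s = w by rw [hι, ha, hsdef]; field_simp; ring,
      show ι a - s = w⁻¹ by rw [hι, ha, hsdef]; field_simp; ring]
    rw [inv_pow, ← mul_eq_one_iff_eq_inv₀ (pow_ne_zero k hw0), ← pow_add, ← two_mul,
      ← orderOf_dvd_iff_pow_eq_one, hw, Nat.mul_dvd_mul_iff_left two_pos]

/-- A witness of order twice `m` for a torus with parameter `a`. -/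
theorem exists_witness (h5 : 5 ≤ p) {m : ℕ} (hm : 0 < m) (a : ZMod p) (ha : a ^ 2 - 1 ≠ 0)
    (hiff : ∀ k, (∃ c : ZMod p, torusMat a (a ^ 2 - 1) ^ k = c • 1) ↔ m ∣ k) :
    ∃ y : Multiplicative (orbitSumZero (PSL p) p) ⋊[act (PSL p) p] PSL p, orderOf y = 2 * m := by
  classical
  obtain ⟨τ, hτ, hns⟩ := exists_trace (p := p) h5
  set δ := a ^ 2 - 1 with hδ
  set G : SL(2, ZMod p) := ⟨torusMat a δ, by simp [torusMat, Matrix.det_fin_two, hδ]; ring⟩ with hG
  have hord : orderOf (QuotientGroup.mk G : PSL p) = m := by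
    have h : ∀ k, orderOf (QuotientGroup.mk G : PSL p) ∣ k ↔ m ∣ k := fun k => by
      rw [orderOf_dvd_iff_pow_eq_one, ← QuotientGroup.mk_pow, mk_eq_one_iff,
        Matrix.SpecialLinearGroup.coe_pow]
      exact hiff k
    exact Nat.dvd_antisymm ((h m).2 dvd_rfl) ((h _).1 dvd_rfl)
  have hodd : Fintype.card (ZMod p) % 2 = 1 := by
    rw [ZMod.card]; exact Nat.odd_iff.1 ((Fact.out : p.Prime).odd_of_ne_two (by omega))
  have h2 := two_ne_zero' (p := p) h5
  obtain ⟨y, z, hyz⟩ := FiniteField.exists_root_sum_quadratic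
    (f := (Polynomial.X ^ 2 : Polynomial (ZMod p)))
    (g := (Polynomial.C (-δ) * Polynomial.X ^ 2 + Polynomial.C 0 * Polynomial.X +
      Polynomial.C (-((τ / 2) ^ 2 - 1)) : Polynomial (ZMod p)))
    (Polynomial.degree_X_pow 2) (Polynomial.degree_quadratic (neg_ne_zero.2 ha)) hodd
  simp only [Polynomial.eval_add, Polynomial.eval_pow, Polynomial.eval_X, Polynomial.eval_mul,
    Polynomial.eval_C, zero_mul, add_zero] at hyz
  set X : SL(2, ZMod p) := ⟨!![τ / 2 + y, -δ * z; z, τ / 2 - y], by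
    simp only [Matrix.det_fin_two_of]; linear_combination -hyz⟩ with hX
  refine ⟨⟨Multiplicative.ofAdd ⟨ind τ, ind_mem h5 hτ hns⟩, QuotientGroup.mk G⟩,
    orderOf_witness _ hord hm (QuotientGroup.mk X) fun i hi => ?_⟩
  show ind τ _ = _
  -- only the identity power keeps the trace
  have hiff' : ((QuotientGroup.mk G : PSL p) ^ i)⁻¹ * QuotientGroup.mk X ∈ trSet τ ↔ i = 0 := by
    constructor
    · intro hmem
      by_contra hne
      have hinv : ((QuotientGroup.mk G : PSL p) ^ i)⁻¹ = QuotientGroup.mk (G ^ (m - i)) := by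
        rw [QuotientGroup.mk_pow, inv_eq_of_mul_eq_one_right]
        rw [← pow_add, Nat.add_sub_cancel' hi.le, ← hord, pow_orderOf_eq_one]
      rw [hinv, ← QuotientGroup.mk_mul, mem_trSet_mk] at hmem
      obtain ⟨A, B, hAB, -, -⟩ := torusMat_pow (K := AlgebraicClosure (ZMod p))
        (algebraMap _ _) a δ _
        (IsAlgClosed.exists_pow_nat_eq (algebraMap (ZMod p) (AlgebraicClosure (ZMod p)) δ)
          two_pos).choose_spec (m - i)
      have htr : (G ^ (m - i) * X).1 0 0 + (G ^ (m - i) * X).1 1 1 = A * τ := by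
        have hc2 : (2 : ZMod p) * (τ / 2) = τ := mul_div_cancel₀ _ h2
        rw [Matrix.SpecialLinearGroup.coe_mul, Matrix.SpecialLinearGroup.coe_pow]
        show (torusMat a δ ^ (m - i) * !![τ / 2 + y, -δ * z; z, τ / 2 - y]) 0 0 +
          (torusMat a δ ^ (m - i) * !![τ / 2 + y, -δ * z; z, τ / 2 - y]) 1 1 = A * τ
        rw [hAB]
        simp [Matrix.mul_apply, Fin.sum_univ_two]
        linear_combination A * hc2
      rw [htr] at hmem
      have hA : A ^ 2 = 1 := by
        rcases hmem with h | h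
        · have : A = 1 := mul_right_cancel₀ hτ (by rw [one_mul]; exact h)
          rw [this, one_pow]
        · have : A = -1 := mul_right_cancel₀ hτ (by rw [neg_one_mul]; exact h)
          rw [this]; ring
      have hdet := congrArg Matrix.det hAB
      rw [Matrix.det_pow, show (torusMat a δ).det = 1 from G.2, one_pow, Matrix.det_fin_two_of]
        at hdet
      have hB : B = 0 := by
        have : δ * (B * B) = 0 := by linear_combination hdet + hA
        exact mul_self_eq_zero.1 ((mul_eq_zero.1 this).resolve_left ha)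
      have hdvd := (hiff (m - i)).1 ⟨A, by
        rw [hAB, hB]; ext r s; fin_cases r <;> fin_cases s <;> simp⟩
      have := Nat.le_of_dvd (by omega) hdvd
      omega
    · rintro rfl
      rw [pow_zero, inv_one, one_mul, mem_trSet_mk]
      left
      show (τ / 2 + y) + (τ / 2 - y) = τ
      have hc2 : (2 : ZMod p) * (τ / 2) = τ := mul_div_cancel₀ _ h2
      linear_combination hc2
  simp only [ind, Set.indicator_apply, Pi.one_apply, hiff']

theorem exists_witness_of_dvd (h5 : 5 ≤ p) {m : ℕ} (hm : 2 ≤ m)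
    (hdvd : 2 * m ∣ p + 1 ∨ 2 * m ∣ p - 1) (N : ℕ) :
    ∃ y : (Fin (N + 1) → Multiplicative (orbitSumZero (PSL p) p)) ⋊[copies (act (PSL p) p) (N + 1)]
      PSL p, orderOf y = 2 * m := by
  obtain ⟨a, ha, hiff⟩ := exists_param h5 hm hdvd
  obtain ⟨y, hy⟩ := exists_witness h5 (by omega) a ha hiff
  exact ⟨diag (N + 1) y, (orderOf_injective _ (diag_injective N) y).trans hy⟩

theorem nontrivial_module (h5 : 5 ≤ p) :
    Nontrivial (Multiplicative (orbitSumZero (PSL p) p)) := by
  obtain ⟨τ, hτ, hns⟩ := exists_trace (p := p) h5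
  let M : SL(2, ZMod p) := ⟨!![τ, -1; 1, 0], by simp [Matrix.det_fin_two]⟩
  refine ⟨Multiplicative.ofAdd ⟨ind τ, ind_mem h5 hτ hns⟩, 1, fun h => ?_⟩
  have h' : ind τ (QuotientGroup.mk M) = 0 := congrArg (fun k => k.toAdd.1 (QuotientGroup.mk M)) h
  have hmem : (QuotientGroup.mk M : PSL p) ∈ trSet τ := ⟨M, rfl, by simp [M]⟩
  rw [ind, Set.indicator_of_mem hmem] at h'
  exact one_ne_zero h'

/-- Arbitrarily large groups with the spectrum of `PGL(2, p)`. -/
theorem exists_large (h5 : 5 ≤ p) (N : ℕ) :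
    ∃ (H : Type) (_ : Group H) (_ : Fintype H), N < Fintype.card H ∧
      Set.range (orderOf : H → ℕ) = {d | d ∣ p - 1 ∨ d ∣ p + 1 ∨ d = p} := by
  haveI := nontrivial_module (p := p) h5
  have hodd : Odd p := (Fact.out : p.Prime).odd_of_ne_two (by omega)
  obtain ⟨k, hk⟩ := hodd
  refine exists_large_spectrum N (G := (Fin (N + 1) → Multiplicative (orbitSumZero (PSL p) p))
    ⋊[copies (act (PSL p) p) (N + 1)] PSL p) ((Nat.lt_succ_self N).trans (lt_card_copies _ _))
    (Set.Subset.antisymm ?_ ?_)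
  · refine range_orderOf_copies_subset ⟨k, hk⟩ (N + 1) (fun _ _ => Or.inr (Or.inr rfl))
      fun g hg d hd => ?_
    rcases orderOf_cases h5 g with h | h | h
    · refine Or.inl (hd.trans ?_)
      have := Nat.mul_dvd_mul_right h 2
      rwa [show (p - 1) / 2 * 2 = p - 1 by omega] at this
    · refine Or.inr (Or.inl (hd.trans ?_))
      have := Nat.mul_dvd_mul_right h 2
      rwa [show (p + 1) / 2 * 2 = p + 1 by omega] at this
    · exact absurd h hg
  · rintro d (hd | hd | hd)
    · exact PGL2Orders.mem_range_of_dvd (m := p - 1) (by omega)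
        (by
          obtain ⟨y, hy⟩ := exists_witness_of_dvd h5 (m := k) (by omega)
            (Or.inr (dvd_of_eq (by omega))) N
          exact ⟨y, hy.trans (by omega)⟩) hd
    · exact PGL2Orders.mem_range_of_dvd (m := p + 1) (by omega)
        (by
          obtain ⟨y, hy⟩ := exists_witness_of_dvd h5 (m := k + 1) (by omega)
            (Or.inl (dvd_of_eq (by omega))) N
          exact ⟨y, hy.trans (by omega)⟩) hd
    · obtain ⟨g, hg⟩ := exists_orderOf_p (p := p)
      exact range_orderOf_subset ⟨g, hg.trans hd.symm⟩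

end psl

end Cfsg.Agent.Recognition.PSLModule
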