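import Mathlib
import Cfsg.Agent.GStructB.FrobeniusCount

/-!
Numbers of elements of equal order.
-/

set_option autoImplicit false

namespace Cfsg.Agent.Recognition.SameOrder

universe u

variable (G : Type u) [Group G]

/-- The number of elements of order `m`. -/
noncomputable def cnt (m : ℕ) : ℕ := Nat.card {g : G // orderOf g = m}

variable {G} [Finite G]

theorem cnt_ne_zero_iff {m : ℕ} : cnt G m ≠ 0 ↔ ∃ g : G, orderOf g = m := by
  rw [cnt, Nat.card_ne_zero]
  exact ⟨fun ⟨⟨g, hg⟩, _⟩ => ⟨g, hg⟩, fun ⟨g, hg⟩ => ⟨⟨⟨g, hg⟩⟩, inferInstance⟩⟩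

theorem cnt_one : cnt G 1 = 1 := by
  rw [cnt, Nat.card_eq_one_iff_unique]
  exact ⟨⟨fun a b => Subtype.ext ((orderOf_eq_one_iff.1 a.2).trans (orderOf_eq_one_iff.1 b.2).symm)⟩,
    ⟨⟨1, orderOf_one⟩⟩⟩

theorem cnt_pos_of_prime {p : ℕ} (hp : p.Prime) (h : p ∣ Nat.card G) : cnt G p ≠ 0 := by
  haveI := Fact.mk hp
  exact cnt_ne_zero_iff.2 (exists_prime_orderOf_dvd_card' p h)

theorem dvd_card {m : ℕ} (h : cnt G m ≠ 0) : m ∣ Nat.card G := by
  obtain ⟨g, rfl⟩ := cnt_ne_zero_iff.1 h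
  exact orderOf_dvd_natCard g

theorem cnt_ne_zero_of_dvd {m d : ℕ} (h : cnt G m ≠ 0) (hd : d ∣ m) : cnt G d ≠ 0 := by
  obtain ⟨g, rfl⟩ := cnt_ne_zero_iff.1 h
  exact cnt_ne_zero_iff.2 ⟨g ^ (orderOf g / d), orderOf_pow_orderOf_div (orderOf_pos g).ne' hd⟩

theorem totient_dvd (m : ℕ) : Nat.totient m ∣ cnt G m :=
  GStructB.FrobeniusCount.totient_dvd_card_orderOf m

/-- Frobenius' theorem in terms of the counts. -/
theorem dvd_sum {n : ℕ} (hn : n ∣ Nat.card G) : n ∣ ∑ d ∈ n.divisors, cnt G d := by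
  classical
  haveI := Fintype.ofFinite G
  have h0 : n ≠ 0 := fun h => (Nat.card_pos (α := G)).ne' (zero_dvd_iff.1 (h ▸ hn))
  have h := GStructB.FrobeniusCount.dvd_numPowOne (G := G) hn
  rw [GStructB.FrobeniusCount.numPowOne, Nat.card_eq_fintype_card, Fintype.card_subtype] at h
  rw [Finset.card_eq_sum_card_fiberwise (f := orderOf) (t := n.divisors)] at h
  · convert h using 1
    refine Finset.sum_congr rfl fun d hd => ?_
    rw [cnt, Nat.card_eq_fintype_card, Fintype.card_subtype]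
    congr 1
    ext g
    simp only [Finset.mem_filter, Finset.mem_univ, true_and]
    refine ⟨fun hg => ⟨?_, hg⟩, fun hg => hg.2⟩
    rw [← orderOf_dvd_iff_pow_eq_one, hg]
    exact Nat.dvd_of_mem_divisors hd
  · intro g hg
    simp only [Finset.coe_filter, Finset.mem_univ, true_and, Set.mem_setOf_eq] at hg
    exact Finset.mem_coe.2 (Nat.mem_divisors.2 ⟨orderOf_dvd_of_pow_eq_one hg, h0⟩)

/-- The order of the group as the sum of the counts. -/
theorem card_eq_sum (M : Finset ℕ) (hM : ∀ g : G, orderOf g ∈ M) :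
    Nat.card G = ∑ m ∈ M, cnt G m := by
  classical
  haveI := Fintype.ofFinite G
  rw [Nat.card_eq_fintype_card, ← Finset.card_univ,
    Finset.card_eq_sum_card_fiberwise (f := orderOf) (t := M) fun g _ => hM g]
  refine Finset.sum_congr rfl fun d _ => ?_
  rw [cnt, Nat.card_eq_fintype_card, Fintype.card_subtype]

/-- Commuting pairs of elements of coprime orders. -/
theorem mul_le_cnt {a b k : ℕ} (hab : a.Coprime b)
    (hk : ∀ x : G, orderOf x = a → k ≤ Nat.card {y : G // orderOf y = b ∧ Commute x y}) :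
    cnt G a * k ≤ cnt G (a * b) := by
  classical
  haveI := Fintype.ofFinite G
  have h1 : cnt G a * k ≤
      Nat.card (Σ x : {x : G // orderOf x = a}, {y : G // orderOf y = b ∧ Commute x.1 y}) := by
    rw [Nat.card_sigma, cnt, Nat.card_eq_fintype_card, ← Finset.card_univ, ← smul_eq_mul]
    exact Finset.card_nsmul_le_sum _ _ _ fun x _ => hk x.1 x.2
  refine h1.trans ?_
  refine Nat.card_le_card_of_injective
    (fun z => (⟨z.1.1 * z.2.1, by
      rw [z.2.2.2.orderOf_mul_eq_mul_orderOf_of_coprime (by rw [z.1.2, z.2.2.1]; exact hab),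
        z.1.2, z.2.2.1]⟩ : {g : G // orderOf g = a * b})) ?_
  rintro ⟨⟨x, hx⟩, ⟨y, hy, hxy⟩⟩ ⟨⟨x', hx'⟩, ⟨y', hy', hxy'⟩⟩ h
  have h' : x * y = x' * y' := congrArg Subtype.val h
  have hpow : ∀ (u v : G), orderOf u = a → orderOf v = b → Commute u v →
      ∀ e : ℕ, b ∣ e → e % a = 1 % a → (u * v) ^ e = u := by
    intro u v hu hv huv e he1 he2
    rw [huv.mul_pow, show v ^ e = 1 from orderOf_dvd_iff_pow_eq_one.1 (by rw [hv]; exact he1),
      mul_one]
    conv_rhs => rw [← pow_one u, ← pow_mod_orderOf, hu, ← he2, ← hu, pow_mod_orderOf]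
  obtain ⟨e, he1, he2⟩ := Nat.chineseRemainder hab.symm 0 1
  have hxx : x = x' := by
    rw [← hpow x y hx hy hxy e (Nat.modEq_zero_iff_dvd.1 he1) he2,
      ← hpow x' y' hx' hy' hxy' e (Nat.modEq_zero_iff_dvd.1 he1) he2, h']
  subst hxx
  obtain rfl := mul_left_cancel h'
  rfl

/-- Elements of order `p` when the Sylow subgroups have order `p`. -/
theorem cnt_prime {p : ℕ} (hp : p.Prime) (h1 : p ∣ Nat.card G) (h2 : ¬ p ^ 2 ∣ Nat.card G)
    [Fact p.Prime] : cnt G p = (p - 1) * Nat.card (Sylow p G) := by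
  classical
  haveI := Fintype.ofFinite G
  have hc : ∀ P : Sylow p G, Nat.card P = p := fun P => by
    obtain ⟨k, hk⟩ := IsPGroup.iff_card.1 P.isPGroup'
    have hd : p ∣ Nat.card P := P.dvd_card_of_dvd_card h1
    rw [hk] at hd ⊢
    rcases k with _ | _ | k
    · simp at hd; exact absurd hd hp.ne_one
    · exact pow_one p
    · exact absurd ((pow_dvd_pow p (by omega)).trans (hk ▸ P.toSubgroup.card_subgroup_dvd_card)) h2
  have hgen : ∀ (P : Sylow p G) (x : G), x ∈ (P : Subgroup G) → x ≠ 1 →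
      orderOf x = p ∧ Subgroup.zpowers x = P := by
    intro P x hx hx1
    have ho : orderOf x = p := by
      have hd : orderOf x ∣ p := by
        have := orderOf_dvd_natCard (⟨x, hx⟩ : P.toSubgroup)
        rwa [Subgroup.orderOf_mk, hc] at this
      exact (hp.eq_one_or_self_of_dvd _ hd).resolve_left fun h => hx1 (orderOf_eq_one_iff.1 h)
    exact ⟨ho, Subgroup.eq_of_le_of_card_ge (Subgroup.zpowers_le.2 hx)
      (by rw [Nat.card_zpowers, ho, hc])⟩
  let f : (Σ P : Sylow p G, {x : P.toSubgroup // x ≠ 1}) → {g : G // orderOf g = p} := fun z =>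
    ⟨z.2.1.1, (hgen z.1 _ z.2.1.2 fun h => z.2.2 (Subtype.ext h)).1⟩
  have hbij : Function.Bijective f := by
    constructor
    · rintro ⟨P, ⟨x, hx⟩, hx1⟩ ⟨Q, ⟨y, hy⟩, hy1⟩ h
      have hxy : x = y := congrArg Subtype.val h
      subst hxy
      have hne : x ≠ 1 := fun h0 => hx1 (Subtype.ext h0)
      obtain rfl : P = Q := Sylow.ext ((hgen P x hx hne).2.symm.trans (hgen Q x hy hne).2)
      rfl
    · rintro ⟨g, hg⟩
      have hpg : IsPGroup p (Subgroup.zpowers g) :=
        IsPGroup.of_card (n := 1) (by rw [Nat.card_zpowers, hg, pow_one])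
      obtain ⟨P, hP⟩ := hpg.exists_le_sylow
      have hg1 : g ≠ 1 := fun h => by rw [h, orderOf_one] at hg; exact hp.ne_one hg.symm
      exact ⟨⟨P, ⟨g, hP (Subgroup.mem_zpowers g)⟩, fun h => hg1 (congrArg Subtype.val h)⟩, rfl⟩
  rw [cnt, ← Nat.card_eq_of_bijective f hbij, Nat.card_sigma, Finset.sum_congr rfl fun P _ => ?_,
    Finset.sum_const, smul_eq_mul, Finset.card_univ, ← Nat.card_eq_fintype_card, mul_comm]
  rw [Nat.card_eq_fintype_card, Fintype.card_subtype_compl, Fintype.card_subtype_eq,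
    ← Nat.card_eq_fintype_card]
  exact congrArg (· - 1) (hc P)

/-- Cyclic Sylow subgroups of order `p ^ 2`: every element of order `p` has `p` roots. -/
theorem mul_cnt_le_sq {p : ℕ} (hp : p.Prime) [Fact p.Prime] (h3 : ¬ p ^ 3 ∣ Nat.card G)
    (hex : cnt G (p ^ 2) ≠ 0) : p * cnt G p ≤ cnt G (p ^ 2) := by
  classical
  haveI := Fintype.ofFinite G
  obtain ⟨z, hz⟩ := cnt_ne_zero_iff.1 hex
  have hzp : IsPGroup p (Subgroup.zpowers z) :=
    IsPGroup.of_card (n := 2) (by rw [Nat.card_zpowers, hz])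
  obtain ⟨P, hP⟩ := hzp.exists_le_sylow
  have hPc : Subgroup.zpowers z = P := by
    refine Subgroup.eq_of_le_of_card_ge hP ?_
    obtain ⟨k, hk⟩ := IsPGroup.iff_card.1 P.isPGroup'
    have hd : p ^ k ∣ Nat.card G := hk ▸ P.toSubgroup.card_subgroup_dvd_card
    rw [Nat.card_zpowers, hz, hk]
    refine Nat.pow_le_pow_right hp.pos ?_
    by_contra hk2
    exact h3 ((pow_dvd_pow p (by omega)).trans hd)
  have hroot : ∀ x : G, orderOf x = p → ∃ y : G, orderOf y = p ^ 2 ∧ y ^ p = x := by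
    intro x hx
    have hxp : IsPGroup p (Subgroup.zpowers x) :=
      IsPGroup.of_card (n := 1) (by rw [Nat.card_zpowers, hx, pow_one])
    obtain ⟨Q, hQ⟩ := hxp.exists_le_sylow
    obtain ⟨g, rfl⟩ := MulAction.exists_smul_eq G P Q
    have hxQ := hQ (Subgroup.mem_zpowers x)
    rw [Sylow.coe_subgroup_smul, Subgroup.mem_pointwise_smul_iff_inv_smul_mem, ← hPc,
      ← mem_powers_iff_mem_zpowers] at hxQ
    obtain ⟨j, hj⟩ := hxQ
    set u := g * z * g⁻¹ with hu
    have hou : orderOf u = p ^ 2 := by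
      rw [hu, ← hz]
      exact orderOf_injective (MulAut.conj g).toMonoidHom (MulAut.conj g).injective z
    have hxu : x = u ^ j := by
      rw [hu, conj_pow]
      have h : (MulAut.conj g)⁻¹ • x = z ^ j := hj.symm
      rw [← h]
      simp [MulAut.smul_def, mul_assoc]
    have hpj : p ∣ j := by
      by_contra hn
      have h := orderOf_pow' u (n := j) (fun h0 => hn (h0 ▸ dvd_zero p))
      rw [← hxu, hx, hou, ((hp.coprime_iff_not_dvd.2 hn).pow_left 2), Nat.div_one] at h
      have := hp.two_le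
      nlinarith
    obtain ⟨i, rfl⟩ := hpj
    refine ⟨u ^ i, ?_, by rw [← pow_mul, mul_comm, hxu]⟩
    have hni : ¬ p ∣ i := by
      rintro ⟨i', rfl⟩
      rw [hxu, show u ^ (p * (p * i')) = (u ^ (p ^ 2)) ^ i' by rw [← pow_mul]; ring_nf,
        ← hou, pow_orderOf_eq_one, one_pow, orderOf_one] at hx
      exact hp.ne_one hx.symm
    rw [Nat.Coprime.orderOf_pow (by rw [hou]; exact (hp.coprime_iff_not_dvd.2 hni).pow_left 2), hou]
  choose r hr hrp using hroot
  have hle : Nat.card ({x : G // orderOf x = p} × Fin p) ≤ cnt G (p ^ 2) := by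
    refine Nat.card_le_card_of_injective (fun w => (⟨r w.1.1 w.1.2 * w.1.1 ^ w.2.val, ?_⟩ :
      {g : G // orderOf g = p ^ 2})) ?_
    · conv => enter [1, 1, 2]; rw [← hrp w.1.1 w.1.2]
      rw [← pow_mul, ← pow_succ', Nat.Coprime.orderOf_pow, hr]
      rw [hr]
      exact Nat.Coprime.pow_left 2 (hp.coprime_iff_not_dvd.2 fun hd =>
        hp.not_dvd_one ((Nat.dvd_add_right (dvd_mul_right p _)).1 hd))
    · rintro ⟨⟨x, hx⟩, i⟩ ⟨⟨x', hx'⟩, j⟩ h
      have h' : r x hx * x ^ i.val = r x' hx' * x' ^ j.val := congrArg Subtype.val h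
      have hpowp : ∀ (x : G) (hx : orderOf x = p) (k : ℕ), (r x hx * x ^ k) ^ p = x := by
        intro x hx k
        have hc : Commute (r x hx) (x ^ k) := by
          nth_rw 2 [← hrp x hx]
          exact ((Commute.refl _).pow_right _).pow_right _
        rw [hc.mul_pow, hrp, ← pow_mul, mul_comm k, pow_mul, ← hx, pow_orderOf_eq_one, one_pow,
          mul_one]
      have hxx : x = x' := by rw [← hpowp x hx i.val, ← hpowp x' hx' j.val, h']
      subst hxx
      have hij : x ^ i.val = x ^ j.val := mul_left_cancel h'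
      have := pow_injOn_Iio_orderOf (x := x) (Set.mem_Iio.2 (hx.symm ▸ i.2))
        (Set.mem_Iio.2 (hx.symm ▸ j.2)) hij
      obtain rfl : i = j := Fin.ext this
      rfl
  rwa [Nat.card_prod, Nat.card_fin, mul_comm] at hle

/-- Elements generating the Sylow subgroups, when these are cyclic of order `p ^ a`. -/
theorem cnt_sylow {p a : ℕ} [Fact p.Prime] (ha : 0 < a) (h : p ^ a ∣ Nat.card G)
    (h' : ¬ p ^ (a + 1) ∣ Nat.card G) (hne : cnt G (p ^ a) ≠ 0) :
    cnt G (p ^ a) = Nat.totient (p ^ a) * Nat.card (Sylow p G) := by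
  classical
  haveI := Fintype.ofFinite G
  have hc : ∀ P : Sylow p G, Nat.card P = p ^ a := fun P => by
    obtain ⟨k, hk⟩ := IsPGroup.iff_card.1 P.isPGroup'
    have h1 : p ^ a ∣ Nat.card P := P.pow_dvd_card_of_pow_dvd_card h
    rw [hk] at h1 ⊢
    congr 1
    refine le_antisymm ?_ ((Nat.pow_dvd_pow_iff_le_right (Fact.out : p.Prime).one_lt).1 h1)
    by_contra hk2
    exact h' ((pow_dvd_pow p (by omega)).trans (hk ▸ P.toSubgroup.card_subgroup_dvd_card))
  have hcyc : ∀ P : Sylow p G, IsCyclic P.toSubgroup := by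
    obtain ⟨z, hz⟩ := cnt_ne_zero_iff.1 hne
    obtain ⟨Q, hQ⟩ := (IsPGroup.of_card (p := p) (n := a)
      (by rw [Nat.card_zpowers, hz])).exists_le_sylow (P := Subgroup.zpowers z)
    have hQz : Subgroup.zpowers z = Q :=
      Subgroup.eq_of_le_of_card_ge hQ (by rw [Nat.card_zpowers, hz, hc])
    intro P
    exact isCyclic_of_surjective ((MulEquiv.subgroupCongr hQz).trans (Q.equiv P)).toMonoidHom
      ((MulEquiv.subgroupCongr hQz).trans (Q.equiv P)).surjective
  have hgen : ∀ (P : Sylow p G) (x : G), x ∈ (P : Subgroup G) → orderOf x = p ^ a →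
      Subgroup.zpowers x = P := fun P x hx ho =>
    Subgroup.eq_of_le_of_card_ge (Subgroup.zpowers_le.2 hx) (by rw [Nat.card_zpowers, ho, hc])
  let f : (Σ P : Sylow p G, {x : P.toSubgroup // orderOf x = p ^ a}) →
      {g : G // orderOf g = p ^ a} := fun z =>
    ⟨z.2.1.1, by rw [Subgroup.orderOf_coe]; exact z.2.2⟩
  have hbij : Function.Bijective f := by
    constructor
    · rintro ⟨P, ⟨x, hx⟩, hxo⟩ ⟨Q, ⟨y, hy⟩, hyo⟩ h
      have hxy : x = y := congrArg Subtype.val h
      subst hxy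
      have ho : orderOf x = p ^ a := by rwa [Subgroup.orderOf_mk] at hxo
      obtain rfl : P = Q := Sylow.ext ((hgen P x hx ho).symm.trans (hgen Q x hy ho))
      rfl
    · rintro ⟨g, hg⟩
      obtain ⟨P, hP⟩ := (IsPGroup.of_card (p := p) (n := a)
        (by rw [Nat.card_zpowers, hg])).exists_le_sylow (P := Subgroup.zpowers g)
      exact ⟨⟨P, ⟨g, hP (Subgroup.mem_zpowers g)⟩, by rw [Subgroup.orderOf_mk]; exact hg⟩, rfl⟩
  rw [cnt, ← Nat.card_eq_of_bijective f hbij, Nat.card_sigma, Finset.sum_congr rfl fun P _ => ?_,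
    Finset.sum_const, smul_eq_mul, Finset.card_univ, ← Nat.card_eq_fintype_card, mul_comm]
  haveI := hcyc P
  rw [Nat.card_eq_fintype_card, Fintype.card_subtype]
  exact IsCyclic.card_orderOf_eq_totient (by rw [← Nat.card_eq_fintype_card, hc])

/-- Splitting the sum of the counts by their values. -/
theorem sum_split (M : Finset ℕ) (f : ℕ → ℕ) {a b c : ℕ} (hab : a ≠ b) (hac : a ≠ c) (hbc : b ≠ c)
    (ha : a ≠ 0) (hb : b ≠ 0) (hc : c ≠ 0) (h : ∀ m ∈ M, f m = 0 ∨ f m = a ∨ f m = b ∨ f m = c) :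
    ∑ m ∈ M, f m = a * (M.filter (f · = a)).card + b * (M.filter (f · = b)).card +
      c * (M.filter (f · = c)).card ∧
    (M.filter (f · = a)).card + (M.filter (f · = b)).card + (M.filter (f · = c)).card ≤ M.card := by
  induction M using Finset.induction_on with
  | empty => simp
  | insert m s hm ih =>
    obtain ⟨h1, h2⟩ := ih fun x hx => h x (Finset.mem_insert_of_mem hx)
    rw [Finset.sum_insert hm, Finset.filter_insert, Finset.filter_insert, Finset.filter_insert,
      Finset.card_insert_of_notMem hm, h1]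
    have hn : ∀ v, m ∉ s.filter (f · = v) := fun v hx => hm (Finset.mem_filter.1 hx).1
    rcases h m (Finset.mem_insert_self m s) with e | e | e | e <;>
      simp only [e, hab, hac, hbc, hab.symm, hac.symm, hbc.symm, ha.symm, hb.symm, hc.symm,
        ↓reduceIte, if_false, Finset.card_insert_of_notMem (hn _)] <;>
      exact ⟨by ring, by omega⟩

end Cfsg.Agent.Recognition.SameOrder
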