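import Mathlib
import Cfsg.Agent.Recognition.SameOrder
import Cfsg.Agent.Recognition.AltSpectrum

/-!
The sets of numbers of elements of equal order in the alternating groups of degree 4, 5, 6.
-/

set_option autoImplicit false

namespace Cfsg.Agent.Recognition.SameOrder

open Recognition.AltSpectrum

theorem cnt_filter (n m : ℕ) (P : alternatingGroup (Fin n) → Prop) [DecidablePred P]
    (h : ∀ g, orderOf g = m ↔ P g) :
    cnt (alternatingGroup (Fin n)) m = (Finset.univ.filter P).card := by
  rw [cnt, Nat.card_eq_fintype_card, Fintype.card_subtype]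
  exact congrArg Finset.card (Finset.filter_congr fun g _ => h g)

theorem orderOf_prime_iff {G : Type*} [Group G] {p : ℕ} (hp : p.Prime) (g : G) :
    orderOf g = p ↔ g ^ p = 1 ∧ g ≠ 1 := by
  haveI := Fact.mk hp
  refine ⟨fun h => ⟨h ▸ pow_orderOf_eq_one g, fun h1 => ?_⟩, fun h => orderOf_eq_prime h.1 h.2⟩
  rw [h1, orderOf_one] at h
  exact hp.ne_one h.symm

theorem orderOf_four_iff {G : Type*} [Group G] (g : G) :
    orderOf g = 4 ↔ g ^ 4 = 1 ∧ g ^ 2 ≠ 1 := by
  constructor
  · intro h
    refine ⟨h ▸ pow_orderOf_eq_one g, fun h2 => ?_⟩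
    have := Nat.le_of_dvd (by norm_num) (orderOf_dvd_of_pow_eq_one h2)
    omega
  · rintro ⟨h4, h2⟩
    haveI : Fact (Nat.Prime 2) := ⟨Nat.prime_two⟩
    exact orderOf_eq_prime_pow (p := 2) (n := 1) (by simpa using h2) (by simpa using h4)

theorem range_orderOf_alt4 :
    Set.range (orderOf : alternatingGroup (Fin 4) → ℕ) = ↑({1, 2, 3} : Finset ℕ) := by
  rw [range_orderOf_alt, Finset.coe_inj]
  decide +kernel

theorem alt4_two : (Finset.univ.filter fun g : alternatingGroup (Fin 4) => g ^ 2 = 1 ∧ g ≠ 1).card = 3 := by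
  decide +kernel

theorem alt4_three : (Finset.univ.filter fun g : alternatingGroup (Fin 4) => g ^ 3 = 1 ∧ g ≠ 1).card = 8 := by
  decide +kernel

theorem alt5_two : (Finset.univ.filter fun g : alternatingGroup (Fin 5) => g ^ 2 = 1 ∧ g ≠ 1).card = 15 := by
  decide +kernel

theorem alt5_three : (Finset.univ.filter fun g : alternatingGroup (Fin 5) => g ^ 3 = 1 ∧ g ≠ 1).card = 20 := by
  decide +kernel

theorem alt5_five : (Finset.univ.filter fun g : alternatingGroup (Fin 5) => g ^ 5 = 1 ∧ g ≠ 1).card = 24 := by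
  decide +kernel

theorem alt6_two : (Finset.univ.filter fun g : alternatingGroup (Fin 6) => g ^ 2 = 1 ∧ g ≠ 1).card = 45 := by
  decide +kernel

theorem alt6_three : (Finset.univ.filter fun g : alternatingGroup (Fin 6) => g ^ 3 = 1 ∧ g ≠ 1).card = 80 := by
  decide +kernel

theorem alt6_four : (Finset.univ.filter fun g : alternatingGroup (Fin 6) => g ^ 4 = 1 ∧ g ^ 2 ≠ 1).card = 90 := by
  decide +kernel

theorem alt6_five : (Finset.univ.filter fun g : alternatingGroup (Fin 6) => g ^ 5 = 1 ∧ g ≠ 1).card = 144 := by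
  decide +kernel

theorem alt4_set : (fun m : ℕ => cnt (alternatingGroup (Fin 4)) m) ''
    Set.range (orderOf : alternatingGroup (Fin 4) → ℕ) = ↑({1, 3, 8} : Finset ℕ) := by
  have h2 := (cnt_filter 4 2 _ fun g => orderOf_prime_iff Nat.prime_two g).trans alt4_two
  have h3 := (cnt_filter 4 3 _ fun g => orderOf_prime_iff Nat.prime_three g).trans alt4_three
  rw [range_orderOf_alt4]
  simp [Set.image_insert_eq, cnt_one, h2, h3]

theorem alt5_set : (fun m : ℕ => cnt (alternatingGroup (Fin 5)) m) ''
    Set.range (orderOf : alternatingGroup (Fin 5) → ℕ) = ↑({1, 15, 20, 24} : Finset ℕ) := by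
  have h2 := (cnt_filter 5 2 _ fun g => orderOf_prime_iff Nat.prime_two g).trans alt5_two
  have h3 := (cnt_filter 5 3 _ fun g => orderOf_prime_iff Nat.prime_three g).trans alt5_three
  have h5 := (cnt_filter 5 5 _ fun g => orderOf_prime_iff (by norm_num) g).trans alt5_five
  rw [range_orderOf_alt5]
  simp [Set.image_insert_eq, cnt_one, h2, h3, h5]

theorem alt6_set : (fun m : ℕ => cnt (alternatingGroup (Fin 6)) m) ''
    Set.range (orderOf : alternatingGroup (Fin 6) → ℕ) = ↑({1, 45, 80, 90, 144} : Finset ℕ) := by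
  have h2 := (cnt_filter 6 2 _ fun g => orderOf_prime_iff Nat.prime_two g).trans alt6_two
  have h3 := (cnt_filter 6 3 _ fun g => orderOf_prime_iff Nat.prime_three g).trans alt6_three
  have h4 := (cnt_filter 6 4 _ fun g => orderOf_four_iff g).trans alt6_four
  have h5 := (cnt_filter 6 5 _ fun g => orderOf_prime_iff (by norm_num) g).trans alt6_five
  rw [range_orderOf_alt6]
  simp [Set.image_insert_eq, cnt_one, h2, h3, h4, h5]

end Cfsg.Agent.Recognition.SameOrder
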