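import Mathlib
import Cfsg.Agent.Recognition.SameOrder

/-!
The Sylow 5-normalizer when all counts are less than twice the number of elements of order five.
-/

set_option autoImplicit false

namespace Cfsg.Agent.Recognition.SameOrder

universe u

variable {G : Type u} [Group G] [Finite G]

/-- Each element of order five has as many commuting elements of a given order as any other. -/
theorem five_pairs (h5 : 5 ∣ Nat.card G) (h25 : ¬ 5 ^ 2 ∣ Nat.card G) {r : ℕ} (hr : Nat.Coprime 5 r)
    {x₀ : G} (hx₀ : orderOf x₀ = 5) :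
    cnt G 5 * Nat.card {y : G // orderOf y = r ∧ Commute x₀ y} ≤ cnt G (5 * r) := by
  haveI : Fact (Nat.Prime 5) := ⟨by norm_num⟩
  refine mul_le_cnt hr fun x hx => ?_
  have hsyl : ∀ x : G, orderOf x = 5 → ∃ P : Sylow 5 G, (P : Subgroup G) = Subgroup.zpowers x := by
    intro x hx
    obtain ⟨P, hP⟩ := (IsPGroup.of_card (p := 5) (n := 1)
      (by rw [Nat.card_zpowers, hx, pow_one])).exists_le_sylow (P := Subgroup.zpowers x)
    refine ⟨P, (Subgroup.eq_of_le_of_card_ge hP ?_).symm⟩
    obtain ⟨k, hk⟩ := IsPGroup.iff_card.1 P.isPGroup'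
    have hd : 5 ^ k ∣ Nat.card G := hk ▸ P.toSubgroup.card_subgroup_dvd_card
    rw [Nat.card_zpowers, hx, hk]
    refine le_trans (Nat.pow_le_pow_right (by norm_num) (?_ : k ≤ 1)) (by norm_num)
    by_contra hk2
    exact h25 ((pow_dvd_pow 5 (by omega)).trans hd)
  obtain ⟨P, hP⟩ := hsyl x hx
  obtain ⟨Q, hQ⟩ := hsyl x₀ hx₀
  obtain ⟨g, hg⟩ := MulAction.exists_smul_eq G Q P
  have hxmem : x ∈ (P : Subgroup G) := hP ▸ Subgroup.mem_zpowers x
  rw [← hg, Sylow.coe_subgroup_smul, Subgroup.mem_pointwise_smul_iff_inv_smul_mem, hQ,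
    Subgroup.mem_zpowers_iff] at hxmem
  obtain ⟨j, hj⟩ := hxmem
  have hxe : x = g * x₀ ^ j * g⁻¹ := by
    rw [hj]
    simp [MulAut.smul_def, mul_assoc]
  refine Nat.card_le_card_of_injective (fun y => (⟨g * y.1 * g⁻¹, ?_, ?_⟩ :
    {y : G // orderOf y = r ∧ Commute x y})) ?_
  · exact (orderOf_injective (MulAut.conj g).toMonoidHom (MulAut.conj g).injective y.1).trans y.2.1
  · rw [hxe]
    exact ((y.2.2.zpow_left j).map (MulAut.conj g).toMonoidHom)
  · intro a b h
    have h' := congrArg Subtype.val h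
    exact Subtype.ext (mul_left_cancel (mul_right_cancel h'))

/-- The structure around the Sylow 5-subgroups. -/
theorem five_structure (h5 : 5 ∣ Nat.card G) (h25 : ¬ 5 ^ 2 ∣ Nat.card G)
    (hsmall : ∀ m, cnt G m < 2 * cnt G 5) :
    (∃ k, Nat.card G = 5 * Nat.card (Sylow 5 G) * k ∧ k ∣ 8) ∧ cnt G 15 = 0 ∧ cnt G 20 = 0 ∧
      (cnt G 10 ≠ 0 → cnt G 5 ≤ cnt G 10) := by
  classical
  haveI : Fact (Nat.Prime 5) := ⟨by norm_num⟩
  -- at most one element of a given order commutes with an element of order five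
  have hone : ∀ (x y y' : G) (r : ℕ), orderOf x = 5 → Nat.Coprime 5 r → orderOf y = r →
      orderOf y' = r → Commute x y → Commute x y' → y = y' := by
    intro x y y' r hx hr hy hy' hc hc'
    by_contra hne
    have h1 := five_pairs h5 h25 hr hx
    have h2 : 2 ≤ Nat.card {y : G // orderOf y = r ∧ Commute x y} := by
      haveI : Nontrivial {y : G // orderOf y = r ∧ Commute x y} :=
        ⟨⟨y, hy, hc⟩, ⟨y', hy', hc'⟩, fun h => hne (congrArg Subtype.val h)⟩
      exact Finite.one_lt_card
    have h3 := hsmall (5 * r)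
    have := Nat.mul_le_mul_left (cnt G 5) h2
    omega
  have hle2 : ∀ (x y : G), orderOf x = 5 → Nat.Coprime 5 (orderOf y) → Commute x y →
      orderOf y ∣ 2 := by
    intro x y hx hr hc
    have h := hone x y y⁻¹ _ hx hr rfl (orderOf_inv y) hc hc.inv_right
    rw [orderOf_dvd_iff_pow_eq_one, pow_two]
    exact eq_inv_iff_mul_eq_one.1 h
  have hsplit : ∀ a : ℕ, Nat.Coprime 5 a → ¬ a ∣ 2 → cnt G (5 * a) = 0 := by
    intro a ha ha2
    by_contra h
    obtain ⟨g, hg⟩ := cnt_ne_zero_iff.1 h
    have hg0 : orderOf g ≠ 0 := (orderOf_pos g).ne'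
    have hx : orderOf (g ^ (orderOf g / 5)) = 5 :=
      orderOf_pow_orderOf_div hg0 (hg ▸ dvd_mul_right 5 a)
    have hy : orderOf (g ^ (orderOf g / a)) = a :=
      orderOf_pow_orderOf_div hg0 (hg ▸ dvd_mul_left a 5)
    have := hle2 _ _ hx (by rw [hy]; exact ha) (((Commute.refl g).pow_pow _ _))
    rw [hy] at this
    exact ha2 this
  refine ⟨?_, hsplit 3 (by norm_num) (by norm_num), hsplit 4 (by norm_num) (by norm_num), ?_⟩
  · obtain ⟨P⟩ : Nonempty (Sylow 5 G) := inferInstance
    have hPc : Nat.card P = 5 := by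
      obtain ⟨k, hk⟩ := IsPGroup.iff_card.1 P.isPGroup'
      have hd : 5 ∣ Nat.card P := P.dvd_card_of_dvd_card h5
      rw [hk] at hd ⊢
      rcases k with _ | _ | k
      · norm_num at hd
      · exact pow_one 5
      · exact absurd ((pow_dvd_pow 5 (by omega)).trans (hk ▸ P.toSubgroup.card_subgroup_dvd_card)) h25
    haveI : IsCyclic P.toSubgroup := isCyclic_of_prime_card hPc
    obtain ⟨x, hx⟩ := exists_prime_orderOf_dvd_card' (G := P.toSubgroup) 5 (by rw [hPc])
    have hx' : orderOf x.1 = 5 := by rw [Subgroup.orderOf_coe]; exact hx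
    set N : Subgroup G := Subgroup.normalizer ((P : Subgroup G) : Set G)
    set φ := (P : Subgroup G).normalizerMonoidHom
    have hker : φ.ker = (Subgroup.centralizer ((P : Subgroup G) : Set G)).subgroupOf N :=
      Subgroup.normalizerMonoidHom_ker _
    have hPle : (P : Subgroup G).subgroupOf N ≤ φ.ker := by
      rw [hker]
      intro a ha
      rw [Subgroup.mem_subgroupOf, Subgroup.mem_centralizer_iff]
      intro b hb
      letI := IsCyclic.commGroup (α := P.toSubgroup)
      exact congrArg Subtype.val (mul_comm (⟨b, hb⟩ : P.toSubgroup) ⟨a.1, ha⟩)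
    have h5K : 5 ∣ Nat.card φ.ker := by
      have h := Subgroup.card_dvd_of_le hPle
      rwa [Nat.card_congr (Subgroup.subgroupOfEquivOfLe Subgroup.le_normalizer).toEquiv, hPc] at h
    obtain ⟨c, hc⟩ := h5K
    have hcd : 5 * c ∣ Nat.card G :=
      hc ▸ (φ.ker.card_subgroup_dvd_card.trans N.card_subgroup_dvd_card)
    have hc5 : Nat.Coprime 5 c := (Nat.Prime.coprime_iff_not_dvd (by norm_num)).2 fun hd =>
      h25 (by rw [pow_two]; exact (mul_dvd_mul_left 5 hd).trans hcd)
    have hcomm : ∀ y : φ.ker, Commute x.1 (y.1.1 : G) := by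
      intro y
      have hy := y.2
      simp only [hker, Subgroup.mem_subgroupOf, Subgroup.mem_centralizer_iff] at hy
      exact hy x.1 x.2
    have hord : ∀ y : φ.ker, orderOf y = orderOf (y.1.1 : G) := fun y => by
      rw [Subgroup.orderOf_coe, Subgroup.orderOf_coe]
    have hc2 : c ∣ 2 := by
      have hc0 : c ≠ 0 := fun h => by
        rw [h, mul_zero] at hc
        exact Nat.card_pos.ne' hc
      have hpr : ∀ r : ℕ, r.Prime → r ∣ c → r = 2 := by
        intro r hr hrc
        haveI := Fact.mk hr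
        obtain ⟨y, hy⟩ := exists_prime_orderOf_dvd_card' (G := φ.ker) r (hc ▸ hrc.mul_left 5)
        have := hle2 x.1 y.1.1 hx' (by rw [← hord, hy]; exact hc5.coprime_dvd_right hrc) (hcomm y)
        rw [← hord, hy] at this
        exact (Nat.prime_dvd_prime_iff_eq hr Nat.prime_two).1 this
      have hpow := Nat.eq_prime_pow_of_unique_prime_dvd hc0 fun {d} => hpr d
      set e := c.primeFactorsList.length
      rcases Nat.lt_or_ge e 2 with he | he
      · rw [hpow]; exact (pow_dvd_pow 2 (by omega : e ≤ 1)).trans (by norm_num)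
      · exfalso
        haveI : Fact (Nat.Prime 2) := ⟨Nat.prime_two⟩
        obtain ⟨S, hS⟩ := Sylow.exists_subgroup_card_pow_prime (G := φ.ker) 2 (n := 2)
          (hc ▸ ((hpow ▸ pow_dvd_pow 2 he).mul_left 5))
        haveI := Fintype.ofFinite S
        obtain ⟨a, b, d, hab, had, hbd⟩ := Fintype.two_lt_card_iff.1
          (show 2 < Fintype.card S by rw [← Nat.card_eq_fintype_card, hS]; norm_num)
        have hinv : ∀ s : S, s ≠ 1 → orderOf (s.1.1.1 : G) = 2 := by
          intro s hs
          have h1 : orderOf s ∣ 4 := by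
            have := orderOf_dvd_natCard s
            rwa [hS] at this
          have h2 : orderOf (s.1.1.1 : G) = orderOf s := by rw [← hord, Subgroup.orderOf_coe]
          have h3 := hle2 x.1 s.1.1.1 hx'
            (by rw [h2]; exact Nat.Coprime.coprime_dvd_right h1 (by norm_num)) (hcomm s.1)
          rw [h2] at h3 ⊢
          exact ((Nat.dvd_prime Nat.prime_two).1 h3).resolve_left
            fun h => hs (orderOf_eq_one_iff.1 h)
        have huniq : ∀ s t : S, s ≠ 1 → t ≠ 1 → s = t := fun s t hs ht =>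
          Subtype.ext (Subtype.ext (Subtype.ext (hone x.1 _ _ 2 hx' (by norm_num) (hinv s hs)
            (hinv t ht) (hcomm s.1) (hcomm t.1))))
        by_cases ha : a = 1
        · exact hbd (huniq b d (fun h => hab (ha.trans h.symm)) (fun h => had (ha.trans h.symm)))
        · by_cases hb : b = 1
          · exact had (huniq a d ha fun h => hbd (hb.trans h.symm))
          · exact hab (huniq a b ha hb)
    have hrange : Nat.card φ.range ∣ 4 := by
      have h := φ.range.card_subgroup_dvd_card
      rwa [IsCyclic.card_mulAut, hPc, Nat.totient_prime (by norm_num)] at h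
    have hN : Nat.card N = 5 * c * Nat.card φ.range := by
      rw [← hc, ← φ.ker.card_mul_index, Subgroup.index_ker]
    refine ⟨c * Nat.card φ.range, ?_, (mul_dvd_mul hc2 hrange)⟩
    have hn := P.card_eq_index_normalizer
    rw [← N.card_mul_index, hN, show Nat.card (Sylow 5 G) = N.index from hn]
    ring
  · intro h
    obtain ⟨g, hg⟩ := cnt_ne_zero_iff.1 h
    have hg0 : orderOf g ≠ 0 := (orderOf_pos g).ne'
    have hx : orderOf (g ^ (orderOf g / 5)) = 5 :=
      orderOf_pow_orderOf_div hg0 (hg ▸ by norm_num)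
    have hy : orderOf (g ^ (orderOf g / 2)) = 2 :=
      orderOf_pow_orderOf_div hg0 (hg ▸ by norm_num)
    have h1 := five_pairs h5 h25 (r := 2) (by norm_num) hx
    have h2 : 1 ≤ Nat.card {y : G // orderOf y = 2 ∧ Commute (g ^ (orderOf g / 5)) y} := by
      haveI : Nonempty {y : G // orderOf y = 2 ∧ Commute (g ^ (orderOf g / 5)) y} :=
        ⟨⟨_, hy, (Commute.refl g).pow_pow _ _⟩⟩
      exact Nat.card_pos
    calc cnt G 5 = cnt G 5 * 1 := (mul_one _).symm
      _ ≤ _ := (Nat.mul_le_mul_left _ h2).trans h1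

end Cfsg.Agent.Recognition.SameOrder
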