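import Mathlib
import Cfsg.Agent.Recognition.SameOrder
import Cfsg.Agent.Recognition.SameOrderFive
import Cfsg.Agent.Recognition.OrderSixty
import Cfsg.Agent.Lib.Hall.MinimalNormal
import Cfsg.Agent.S0494
import Cfsg.Agent.S0497

/-!
Groups with the numbers of elements of equal order of the alternating groups of degree 4, 5, 6.
-/

set_option autoImplicit false
set_option maxRecDepth 2000

namespace Cfsg.Agent.Recognition.SameOrder

universe u

variable {G : Type u} [Group G] [Finite G]

section Values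

variable {V : Finset ℕ}
  (hV : (fun m : ℕ => cnt G m) '' Set.range (orderOf : G → ℕ) = ↑V)

include hV

theorem value_mem {m : ℕ} (h : cnt G m ≠ 0) : cnt G m ∈ V := by
  have : cnt G m ∈ (↑V : Set ℕ) := hV ▸ Set.mem_image_of_mem _ (cnt_ne_zero_iff.1 h)
  exact this

theorem value_or (m : ℕ) : cnt G m = 0 ∨ (cnt G m ∈ V ∧ m.totient ∣ cnt G m) := by
  by_cases h : cnt G m = 0
  · exact Or.inl h
  · exact Or.inr ⟨value_mem hV h, totient_dvd m⟩

theorem exists_value {v : ℕ} (hv : v ∈ V) : ∃ m, cnt G m ≠ 0 ∧ cnt G m = v := by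
  obtain ⟨m, hm, hmv⟩ : v ∈ (fun m : ℕ => cnt G m) '' Set.range (orderOf : G → ℕ) := hV.symm ▸ hv
  exact ⟨m, cnt_ne_zero_iff.2 hm, hmv⟩

theorem eq_zero_of_forall {m : ℕ} (h : ∀ v ∈ V, ¬ m.totient ∣ v) : cnt G m = 0 :=
  (value_or hV m).resolve_right fun h' => h _ h'.1 h'.2

theorem two_count {v : ℕ} (hv : v ∈ V) (hodd : Odd v) (h1 : v ≠ 1) : cnt G 2 = v := by
  obtain ⟨m, hm, hmv⟩ := exists_value hV hv
  have h2 : m ≤ 2 := by
    by_contra hlt
    have := (Nat.totient_even (show 2 < m by omega)).two_dvd.trans (totient_dvd (G := G) m)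
    rw [hmv] at this
    exact Nat.not_even_iff_odd.2 hodd (even_iff_two_dvd.2 this)
  obtain ⟨g, hg⟩ := cnt_ne_zero_iff.1 hm
  have := orderOf_pos g
  interval_cases m
  · omega
  · exact absurd (hmv.symm.trans cnt_one) h1
  · exact hmv

theorem prime_value {p : ℕ} (hp : p.Prime) (hd : p ∣ Nat.card G) :
    cnt G p ∈ V ∧ p - 1 ∣ cnt G p ∧ p ∣ 1 + cnt G p := by
  refine ⟨value_mem hV (cnt_pos_of_prime hp hd), Nat.totient_prime hp ▸ totient_dvd p, ?_⟩
  have h := dvd_sum hd
  rwa [hp.divisors, Finset.sum_insert (by simp [hp.ne_one.symm]), Finset.sum_singleton, cnt_one] at h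

end Values

theorem orderOf_dvd_of_excluded (L : ℕ)
    (h : ∀ p : ℕ, p.Prime → p ∣ Nat.card G → ∃ e, p ^ e ∣ L ∧ cnt G (p ^ (e + 1)) = 0) (g : G) :
    orderOf g ∣ L := by
  rw [Nat.dvd_iff_prime_pow_dvd_dvd]
  intro p k hp hk
  rcases Nat.eq_zero_or_pos k with rfl | hk0
  · simp
  obtain ⟨e, he, he0⟩ := h p hp ((dvd_pow_self p hk0.ne').trans (hk.trans (orderOf_dvd_natCard g)))
  rcases Nat.lt_or_ge e k with hlt | hle
  · exact absurd he0 (cnt_ne_zero_of_dvd (cnt_ne_zero_iff.2 ⟨g, rfl⟩)
      ((pow_dvd_pow p hlt).trans hk))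
  · exact (pow_dvd_pow p hle).trans he

theorem card_dvd_of_primes (N : ℕ) (hN : Nat.card G ≤ N) (S : Finset ℕ)
    (hS : ∀ p : ℕ, p.Prime → p ∣ Nat.card G → p ∈ S) : Nat.card G ∣ ∏ p ∈ S, p ^ N := by
  rw [Nat.dvd_iff_prime_pow_dvd_dvd]
  intro p k hp hk
  rcases Nat.eq_zero_or_pos k with rfl | hk0
  · simp
  refine (pow_dvd_pow p ?_).trans (Finset.dvd_prod_of_mem _
    (hS p hp ((dvd_pow_self p hk0.ne').trans hk)))
  have := Nat.le_of_dvd Nat.card_pos hk
  have := Nat.lt_pow_self (n := k) hp.one_lt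
  omega

/-- The sum over a set of orders, by values. -/
theorem card_eq_values (base : ℕ) (B M : Finset ℕ) (hB : Disjoint B M)
    (hM : ∀ g : G, orderOf g ∈ B ∪ M) (hbase : ∑ m ∈ B, cnt G m = base)
    {a b c : ℕ} (hab : a ≠ b) (hac : a ≠ c) (hbc : b ≠ c) (ha : a ≠ 0) (hb : b ≠ 0) (hc : c ≠ 0)
    (h : ∀ m ∈ M, cnt G m = 0 ∨ cnt G m = a ∨ cnt G m = b ∨ cnt G m = c) :
    Nat.card G = base + a * (M.filter (cnt G · = a)).card + b * (M.filter (cnt G · = b)).card +
      c * (M.filter (cnt G · = c)).card ∧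
    (M.filter (cnt G · = a)).card + (M.filter (cnt G · = b)).card +
      (M.filter (cnt G · = c)).card ≤ M.card := by
  obtain ⟨h1, h2⟩ := sum_split M (cnt G) hab hac hbc ha hb hc h
  refine ⟨?_, h2⟩
  rw [card_eq_sum _ hM, Finset.sum_union hB, hbase, h1]
  ring

/-- Degree four. -/
theorem alt4_case (hV : (fun m : ℕ => cnt G m) '' Set.range (orderOf : G → ℕ) = ↑({1, 3, 8} : Finset ℕ)) :
    Nonempty (G ≃* alternatingGroup (Fin 4)) := by
  classical
  have h2 : cnt G 2 = 3 := two_count hV (by simp) (by decide) (by norm_num)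
  have hp : ∀ p : ℕ, p.Prime → p ∣ Nat.card G → p ∈ ({2, 3} : Finset ℕ) := by
    intro p hp hd
    obtain ⟨h1, h3, h4⟩ := prime_value hV hp hd
    have key : ∀ v ∈ ({1, 3, 8} : Finset ℕ), ∀ p ∈ List.range 200, p.Prime → p - 1 ∣ v → p ∣ 1 + v →
        p ∈ ({2, 3} : Finset ℕ) := by decide +kernel
    have hlt : p < 200 := by
      simp only [Finset.mem_insert, Finset.mem_singleton] at h1
      have := Nat.le_of_dvd (by omega) h4
      omega
    exact key _ h1 p (List.mem_range.2 hlt) hp h3 h4
  have hord : ∀ g : G, orderOf g ∈ ({1, 2} : Finset ℕ) ∪ {3, 4, 6, 8, 12, 16, 24} := by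
    intro g
    have hd := orderOf_dvd_of_excluded (G := G) 48 (fun p hpp hpd => by
      have := hp p hpp hpd
      simp only [Finset.mem_insert, Finset.mem_singleton] at this
      rcases this with rfl | rfl
      · exact ⟨4, by norm_num, eq_zero_of_forall hV (by decide +kernel)⟩
      · exact ⟨1, by norm_num, eq_zero_of_forall hV (by decide +kernel)⟩) g
    have key : ∀ m ∈ Nat.divisors 48, (∃ v ∈ ({1, 3, 8} : Finset ℕ), m.totient ∣ v) →
        m ∈ ({1, 2} : Finset ℕ) ∪ {3, 4, 6, 8, 12, 16, 24} := by decide +kernel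
    have hne : cnt G (orderOf g) ≠ 0 := cnt_ne_zero_iff.2 ⟨g, rfl⟩
    exact key _ (Nat.mem_divisors.2 ⟨hd, by norm_num⟩) ⟨_, value_mem hV hne, totient_dvd _⟩
  have hval : ∀ m ∈ ({3, 4, 6, 8, 12, 16, 24} : Finset ℕ), cnt G m = 0 ∨ cnt G m = 8 := by
    intro m hm
    rcases value_or hV m with h | ⟨h, ht⟩
    · exact Or.inl h
    · simp only [Finset.mem_insert, Finset.mem_singleton] at h hm
      rcases h with e | e | e
      · rcases hm with rfl | rfl | rfl | rfl | rfl | rfl | rfl <;> rw [e] at ht <;>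
          exact absurd ht (by decide +kernel)
      · rcases hm with rfl | rfl | rfl | rfl | rfl | rfl | rfl <;> rw [e] at ht <;>
          exact absurd ht (by decide +kernel)
      · exact Or.inr e
  set M : Finset ℕ := {3, 4, 6, 8, 12, 16, 24}
  set k := (M.filter (cnt G · = 8)).card with hk
  have hsum : Nat.card G = 4 + 8 * k := by
    rw [card_eq_sum _ hord, Finset.sum_union (by decide), Finset.sum_pair (by norm_num), cnt_one, h2,
      ← Finset.sum_filter_add_sum_filter_not M (cnt G · = 8),
      Finset.sum_eq_zero (s := M.filter fun m => ¬ cnt G m = 8) fun m hm => by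
        obtain ⟨hm1, hm2⟩ := Finset.mem_filter.1 hm
        exact (hval m hm1).resolve_right hm2,
      Finset.sum_congr rfl (fun m hm => (Finset.mem_filter.1 hm).2), Finset.sum_const, smul_eq_mul]
    ring
  have hk1 : 1 ≤ k := by
    obtain ⟨m, hm, hm8⟩ := exists_value hV (show 8 ∈ ({1, 3, 8} : Finset ℕ) by simp)
    obtain ⟨g, rfl⟩ := cnt_ne_zero_iff.1 hm
    refine Finset.card_pos.2 ⟨_, Finset.mem_filter.2 ⟨?_, hm8⟩⟩
    rcases Finset.mem_union.1 (hord g) with h | h
    · simp only [Finset.mem_insert, Finset.mem_singleton] at h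
      rcases h with e | e <;> rw [e] at hm8
      · rw [cnt_one] at hm8; omega
      · omega
    · exact h
  have hk7 : k ≤ 7 := (Finset.card_filter_le _ _).trans (by decide)
  have hdvd := card_dvd_of_primes (G := G) 60 (by omega) {2, 3} hp
  have hk' : k = 1 ∨ k = 4 := by
    rw [hsum] at hdvd
    interval_cases k <;> first | omega | (exfalso; revert hdvd; decide +kernel)
  rcases hk' with hk' | hk'
  swap
  · -- order 36
    exfalso
    have h36 : Nat.card G = 36 := by omega
    have hsub : M.filter (cnt G · = 8) ⊆ {3, 4, 6, 12} := by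
      intro m hm
      obtain ⟨hm1, hm2⟩ := Finset.mem_filter.1 hm
      have hd := dvd_card (G := G) (m := m) (by omega)
      rw [h36] at hd
      have key : ∀ m ∈ M, m ∣ 36 → m ∈ ({3, 4, 6, 12} : Finset ℕ) := by decide +kernel
      exact key m hm1 hd
    have h4 : cnt G (2 ^ 2) = 8 := by
      have := Finset.eq_of_subset_of_card_le hsub (by rw [← hk, hk']; rfl)
      have hm : (4 : ℕ) ∈ M.filter (cnt G · = 8) := this ▸ by decide
      exact (Finset.mem_filter.1 hm).2
    haveI : Fact (Nat.Prime 2) := ⟨Nat.prime_two⟩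
    have hs := cnt_sylow (G := G) (p := 2) (a := 2) (by norm_num) (by rw [h36]; norm_num)
      (by rw [h36]; norm_num) (by omega)
    obtain ⟨P⟩ : Nonempty (Sylow 2 G) := inferInstance
    have hPc : Nat.card P = 4 := by
      obtain ⟨j, hj⟩ := IsPGroup.iff_card.1 P.isPGroup'
      have h1 := P.pow_dvd_card_of_pow_dvd_card (n := 2) (by rw [h36]; norm_num)
      have h2 : 2 ^ j ∣ 36 := h36 ▸ hj ▸ P.toSubgroup.card_subgroup_dvd_card
      rw [hj] at h1 ⊢
      have h3 : j ≤ 2 := by
        by_contra hj3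
        exact absurd ((pow_dvd_pow 2 (show 3 ≤ j by omega)).trans h2) (by norm_num)
      interval_cases j <;> first | rfl | (norm_num at h1)
    have hn := P.card_dvd_index
    have hi := (P : Subgroup G).card_mul_index
    rw [h36, hPc] at hi
    rw [h4, show Nat.totient (2 ^ 2) = 2 by decide +kernel] at hs
    rw [show Nat.card (Sylow 2 G) = 4 by omega, show (P : Subgroup G).index = 9 by omega] at hn
    norm_num at hn
  -- order 12
  have h12 : Nat.card G = 12 := by omega
  haveI : Fact (Nat.Prime 3) := ⟨Nat.prime_three⟩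
  have h3 : cnt G 3 = 8 := (hval 3 (by decide)).resolve_left
    (cnt_pos_of_prime Nat.prime_three (h12 ▸ by norm_num))
  have hn3 := cnt_prime (G := G) Nat.prime_three (h12 ▸ by norm_num) (h12 ▸ by norm_num)
  have hS : Nat.card (Sylow 3 G) = 4 := by omega
  let φ : G →* Equiv.Perm (Sylow 3 G) := MulAction.toPermHom G (Sylow 3 G)
  have hinj : Function.Injective φ := by
    rw [← MonoidHom.ker_eq_bot_iff]
    by_contra hK
    obtain ⟨P⟩ : Nonempty (Sylow 3 G) := inferInstance
    have hKN : φ.ker ≤ Subgroup.normalizer ((P : Subgroup G) : Set G) := fun g hg =>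
      Sylow.smul_eq_iff_mem_normalizer.1 (by
        have := DFunLike.congr_fun (MonoidHom.mem_ker.1 hg) P
        exact this)
    have hidx := P.card_eq_index_normalizer
    set N : Subgroup G := Subgroup.normalizer ((P : Subgroup G) : Set G)
    have hNc : Nat.card N = 3 := by
      have := N.card_mul_index
      rw [h12, ← show Nat.card (Sylow 3 G) = N.index from hidx, hS] at this
      omega
    have hKc : Nat.card φ.ker = 3 := ((Nat.dvd_prime Nat.prime_three).1
      ((Subgroup.card_dvd_of_le hKN).trans hNc.dvd)).resolve_left fun h => hK (Subgroup.card_eq_one.1 h)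
    have hPN : (P : Subgroup G) = N := by
      refine Subgroup.eq_of_le_of_card_ge Subgroup.le_normalizer ?_
      rw [hNc]
      exact Nat.le_of_dvd Nat.card_pos (P.dvd_card_of_dvd_card (h12 ▸ by norm_num))
    have hKP : φ.ker = P :=
      hPN ▸ Subgroup.eq_of_le_of_card_ge hKN (by rw [hKc, hNc])
    haveI : (P : Subgroup G).Normal := hKP ▸ φ.normal_ker
    haveI := P.unique_of_normal inferInstance
    have := Nat.card_unique (α := Sylow 3 G)
    omega
  let σ : Sylow 3 G ≃ Fin 4 := Nat.equivFinOfCardPos (by omega) |>.trans (finCongr hS)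
  let ψ : G →* Equiv.Perm (Fin 4) := (σ.permCongrHom : _ →* _).comp φ
  have hψ : Function.Injective ψ := σ.permCongrHom.injective.comp hinj
  have hr : ψ.range = alternatingGroup (Fin 4) := by
    refine Equiv.Perm.eq_alternatingGroup_of_index_eq_two ?_
    have h := ψ.range.card_mul_index
    rw [Nat.card_congr (MonoidHom.ofInjective hψ).toEquiv.symm, h12, Nat.card_perm, Nat.card_fin] at h
    norm_num [Nat.factorial] at h
    omega
  exact ⟨(MonoidHom.ofInjective hψ).trans (MulEquiv.subgroupCongr hr)⟩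

/-- Degree five. -/
theorem alt5_case (hV : (fun m : ℕ => cnt G m) '' Set.range (orderOf : G → ℕ) = ↑({1, 15, 20, 24} : Finset ℕ)) :
    Nonempty (G ≃* alternatingGroup (Fin 5)) := by
  classical
  haveI : Fact (Nat.Prime 2) := ⟨Nat.prime_two⟩
  haveI : Fact (Nat.Prime 3) := ⟨Nat.prime_three⟩
  haveI : Fact (Nat.Prime 5) := ⟨by norm_num⟩
  have h2 : cnt G 2 = 15 := two_count hV (by simp) (by decide) (by norm_num)
  have hle : ∀ m, cnt G m ≤ 24 := fun m => by
    rcases value_or hV m with h | ⟨h, -⟩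
    · omega
    · simp only [Finset.mem_insert, Finset.mem_singleton] at h; omega
  have hpv : ∀ p : ℕ, p.Prime → p ∣ Nat.card G →
      p = 2 ∨ (p = 3 ∧ cnt G 3 = 20) ∨ (p = 5 ∧ cnt G 5 = 24) := by
    intro p hp hd
    obtain ⟨h1, h3, h4⟩ := prime_value hV hp hd
    have key : ∀ v ∈ ({1, 15, 20, 24} : Finset ℕ), ∀ p ∈ List.range 200, p.Prime → p - 1 ∣ v → p ∣ 1 + v →
        p = 2 ∨ (p = 3 ∧ v = 20) ∨ (p = 5 ∧ v = 24) := by decide +kernel
    have hlt : p < 200 := by
      have := hle p
      have := Nat.le_of_dvd (by omega) h4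
      omega
    rcases key _ h1 p (List.mem_range.2 hlt) hp h3 h4 with h | ⟨h, e⟩ | ⟨h, e⟩
    · exact Or.inl h
    · subst h; exact Or.inr (Or.inl ⟨rfl, e⟩)
    · subst h; exact Or.inr (Or.inr ⟨rfl, e⟩)
  have h35 : 3 ∣ Nat.card G → 5 ∣ Nat.card G := by
    intro h3G
    have h3 : cnt G 3 = 20 := by
      rcases hpv 3 Nat.prime_three h3G with h | h | h <;> omega
    have h9 : ¬ 3 ^ 2 ∣ Nat.card G := by
      intro h9
      have hf := dvd_sum h9
      have hs : ∑ d ∈ (3 ^ 2 : ℕ).divisors, cnt G d = cnt G 1 + cnt G 3 + cnt G 9 := by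
        rw [show (3 ^ 2 : ℕ).divisors = {1, 3, 9} by decide +kernel]
        simp [add_assoc]
      rw [hs, cnt_one, h3] at hf
      have hne : cnt G (3 ^ 2) ≠ 0 := fun h => by
        norm_num at h; rw [h] at hf; norm_num at hf
      have h27 : ¬ 3 ^ 3 ∣ Nat.card G := fun h27 => by
        have hf := dvd_sum h27
        have hs : ∑ d ∈ (3 ^ 3 : ℕ).divisors, cnt G d = cnt G 1 + cnt G 3 + cnt G 9 + cnt G 27 := by
          rw [show (3 ^ 3 : ℕ).divisors = {1, 3, 9, 27} by decide +kernel]
          simp [add_assoc]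
        rw [hs, cnt_one, h3, eq_zero_of_forall hV (m := 27) (by decide +kernel)] at hf
        have := hle 9
        norm_num at hf
        rcases value_or hV 9 with e | ⟨e, -⟩
        · omega
        · simp only [Finset.mem_insert, Finset.mem_singleton] at e
          omega
      have := mul_cnt_le_sq Nat.prime_three h27 hne
      have := hle (3 ^ 2)
      omega
    have h := cnt_prime (G := G) Nat.prime_three h3G h9
    obtain ⟨P⟩ : Nonempty (Sylow 3 G) := inferInstance
    have hn := P.card_dvd_index.trans (P : Subgroup G).index_dvd_card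
    rw [show Nat.card (Sylow 3 G) = 10 by omega] at hn
    exact (show (5 : ℕ) ∣ 10 by norm_num).trans hn
  have h5G : 5 ∣ Nat.card G := by
    by_contra h5
    have hp2 : ∀ p : ℕ, p.Prime → p ∣ Nat.card G → p = 2 := fun p hp hd => by
      rcases hpv p hp hd with h | ⟨rfl, -⟩ | ⟨rfl, -⟩
      · exact h
      · exact absurd (h35 hd) h5
      · exact absurd hd h5
    have hord : ∀ g : G, orderOf g ∈ ({1, 2} : Finset ℕ) ∪ {4, 8, 16} := by
      intro g
      have hd := orderOf_dvd_of_excluded (G := G) 16 (fun p hpp hpd => by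
        obtain rfl := hp2 p hpp hpd
        exact ⟨4, by norm_num, eq_zero_of_forall hV (by decide +kernel)⟩) g
      have key : ∀ m ∈ Nat.divisors 16, m ∈ ({1, 2} : Finset ℕ) ∪ {4, 8, 16} := by decide +kernel
      exact key _ (Nat.mem_divisors.2 ⟨hd, by norm_num⟩)
    have hval : ∀ m ∈ ({4, 8, 16} : Finset ℕ),
        cnt G m = 0 ∨ cnt G m = 15 ∨ cnt G m = 20 ∨ cnt G m = 24 := fun m hm => by
      rcases value_or hV m with h | ⟨h, ht⟩
      · exact Or.inl h
      · simp only [Finset.mem_insert, Finset.mem_singleton] at h hm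
        rcases h with e | e | e | e
        · rcases hm with rfl | rfl | rfl <;> rw [e] at ht <;> exact absurd ht (by decide +kernel)
        all_goals omega
    obtain ⟨hsum, hcard⟩ := card_eq_values (G := G) 16 {1, 2} {4, 8, 16} (by decide) hord
      (by rw [Finset.sum_pair (by norm_num), cnt_one, h2]) (a := 15) (b := 20) (c := 24)
      (by norm_num) (by norm_num) (by norm_num) (by norm_num) (by norm_num) (by norm_num) hval
    have hmemM : ∀ v, v = 20 ∨ v = 24 → 1 ≤ (({4, 8, 16} : Finset ℕ).filter (cnt G · = v)).card := by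
      intro v hv
      obtain ⟨m, hm, hmv⟩ := exists_value hV (v := v) (by rcases hv with rfl | rfl <;> simp)
      obtain ⟨g, rfl⟩ := cnt_ne_zero_iff.1 hm
      refine Finset.card_pos.2 ⟨_, Finset.mem_filter.2 ⟨?_, hmv⟩⟩
      rcases Finset.mem_union.1 (hord g) with h | h
      · simp only [Finset.mem_insert, Finset.mem_singleton] at h
        rcases h with e | e <;> rw [e] at hmv
        · rw [cnt_one] at hmv; omega
        · omega
      · exact h
    have h20 := hmemM 20 (Or.inl rfl)
    have h24 := hmemM 24 (Or.inr rfl)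
    have hc3 : ({4, 8, 16} : Finset ℕ).card = 3 := by decide
    have hdvd := card_dvd_of_primes (G := G) 90 (by omega) {2} (fun p hp hd => by simp [hp2 p hp hd])
    rw [Finset.prod_singleton] at hdvd
    generalize (({4, 8, 16} : Finset ℕ).filter (cnt G · = 15)).card = a at hsum hcard
    generalize (({4, 8, 16} : Finset ℕ).filter (cnt G · = 20)).card = b at hsum hcard h20
    generalize (({4, 8, 16} : Finset ℕ).filter (cnt G · = 24)).card = c at hsum hcard h24
    rw [hsum] at hdvd
    have : a ≤ 1 := by omega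
    have : b ≤ 2 := by omega
    have : c ≤ 2 := by omega
    interval_cases a <;> interval_cases b <;> interval_cases c <;>
      first | omega | (revert hdvd; decide +kernel)
  have h5 : cnt G 5 = 24 := by
    rcases hpv 5 (by norm_num) h5G with h | h | h <;> omega
  have h25 : ¬ 5 ^ 2 ∣ Nat.card G := by
    intro h25
    obtain ⟨W, hW⟩ := Sylow.exists_subgroup_card_pow_prime (G := G) 5 h25
    have hfix : ∀ t : G, orderOf t = 2 →
        4 ≤ Nat.card {y : G // orderOf y = 5 ∧ Commute t y} := by
      intro t ht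
      obtain ⟨y, hy, hy1, hc⟩ : ∃ y, y ∈ W ∧ y ≠ 1 ∧ Commute t y := by
        by_contra hno
        push Not at hno
        have hf : Function.Injective (fun w : W => (⟨w.1 * t * w.1⁻¹, by
            exact (orderOf_injective (MulAut.conj w.1).toMonoidHom (MulAut.conj w.1).injective t).trans ht⟩ :
            {g : G // orderOf g = 2})) := by
          intro a b hab
          have h := congrArg Subtype.val hab
          simp only at h
          by_contra hne
          refine hno (b.1⁻¹ * a.1) (W.mul_mem (W.inv_mem b.2) a.2)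
            (fun h1 => hne (Subtype.ext (inv_mul_eq_one.1 h1).symm)) ?_
          show t * (b.1⁻¹ * a.1) = b.1⁻¹ * a.1 * t
          calc t * (b.1⁻¹ * a.1) = b.1⁻¹ * (b.1 * t * b.1⁻¹) * a.1 := by group
            _ = b.1⁻¹ * (a.1 * t * a.1⁻¹) * a.1 := by rw [h]
            _ = b.1⁻¹ * a.1 * t := by group
        have := Nat.card_le_card_of_injective _ hf
        rw [hW, show Nat.card {g : G // orderOf g = 2} = cnt G 2 from rfl, h2] at this
        omega
      obtain ⟨z, hzd, hzc⟩ : ∃ z : G, orderOf z = 5 ∧ Commute t z := by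
        refine ⟨y ^ (orderOf y / 5), orderOf_pow_orderOf_div (orderOf_pos y).ne' ?_, hc.pow_right _⟩
        have h1 := orderOf_dvd_natCard (⟨y, hy⟩ : W)
        rw [Subgroup.orderOf_mk, hW] at h1
        obtain ⟨i, hi, hiy⟩ := (Nat.dvd_prime_pow (by norm_num : Nat.Prime 5)).1 h1
        rw [hiy]
        refine dvd_pow_self 5 fun h0 => hy1 ?_
        rw [h0, pow_zero] at hiy
        exact orderOf_eq_one_iff.1 hiy
      refine le_trans (le_of_eq (Nat.card_fin 4).symm) (Nat.card_le_card_of_injective
        (fun i : Fin 4 => (⟨z ^ (i.val + 1), ?_, hzc.pow_right _⟩ :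
          {y : G // orderOf y = 5 ∧ Commute t y})) ?_)
      · rw [Nat.Coprime.orderOf_pow, hzd]
        rw [hzd]
        exact (Nat.Prime.coprime_iff_not_dvd (by norm_num)).2 fun h => by
          have := Nat.le_of_dvd (by omega) h
          omega
      · intro i j h
        have h' := pow_injOn_Iio_orderOf (x := z) (Set.mem_Iio.2 (by rw [hzd]; omega))
          (Set.mem_Iio.2 (by rw [hzd]; omega)) (congrArg Subtype.val h)
        exact Fin.ext (by omega)
    have := mul_le_cnt (G := G) (a := 2) (b := 5) (by norm_num) hfix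
    have := hle (2 * 5)
    omega
  have hn5 : Nat.card (Sylow 5 G) = 6 := by
    have := cnt_prime (G := G) (by norm_num : Nat.Prime 5) h5G h25
    omega
  obtain ⟨⟨k, hk, hk8⟩, h15, h20, h10⟩ := five_structure h5G h25 fun m => by
    have := hle m; omega
  rw [hn5] at hk
  have hdG : ∀ g : G, orderOf g ∣ 240 := fun g => by
    have h := orderOf_dvd_natCard g
    rw [hk] at h
    exact h.trans (Nat.mul_dvd_mul_left 30 hk8)
  have h3 : cnt G 3 = 20 := by
    rcases hpv 3 Nat.prime_three ⟨10 * k, by rw [hk]; ring⟩ with h | h | h <;> omega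
  have hord : ∀ g : G, orderOf g ∈ ({1, 2, 3, 5} : Finset ℕ) ∪ {4, 6, 8, 10, 12, 16, 24} := by
    intro g
    have hne : cnt G (orderOf g) ≠ 0 := cnt_ne_zero_iff.2 ⟨g, rfl⟩
    have key : ∀ m ∈ Nat.divisors 240, (∃ v ∈ ({1, 15, 20, 24} : Finset ℕ), m.totient ∣ v) →
        ¬ 15 ∣ m → ¬ 20 ∣ m →
        m ∈ ({1, 2, 3, 5} : Finset ℕ) ∪ {4, 6, 8, 10, 12, 16, 24} := by decide +kernel
    exact key _ (Nat.mem_divisors.2 ⟨hdG g, by norm_num⟩) ⟨_, value_mem hV hne, totient_dvd _⟩
      (fun h => cnt_ne_zero_of_dvd hne h h15) (fun h => cnt_ne_zero_of_dvd hne h h20)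
  set M : Finset ℕ := {4, 6, 8, 10, 12, 16, 24}
  have hvalM : ∀ m ∈ M, cnt G m = 0 ∨ cnt G m = 15 ∨ cnt G m = 20 ∨ cnt G m = 24 := fun m hm => by
    rcases value_or hV m with h | ⟨h, ht⟩
    · exact Or.inl h
    · simp only [Finset.mem_insert, Finset.mem_singleton] at h
      rcases h with e | e | e | e
      · exfalso
        rw [e] at ht
        have key : ∀ m ∈ M, ¬ m.totient ∣ 1 := by decide +kernel
        exact key m hm ht
      all_goals omega
  obtain ⟨hsum, hcard⟩ := card_eq_values (G := G) 60 {1, 2, 3, 5} M (by decide) hord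
    (by simp [cnt_one, h2, h3, h5]) (a := 15) (b := 20) (c := 24)
    (by norm_num) (by norm_num) (by norm_num) (by norm_num) (by norm_num) (by norm_num) hvalM
  have ha0 : (M.filter (cnt G · = 15)).card = 0 := by
    rw [Finset.card_eq_zero, Finset.filter_eq_empty_iff]
    intro m hm e
    have ht := totient_dvd (G := G) m
    rw [e] at ht
    have key : ∀ m ∈ M, ¬ m.totient ∣ 15 := by decide +kernel
    exact key m hm ht
  have hc7 : M.card = 7 := by decide
  have hkle : k ≤ 8 := Nat.le_of_dvd (by norm_num) hk8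
  have hk2 : k = 2 ∨ (k = 4 ∧ (M.filter (cnt G · = 20)).card = 3 ∧
      (M.filter (cnt G · = 24)).card = 0) := by
    rw [ha0, hk] at hsum
    rw [ha0] at hcard
    interval_cases k <;> norm_num at hk8 <;> omega
  rcases hk2 with hk2 | ⟨hk4, hb3, hc0⟩
  swap
  · exfalso
    have h120 : Nat.card G = 120 := by omega
    have hno24 : ∀ m ∈ M, cnt G m ≠ 24 := fun m hm e =>
      Finset.card_ne_zero_of_mem (Finset.mem_filter.2 ⟨hm, e⟩) hc0
    have h10' : cnt G 10 = 0 := by
      by_contra h
      have := h10 h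
      have := hle 10
      exact hno24 10 (by decide) (by omega)
    have h6 : cnt G 6 = 0 := by
      have hf := dvd_sum (G := G) (n := 6) (h120 ▸ by norm_num)
      rw [show (6 : ℕ).divisors = {1, 2, 3, 6} by decide +kernel] at hf
      simp [cnt_one, h2, h3] at hf
      have := hvalM 6 (by decide)
      have := hno24 6 (by decide)
      omega
    have hsub : M.filter (cnt G · = 20) ⊆ {4, 8} := by
      intro m hm
      obtain ⟨hm1, hm2⟩ := Finset.mem_filter.1 hm
      have hne : cnt G m ≠ 0 := by omega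
      have hd := dvd_card hne
      rw [h120] at hd
      have key : ∀ m ∈ M, m ∣ 120 → ¬ 6 ∣ m → ¬ 10 ∣ m → m ∈ ({4, 8} : Finset ℕ) := by decide +kernel
      exact key m hm1 hd (fun h => cnt_ne_zero_of_dvd hne h h6) (fun h => cnt_ne_zero_of_dvd hne h h10')
    have := Finset.card_le_card hsub
    rw [hb3] at this
    simp at this
  have h60 : Nat.card G = 60 := by omega
  rcases OrderSixty.simple_or_exists_abelian h60 with hs | ⟨A, hAn, hAc, hA5⟩
  · exact S0494.result h60
  · exfalso
    have hAall : ∀ g : G, orderOf g = 5 → g ∈ A := fun g hg => by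
      haveI := hAn
      refine (QuotientGroup.eq_one_iff g).1 (orderOf_eq_one_iff.1 (Nat.eq_one_of_dvd_coprimes
        ((Nat.Prime.coprime_iff_not_dvd (by norm_num : Nat.Prime 5)).2 hA5)
        (hg ▸ orderOf_map_dvd (QuotientGroup.mk' A) g) ?_))
      exact orderOf_dvd_natCard _
    let B : Subgroup G :=
      { carrier := {x | x ∈ A ∧ x ^ 5 = 1}
        one_mem' := ⟨A.one_mem, one_pow 5⟩
        mul_mem' := fun {a b} ha hb => ⟨A.mul_mem ha.1 hb.1, by
          rw [Commute.mul_pow (hAc a ha.1 b hb.1), ha.2, hb.2, one_mul]⟩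
        inv_mem' := fun {a} ha => ⟨A.inv_mem ha.1, by rw [inv_pow, ha.2, inv_one]⟩ }
    have hB : IsPGroup 5 B := fun x => ⟨1, Subtype.ext (by simpa using x.2.2)⟩
    obtain ⟨j, hj⟩ := IsPGroup.iff_card.1 hB
    have hge : cnt G 5 ≤ Nat.card B :=
      Nat.card_le_card_of_injective (fun g => (⟨g.1, hAall g.1 g.2, by
        have h := pow_orderOf_eq_one g.1
        rwa [g.2] at h⟩ : B)) fun a b h =>
          Subtype.ext (congrArg (fun z : B => z.1) h)
    have hd : 5 ^ j ∣ 60 := h60 ▸ hj ▸ B.card_subgroup_dvd_card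
    rcases Nat.lt_or_ge j 2 with hj2 | hj2
    · rw [hj, h5] at hge
      interval_cases j <;> norm_num at hge
    · exact absurd ((pow_dvd_pow 5 hj2).trans hd) (by norm_num)

/-- Degree six. -/
theorem alt6_case (hV : (fun m : ℕ => cnt G m) '' Set.range (orderOf : G → ℕ) = ↑({1, 45, 80, 90, 144} : Finset ℕ)) :
    Nonempty (G ≃* alternatingGroup (Fin 6)) := by
  classical
  haveI : Fact (Nat.Prime 2) := ⟨Nat.prime_two⟩
  haveI : Fact (Nat.Prime 3) := ⟨Nat.prime_three⟩
  haveI : Fact (Nat.Prime 5) := ⟨by norm_num⟩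
  haveI : Fact (Nat.Prime 7) := ⟨by norm_num⟩
  have h2 : cnt G 2 = 45 := two_count hV (by simp) (by decide) (by norm_num)
  have hle : ∀ m, cnt G m ≤ 144 := fun m => by
    rcases value_or hV m with h | ⟨h, -⟩
    · omega
    · simp only [Finset.mem_insert, Finset.mem_singleton] at h; omega
  have hv : ∀ m, cnt G m = 0 ∨ cnt G m = 1 ∨ cnt G m = 45 ∨ cnt G m = 80 ∨ cnt G m = 90 ∨
      cnt G m = 144 := fun m => by
    rcases value_or hV m with h | ⟨h, -⟩
    · exact Or.inl h
    · simp only [Finset.mem_insert, Finset.mem_singleton] at h; exact Or.inr h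
  have hpv : ∀ p : ℕ, p.Prime → p ∣ Nat.card G →
      p = 2 ∨ (p = 3 ∧ cnt G 3 = 80) ∨ (p = 5 ∧ cnt G 5 = 144) ∨ (p = 7 ∧ cnt G 7 = 90) := by
    intro p hp hd
    obtain ⟨h1, h3, h4⟩ := prime_value hV hp hd
    have key : ∀ v ∈ ({1, 45, 80, 90, 144} : Finset ℕ), ∀ p ∈ List.range 200, p.Prime → p - 1 ∣ v → p ∣ 1 + v →
        p = 2 ∨ (p = 3 ∧ v = 80) ∨ (p = 5 ∧ v = 144) ∨ (p = 7 ∧ v = 90) := by decide +kernel
    have hlt : p < 200 := by
      have := hle p
      have := Nat.le_of_dvd (by omega) h4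
      omega
    rcases key _ h1 p (List.mem_range.2 hlt) hp h3 h4 with h | ⟨h, e⟩ | ⟨h, e⟩ | ⟨h, e⟩
    · exact Or.inl h
    · subst h; exact Or.inr (Or.inl ⟨rfl, e⟩)
    · subst h; exact Or.inr (Or.inr (Or.inl ⟨rfl, e⟩))
    · subst h; exact Or.inr (Or.inr (Or.inr ⟨rfl, e⟩))
  have h75 : 7 ∣ Nat.card G → 5 ∣ Nat.card G := by
    intro h7G
    have h7 : cnt G 7 = 90 := by
      rcases hpv 7 (by norm_num) h7G with h | h | h | h <;> omega
    have h49 : ¬ 7 ^ 2 ∣ Nat.card G := by
      intro h49
      have hf := dvd_sum h49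
      rw [show (7 ^ 2 : ℕ).divisors = {1, 7, 49} by decide +kernel] at hf
      simp [cnt_one, h7, eq_zero_of_forall hV (m := 49) (by decide +kernel)] at hf
    have h := cnt_prime (G := G) (by norm_num : Nat.Prime 7) h7G h49
    obtain ⟨P⟩ : Nonempty (Sylow 7 G) := inferInstance
    have hn := P.card_dvd_index.trans (P : Subgroup G).index_dvd_card
    rw [show Nat.card (Sylow 7 G) = 15 by omega] at hn
    exact (show (5 : ℕ) ∣ 15 by norm_num).trans hn
  have h9 : 3 ∣ Nat.card G → cnt G 3 = 80 ∧ cnt G 9 = 0 := by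
    intro h3G
    have h3 : cnt G 3 = 80 := by
      rcases hpv 3 Nat.prime_three h3G with h | h | h | h <;> omega
    refine ⟨h3, by_contra fun hne => ?_⟩
    have h27 : ¬ 3 ^ 3 ∣ Nat.card G := fun h27 => by
      have hf := dvd_sum h27
      rw [show (3 ^ 3 : ℕ).divisors = {1, 3, 9, 27} by decide +kernel] at hf
      simp [cnt_one, h3] at hf
      have := hv 27
      have := hv 9
      have h271 : cnt G 27 ≠ 1 ∧ cnt G 27 ≠ 45 ∧ cnt G 27 ≠ 80 ∧ cnt G 9 ≠ 1 ∧ cnt G 9 ≠ 45 ∧
          cnt G 9 ≠ 80 := by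
        have ht := totient_dvd (G := G) 27
        have ht' := totient_dvd (G := G) 9
        rw [show Nat.totient 27 = 18 by decide +kernel] at ht
        rw [show Nat.totient 9 = 6 by decide +kernel] at ht'
        omega
      omega
    have := mul_cnt_le_sq Nat.prime_three h27 (by simpa using hne)
    have := hle (3 ^ 2)
    omega
  have h5G : 5 ∣ Nat.card G := by
    by_contra h5
    have hp23 : ∀ p : ℕ, p.Prime → p ∣ Nat.card G → p = 2 ∨ p = 3 := fun p hp hd => by
      rcases hpv p hp hd with h | ⟨h, -⟩ | ⟨rfl, -⟩ | ⟨rfl, -⟩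
      · exact Or.inl h
      · exact Or.inr h
      · exact absurd hd h5
      · exact absurd (h75 hd) h5
    have hord : ∀ g : G, orderOf g ∈ ({1, 2, 3} : Finset ℕ) ∪ {4, 6, 8, 12, 16, 24, 32, 48} := by
      intro g
      have hd := orderOf_dvd_of_excluded (G := G) 96 (fun p hpp hpd => by
        rcases hp23 p hpp hpd with rfl | rfl
        · exact ⟨5, by norm_num, eq_zero_of_forall hV (by decide +kernel)⟩
        · exact ⟨1, by norm_num, (h9 hpd).2⟩) g
      have key : ∀ m ∈ Nat.divisors 96, (∃ v ∈ ({1, 45, 80, 90, 144} : Finset ℕ), m.totient ∣ v) →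
          m ∈ ({1, 2, 3} : Finset ℕ) ∪ {4, 6, 8, 12, 16, 24, 32, 48} := by decide +kernel
      exact key _ (Nat.mem_divisors.2 ⟨hd, by norm_num⟩)
        ⟨_, value_mem hV (cnt_ne_zero_iff.2 ⟨g, rfl⟩), totient_dvd _⟩
    set M : Finset ℕ := {4, 6, 8, 12, 16, 24, 32, 48}
    have hvalM : ∀ m ∈ M, cnt G m = 0 ∨ cnt G m = 80 ∨ cnt G m = 90 ∨ cnt G m = 144 := by
      intro m hm
      have ht := totient_dvd (G := G) m
      have key : ∀ m ∈ M, ¬ m.totient ∣ 1 ∧ ¬ m.totient ∣ 45 := by decide +kernel
      rcases hv m with e | e | e | e | e | e <;> rw [e] at ht <;>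
        first | exact absurd ht (key m hm).1 | exact absurd ht (key m hm).2 | omega
    obtain ⟨hsum, hcard⟩ := card_eq_values (G := G) (46 + cnt G 3) {1, 2, 3} M (by decide) hord
      (by simp [cnt_one, h2]; ring) (a := 80) (b := 90) (c := 144)
      (by norm_num) (by norm_num) (by norm_num) (by norm_num) (by norm_num) (by norm_num) hvalM
    have hmemM : ∀ v, v = 90 ∨ v = 144 → 1 ≤ (M.filter (cnt G · = v)).card := by
      intro v hv'
      obtain ⟨m, hm, hmv⟩ := exists_value hV (v := v) (by rcases hv' with rfl | rfl <;> simp)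
      obtain ⟨g, rfl⟩ := cnt_ne_zero_iff.1 hm
      refine Finset.card_pos.2 ⟨_, Finset.mem_filter.2 ⟨?_, hmv⟩⟩
      rcases Finset.mem_union.1 (hord g) with h | h
      · simp only [Finset.mem_insert, Finset.mem_singleton] at h
        rcases h with e | e | e <;> rw [e] at hmv hm
        · rw [cnt_one] at hmv; omega
        · omega
        · have := (h9 (dvd_card hm)).1; omega
      · exact h
    have h90 := hmemM 90 (Or.inl rfl)
    have h144 := hmemM 144 (Or.inr rfl)
    have hc8 : M.card = 8 := by decide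
    have hb2 : (M.filter (cnt G · = 90)).card ≤ 2 := by
      refine (Finset.card_le_card (t := {4, 6}) fun m hm => ?_).trans (by decide)
      obtain ⟨hm1, hm2⟩ := Finset.mem_filter.1 hm
      have key : ∀ m ∈ M, m.totient ∣ 90 → m ∈ ({4, 6} : Finset ℕ) := by decide +kernel
      exact key m hm1 (hm2 ▸ totient_dvd m)
    generalize ea : (M.filter (cnt G · = 80)).card = a at hsum hcard
    generalize eb : (M.filter (cnt G · = 90)).card = b at hsum hcard h90 hb2
    generalize ec : (M.filter (cnt G · = 144)).card = c at hsum hcard h144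
    have hdvd := card_dvd_of_primes (G := G) 2000 (by have := hle 3; omega) {2, 3}
      (fun p hp hd => by rcases hp23 p hp hd with h | h <;> simp [h])
    rw [Finset.prod_pair (by norm_num)] at hdvd
    by_cases h3G : 3 ∣ Nat.card G
    · rw [(h9 h3G).1] at hsum
      have key : ∀ a ∈ List.range 7, ∀ b ∈ List.range 3, ∀ c ∈ List.range 8, 1 ≤ b → 1 ≤ c →
          a + b + c ≤ 8 → 126 + 80 * a + 90 * b + 144 * c ∣ 2 ^ 2000 * 3 ^ 2000 →
          126 + 80 * a + 90 * b + 144 * c = 648 := by decide +kernel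
      have h648 : Nat.card G = 648 := by
        rw [hsum]
        refine key a (List.mem_range.2 (by omega)) b (List.mem_range.2 (by omega)) c
          (List.mem_range.2 (by omega)) h90 h144 (by omega) ?_
        rw [← hsum]; exact hdvd
      have hf := dvd_sum (G := G) (n := 162) (h648 ▸ by norm_num)
      have hz : ∀ m, 9 ∣ m → cnt G m = 0 := fun m hm =>
        by_contra fun h => cnt_ne_zero_of_dvd h hm (h9 h3G).2
      rw [show (162 : ℕ).divisors = {1, 2, 3, 6, 9, 18, 27, 54, 81, 162} by decide +kernel] at hf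
      simp [cnt_one, h2, (h9 h3G).1, hz 9 (by norm_num), hz 18 (by norm_num), hz 27 (by norm_num),
        hz 54 (by norm_num), hz 81 (by norm_num), hz 162 (by norm_num)] at hf
      have := hvalM 6 (by decide)
      omega
    · have h30 : cnt G 3 = 0 := by_contra fun h => h3G (dvd_card h)
      rw [h30] at hsum
      have hno : ∀ m ∈ ({6, 12, 24, 48} : Finset ℕ), cnt G m = 0 := fun m hm =>
        by_contra fun h => h3G (((by
          have key : ∀ m ∈ ({6, 12, 24, 48} : Finset ℕ), 3 ∣ m := by decide +kernel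
          exact key m hm) : 3 ∣ m).trans (dvd_card h))
      have hb1 : b ≤ 1 := by
        rw [← eb]
        refine (Finset.card_le_card (t := {4}) fun m hm => ?_).trans (by simp)
        obtain ⟨hm1, hm2⟩ := Finset.mem_filter.1 hm
        have key : ∀ m ∈ M, m.totient ∣ 90 → m = 4 ∨ m ∈ ({6, 12, 24, 48} : Finset ℕ) := by
          decide +kernel
        rcases key m hm1 (hm2 ▸ totient_dvd m) with h | h
        · simp [h]
        · rw [hno m h] at hm2; omega
      have hac : a + b + c ≤ 4 := by
        obtain ⟨-, h'⟩ := sum_split ({4, 8, 16, 32} : Finset ℕ) (cnt G) (a := 80) (b := 90) (c := 144)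
          (by norm_num) (by norm_num) (by norm_num) (by norm_num) (by norm_num) (by norm_num)
          (fun m hm => hvalM m (by revert m; decide +kernel))
        refine le_trans ?_ (h'.trans (by decide))
        have hfilt : ∀ v, v ≠ 0 → M.filter (cnt G · = v) ⊆
            ({4, 8, 16, 32} : Finset ℕ).filter (cnt G · = v) := by
          intro v hv0 m hm
          obtain ⟨hm1, hm2⟩ := Finset.mem_filter.1 hm
          have key : ∀ m ∈ M, m ∈ ({4, 8, 16, 32} : Finset ℕ) ∨ m ∈ ({6, 12, 24, 48} : Finset ℕ) := by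
            decide +kernel
          rcases key m hm1 with h | h
          · exact Finset.mem_filter.2 ⟨h, hm2⟩
          · rw [hno m h] at hm2; exact absurd hm2.symm hv0
        rw [← ea, ← eb, ← ec]
        exact Nat.add_le_add (Nat.add_le_add (Finset.card_le_card (hfilt 80 (by norm_num)))
          (Finset.card_le_card (hfilt 90 (by norm_num)))) (Finset.card_le_card (hfilt 144 (by norm_num)))
      have key : ∀ a ∈ List.range 4, ∀ c ∈ List.range 4, 1 ≤ c → a + 1 + c ≤ 4 →
          ¬ 46 + 0 + 80 * a + 90 * 1 + 144 * c ∣ 2 ^ 2000 * 3 ^ 2000 ∨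
          3 ∣ 46 + 0 + 80 * a + 90 * 1 + 144 * c := by decide +kernel
      obtain rfl : b = 1 := by omega
      rcases key a (List.mem_range.2 (by omega)) c (List.mem_range.2 (by omega)) h144 hac with h | h
      · exact h (hsum ▸ hdvd)
      · exact h3G (hsum ▸ h)
  have h5 : cnt G 5 = 144 := by
    rcases hpv 5 (by norm_num) h5G with h | h | h | h <;> omega
  have h25 : ¬ 5 ^ 2 ∣ Nat.card G := by
    intro h25
    have hf := dvd_sum h25
    rw [show (5 ^ 2 : ℕ).divisors = {1, 5, 25} by decide +kernel] at hf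
    simp [cnt_one, h5] at hf
    have h25v := hv 25
    have ht := totient_dvd (G := G) 25
    rw [show Nat.totient 25 = 20 by decide +kernel] at ht
    have hc25 : cnt G 25 = 80 := by omega
    have h125 : ¬ 5 ^ 3 ∣ Nat.card G := fun h125 => by
      have hf := dvd_sum h125
      rw [show (5 ^ 3 : ℕ).divisors = {1, 5, 25, 125} by decide +kernel] at hf
      simp [cnt_one, h5, hc25, eq_zero_of_forall hV (m := 125) (by decide +kernel)] at hf
    have := mul_cnt_le_sq (by norm_num : Nat.Prime 5) h125 (by norm_num [hc25])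
    norm_num [hc25, h5] at this
  have hn5 : Nat.card (Sylow 5 G) = 36 := by
    have := cnt_prime (G := G) (by norm_num : Nat.Prime 5) h5G h25
    omega
  obtain ⟨⟨k, hk, hk8⟩, h15, h20, h10⟩ := five_structure h5G h25 fun m => by
    have := hle m; omega
  rw [hn5] at hk
  have h3 : cnt G 3 = 80 := (h9 ⟨60 * k, by rw [hk]; ring⟩).1
  have hord : ∀ g : G, orderOf g ∈ ({1, 2, 3, 5} : Finset ℕ) ∪ {4, 6, 8, 10, 12, 16, 24, 32, 48} := by
    intro g
    have hne : cnt G (orderOf g) ≠ 0 := cnt_ne_zero_iff.2 ⟨g, rfl⟩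
    have hd : orderOf g ∣ 1440 := by
      have h := orderOf_dvd_natCard g
      rw [hk] at h
      exact h.trans (Nat.mul_dvd_mul_left 180 hk8)
    have key : ∀ m ∈ Nat.divisors 1440, (∃ v ∈ ({1, 45, 80, 90, 144} : Finset ℕ), m.totient ∣ v) →
        ¬ 15 ∣ m → ¬ 20 ∣ m → ¬ 9 ∣ m →
        m ∈ ({1, 2, 3, 5} : Finset ℕ) ∪ {4, 6, 8, 10, 12, 16, 24, 32, 48} := by decide +kernel
    exact key _ (Nat.mem_divisors.2 ⟨hd, by norm_num⟩) ⟨_, value_mem hV hne, totient_dvd _⟩
      (fun h => cnt_ne_zero_of_dvd hne h h15) (fun h => cnt_ne_zero_of_dvd hne h h20)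
      (fun h => cnt_ne_zero_of_dvd hne h (h9 ⟨60 * k, by rw [hk]; ring⟩).2)
  set M : Finset ℕ := {4, 6, 8, 10, 12, 16, 24, 32, 48}
  have hvalM : ∀ m ∈ M, cnt G m = 0 ∨ cnt G m = 80 ∨ cnt G m = 90 ∨ cnt G m = 144 := by
    intro m hm
    have ht := totient_dvd (G := G) m
    have key : ∀ m ∈ M, ¬ m.totient ∣ 1 ∧ ¬ m.totient ∣ 45 := by decide +kernel
    rcases hv m with e | e | e | e | e | e <;> rw [e] at ht <;>
      first | exact absurd ht (key m hm).1 | exact absurd ht (key m hm).2 | omega
  obtain ⟨hsum, hcard⟩ := card_eq_values (G := G) 270 {1, 2, 3, 5} M (by decide) hord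
    (by simp [cnt_one, h2, h3, h5]) (a := 80) (b := 90) (c := 144)
    (by norm_num) (by norm_num) (by norm_num) (by norm_num) (by norm_num) (by norm_num) hvalM
  have hb2 : (M.filter (cnt G · = 90)).card ≤ 2 := by
    refine (Finset.card_le_card (t := {4, 6}) fun m hm => ?_).trans (by decide)
    obtain ⟨hm1, hm2⟩ := Finset.mem_filter.1 hm
    have key : ∀ m ∈ M, m.totient ∣ 90 → m ∈ ({4, 6} : Finset ℕ) := by decide +kernel
    exact key m hm1 (hm2 ▸ totient_dvd m)
  have hkle : k ≤ 8 := Nat.le_of_dvd (by norm_num) hk8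
  obtain ⟨hk2, hc0⟩ : k = 2 ∧ (M.filter (cnt G · = 144)).card = 0 := by
    rw [hk] at hsum
    interval_cases k <;> norm_num at hk8 <;> omega
  have h360 : Nat.card G = 360 := by omega
  have h10' : cnt G 10 = 0 := by
    by_contra h
    have := h10 h
    have := hle 10
    exact Finset.card_ne_zero_of_mem (Finset.mem_filter.2 ⟨show 10 ∈ M by decide, by omega⟩) hc0
  have hsimple : IsSimpleGroup G := by
    haveI : Nontrivial G := Finite.one_lt_card_iff_nontrivial.1 (by omega)
    refine ⟨fun N hN => or_iff_not_imp_left.2 fun hN0 => ?_⟩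
    haveI := hN
    have hmem : ∀ (r : ℕ) (x : G), r.Prime → orderOf x = r → ¬ r ∣ N.index → x ∈ N := by
      intro r x hr hx hri
      refine (QuotientGroup.eq_one_iff x).1 (orderOf_eq_one_iff.1 (Nat.eq_one_of_dvd_coprimes
        ((Nat.Prime.coprime_iff_not_dvd hr).2 hri) (hx ▸ orderOf_map_dvd (QuotientGroup.mk' N) x)
        (orderOf_dvd_natCard _)))
    have hmulN := N.card_mul_index
    rw [h360] at hmulN
    have hN5 : 5 ∣ Nat.card N := by
      by_contra hN5
      have hdiv : Nat.card N ∣ 72 := by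
        refine Nat.Coprime.dvd_of_dvd_mul_left
          ((Nat.Prime.coprime_iff_not_dvd (by norm_num : Nat.Prime 5)).2 hN5).symm ?_
        rw [show 5 * 72 = Nat.card G by rw [h360]]
        exact N.card_subgroup_dvd_card
      obtain ⟨x, hx⟩ := exists_prime_orderOf_dvd_card' (G := G) 5 h5G
      have hmod : ∀ K : Subgroup G, K.Normal → ¬ 5 ∣ Nat.card K → Nat.card K % 5 = 1 := by
        intro K hK hK5
        have hK' : ∀ k : K, x * k.1 * x⁻¹ ∈ K := fun k => hK.conj_mem _ k.2 x
        let f : Equiv.Perm K :=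
          { toFun := fun k => ⟨x * k.1 * x⁻¹, hK' k⟩
            invFun := fun k => ⟨x⁻¹ * k.1 * x, by simpa using hK.conj_mem _ k.2 x⁻¹⟩
            left_inv := fun k => Subtype.ext (by simp [mul_assoc])
            right_inv := fun k => Subtype.ext (by simp [mul_assoc]) }
        have hpow : ∀ (i : ℕ) (k : K), ((f ^ i) k).1 = x ^ i * k.1 * (x ^ i)⁻¹ := by
          intro i
          induction i with
          | zero => simp
          | succ i ih =>
            intro k
            rw [pow_succ', Equiv.Perm.mul_apply]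
            show x * _ * x⁻¹ = _
            rw [ih]; group
        have hf5 : f ^ 5 ^ 1 = 1 := by
          refine Equiv.ext fun k => Subtype.ext ?_
          rw [pow_one, hpow, ← hx, pow_orderOf_eq_one]
          simp
        haveI := Fintype.ofFinite K
        have h1 := Equiv.Perm.card_fixedPoints_modEq (p := 5) (n := 1) (f := f.toFun) ?_
        swap
        · funext k
          have := DFunLike.congr_fun hf5 k
          rw [Equiv.Perm.coe_pow] at this
          exact this
        have hfix : ∀ k : K, f k = k → k = 1 := by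
          intro k hk
          by_contra hk1
          have hk' : x * k.1 * x⁻¹ = k.1 := congrArg Subtype.val hk
          obtain ⟨r, hr, hrd⟩ := Nat.exists_prime_and_dvd
            (fun h => hk1 (Subtype.ext (orderOf_eq_one_iff.1 h)) : orderOf k.1 ≠ 1)
          set y := k.1 ^ (orderOf k.1 / r)
          have hy : orderOf y = r := orderOf_pow_orderOf_div (orderOf_pos _).ne' hrd
          have hr5 : r ≠ 5 := by
            rintro rfl
            have := orderOf_dvd_natCard k
            rw [← Subgroup.orderOf_coe] at this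
            exact hK5 (hrd.trans this)
          have hr23 : r = 2 ∨ r = 3 := by
            have hd : r ∣ 360 := h360 ▸ hrd.trans (orderOf_dvd_natCard _)
            rcases hpv r hr (h360 ▸ hd) with h | h | h | h
            · exact Or.inl h
            · exact Or.inr h.1
            · exact absurd h.1 hr5
            · rw [h.1] at hd; norm_num at hd
          have hc : Commute x y := (Commute.pow_right (mul_inv_eq_iff_eq_mul.1 hk') _)
          have hxy : orderOf (x * y) = 5 * r := by
            rw [hc.orderOf_mul_eq_mul_orderOf_of_coprime, hx, hy]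
            rw [hx, hy]; rcases hr23 with rfl | rfl <;> norm_num
          have hne : cnt G (5 * r) ≠ 0 := cnt_ne_zero_iff.2 ⟨_, hxy⟩
          rcases hr23 with rfl | rfl
          · exact hne h10'
          · exact hne h15
        have hfc : Nat.card {k : K // f k = k} = 1 := Nat.card_eq_one_iff_unique.2
          ⟨⟨fun a b => Subtype.ext ((hfix a.1 a.2).trans (hfix b.1 b.2).symm)⟩,
            ⟨⟨1, Subtype.ext (by simp [f])⟩⟩⟩
        rw [← Nat.card_eq_fintype_card, ← Nat.card_eq_fintype_card] at h1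
        have h1' : Nat.card K ≡ 1 [MOD 5] := hfc ▸ h1
        exact h1'
      have hsmallN : Nat.card N < 60 := by
        have key : ∀ d ∈ Nat.divisors 72, d % 5 = 1 → d < 60 := by decide +kernel
        exact key _ (Nat.mem_divisors.2 ⟨hdiv, by norm_num⟩) (hmod N hN hN5)
      obtain ⟨K, hKn, hKN, hK0, hKmin⟩ := Hall.exists_minimal_normal N hN0
      haveI := hKn
      haveI : Group.IsSolvable K :=
        OrderSixty.isSolvable_of_card_lt
          ((Nat.le_of_dvd Nat.card_pos (Subgroup.card_dvd_of_le hKN)).trans_lt hsmallN)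
      obtain ⟨r, hr, -, hKp, -⟩ := Hall.minimal_normal_isElementaryAbelian hK0 hKmin
      haveI := Fact.mk hr
      obtain ⟨e, he⟩ := IsPGroup.iff_card.1 hKp
      have hK5 : ¬ 5 ∣ Nat.card K := fun h => hN5 (h.trans (Subgroup.card_dvd_of_le hKN))
      have key : ∀ d ∈ Nat.divisors 72, d % 5 = 1 → d = 1 ∨ (2 ∣ d ∧ 3 ∣ d) := by decide +kernel
      rcases key _ (Nat.mem_divisors.2 ⟨(Subgroup.card_dvd_of_le hKN).trans hdiv, by norm_num⟩)
        (hmod K hKn hK5) with h | ⟨h, h'⟩
      · exact hK0 (Subgroup.card_eq_one.1 h)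
      · rw [he] at h h'
        have e2 := (Nat.prime_dvd_prime_iff_eq Nat.prime_two hr).1 (Nat.prime_two.dvd_of_dvd_pow h)
        have e3 := (Nat.prime_dvd_prime_iff_eq Nat.prime_three hr).1 (Nat.prime_three.dvd_of_dvd_pow h')
        omega
    have hidx : N.index ∣ 72 := by
      obtain ⟨j, hj⟩ := hN5
      refine ⟨j, ?_⟩
      rw [hj] at hmulN
      linarith
    have h5all : ∀ x : G, orderOf x = 5 → x ∈ N := fun x hx => hmem 5 x (by norm_num) hx
      fun h => absurd (h.trans hidx) (by norm_num)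
    have hge : 145 ≤ Nat.card N := by
      have h1 : Nat.card ({g : G // orderOf g = 5} ⊕ Unit) ≤ Nat.card N :=
        Nat.card_le_card_of_injective
          (Sum.elim (fun g => (⟨g.1, h5all g.1 g.2⟩ : N)) (fun _ => 1)) (by
            rintro (⟨a, ha⟩ | a) (⟨b, hb⟩ | b) h
            · have h' : a = b := congrArg Subtype.val h
              subst h'; rfl
            · have : a = 1 := congrArg Subtype.val h
              rw [this, orderOf_one] at ha; omega
            · have : b = 1 := (congrArg Subtype.val h).symm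
              rw [this, orderOf_one] at hb; omega
            · rfl)
      rw [Nat.card_sum, show Nat.card {g : G // orderOf g = 5} = 144 from h5,
        Nat.card_unique (α := Unit)] at h1
      exact h1
    have hidx2 : N.index ≤ 2 := by
      by_contra h
      have : 145 * 3 ≤ Nat.card N * N.index := Nat.mul_le_mul hge (by omega)
      omega
    rcases Nat.lt_or_ge N.index 2 with hi | hi
    · exact Subgroup.index_eq_one.1 (by
        have := Subgroup.index_ne_zero_of_finite (H := N)
        omega)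
    · exfalso
      have h3all : ∀ x : G, orderOf x = 3 → x ∈ N := fun x hx => hmem 3 x Nat.prime_three hx
        fun h => by have := Nat.le_of_dvd (by omega) h; omega
      have h1 : Nat.card (({g : G // orderOf g = 5} ⊕ {g : G // orderOf g = 3})) ≤ Nat.card N :=
        Nat.card_le_card_of_injective
          (Sum.elim (fun g => (⟨g.1, h5all g.1 g.2⟩ : N)) (fun g => ⟨g.1, h3all g.1 g.2⟩)) (by
            rintro (⟨a, ha⟩ | ⟨a, ha⟩) (⟨b, hb⟩ | ⟨b, hb⟩) h <;>
              have h' : a = b := congrArg Subtype.val h <;> subst h'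
            · rfl
            · omega
            · omega
            · rfl)
      rw [Nat.card_sum, show Nat.card {g : G // orderOf g = 5} = 144 from h5,
        show Nat.card {g : G // orderOf g = 3} = 80 from h3] at h1
      have hi2 : N.index = 2 := by omega
      rw [hi2] at hmulN
      omega
  exact S0497.result h360

end Cfsg.Agent.Recognition.SameOrder
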