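import Mathlib
import Cfsg.Agent.Recognition.Extension
import Cfsg.Agent.Recognition.Cubic
import Cfsg.Agent.S0144

/-!
Solvable Frobenius groups given by two matrices of size two and the list of the elements they generate.
-/

set_option autoImplicit false

namespace Cfsg.Agent.Recognition.SmallFrobenius

open Matrix Cfsg.Agent.Recognition.Extension
open QuadraticAlgebra (re_one im_one)
attribute [local simp] re_one im_one

/-- An element of a quadratic extension, by natural numbers. -/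
abbrev E := ℕ × ℕ

/-- A two by two matrix over a quadratic extension, by natural numbers. -/
abbrev Q := E × E × E × E

/-- The product in the extension by a root of `X ^ 2 - A` modulo `p`. -/
def emul (p A : ℕ) (x y : E) : E := ((x.1 * y.1 + A * (x.2 * y.2)) % p, (x.1 * y.2 + x.2 * y.1) % p)

/-- The sum. -/
def eadd (p : ℕ) (x y : E) : E := ((x.1 + y.1) % p, (x.2 + y.2) % p)

/-- The product of matrices. -/
def qmul (p A : ℕ) (x y : Q) : Q :=
  (eadd p (emul p A x.1 y.1) (emul p A x.2.1 y.2.2.1), eadd p (emul p A x.1 y.2.1) (emul p A x.2.1 y.2.2.2),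
   eadd p (emul p A x.2.2.1 y.1) (emul p A x.2.2.2 y.2.2.1), eadd p (emul p A x.2.2.1 y.2.1) (emul p A x.2.2.2 y.2.2.2))

/-- The identity. -/
def qone : Q := ((1, 0), (0, 0), (0, 0), (1, 0))

/-- Powers. -/
def qpow (p A : ℕ) (x : Q) : ℕ → Q
  | 0 => qone
  | n + 1 => qmul p A (qpow p A x n) x

/-- The norm of the determinant of `m - 1`. -/
def fpfNorm (p A : ℕ) (m : Q) : ℕ :=
  let d := eadd p (emul p A (eadd p m.1 (p - 1, 0)) (eadd p m.2.2.2 (p - 1, 0)))
    (emul p A (p - 1, 0) (emul p A m.2.1 m.2.2.1))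
  (d.1 * d.1 + (p - 1) * A * (d.2 * d.2)) % p

/-- All the checks for a list of matrices generated by `g` and `h` with inverses `g'` and `h'`. -/
def check (p A : ℕ) (g g' h h' : Q) (l : List Q) (L : List ℕ) : Bool :=
  decide (qmul p A g g' = qone) && decide (qmul p A g' g = qone) &&
  decide (qmul p A h h' = qone) && decide (qmul p A h' h = qone) && decide (qone ∈ l) &&
  l.all (fun m => decide (qmul p A m g ∈ l) && decide (qmul p A m g' ∈ l) && decide (qmul p A m h ∈ l) &&
    decide (qmul p A m h' ∈ l) && (decide (m = qone) || !decide (fpfNorm p A m = 0)) &&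
    L.any (fun N => decide (qpow p A m N = qone)))

section
variable (p A : ℕ)

/-- The extension. -/
abbrev Ext := QuadraticAlgebra (ZMod p) (A : ZMod p) 0

instance [NeZero p] : Fintype (Ext p A) := Fintype.ofEquiv _ (QuadraticAlgebra.equivProd _ _).symm

/-- The element. -/
def toExt (x : E) : Ext p A := ⟨(x.1 : ZMod p), (x.2 : ZMod p)⟩

/-- The matrix. -/
def toM (x : Q) : Matrix (Fin 2) (Fin 2) (Ext p A) :=
  !![toExt p A x.1, toExt p A x.2.1; toExt p A x.2.2.1, toExt p A x.2.2.2]

theorem toExt_mul (x y : E) : toExt p A (emul p A x y) = toExt p A x * toExt p A y := by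
  ext <;> simp [toExt, emul, ZMod.natCast_mod, mul_assoc]

theorem toExt_add (x y : E) : toExt p A (eadd p x y) = toExt p A x + toExt p A y := by
  ext <;> simp [toExt, eadd, ZMod.natCast_mod]

theorem toM_mul (x y : Q) : toM p A (qmul p A x y) = toM p A x * toM p A y := by
  simp only [toM, qmul, toExt_mul, toExt_add, Matrix.mul_fin_two]

theorem toM_one : toM p A qone = 1 := by
  ext i j <;> fin_cases i <;> fin_cases j <;> simp [toM, qone, toExt]

theorem toM_pow (x : Q) (n : ℕ) : toM p A (qpow p A x n) = toM p A x ^ n := by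
  induction n with
  | zero => rw [qpow, toM_one, pow_zero]
  | succ n ih => rw [qpow, toM_mul, ih, pow_succ]

/-- Entries reduced. -/
def qred (x : Q) : Q :=
  ((x.1.1 % p, x.1.2 % p), (x.2.1.1 % p, x.2.1.2 % p), (x.2.2.1.1 % p, x.2.2.1.2 % p), (x.2.2.2.1 % p, x.2.2.2.2 % p))

theorem eq_one_of_toM (hp : 1 < p) (x : Q) (h : toM p A x = 1) : qred p x = qone := by
  have e : ∀ a b : ℕ, (a : ZMod p) = (b : ZMod p) → b < p → a % p = b := fun a b hab hb => by
    rw [(ZMod.natCast_eq_natCast_iff' a b p).1 hab, Nat.mod_eq_of_lt hb]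
  have h00 := congrFun (congrFun h 0) 0
  have h01 := congrFun (congrFun h 0) 1
  have h10 := congrFun (congrFun h 1) 0
  have h11 := congrFun (congrFun h 1) 1
  simp [toM, toExt, QuadraticAlgebra.ext_iff] at h00 h01 h10 h11
  simp only [qred, qone, Prod.mk.injEq]
  exact ⟨⟨e _ 1 (by simpa using h00.1) hp, e _ 0 (by simpa using h00.2) (by omega)⟩,
    ⟨e _ 0 (by simpa using h01.1) (by omega), e _ 0 (by simpa using h01.2) (by omega)⟩,
    ⟨e _ 0 (by simpa using h10.1) (by omega), e _ 0 (by simpa using h10.2) (by omega)⟩,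
    e _ 1 (by simpa using h11.1) hp, e _ 0 (by simpa using h11.2) (by omega)⟩

end

variable {K : Type} [CommRing K] [Fintype K] [DecidableEq K]

theorem exists_spectrum (p : ℕ) (hp : p.Prime) (hchar : (p : K) = 0) (hone : (1 : K) ≠ 0)
    (g₁ g₂ : GL (Fin 2) K) (l : List (Matrix (Fin 2) (Fin 2) K)) (L : List ℕ)
    (hone' : (1 : Matrix (Fin 2) (Fin 2) K) ∈ l)
    (hclosed : ∀ m ∈ l, m * g₁.1 ∈ l ∧ m * (↑g₁⁻¹ : Matrix (Fin 2) (Fin 2) K) ∈ l ∧
      m * g₂.1 ∈ l ∧ m * (↑g₂⁻¹ : Matrix (Fin 2) (Fin 2) K) ∈ l)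
    (hfpf : ∀ m ∈ l, m = 1 ∨ ∃ y : K, (m - 1).det * y = 1)
    (hexp : ∀ m ∈ l, m ^ 24 = 1)
    (hpow : ∀ m ∈ l, ∃ N ∈ L, m ^ N = 1)
    (hwit : ∀ N ∈ L, ∃ g : GL (Fin 2) K, g ∈ Subgroup.closure ({g₁, g₂} : Set (GL (Fin 2) K)) ∧ orderOf g = N) :
    ∃ (H : Type) (_ : Group H) (_ : Fintype H), Group.IsSolvable H ∧
      Set.range (orderOf : H → ℕ) = {d | ∃ N ∈ p :: L, d ∣ N ∧ N ≠ 0} := by
  classical
  set S := Subgroup.closure ({g₁, g₂} : Set (GL (Fin 2) K)) with hS
  have hmem : ∀ x ∈ S, (x : Matrix (Fin 2) (Fin 2) K) ∈ l := by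
    intro x hx
    induction hx using Subgroup.closure_induction_right with
    | one => exact hone'
    | mul_right x y hy h ih =>
      rw [Units.val_mul]
      rcases h with rfl | rfl
      · exact (hclosed _ ih).1
      · exact (hclosed _ ih).2.2.1
    | mul_inv_cancel x y hy h ih =>
      rw [Units.val_mul]
      rcases h with rfl | rfl
      · exact (hclosed _ ih).2.1
      · exact (hclosed _ ih).2.2.2
  have hexp' : ∀ x : S, x ^ 24 = 1 := fun x => by
    apply Subtype.ext; apply Units.ext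
    simpa using hexp _ (hmem _ x.2)
  have hpV : ∀ v : Multiplicative (Fin 2 → K), v ^ p = 1 := fun v => by
    apply Multiplicative.toAdd.injective
    funext i
    simp [toAdd_pow, hchar]
  have hfpf' : ∀ x : S, x ≠ 1 → Fpf (glAut.comp S.subtype) x := by
    intro x hx
    refine fpf_glAut S.subtype x fun v hv => ?_
    rcases hfpf _ (hmem _ x.2) with h | ⟨y, hy⟩
    · exact absurd (Subtype.ext (Units.ext h)) hx
    · have h0 : ((x.1 : Matrix (Fin 2) (Fin 2) K) - 1).mulVec v = 0 := by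
        rw [Matrix.sub_mulVec, Matrix.one_mulVec]; exact sub_eq_zero.2 hv
      have := congrArg ((x.1 : Matrix (Fin 2) (Fin 2) K) - 1).adjugate.mulVec h0
      rw [Matrix.mulVec_mulVec, Matrix.adjugate_mul, Matrix.smul_mulVec, Matrix.one_mulVec, Matrix.mulVec_zero] at this
      funext i
      have h1 : ((x.1 : Matrix (Fin 2) (Fin 2) K) - 1).det * v i = 0 := by simpa using congrFun this i
      show v i = 0
      calc v i = (((x.1 : Matrix (Fin 2) (Fin 2) K) - 1).det * y) * v i := by rw [hy, one_mul]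
        _ = 0 := by rw [mul_comm _ y, mul_assoc, h1, mul_zero]
  haveI : Finite S := inferInstance
  haveI hsolS : Group.IsSolvable S := by
    have hprimes : (Nat.card S).primeFactors ⊆ {2, 3} := by
      intro q hq
      have hqp := Nat.prime_of_mem_primeFactors hq
      haveI := Fact.mk hqp
      obtain ⟨x, hx⟩ := exists_prime_orderOf_dvd_card' q (Nat.dvd_of_mem_primeFactors hq)
      have hdvd : q ∣ 2 ^ 3 * 3 := hx ▸ orderOf_dvd_of_pow_eq_one (hexp' x)
      rcases (hqp.dvd_mul).1 hdvd with h | h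
      · simp [(Nat.prime_dvd_prime_iff_eq hqp Nat.prime_two).1 (hqp.dvd_of_dvd_pow h)]
      · simp [(Nat.prime_dvd_prime_iff_eq hqp Nat.prime_three).1 h]
    refine Cfsg.Agent.S0144.result 2 3 ((Nat.card S).factorization 2) ((Nat.card S).factorization 3)
      Nat.prime_two Nat.prime_three ?_
    conv_lhs => rw [Nat.prod_primeFactors_pow_factorization Nat.card_pos.ne']
    rw [Finset.prod_subset hprimes (fun q _ hq => by
      rw [← Nat.support_factorization, Finsupp.notMem_support_iff] at hq; rw [hq, pow_zero]),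
      Finset.prod_pair (by norm_num)]
  set H := Multiplicative (Fin 2 → K) ⋊[glAut.comp S.subtype] S
  haveI : Finite H := Finite.of_equiv _ SemidirectProduct.equivProd.symm
  have hsol : Group.IsSolvable H := Group.isSolvable_of_ker_le_range
    (SemidirectProduct.inl (φ := glAut.comp S.subtype)) SemidirectProduct.rightHom
    SemidirectProduct.range_inl_eq_ker_rightHom.ge
  refine ⟨H, inferInstance, Fintype.ofFinite _, hsol, Cubic.range_orderOf_eq_divisors (p :: L) ?_ ?_⟩
  · intro x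
    by_cases h : x.right = 1
    · refine ⟨p, List.mem_cons_self, ?_⟩
      rw [eq_inl_of_right_eq_one x h, ← map_pow, hpV, map_one]
    · obtain ⟨N, hN, hxN⟩ := hpow _ (hmem _ x.right.2)
      refine ⟨N, List.mem_cons_of_mem _ hN, ?_⟩
      rw [← orderOf_dvd_iff_pow_eq_one, orderOf_of_fpf x (hfpf' _ h), orderOf_dvd_iff_pow_eq_one]
      apply Subtype.ext; apply Units.ext
      simpa using hxN
  · intro N hN
    rcases List.mem_cons.1 hN with rfl | hN
    · refine ⟨SemidirectProduct.inl (Multiplicative.ofAdd fun _ => 1), ?_⟩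
      rw [orderOf_injective _ SemidirectProduct.inl_injective]
      haveI := Fact.mk hp
      refine orderOf_eq_prime (hpV _) fun h => hone ?_
      exact congrFun (congrArg Multiplicative.toAdd h) 0
    · obtain ⟨g, hg, ho⟩ := hwit N hN
      refine ⟨SemidirectProduct.inr ⟨g, hg⟩, ?_⟩
      rw [orderOf_inr, Subgroup.orderOf_mk, ho]

/-- The criterion in terms of a checked list. -/
theorem exists_spectrum_of_check (p A : ℕ) (hp : p.Prime) (g g' h h' : Q) (l : List Q) (L : List ℕ)
    (hL : ∀ N ∈ L, N ∣ 24) (hc : check p A g g' h h' l L = true)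
    (hwit : ∀ N ∈ L, ∃ w : List Bool, qred p (qpow p A (w.foldr (fun b y => qmul p A (if b then g else h) y) qone) N) = qone ∧
      ∀ i ∈ List.range N, 0 < i → qred p (qpow p A (w.foldr (fun b y => qmul p A (if b then g else h) y) qone) i) ≠ qone) :
    ∃ (H : Type) (_ : Group H) (_ : Fintype H), Group.IsSolvable H ∧
      Set.range (orderOf : H → ℕ) = {d | ∃ N ∈ p :: L, d ∣ N ∧ N ≠ 0} := by
  haveI := Fact.mk hp
  simp only [check, Bool.and_eq_true, decide_eq_true_eq, List.all_eq_true, Bool.or_eq_true, Bool.not_eq_true',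
    decide_eq_false_iff_not, List.any_eq_true] at hc
  obtain ⟨⟨⟨⟨⟨hg1, hg2⟩, hh1⟩, hh2⟩, hone⟩, hall⟩ := hc
  let u : GL (Fin 2) (Ext p A) := ⟨toM p A g, toM p A g', by rw [← toM_mul, hg1, toM_one], by rw [← toM_mul, hg2, toM_one]⟩
  let v : GL (Fin 2) (Ext p A) := ⟨toM p A h, toM p A h', by rw [← toM_mul, hh1, toM_one], by rw [← toM_mul, hh2, toM_one]⟩
  have hchar : ((p : ℕ) : Ext p A) = 0 := by ext <;> simp
  refine exists_spectrum p hp hchar one_ne_zero u v (l.map (toM p A)) L ?_ ?_ ?_ ?_ ?_ ?_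
  · exact List.mem_map.2 ⟨qone, hone, toM_one p A⟩
  · intro m hm
    obtain ⟨q, hq, rfl⟩ := List.mem_map.1 hm
    obtain ⟨⟨⟨⟨⟨h1, h2⟩, h3⟩, h4⟩, -⟩, -⟩ := hall q hq
    refine ⟨?_, ?_, ?_, ?_⟩
    · exact List.mem_map.2 ⟨_, h1, toM_mul p A q g⟩
    · exact List.mem_map.2 ⟨_, h2, toM_mul p A q g'⟩
    · exact List.mem_map.2 ⟨_, h3, toM_mul p A q h⟩
    · exact List.mem_map.2 ⟨_, h4, toM_mul p A q h'⟩
  · intro m hm
    obtain ⟨q, hq, rfl⟩ := List.mem_map.1 hm
    rcases (hall q hq).1.2 with h1 | h1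
    · exact Or.inl (by rw [h1, toM_one])
    right
    set e := eadd p (emul p A (eadd p q.1 (p - 1, 0)) (eadd p q.2.2.2 (p - 1, 0)))
      (emul p A (p - 1, 0) (emul p A q.2.1 q.2.2.1)) with he
    have hneg : toExt p A (p - 1, 0) = -1 := by
      ext <;> simp [toExt, Nat.cast_sub hp.one_le]
    have hd : (toM p A q - 1).det = toExt p A e := by
      rw [Matrix.det_fin_two, he, toExt_add, toExt_mul, toExt_mul, toExt_mul, toExt_add, toExt_add, hneg]
      simp [toM]
      ring
    have hn : (e.1 : ZMod p) * (e.1 : ZMod p) - (A : ZMod p) * ((e.2 : ZMod p) * (e.2 : ZMod p)) ≠ 0 := by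
      intro h0
      apply h1
      show (e.1 * e.1 + (p - 1) * A * (e.2 * e.2)) % p = 0
      apply Nat.mod_eq_zero_of_dvd
      rw [← ZMod.natCast_eq_zero_iff]
      simpa [Nat.cast_sub hp.one_le, sub_eq_add_neg] using h0
    rw [hd]
    refine ⟨⟨(e.1 : ZMod p) * ((e.1 : ZMod p) * (e.1 : ZMod p) - (A : ZMod p) * ((e.2 : ZMod p) * (e.2 : ZMod p)))⁻¹,
      -(e.2 : ZMod p) * ((e.1 : ZMod p) * (e.1 : ZMod p) - (A : ZMod p) * ((e.2 : ZMod p) * (e.2 : ZMod p)))⁻¹⟩, ?_⟩
    ext
    · simp only [toExt, QuadraticAlgebra.re_mul, QuadraticAlgebra.re_one]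
      rw [← mul_inv_cancel₀ hn]; ring
    · simp only [toExt, QuadraticAlgebra.im_mul, QuadraticAlgebra.im_one]
      ring
  · intro m hm
    obtain ⟨q, hq, rfl⟩ := List.mem_map.1 hm
    obtain ⟨N, hN, hN'⟩ := (hall q hq).2
    obtain ⟨c, hc⟩ := hL N hN
    rw [hc, pow_mul, ← toM_pow, hN', toM_one, one_pow]
  · intro m hm
    obtain ⟨q, hq, rfl⟩ := List.mem_map.1 hm
    obtain ⟨N, hN, hN'⟩ := (hall q hq).2
    exact ⟨N, hN, by rw [← toM_pow, hN', toM_one]⟩
  · intro N hN
    obtain ⟨w, h1, h2⟩ := hwit N hN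
    have hpos : 0 < N := Nat.pos_of_ne_zero fun h0 => by
      have := hL N hN
      rw [h0, zero_dvd_iff] at this
      omega
    set x := w.foldr (fun b y => qmul p A (if b then g else h) y) qone with hx
    set y : GL (Fin 2) (Ext p A) := (w.map fun b => if b then u else v).prod with hy
    have hxy : y.1 = toM p A x := by
      rw [hy, hx]
      clear hx hy h1 h2
      induction w with
      | nil => simp [toM_one]
      | cons b w ih =>
        rw [List.map_cons, List.prod_cons, Units.val_mul, ih, List.foldr_cons, toM_mul]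
        cases b <;> rfl
    refine ⟨y, Subgroup.list_prod_mem _ fun z hz => ?_, Cubic.orderOf_eq_of_checks y N hpos ?_ ?_⟩
    · obtain ⟨b, -, rfl⟩ := List.mem_map.1 hz
      cases b <;> exact Subgroup.subset_closure (by simp)
    · apply Units.ext
      rw [Units.val_pow_eq_pow_val, hxy, ← toM_pow, Units.val_one, ← toM_one p A, ← h1]
      simp [toM, toExt, qred]
    · intro i hi h0 hc
      refine h2 i (List.mem_range.2 hi) h0 (eq_one_of_toM p A hp.one_lt _ ?_)
      rw [toM_pow, ← hxy, ← Units.val_pow_eq_pow_val, hc, Units.val_one]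

end Cfsg.Agent.Recognition.SmallFrobenius
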