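import Mathlib
import Cfsg.Agent.Recognition.PrimeTriples

/-!
Two separated primes in a solvable normal subgroup lie on different levels of a normal series.
-/

set_option autoImplicit false

namespace Cfsg.Agent.Recognition.SolvableSplit

open Cfsg.Agent.Recognition.PrimeTriples

universe u

/-- A non-trivial solvable normal subgroup contains a non-trivial abelian normal subgroup. -/
theorem exists_abelian {G : Type u} [Group G] [Finite G] (K : Subgroup G) [K.Normal]
    (hK : Group.IsSolvable K) (hK1 : K ≠ ⊥) :
    ∃ A : Subgroup G, A.Normal ∧ A ≤ K ∧ A ≠ ⊥ ∧ IsMulCommutative A := by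
  classical
  haveI : Group.IsSolvable K := hK
  obtain ⟨n, hn⟩ := ‹Group.IsSolvable K›.solvable
  have h0 : ∃ n, derivedSeries K n = ⊥ := ⟨n, hn⟩
  set m := Nat.find h0 with hm
  have hspec : derivedSeries K m = ⊥ := Nat.find_spec h0
  haveI : Nontrivial K := (Subgroup.nontrivial_iff_ne_bot K).2 hK1
  have hm0 : m ≠ 0 := by
    intro h
    rw [h, derivedSeries_zero] at hspec
    exact top_ne_bot hspec
  obtain ⟨k, hk⟩ := Nat.exists_eq_succ_of_ne_zero hm0
  have hne : derivedSeries K k ≠ ⊥ := Nat.find_min h0 (by omega)
  haveI := derivedSeries_characteristic K k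
  refine ⟨(derivedSeries K k).map K.subtype, ConjAct.normal_of_characteristic_of_normal, ?_, ?_, ?_⟩
  · rintro _ ⟨x, -, rfl⟩
    exact x.2
  · rwa [Ne, Subgroup.map_eq_bot_iff_of_injective _ K.subtype_injective]
  · rw [hk] at hspec
    have hc : IsMulCommutative (derivedSeries K k) := by
      refine ⟨⟨fun a b => ?_⟩⟩
      have hmem := Subgroup.commutator_mem_commutator a.2 b.2
      rw [← derivedSeries_succ, hspec, Subgroup.mem_bot, commutatorElement_eq_one_iff_mul_comm] at hmem
      exact Subtype.ext hmem
    infer_instance

theorem exists_split : ∀ (n : ℕ) {G : Type u} [Group G] [Finite G], Nat.card G ≤ n →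
    ∀ (K : Subgroup G) [K.Normal], Group.IsSolvable K → ∀ s t : ℕ, s.Prime → t.Prime → s ≠ t →
      Sep G s t → s ∣ Nat.card K → t ∣ Nat.card G →
      ∃ M : Subgroup G, M.Normal ∧ ((s ∣ Nat.card M ∧ t ∣ M.index) ∨ (t ∣ Nat.card M ∧ s ∣ M.index)) := by
  intro n
  induction n with
  | zero =>
    intro G _ _ hn
    have : 0 < Nat.card G := Nat.card_pos
    omega
  | succ n ih =>
    intro G _ _ hn K _ hK s t hs ht hst hsep hsK htG
    classical
    haveI := Fact.mk hs
    haveI := Fact.mk ht
    have hK1 : K ≠ ⊥ := by
      intro h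
      rw [h, Subgroup.card_bot] at hsK
      exact hs.not_dvd_one hsK
    obtain ⟨A, hAn, hAK, hA1, hAc⟩ := exists_abelian K hK hK1
    haveI := hAn
    haveI : Nontrivial A := (Subgroup.nontrivial_iff_ne_bot A).2 hA1
    have hsG : s ∣ Nat.card G := hsK.trans (Subgroup.card_subgroup_dvd_card K)
    have hmul := Subgroup.card_mul_index A
    by_cases hsA : s ∣ Nat.card A
    · by_cases htA : t ∣ Nat.card A
      · obtain ⟨a, ha⟩ := exists_prime_orderOf_dvd_card' s hsA
        obtain ⟨b, hb⟩ := exists_prime_orderOf_dvd_card' t htA
        exact (commute_false ((Nat.coprime_primes hs ht).2 hst) hsep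
          (a := (a : G)) (b := (b : G)) (congrArg Subtype.val (mul_comm' a b))
          ((Subgroup.orderOf_coe a).trans ha) ((Subgroup.orderOf_coe b).trans hb)).elim
      · rw [← hmul] at htG
        exact ⟨A, hAn, Or.inl ⟨hsA, (ht.dvd_mul.1 htG).resolve_left htA⟩⟩
    · have hsAi : s ∣ A.index := by
        rw [← hmul] at hsG
        exact (hs.dvd_mul.1 hsG).resolve_left hsA
      by_cases htA : t ∣ Nat.card A
      · exact ⟨A, hAn, Or.inr ⟨htA, hsAi⟩⟩
      · have htAi : t ∣ A.index := by
          rw [← hmul] at htG
          exact (ht.dvd_mul.1 htG).resolve_left htA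
        have hlt : Nat.card (G ⧸ A) ≤ n := by
          rw [← Subgroup.index_eq_card]
          have h2 : 1 < Nat.card A := Finite.one_lt_card
          have h3 : 0 < A.index := Nat.pos_of_ne_zero Subgroup.index_ne_zero_of_finite
          nlinarith
        haveI : Group.IsSolvable K := hK
        haveI : (K.map (QuotientGroup.mk' A)).Normal :=
          ‹K.Normal›.map _ (QuotientGroup.mk'_surjective A)
        have hKq : Group.IsSolvable (K.map (QuotientGroup.mk' A)) :=
          solvable_of_surjective (f := (QuotientGroup.mk' A).subgroupMap K)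
            (MonoidHom.subgroupMap_surjective _ K)
        have hcardK : s ∣ Nat.card (K.map (QuotientGroup.mk' A)) := by
          have h := Subgroup.card_eq_card_quotient_mul_card_subgroup
            ((QuotientGroup.mk' A).subgroupMap K).ker
          rw [Nat.card_congr (QuotientGroup.quotientKerEquivOfSurjective _
            (MonoidHom.subgroupMap_surjective _ K)).toEquiv] at h
          rw [h] at hsK
          refine (hs.dvd_mul.1 hsK).resolve_right fun hd => hsA (hd.trans ?_)
          let f : ((QuotientGroup.mk' A).subgroupMap K).ker →* A :=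
            { toFun := fun x => ⟨x.1.1, (QuotientGroup.eq_one_iff _).1
                (congrArg Subtype.val (MonoidHom.mem_ker.1 x.2) :)⟩
              map_one' := rfl
              map_mul' := fun _ _ => rfl }
          exact Subgroup.card_dvd_of_injective f fun x y hxy =>
            Subtype.ext (Subtype.ext (congrArg Subtype.val hxy :))
        rw [Subgroup.index_eq_card] at htAi
        obtain ⟨M, hMn, hM⟩ := ih hlt (K.map (QuotientGroup.mk' A)) hKq s t hs ht hst
          (hsep.of_surjective _ (QuotientGroup.mk'_surjective A)) hcardK htAi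
        have hidx : (M.comap (QuotientGroup.mk' A)).index = M.index :=
          M.index_comap_of_surjective (QuotientGroup.mk'_surjective A)
        have hcard : Nat.card M ∣ Nat.card (M.comap (QuotientGroup.mk' A)) :=
          Subgroup.card_dvd_of_surjective ((QuotientGroup.mk' A).subgroupComap M)
            (fun ⟨z, hz⟩ => by
              obtain ⟨g, rfl⟩ := QuotientGroup.mk'_surjective A z
              exact ⟨⟨g, hz⟩, rfl⟩)
        refine ⟨M.comap (QuotientGroup.mk' A), hMn.comap _, ?_⟩
        rw [hidx]
        rcases hM with h | h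
        · exact Or.inl ⟨h.1.trans hcard, h.2⟩
        · exact Or.inr ⟨h.1.trans hcard, h.2⟩

/-- A solvable normal subgroup does not contain two of three pairwise separated primes. -/
theorem triple_false : ∀ (n : ℕ) {G : Type u} [Group G] [Finite G], Nat.card G ≤ n →
    ∀ (K : Subgroup G) [K.Normal], Group.IsSolvable K → ∀ r s t : ℕ, r.Prime → s.Prime → t.Prime →
      r ≠ s → r ≠ t → s ≠ t → Sep G r s → Sep G r t → Sep G s t →
      r ∣ Nat.card K → s ∣ Nat.card K → t ∣ Nat.card G → False := by
  intro n
  induction n with
  | zero =>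
    intro G _ _ hn
    have : 0 < Nat.card G := Nat.card_pos
    omega
  | succ n ih =>
    intro G _ _ hn K _ hK r s t hr hs ht hrs hrt hst srs srt sst hrK hsK htG
    classical
    haveI := Fact.mk hr
    haveI := Fact.mk hs
    haveI := Fact.mk ht
    have hK1 : K ≠ ⊥ := by
      intro h
      rw [h, Subgroup.card_bot] at hrK
      exact hr.not_dvd_one hrK
    obtain ⟨A, hAn, hAK, hA1, hAc⟩ := exists_abelian K hK hK1
    haveI := hAn
    haveI : Nontrivial A := (Subgroup.nontrivial_iff_ne_bot A).2 hA1
    have pair : ∀ {x y : ℕ}, x.Prime → y.Prime → x ≠ y → Sep G x y → x ∣ Nat.card A → y ∣ Nat.card A →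
        False := by
      intro x y hx hy hxy h hxA hyA
      haveI := Fact.mk hx
      haveI := Fact.mk hy
      obtain ⟨a, ha⟩ := exists_prime_orderOf_dvd_card' x hxA
      obtain ⟨b, hb⟩ := exists_prime_orderOf_dvd_card' y hyA
      exact commute_false ((Nat.coprime_primes hx hy).2 hxy) h
        (a := (a : G)) (b := (b : G)) (congrArg Subtype.val (mul_comm' a b))
        ((Subgroup.orderOf_coe a).trans ha) ((Subgroup.orderOf_coe b).trans hb)
    -- the quotient by `A`
    haveI : Group.IsSolvable K := hK
    haveI : (K.map (QuotientGroup.mk' A)).Normal := ‹K.Normal›.map _ (QuotientGroup.mk'_surjective A)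
    have hKq : Group.IsSolvable (K.map (QuotientGroup.mk' A)) :=
      solvable_of_surjective (f := (QuotientGroup.mk' A).subgroupMap K)
        (MonoidHom.subgroupMap_surjective _ K)
    have hdiv : ∀ x : ℕ, x.Prime → x ∣ Nat.card K → ¬ x ∣ Nat.card A →
        x ∣ Nat.card (K.map (QuotientGroup.mk' A)) := by
      intro x hx hxK hxA
      have h := Subgroup.card_eq_card_quotient_mul_card_subgroup
        ((QuotientGroup.mk' A).subgroupMap K).ker
      rw [Nat.card_congr (QuotientGroup.quotientKerEquivOfSurjective _
        (MonoidHom.subgroupMap_surjective _ K)).toEquiv] at h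
      rw [h] at hxK
      refine (hx.dvd_mul.1 hxK).resolve_right fun hd => hxA (hd.trans ?_)
      let f : ((QuotientGroup.mk' A).subgroupMap K).ker →* A :=
        { toFun := fun z => ⟨z.1.1, (QuotientGroup.eq_one_iff _).1
            (congrArg Subtype.val (MonoidHom.mem_ker.1 z.2) :)⟩
          map_one' := rfl
          map_mul' := fun _ _ => rfl }
      exact Subgroup.card_dvd_of_injective f fun a b hab =>
        Subtype.ext (Subtype.ext (congrArg Subtype.val hab :))
    have hdivG : ∀ x : ℕ, x.Prime → x ∣ Nat.card G → ¬ x ∣ Nat.card A → x ∣ Nat.card (G ⧸ A) := by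
      intro x hx hxG hxA
      rw [← Subgroup.card_mul_index A, Subgroup.index_eq_card] at hxG
      exact (hx.dvd_mul.1 hxG).resolve_left hxA
    -- one of the primes at the bottom
    have bottom : ∀ x y z : ℕ, x.Prime → y.Prime → z.Prime → x ≠ y → x ≠ z → y ≠ z → Sep G x y →
        Sep G x z → Sep G y z → x ∣ Nat.card A → y ∣ Nat.card (K.map (QuotientGroup.mk' A)) →
        z ∣ Nat.card (G ⧸ A) → False := by
      intro x y z hx hy hz hxy hxz hyz sxy sxz syz hxA hyK hzQ
      obtain ⟨M, hMn, hM⟩ := exists_split (Nat.card (G ⧸ A)) le_rfl (K.map (QuotientGroup.mk' A)) hKq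
        y z hy hz hyz (syz.of_surjective _ (QuotientGroup.mk'_surjective A)) hyK hzQ
      haveI := hMn
      set M' := M.comap (QuotientGroup.mk' A) with hM'
      have hAM : A ≤ M' := fun a ha => by
        show QuotientGroup.mk' A a ∈ M
        rw [QuotientGroup.mk'_apply, (QuotientGroup.eq_one_iff a).2 ha]
        exact M.one_mem
      have hidx : M'.index = M.index :=
        M.index_comap_of_surjective (QuotientGroup.mk'_surjective A)
      have hrel : Nat.card M = A.relIndex M' := by
        apply mul_right_cancel₀ (Subgroup.index_ne_zero_of_finite (H := M))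
        rw [Subgroup.card_mul_index, ← hidx, Subgroup.relIndex_mul_index hAM, Subgroup.index_eq_card]
      rcases hM with ⟨h1, h2⟩ | ⟨h1, h2⟩
      · exact series_false A M' hAM hx hy hz hxy hxz hyz hxA (hrel ▸ h1) (hidx.symm ▸ h2) sxy sxz syz
      · exact series_false A M' hAM hx hz hy hxz hxy hyz.symm hxA (hrel ▸ h1) (hidx.symm ▸ h2) sxz sxy
          syz.symm
    by_cases hrA : r ∣ Nat.card A
    · exact bottom r s t hr hs ht hrs hrt hst srs srt sst hrA
        (hdiv s hs hsK fun h => pair hr hs hrs srs hrA h)
        (hdivG t ht htG fun h => pair hr ht hrt srt hrA h)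
    · by_cases hsA : s ∣ Nat.card A
      · exact bottom s r t hs hr ht hrs.symm hst hrt srs.symm sst srt hsA (hdiv r hr hrK hrA)
          (hdivG t ht htG fun h => pair hs ht hst sst hsA h)
      · by_cases htA : t ∣ Nat.card A
        · exact bottom t r s ht hr hs hrt.symm hst.symm hrs srt.symm sst.symm srs htA
            (hdiv r hr hrK hrA)
            ((hdiv s hs hsK hsA).trans (Subgroup.card_subgroup_dvd_card _))
        · have hlt : Nat.card (G ⧸ A) ≤ n := by
            rw [← Subgroup.index_eq_card]
            have h1 := Subgroup.card_mul_index A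
            have h2 : 1 < Nat.card A := Finite.one_lt_card
            have h3 : 0 < A.index := Nat.pos_of_ne_zero Subgroup.index_ne_zero_of_finite
            nlinarith
          exact ih hlt (K.map (QuotientGroup.mk' A)) hKq r s t hr hs ht hrs hrt hst
            (srs.of_surjective _ (QuotientGroup.mk'_surjective A))
            (srt.of_surjective _ (QuotientGroup.mk'_surjective A))
            (sst.of_surjective _ (QuotientGroup.mk'_surjective A))
            (hdiv r hr hrK hrA) (hdiv s hs hsK hsA) (hdivG t ht htG htA)

end Cfsg.Agent.Recognition.SolvableSplit
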