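import Cfsg.Agent.Recognition.SuzukiModule

/-!
The characteristic equation of an element of `Sz(q)`.
-/

set_option autoImplicit false

namespace Cfsg.Agent.Recognition.SuzukiChar

open Matrix Cfsg.Lie Cfsg.Agent.Recognition.SuzukiModule

variable {F : Type*} [Field F] [CharP F 2]

theorem charpoly_eq {k : ℕ} {g : GL (Fin 4) F} (hg : g ∈ Sz F (2 ^ k)) :
    g.1.charpoly = Polynomial.X ^ 4 + Polynomial.C g.1.trace * Polynomial.X ^ 3
      + Polynomial.C (g.1.trace ^ 2 ^ k) * Polynomial.X ^ 2 + Polynomial.C g.1.trace * Polynomial.X + 1 := by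
  obtain ⟨hS, hstar⟩ := szPred_of_mem hg
  have h2 : (2 : F) = 0 := CharTwo.two_eq_zero
  have hdetJ : (formMat F).det ≠ 0 := fun h => by
    have := congrArg Matrix.det (formMat_mul_self (F := F))
    rw [Matrix.det_mul, h, Matrix.det_one, zero_mul] at this
    exact zero_ne_one this
  have hdet : g.1.det = 1 := by
    have h := congrArg Matrix.det (transpose_mul hS)
    rw [Matrix.det_mul, Matrix.det_mul, Matrix.det_transpose] at h
    have hsq : g.1.det * g.1.det = 1 :=
      mul_right_cancel₀ hdetJ (by rw [one_mul]; linear_combination h)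
    have : (g.1.det - 1) ^ 2 = 0 := by linear_combination hsq + (1 - g.1.det) * h2
    exact sub_eq_zero.1 (pow_eq_zero_iff two_ne_zero |>.1 this)
  have hadj : g.1.adjugate.trace = g.1.trace := by
    have h := congrArg (g.1.adjugate * ·) (inv_eq hS)
    simp only [← Matrix.mul_assoc, Matrix.adjugate_mul, hdet, one_smul, Matrix.one_mul,
      Matrix.mul_one] at h
    rw [← h, Matrix.trace_mul_cycle, formMat_mul_self, Matrix.one_mul, Matrix.trace_transpose]
  have hm2 : minorsTwo g.1 = (star4 g.1).trace := by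
    have r03 := row_rel hS 0 3
    have c12 := col_rel hS 1 2
    simp [formMat] at r03 c12
    simp only [Matrix.trace, Matrix.diag, Fin.sum_univ_four, star4, Matrix.of_apply, minorsTwo]
    simp [pairOf]
    linear_combination r03 + c12
      - (-1 + g.1 0 2 * g.1 3 1 + g.1 0 1 * g.1 3 2 + g.1 0 3 * g.1 3 0 + g.1 2 1 * g.1 1 2) * h2
  have hb : minorsTwo g.1 = g.1.trace ^ 2 ^ k := by
    rw [hm2, hstar]
    simp [Matrix.trace, Matrix.diag, ← iterateFrobenius_def (p := 2), map_sum]
  rw [Matrix.charpoly, Matrix.charmatrix]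
  have e : Matrix.scalar (Fin 4) (Polynomial.X : Polynomial F)
      = (Polynomial.X : Polynomial F) • (1 : Matrix (Fin 4) (Fin 4) (Polynomial F)) := by
    rw [Matrix.scalar_apply, Matrix.smul_one_eq_diagonal]
  rw [e, det_smul_one_sub]
  have t1 : (Polynomial.C.mapMatrix g.1).trace = Polynomial.C g.1.trace := by
    simp [Matrix.trace, Matrix.diag]
  have t2 : (Polynomial.C.mapMatrix g.1).adjugate.trace = Polynomial.C g.1.adjugate.trace := by
    rw [← RingHom.map_adjugate]; simp [Matrix.trace, Matrix.diag]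
  have t3 : minorsTwo (Polynomial.C.mapMatrix g.1) = Polynomial.C (minorsTwo g.1) := by
    simp [minorsTwo]
  have t4 : (Polynomial.C.mapMatrix g.1).det = Polynomial.C g.1.det :=
    (RingHom.map_det _ _).symm
  rw [t1, t2, t3, t4, hadj, hb, hdet]
  simp only [map_one]
  linear_combination (-(Polynomial.C g.1.trace * Polynomial.X ^ 3) - Polynomial.C g.1.trace * Polynomial.X) * (CharTwo.two_eq_zero (R := Polynomial F))

end Cfsg.Agent.Recognition.SuzukiChar
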