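import Cfsg.Agent.Lib.Classical.Symplectic
import Cfsg.Agent.Recognition.Extension

/-!
The prime graph of the symplectic group of degree six over the field with three elements.
-/

set_option autoImplicit false
set_option maxRecDepth 100000

namespace Cfsg.Agent.Recognition.SympSix

open Matrix

/-- The index set. -/
abbrev I := Fin 3 ⊕ Fin 3

/-- The matrices. -/
abbrev M6 := Matrix I I (ZMod 3)

/-- A matrix from a table. -/
def lit (A : Fin 6 → Fin 6 → ZMod 3) : M6 :=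
  Matrix.of fun a b => A (finSumFinEquiv a) (finSumFinEquiv b)

/-- The matrix with rows indexed by exponents, from a table. -/
def litK (A : Fin 6 → Fin 6 → ZMod 3) : Matrix (Fin 6) I (ZMod 3) :=
  Matrix.of fun i b => A i (finSumFinEquiv b)

/-- The powers of an element of order 7. -/
def pows7 : Fin 7 → M6 :=
  ![lit ![![1,0,0,0,0,0],![0,1,0,0,0,0],![0,0,1,0,0,0],![0,0,0,1,0,0],![0,0,0,0,1,0],![0,0,0,0,0,1]],
    lit ![![0,2,1,2,2,0],![0,0,1,0,0,0],![1,0,1,0,1,0],![2,1,1,1,2,0],![2,0,2,2,0,1],![2,1,0,2,0,0]],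
    lit ![![0,2,0,0,2,2],![1,0,1,0,1,0],![0,2,1,1,0,1],![1,2,0,0,1,2],![2,1,0,2,1,0],![1,0,2,0,2,0]],
    lit ![![2,2,0,2,0,2],![0,2,1,1,0,1],![2,2,1,0,0,0],![0,1,2,2,2,1],![0,0,1,2,2,1],![0,2,1,0,1,2]],
    lit ![![2,2,0,1,2,0],![2,2,1,0,0,0],![1,1,2,1,2,0],![0,0,0,2,0,2],![2,0,1,2,2,2],![1,2,2,0,1,1]],
    lit ![![0,2,0,0,0,2],![1,1,2,1,2,0],![2,0,0,1,0,2],![2,1,2,0,1,0],![1,2,0,2,0,2],![0,0,1,0,1,1]],
    lit ![![1,2,2,1,0,0],![2,0,0,1,0,2],![0,1,0,0,0,0],![1,1,1,0,0,1],![2,0,2,2,0,0],![2,1,0,1,1,1]]]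

/-- Coordinates with respect to a cyclic vector. -/
def coord7 : Matrix (Fin 6) I (ZMod 3) :=
  litK ![![1,1,2,2,0,0],![0,1,0,1,0,1],![0,0,0,1,1,1],![0,0,2,2,1,2],![0,1,0,0,2,1],![0,2,0,2,1,0]]

/-- The powers of an element of order 13. -/
def pows13 : Fin 7 → M6 :=
  ![lit ![![1,0,0,0,0,0],![0,1,0,0,0,0],![0,0,1,0,0,0],![0,0,0,1,0,0],![0,0,0,0,1,0],![0,0,0,0,0,1]],
    lit ![![0,2,2,2,2,2],![0,1,0,1,2,2],![2,0,2,1,0,1],![2,1,1,0,0,0],![2,0,0,2,0,2],![1,0,0,1,1,0]],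
    lit ![![2,1,0,1,0,1],![2,2,1,1,1,0],![1,2,0,1,2,0],![2,2,0,0,0,1],![0,0,0,0,0,1],![1,0,0,1,2,1]],
    lit ![![0,0,2,0,1,0],![0,1,1,0,2,2],![0,2,0,2,0,1],![1,0,1,1,0,2],![1,0,0,1,1,0],![1,0,0,1,0,0]],
    lit ![![0,0,1,1,0,1],![2,1,2,2,1,1],![2,1,2,0,2,1],![0,0,2,2,1,0],![1,0,0,1,2,1],![2,0,0,2,2,2]],
    lit ![![2,1,0,2,1,1],![2,1,1,1,1,1],![0,2,2,0,1,0],![1,2,0,1,0,1],![1,0,0,1,0,0],![1,0,0,1,0,2]],
    lit ![![1,1,0,2,1,2],![1,0,1,0,1,0],![0,2,1,0,1,2],![0,2,0,2,1,0],![2,0,0,2,2,2],![1,0,0,1,1,2]]]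

/-- Coordinates with respect to a cyclic vector. -/
def coord13 : Matrix (Fin 6) I (ZMod 3) :=
  litK ![![1,2,2,0,2,1],![0,0,0,2,2,2],![0,0,2,2,0,1],![0,1,2,1,0,0],![0,0,1,0,1,2],![0,2,0,1,2,0]]

/-- An element whose image has order 6. -/
def elem6 : M6 :=
  lit ![![0,0,1,1,1,0],![0,1,1,0,2,1],![0,1,0,0,1,1],![2,0,1,2,1,0],![1,1,2,2,0,2],![2,0,2,1,0,2]]

/-- An element whose image has order 10. -/
def elem10 : M6 :=
  lit ![![0,2,1,0,2,0],![0,1,1,0,2,1],![0,2,0,1,0,1],![2,1,1,0,0,0],![1,1,2,2,0,2],![2,2,2,0,1,2]]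

/-- An element whose image has order 14. -/
def elem14 : M6 :=
  lit ![![1,0,1,1,1,2],![2,2,1,0,2,0],![1,1,0,0,0,2],![1,1,1,1,1,1],![2,1,1,0,2,2],![1,2,0,1,0,2]]

/-- An element whose image has order 15. -/
def elem15 : M6 :=
  lit ![![0,2,2,2,2,2],![0,1,0,1,2,2],![0,2,1,0,0,0],![2,1,1,0,0,0],![1,1,1,0,0,0],![2,2,2,0,1,2]]

/-- The standard form. -/
abbrev JJ : M6 := Matrix.J (Fin 3) (ZMod 3)

/-- The group. -/
abbrev Sp6 := Matrix.symplecticGroup (Fin 3) (ZMod 3)

/-- The projective group. -/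
abbrev P6 := Cfsg.PSp 3 (ZMod 3)

/-- Membership as a decidable equation. -/
def IsSymp (A : M6) : Prop := A * JJ * Aᵀ = JJ

theorem pows7_spec : pows7 1 * JJ * (pows7 1)ᵀ = JJ ∧ pows7 0 = 1 ∧
    (∀ i : Fin 6, pows7 i.castSucc * pows7 1 = pows7 i.succ) ∧ pows7 6 * pows7 1 = 1 := by
  decide +kernel

theorem pows13_spec : pows13 1 * JJ * (pows13 1)ᵀ = JJ ∧ pows13 0 = 1 ∧
    (∀ i : Fin 6, pows13 i.castSucc * pows13 1 = pows13 i.succ) ∧ pows13 6 * pows13 6 * pows13 1 = 1 := by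
  decide +kernel

theorem pows_eq (T : Fin 7 → M6) (h0 : T 0 = 1) (h : ∀ i : Fin 6, T i.castSucc * T 1 = T i.succ) :
    ∀ i : Fin 7, T i = T 1 ^ i.val := by
  intro i
  induction i using Fin.induction with
  | zero => simpa using h0
  | succ i ih => rw [← h i, ih, Fin.val_succ, pow_succ]; rfl

theorem pow_seven_of (T : Fin 7 → M6) (hT : ∀ i : Fin 7, T i = T 1 ^ i.val) (h : T 6 * T 1 = 1) :
    T 1 ^ 7 = 1 := by
  rw [hT 6] at h
  rw [pow_succ]
  exact h

theorem pow_thirteen_of (T : Fin 7 → M6) (hT : ∀ i : Fin 7, T i = T 1 ^ i.val) (h : T 6 * T 6 * T 1 = 1) :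
    T 1 ^ 13 = 1 := by
  rw [hT 6] at h
  rw [show 13 = 6 + 6 + 1 from rfl, pow_succ, pow_add]
  exact h

theorem pows7_pow : pows7 1 ^ 7 = 1 :=
  pow_seven_of pows7 (pows_eq pows7 pows7_spec.2.1 pows7_spec.2.2.1) pows7_spec.2.2.2

theorem pows13_pow : pows13 1 ^ 13 = 1 :=
  pow_thirteen_of pows13 (pows_eq pows13 pows13_spec.2.1 pows13_spec.2.2.1) pows13_spec.2.2.2

theorem pows7_ne : pows7 1 ≠ 1 ∧ pows7 1 ≠ -1 := by decide +kernel

theorem pows13_ne : pows13 1 ≠ 1 ∧ pows13 1 ≠ -1 := by decide +kernel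

/-- The matrix of the vectors `g ^ i e`. -/
def cyc (T : Fin 7 → M6) : Matrix I (Fin 6) (ZMod 3) :=
  Matrix.of fun a i => T i.castSucc a (Sum.inl 0)

theorem coord7_spec : cyc pows7 * coord7 = 1 := by decide +kernel

theorem coord13_spec : cyc pows13 * coord13 = 1 := by decide +kernel

/-- Linear combinations of the first six powers. -/
def comb (T : Fin 7 → M6) (v : Fin 6 → ZMod 3) : M6 :=
  Matrix.of fun a b => ∑ i, v i * T i.castSucc a b

theorem exists_comb (T : Fin 7 → M6) (K : Matrix (Fin 6) I (ZMod 3)) (hK : cyc T * K = 1)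
    (hT : ∀ i : Fin 7, T i = T 1 ^ i.val) (c : M6) (hc : c * T 1 = T 1 * c) :
    ∃ v, c = comb T v := by
  refine ⟨fun i => ∑ b, K i b * c b (Sum.inl 0), ?_⟩
  set p := comb T fun i => ∑ b, K i b * c b (Sum.inl 0) with hp
  have hp' : p = ∑ i : Fin 6, (∑ b, K i b * c b (Sum.inl 0)) • T i.castSucc := by
    ext a b
    simp [hp, comb, Matrix.sum_apply]
  have hcomm : ∀ i : Fin 6, Commute c (T i.castSucc) := fun i => by
    rw [hT]; exact Commute.pow_right hc _
  have hpc : ∀ i : Fin 6, Commute p (T i.castSucc) := fun i => by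
    rw [hp']
    refine Commute.sum_left _ _ _ fun j _ => Commute.smul_left ?_ _
    rw [hT i.castSucc, hT j.castSucc]
    exact Commute.pow_pow (Commute.refl _) _ _
  have he : ∀ a, (c - p) a (Sum.inl 0) = 0 := by
    intro a
    have h1 : (cyc T * K * c) a (Sum.inl 0) = p a (Sum.inl 0) := by
      rw [Matrix.mul_assoc]
      simp only [hp, comb, cyc, Matrix.mul_apply, Matrix.of_apply]
      exact Finset.sum_congr rfl fun i _ => mul_comm _ _
    rw [hK, Matrix.one_mul] at h1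
    rw [Matrix.sub_apply, h1, sub_self]
  have hz : (c - p) * cyc T = 0 := by
    ext a i
    have : ((c - p) * T i.castSucc) a (Sum.inl 0) = (T i.castSucc * (c - p)) a (Sum.inl 0) := by
      rw [((hcomm i).sub_left (hpc i)).eq]
    simp only [Matrix.mul_apply, cyc, Matrix.of_apply] at this ⊢
    rw [this]
    simp [he]
  have h := congrArg (· * K) hz
  simp only [Matrix.mul_assoc, hK, Matrix.mul_one, Matrix.zero_mul] at h
  exact sub_eq_zero.1 h

theorem comb_eq_aeval (T : Fin 7 → M6) (hT : ∀ i : Fin 7, T i = T 1 ^ i.val) (v : Fin 6 → ZMod 3) :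
    comb T v = Polynomial.aeval (T 1) (∑ i : Fin 6, Polynomial.monomial i.val (v i)) := by
  ext a b
  simp only [map_sum, Polynomial.aeval_monomial, ← Algebra.smul_def, Matrix.sum_apply, Matrix.smul_apply,
    smul_eq_mul, comb, Matrix.of_apply]
  refine Finset.sum_congr rfl fun i _ => ?_
  rw [hT]; rfl

theorem pow_27 (g : M6) (P : Polynomial (ZMod 3)) :
    Polynomial.aeval g P ^ 27 = Polynomial.aeval (g ^ 27) P := by
  have h : ∀ Q : Polynomial (ZMod 3), Q ^ 3 = Polynomial.expand (ZMod 3) 3 Q := fun Q =>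
    (ZMod.expand_card Q).symm
  rw [← map_pow, show P ^ 27 = ((P ^ 3) ^ 3) ^ 3 by ring]
  simp only [h, Polynomial.expand_aeval, ← pow_mul]

theorem J_aeval (g g' : M6) (h : JJ * gᵀ = g' * JJ) (P : Polynomial (ZMod 3)) :
    JJ * (Polynomial.aeval g P)ᵀ = Polynomial.aeval g' P * JJ := by
  induction P using Polynomial.induction_on' with
  | add p q hp hq => simp [Matrix.mul_add, Matrix.add_mul, hp, hq]
  | monomial n a =>
    simp only [Polynomial.aeval_monomial, ← Algebra.smul_def, Matrix.transpose_smul, Matrix.transpose_pow,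
      Matrix.mul_smul, Matrix.smul_mul]
    rw [(SemiconjBy.pow_right (show SemiconjBy JJ gᵀ g' from h) n).eq]

theorem cancel_J {A : M6} (h : JJ = A * JJ) : A = 1 := by
  have h' := congrArg (· * JJ) h
  simp only [Matrix.mul_assoc, Matrix.J_squared] at h'
  simpa using h'.symm

theorem centralizer_seven (c : M6) (hc : c * pows7 1 = pows7 1 * c) (hs : IsSymp c) : c ^ 28 = 1 := by
  obtain ⟨hg, h0, hstep, h7⟩ := pows7_spec
  have hT := pows_eq pows7 h0 hstep
  obtain ⟨v, rfl⟩ := exists_comb pows7 coord7 coord7_spec hT c hc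
  rw [comb_eq_aeval _ hT] at hs ⊢
  set g := pows7 1
  set P := ∑ i : Fin 6, Polynomial.monomial i.val (v i)
  have hg7 : g ^ 7 = 1 := pows7_pow
  have hg6 : g ^ 6 * g = 1 := by rw [← pow_succ, hg7]
  have hJ : JJ * gᵀ = g ^ 27 * JJ := by
    rw [show 27 = 7 * 3 + 6 from rfl, pow_add, pow_mul, hg7, one_pow, one_mul]
    calc JJ * gᵀ = g ^ 6 * (g * JJ * gᵀ) := by simp only [← Matrix.mul_assoc, hg6, Matrix.one_mul]
      _ = g ^ 6 * JJ := by rw [hg]
  have h := J_aeval g (g ^ 27) hJ P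
  rw [IsSymp, Matrix.mul_assoc, h, ← pow_27, ← Matrix.mul_assoc, ← pow_succ'] at hs
  exact cancel_J hs.symm

theorem invol_thirteen : ∀ v : Fin 6 → ZMod 3,
    (∀ a : I, ∑ b, comb pows13 v a b * comb pows13 v b (Sum.inl 0) = (1 : M6) a (Sum.inl 0)) →
      comb pows13 v * JJ * (comb pows13 v)ᵀ = JJ → comb pows13 v = 1 ∨ comb pows13 v = -1 := by
  decide +kernel

theorem centralizer_thirteen (c : M6) (hc : c * pows13 1 = pows13 1 * c) (hs : c ∈ Sp6) :
    c ^ 13 = 1 ∨ c ^ 13 = -1 := by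
  obtain ⟨hg, h0, hstep, h13⟩ := pows13_spec
  have hT := pows_eq pows13 h0 hstep
  obtain ⟨v, rfl⟩ := exists_comb pows13 coord13 coord13_spec hT c hc
  set c := comb pows13 v
  have hg13 : pows13 1 ^ 13 = 1 := pows13_pow
  have h27 : c ^ 27 = c := by
    simp only [c, comb_eq_aeval _ hT, pow_27]
    rw [show 27 = 13 * 2 + 1 from rfl, pow_succ, pow_mul, hg13, one_pow, one_mul]
  obtain ⟨u, hu⟩ : IsUnit c := (Matrix.isUnit_iff_isUnit_det c).2 (SymplecticGroup.symplectic_det hs)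
  have h26 : c ^ 26 = 1 := by
    rw [← hu] at h27 ⊢
    rw [pow_succ] at h27
    exact (Units.mul_left_inj u).1 (h27.trans (one_mul _).symm)
  obtain ⟨w, hw⟩ := exists_comb pows13 coord13 coord13_spec hT (c ^ 13)
    ((Commute.pow_left (show Commute c (pows13 1) from hc) 13).eq)
  rw [hw]
  refine invol_thirteen w (fun a => ?_) ?_
  · rw [← Matrix.mul_apply, ← hw, ← pow_add, h26]
  · rw [← hw]
    exact (SymplecticGroup.mem_iff).1 (pow_mem hs 13)

theorem center_iff (z : Sp6) : z ∈ Subgroup.center Sp6 ↔ (z : M6) = 1 ∨ (z : M6) = -1 := by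
  rw [Cfsg.Agent.Classical.Symplectic.mem_center_iff]
  constructor
  · rintro ⟨a, ha⟩
    have hz : (z : M6) = a • (1 : M6) := Matrix.ext_iff_mulVec.2 fun v => by
      rw [ha v, Matrix.smul_mulVec, Matrix.one_mulVec]
    have ha' : a = 0 ∨ a = 1 ∨ a = 2 := (show ∀ b : ZMod 3, b = 0 ∨ b = 1 ∨ b = 2 by decide) a
    rcases ha' with rfl | rfl | rfl
    · have := SymplecticGroup.symplectic_det z.2
      rw [hz, zero_smul, Matrix.det_zero] at this
      exact absurd this not_isUnit_zero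
    · exact Or.inl (by rw [hz, one_smul])
    · exact Or.inr (by rw [hz, show (2 : ZMod 3) = -1 by decide, neg_smul, one_smul])
  · rintro (h | h)
    · exact ⟨1, fun v => by rw [h, Matrix.one_mulVec, one_smul]⟩
    · exact ⟨-1, fun v => by rw [h, Matrix.neg_mulVec, Matrix.one_mulVec, neg_smul, one_smul]⟩

theorem neg_one_sq6 : (-1 : M6) ^ 2 = 1 := neg_one_sq

/-- Projection. -/
abbrev proj : Sp6 →* P6 := QuotientGroup.mk' _

theorem proj_eq_one (z : Sp6) : proj z = 1 ↔ (z : M6) = 1 ∨ (z : M6) = -1 := by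
  rw [← center_iff]; exact QuotientGroup.eq_one_iff z

theorem natCard_P6 : Nat.card P6 = 2 ^ 9 * 3 ^ 9 * 5 * 7 * 13 := by
  have h := Subgroup.card_eq_card_quotient_mul_card_subgroup (Subgroup.center Sp6)
  rw [Cfsg.Agent.Classical.Symplectic.natCard_sp, Cfsg.Agent.Classical.Symplectic.natCard_center (by norm_num),
    ZMod.card] at h
  simp only [Finset.prod_range_succ, Finset.prod_range_zero] at h
  norm_num at h ⊢
  change _ = Nat.card P6 * 2 at h
  omega

/-- The order of the image of a listed matrix, from a table of powers of the exponent. -/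
theorem orderOf_proj (h : Sp6) (n : ℕ) (hn : 0 < n) (h1 : proj h ^ n = 1)
    (h2 : ∀ p ∈ n.primeFactors, proj h ^ (n / p) ≠ 1) : orderOf (proj h) = n :=
  orderOf_eq_of_pow_and_pow_div_prime hn h1 fun p hp hd => h2 p (Nat.mem_primeFactors.2 ⟨hp, hd, hn.ne'⟩)

/-- Iterated products, sharing intermediate results. -/
def scalarPow (A : M6) (n : ℕ) : Bool :=
  decide (A ^ n = 1) || decide (A ^ n = -1)

theorem elem_checks :
    (IsSymp elem6 ∧ IsSymp elem10 ∧ IsSymp elem14 ∧ IsSymp elem15) ∧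
    (scalarPow elem6 6 = true ∧ scalarPow elem6 3 = false ∧ scalarPow elem6 2 = false) ∧
    (scalarPow elem10 10 = true ∧ scalarPow elem10 5 = false ∧ scalarPow elem10 2 = false) ∧
    (scalarPow elem14 14 = true ∧ scalarPow elem14 7 = false ∧ scalarPow elem14 2 = false) ∧
    (scalarPow elem15 15 = true ∧ scalarPow elem15 5 = false ∧ scalarPow elem15 3 = false) := by
  unfold IsSymp
  decide +kernel

theorem scalarPow_iff (h : Sp6) (n : ℕ) : scalarPow (h : M6) n = true ↔ proj h ^ n = 1 := by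
  rw [← map_pow, proj_eq_one]
  simp [scalarPow]

theorem exists_elem_two (A : M6) (hA : IsSymp A) (a b : ℕ) (ha : a.Prime) (hb : b.Prime)
    (h : scalarPow A (a * b) = true) (h1 : scalarPow A a = false) (h2 : scalarPow A b = false) :
    ∃ x : P6, orderOf x = a * b := by
  refine ⟨proj ⟨A, SymplecticGroup.mem_iff.2 hA⟩, orderOf_eq_of_pow_and_pow_div_prime
    (Nat.mul_pos ha.pos hb.pos) ((scalarPow_iff _ _).1 h) fun p hp hd e => ?_⟩
  rcases hp.dvd_mul.1 hd with hd' | hd'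
  · rw [(Nat.prime_dvd_prime_iff_eq hp ha).1 hd', Nat.mul_div_cancel_left _ ha.pos] at e
    exact Bool.false_ne_true (h2.symm.trans ((scalarPow_iff ⟨A, _⟩ _).2 e))
  · rw [(Nat.prime_dvd_prime_iff_eq hp hb).1 hd', Nat.mul_div_cancel _ hb.pos] at e
    exact Bool.false_ne_true (h1.symm.trans ((scalarPow_iff ⟨A, _⟩ _).2 e))

theorem centralizer_proj {p : ℕ} [Fact p.Prime] (hp : Odd p) (g : Sp6) (hg : (g : M6) ^ p = 1)
    (hg1 : (g : M6) ≠ 1) (hgn : (g : M6) ≠ -1) (hf : (Nat.card P6).factorization p = 1) (E : ℕ)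
    (hE : ∀ c : M6, c * (g : M6) = (g : M6) * c → c ∈ Sp6 → c ^ E = 1 ∨ c ^ E = -1) (x : P6)
    (hx : p ∣ orderOf x) : orderOf x ∣ E := by
  have hgo : orderOf (proj g) = p := orderOf_eq_prime
    (by rw [← map_pow, proj_eq_one]; exact Or.inl (by simpa using hg))
    fun e => by rcases (proj_eq_one g).1 e with h | h <;> contradiction
  set m := orderOf x / p with hm
  have hxm : orderOf (x ^ m) = p := orderOf_pow_orderOf_div (orderOf_pos x).ne' hx
  have hpx : Nat.card (Subgroup.zpowers (x ^ m)) = p ^ (Nat.card P6).factorization p := by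
    rw [hf, pow_one, Nat.card_zpowers, hxm]
  have hpg : Nat.card (Subgroup.zpowers (proj g)) = p ^ (Nat.card P6).factorization p := by
    rw [hf, pow_one, Nat.card_zpowers, hgo]
  obtain ⟨k, hk⟩ := MulAction.exists_smul_eq P6 (Sylow.ofCard _ hpx) (Sylow.ofCard _ hpg)
  have hgm : proj g ∈ ((k • Sylow.ofCard _ hpx : Sylow p P6) : Subgroup P6) := by
    rw [hk, Sylow.coe_ofCard]; exact Subgroup.mem_zpowers _
  rw [Sylow.coe_subgroup_smul] at hgm
  obtain ⟨u, hu, hug⟩ := hgm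
  have hu' : u ∈ Subgroup.zpowers (x ^ m) := hu
  obtain ⟨j, rfl⟩ := Subgroup.mem_zpowers_iff.1 hu'
  have hcomm : Commute (k * x * k⁻¹) (proj g) := by
    rw [show proj g = MulAut.conj k ((x ^ m) ^ j) from hug.symm, ← MulAut.conj_apply]
    exact ((Commute.self_pow x m).zpow_right j).map (MulAut.conj k)
  obtain ⟨h, hh⟩ := QuotientGroup.mk'_surjective (Subgroup.center Sp6) (k * x * k⁻¹)
  rw [← hh] at hcomm
  set z : Sp6 := h * g * h⁻¹ * g⁻¹ with hz
  have hzc : proj z = 1 := by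
    simp only [hz, map_mul, map_inv]
    rw [hcomm.eq]; group
  have hzg : ((h : M6) * g) = (z : M6) * ((g : M6) * h) := by
    rw [← Submonoid.coe_mul, ← Submonoid.coe_mul, ← Submonoid.coe_mul]
    exact congrArg Subtype.val (by rw [hz]; group)
  have hc : (h : M6) * g = g * h := by
    rcases (proj_eq_one z).1 hzc with h1 | h1
    · rw [hzg, h1, one_mul]
    · exfalso
      rw [h1] at hzg
      have hn : ∀ i : ℕ, (h : M6) * (g : M6) ^ i = ((-1 : M6) ^ i) * ((g : M6) ^ i * h) := by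
        intro i
        induction i with
        | zero => simp
        | succ i ih =>
          rw [pow_succ, ← mul_assoc, ih, mul_assoc, mul_assoc, hzg, pow_succ]
          simp [mul_assoc]
      have hpp := hn p
      rw [hg, mul_one, one_mul, hp.neg_one_pow, neg_one_mul] at hpp
      have hdet := SymplecticGroup.symplectic_det h.2
      have h0 : (h : M6) = 0 := by
        ext a b
        have := congrFun (congrFun hpp a) b
        exact (show ∀ t : ZMod 3, t = -t → t = 0 by decide) _ this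
      rw [h0, Matrix.det_zero] at hdet
      exact not_isUnit_zero hdet
  have hE' : proj h ^ E = 1 := by
    rw [← map_pow, proj_eq_one, SubmonoidClass.coe_pow]
    exact hE _ hc h.2
  rw [← (MulAut.conj k).orderOf_eq x]
  exact orderOf_dvd_of_pow_eq_one (by rw [MulAut.conj_apply, ← hh]; exact hE')

theorem dvd_seven (x : P6) (hx : 7 ∣ orderOf x) : orderOf x ∣ 28 := by
  obtain ⟨hg, -, -, -⟩ := pows7_spec
  haveI : Fact (Nat.Prime 7) := ⟨by norm_num⟩
  refine centralizer_proj (p := 7) (by decide) ⟨pows7 1, SymplecticGroup.mem_iff.2 hg⟩ pows7_pow pows7_ne.1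
    pows7_ne.2 ?_ 28 (fun c hc hs => Or.inl (centralizer_seven c hc (SymplecticGroup.mem_iff.1 hs))) x hx
  rw [natCard_P6, Nat.factorization_def _ (by norm_num),
    show 2 ^ 9 * 3 ^ 9 * 5 * 7 * 13 = 7 * 655050240 by norm_num, padicValNat.mul (by norm_num) (by norm_num),
      padicValNat.self (by norm_num), padicValNat.eq_zero_of_not_dvd (by norm_num)]

theorem dvd_thirteen (x : P6) (hx : 13 ∣ orderOf x) : orderOf x ∣ 13 := by
  obtain ⟨hg, -, -, -⟩ := pows13_spec
  haveI : Fact (Nat.Prime 13) := ⟨by norm_num⟩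
  refine centralizer_proj (p := 13) (by decide) ⟨pows13 1, SymplecticGroup.mem_iff.2 hg⟩ pows13_pow pows13_ne.1
    pows13_ne.2 ?_ 13 (fun c hc hs => centralizer_thirteen c hc hs) x hx
  rw [natCard_P6, Nat.factorization_def _ (by norm_num),
    show 2 ^ 9 * 3 ^ 9 * 5 * 7 * 13 = 13 * 352719360 by norm_num, padicValNat.mul (by norm_num) (by norm_num),
      padicValNat.self (by norm_num), padicValNat.eq_zero_of_not_dvd (by norm_num)]

/-- The edges. -/
def edges : List ℕ := [6, 10, 14, 15]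

theorem prime_iff (r : ℕ) (hr : r.Prime) : r ∣ Nat.card P6 ↔ r ∈ [2, 3, 5, 7, 13] := by
  rw [natCard_P6]
  constructor
  · intro h
    rw [hr.dvd_mul, hr.dvd_mul, hr.dvd_mul, hr.dvd_mul] at h
    rcases h with (((h | h) | h) | h) | h
    · simp [(Nat.prime_dvd_prime_iff_eq hr Nat.prime_two).1 (hr.dvd_of_dvd_pow h)]
    · simp [(Nat.prime_dvd_prime_iff_eq hr Nat.prime_three).1 (hr.dvd_of_dvd_pow h)]
    all_goals simp [(Nat.prime_dvd_prime_iff_eq hr (by norm_num)).1 h]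
  · intro h
    fin_cases h <;> norm_num

theorem edge_iff (r s : ℕ) (hr : r.Prime) (hs : s.Prime) (hrs : r ≠ s) :
    (∃ x : P6, orderOf x = r * s) ↔ r * s ∈ edges := by
  constructor
  · rintro ⟨x, hx⟩
    have hr' := (prime_iff r hr).1 ((dvd_mul_right r s).trans (hx ▸ orderOf_dvd_natCard x))
    have hs' := (prime_iff s hs).1 ((dvd_mul_left s r).trans (hx ▸ orderOf_dvd_natCard x))
    have h7 := hx ▸ dvd_seven x
    have h13 := hx ▸ dvd_thirteen x
    fin_cases hr' <;> fin_cases hs' <;> simp_all [edges]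
  · intro h
    obtain ⟨⟨s6, s10, s14, s15⟩, ⟨a6, b6, c6⟩, ⟨a10, b10, c10⟩, ⟨a14, b14, c14⟩, ⟨a15, b15, c15⟩⟩ := elem_checks
    simp only [edges, List.mem_cons, List.not_mem_nil, or_false] at h
    rcases h with h | h | h | h <;> rw [h]
    · exact exists_elem_two elem6 s6 2 3 Nat.prime_two Nat.prime_three a6 c6 b6
    · exact exists_elem_two elem10 s10 2 5 Nat.prime_two (by norm_num) a10 c10 b10
    · exact exists_elem_two elem14 s14 2 7 Nat.prime_two (by norm_num) a14 c14 b14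
    · exact exists_elem_two elem15 s15 3 5 Nat.prime_three (by norm_num) a15 c15 b15

end Cfsg.Agent.Recognition.SympSix
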