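import Mathlib

/-!
# The group `3³:4` on nine points

Three disjoint 3-cycles extended by the double transpositions inverting two of them.
-/

namespace Cfsg.Agent.Recognition.ThreeCubeFour

open Equiv

/-- Coordinates of the translations. -/
abbrev A := ZMod 3 × ZMod 3 × ZMod 3

/-- The translation with given coordinates. -/
def pj (a : A) : Perm (Fin 9) :=
  (swap (0 : Fin 9) 1 * swap 1 2) ^ a.1.val * (swap (3 : Fin 9) 4 * swap 4 5) ^ a.2.1.val *
    (swap (6 : Fin 9) 7 * swap 7 8) ^ a.2.2.val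

/-- The complement. -/
def pn : Fin 4 → Perm (Fin 9) :=
  ![1, swap (0 : Fin 9) 1 * swap 3 4, swap (0 : Fin 9) 1 * swap 6 7, swap (3 : Fin 9) 4 * swap 6 7]

/-- The action of the complement on the coordinates. -/
def sgn : Fin 4 → A → A :=
  ![fun a => a, fun a => (-a.1, -a.2.1, a.2.2), fun a => (-a.1, a.2.1, -a.2.2),
    fun a => (a.1, -a.2.1, -a.2.2)]

/-- The multiplication of the complement. -/
def mulK : Fin 4 → Fin 4 → Fin 4 :=
  ![![0, 1, 2, 3], ![1, 0, 3, 2], ![2, 3, 0, 1], ![3, 2, 1, 0]]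

theorem pj_zero : pj 0 = 1 := by decide +kernel
theorem pn_zero : pn 0 = 1 := by decide +kernel
theorem pj_add : ∀ a b : A, pj (a + b) = pj a * pj b := by decide +kernel
theorem pn_mul : ∀ k l : Fin 4, pn k * pn l = pn (mulK k l) := by decide +kernel
theorem pn_pj : ∀ (k : Fin 4) (a : A), pn k * pj a = pj (sgn k a) * pn k := by decide +kernel
theorem pj_eq_pn : ∀ (a : A) (k : Fin 4), pj a = pn k → a = 0 ∧ k = 0 := by decide +kernel
theorem mulK_self : ∀ k : Fin 4, mulK k k = 0 := by decide +kernel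
theorem mulK_cancel : ∀ k l : Fin 4, mulK k l = 0 → k = l := by decide +kernel
theorem sgn_sgn : ∀ (k : Fin 4) (a : A), sgn k (sgn k a) = a := by decide +kernel

theorem pn_mul_self (k : Fin 4) : pn k * pn k = 1 := by rw [pn_mul, mulK_self, pn_zero]

theorem pj_neg_mul (a : A) : pj (-a) * pj a = 1 := by rw [← pj_add, neg_add_cancel, pj_zero]

theorem pair_inj {a b : A} {k l : Fin 4} (h : pj a * pn k = pj b * pn l) : a = b ∧ k = l := by
  have h1 : pj (-b + a) = pn (mulK l k) := by
    rw [pj_add, ← pn_mul]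
    calc pj (-b) * pj a = pj (-b) * (pj a * pn k) * pn k := by
          rw [mul_assoc _ (pj a * pn k), mul_assoc (pj a), pn_mul_self, mul_one]
      _ = pj (-b) * pj b * (pn l * pn k) := by rw [h]; group
      _ = pn l * pn k := by rw [pj_neg_mul, one_mul]
  obtain ⟨h2, h3⟩ := pj_eq_pn _ _ h1
  exact ⟨(neg_add_eq_zero.1 h2).symm, (mulK_cancel _ _ h3).symm⟩

/-- The generators of the statement. -/
def gens : Set (Perm (Fin 9)) :=
  {swap (0 : Fin 9) 1 * swap 1 2, swap (3 : Fin 9) 4 * swap 4 5, swap (6 : Fin 9) 7 * swap 7 8,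
    swap (0 : Fin 9) 1 * swap 3 4, swap (0 : Fin 9) 1 * swap 6 7}

theorem pj_mem (a : A) : pj a ∈ Subgroup.closure gens :=
  Subgroup.mul_mem _ (Subgroup.mul_mem _ (Subgroup.pow_mem _ (Subgroup.subset_closure (by simp [gens])) _)
    (Subgroup.pow_mem _ (Subgroup.subset_closure (by simp [gens])) _))
    (Subgroup.pow_mem _ (Subgroup.subset_closure (by simp [gens])) _)

theorem pn_mem (k : Fin 4) : pn k ∈ Subgroup.closure gens := by
  have h1 : pn 1 ∈ Subgroup.closure gens := Subgroup.subset_closure (by simp [gens, pn])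
  have h2 : pn 2 ∈ Subgroup.closure gens := Subgroup.subset_closure (by simp [gens, pn])
  fin_cases k
  · show pn 0 ∈ _; rw [pn_zero]; exact Subgroup.one_mem _
  · exact h1
  · exact h2
  · show pn (mulK 1 2) ∈ _; rw [← pn_mul]; exact Subgroup.mul_mem _ h1 h2

theorem exists_pair {p : Perm (Fin 9)} (hp : p ∈ Subgroup.closure gens) :
    ∃ a k, p = pj a * pn k := by
  induction hp using Subgroup.closure_induction with
  | mem g hg =>
    rcases hg with rfl | rfl | rfl | rfl | rfl
    · exact ⟨(1, 0, 0), 0, by decide +kernel⟩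
    · exact ⟨(0, 1, 0), 0, by decide +kernel⟩
    · exact ⟨(0, 0, 1), 0, by decide +kernel⟩
    · exact ⟨0, 1, by decide +kernel⟩
    · exact ⟨0, 2, by decide +kernel⟩
  | one => exact ⟨0, 0, by rw [pj_zero, pn_zero, one_mul]⟩
  | mul g h _ _ hg hh =>
    obtain ⟨a, k, rfl⟩ := hg
    obtain ⟨b, l, rfl⟩ := hh
    exact ⟨a + sgn k b, mulK k l, by
      rw [pj_add, ← pn_mul]
      calc pj a * pn k * (pj b * pn l) = pj a * (pn k * pj b) * pn l := by group
        _ = pj a * pj (sgn k b) * (pn k * pn l) := by rw [pn_pj]; group⟩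
  | inv g _ hg =>
    obtain ⟨a, k, rfl⟩ := hg
    refine ⟨sgn k (-a), k, inv_eq_of_mul_eq_one_right ?_⟩
    calc pj a * pn k * (pj (sgn k (-a)) * pn k) = pj a * (pn k * pj (sgn k (-a))) * pn k := by group
      _ = pj (a + -a) * (pn k * pn k) := by rw [pn_pj, sgn_sgn, pj_add]; group
      _ = 1 := by rw [add_neg_cancel, pj_zero, pn_mul_self, mul_one]

end Cfsg.Agent.Recognition.ThreeCubeFour
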