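import Cfsg.Agent.S0016
import Cfsg.Agent.Lib.Involutions.SylowGLTwo

/-!
Linear p-groups transitive on the nonzero vectors.
-/

set_option autoImplicit false
open scoped MatrixGroups

namespace Cfsg.Agent.Recognition.TransitiveLinearPGroup

theorem two_pow_sub_one_prime_pow {p k m : ℕ} (hp : p.Prime) (hm : 0 < m) (h : 2 ^ k - 1 = p ^ m) : m = 1 := by
  by_contra hm1
  have hpos := Nat.one_le_pow m p hp.pos
  have hk1 : p ^ m + 1 = 2 ^ k := by omega
  have hp2 : p ≠ 2 := by
    rintro rfl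
    have h2 : 2 ∣ 2 ^ m := dvd_pow_self 2 hm.ne'
    have hk : 2 ∣ 2 ^ k := by
      rcases Nat.eq_zero_or_pos k with hk | hk
      · rw [hk, pow_zero] at hk1; omega
      · exact dvd_pow_self 2 hk.ne'
    omega
  have hodd : p % 2 = 1 := hp.mod_two_eq_one_iff_ne_two.2 hp2
  have hk2 : 2 ≤ k := by
    by_contra hlt
    have h1 : 2 ^ k ≤ 2 ^ 1 := Nat.pow_le_pow_right two_pos (by omega)
    have : p ≤ p ^ m := Nat.le_self_pow hm.ne' p
    have := hp.two_le
    omega
  obtain ⟨i, rfl⟩ : ∃ i, m = 2 * i + 1 := by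
    rcases Nat.even_or_odd m with ⟨i, hi⟩ | h
    · exfalso
      have h4 : 4 ∣ 2 ^ k := by
        rw [show (4 : ℕ) = 2 ^ 2 by norm_num]; exact Nat.pow_dvd_pow 2 hk2
      obtain ⟨c, hc⟩ : Odd (p ^ i) := (Nat.odd_iff.2 hodd).pow
      have : p ^ m = 4 * (c * c + c) + 1 := by rw [hi, pow_add, hc]; ring
      omega
    · exact h
  obtain ⟨j, -, hj⟩ := (Nat.dvd_prime_pow Nat.prime_two).1 (show p + 1 ∣ 2 ^ k from
    hk1 ▸ by simpa using Odd.nat_add_dvd_pow_add_pow p 1 (odd_two_mul_add_one i))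
  have hsq : p ^ 2 ≡ 1 [MOD 2 ^ (j + 1)] := by
    have e : p ^ 2 - 1 = (p + 1) * (p - 1) := by rw [← Nat.sq_sub_sq, one_pow]
    refine ((Nat.modEq_iff_dvd' (Nat.one_le_pow _ _ hp.pos)).2 ?_).symm
    rw [e, hj, pow_succ]
    exact Nat.mul_dvd_mul_left _ (by omega)
  have h1 : p ^ (2 * i + 1) + 1 ≡ p + 1 [MOD 2 ^ (j + 1)] := by
    have := ((hsq.pow i).mul_right p).add_right 1
    rwa [one_pow, one_mul, ← pow_mul, ← pow_succ] at this
  rw [hk1, hj] at h1
  have hi : 0 < i := by omega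
  have hlt : j < k := by
    refine (Nat.pow_lt_pow_iff_right (a := 2) (by norm_num)).1 ?_
    rw [← hj, ← hk1]
    have : p ^ 1 < p ^ (2 * i + 1) := Nat.pow_lt_pow_right hp.one_lt (by omega)
    rw [pow_one] at this
    omega
  have h0 : 2 ^ k % 2 ^ (j + 1) = 0 := Nat.mod_eq_zero_of_dvd (Nat.pow_dvd_pow 2 hlt) |> id
  rw [Nat.ModEq, h0, Nat.mod_eq_of_lt (Nat.pow_lt_pow_right (by norm_num) (Nat.lt_succ_self j))] at h1
  exact absurd h1.symm (pow_pos two_pos j).ne'

theorem odd_pow_eq_two_pow_add_one {q k m : ℕ} (hq : q.Prime) (hq2 : q ≠ 2) (hk : 0 < k)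
    (h : q ^ k = 2 ^ m + 1) : k = 1 ∨ (q = 3 ∧ k = 2) := by
  have hodd : q % 2 = 1 := hq.mod_two_eq_one_iff_ne_two.2 hq2
  rcases Nat.even_or_odd k with ⟨l, hl⟩ | ⟨i, rfl⟩
  · right
    have hl0 : 0 < l := by omega
    have hx1 : 1 ≤ q ^ l := Nat.one_le_pow _ _ hq.pos
    have e : (q ^ l + 1) * (q ^ l - 1) = 2 ^ m := by
      have e1 : q ^ l * q ^ l = q ^ k := by rw [← pow_add, ← hl]
      have e2 := Nat.sq_sub_sq (q ^ l) 1
      rw [one_pow, pow_two, e1, h, Nat.add_sub_cancel] at e2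
      exact e2.symm
    obtain ⟨a, -, ha⟩ := (Nat.dvd_prime_pow Nat.prime_two).1 (Dvd.intro _ e)
    obtain ⟨b, -, hb⟩ := (Nat.dvd_prime_pow Nat.prime_two).1 (Dvd.intro_left _ e)
    have h3 : q ^ l = 3 := by
      have hq3 : 3 ≤ q := by have := hq.two_le; omega
      have hql : q ≤ q ^ l := Nat.le_self_pow hl0.ne' q
      match b, hb with
      | 0, hb => omega
      | 1, hb => omega
      | b + 2, hb =>
        exfalso
        have h4 : 4 ∣ 2 ^ (b + 2) := ⟨2 ^ b, by rw [pow_add]; ring⟩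
        match a, ha with
        | 0, ha => omega
        | 1, ha => omega
        | a + 2, ha =>
          have h4' : 4 ∣ 2 ^ (a + 2) := ⟨2 ^ a, by rw [pow_add]; ring⟩
          omega
    have hq3 : q = 3 := (Nat.prime_dvd_prime_iff_eq hq Nat.prime_three).1 (h3 ▸ dvd_pow_self q hl0.ne')
    refine ⟨hq3, ?_⟩
    subst hq3
    have : l = 1 := Nat.pow_right_injective (le_refl 2 |>.trans (by norm_num)) (h3.trans (pow_one 3).symm)
    omega
  · left
    by_contra hne
    have hi : 0 < i := by omega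
    have hd : q - 1 ∣ 2 ^ m := by
      have := Nat.sub_dvd_pow_sub_pow q 1 (2 * i + 1)
      rw [one_pow, h, Nat.add_sub_cancel] at this
      exact this
    obtain ⟨a, -, ha⟩ := (Nat.dvd_prime_pow Nat.prime_two).1 hd
    have hsq : q ^ 2 ≡ 1 [MOD 2 ^ (a + 1)] := by
      have e : q ^ 2 - 1 = (q + 1) * (q - 1) := by rw [← Nat.sq_sub_sq, one_pow]
      refine ((Nat.modEq_iff_dvd' (Nat.one_le_pow _ _ hq.pos)).2 ?_).symm
      rw [e, ha, pow_succ, mul_comm]
      exact Nat.mul_dvd_mul_right (by omega) _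
    have h1 : q ^ (2 * i + 1) ≡ q [MOD 2 ^ (a + 1)] := by
      have := (hsq.pow i).mul_right q
      rwa [one_pow, one_mul, ← pow_mul, ← pow_succ] at this
    rw [h, show q = 2 ^ a + 1 by have := hq.two_le; omega] at h1
    have hlt : a < m := by
      refine (Nat.pow_lt_pow_iff_right (a := 2) (by norm_num)).1 ?_
      have : q ^ 1 < q ^ (2 * i + 1) := Nat.pow_lt_pow_right hq.one_lt (by omega)
      rw [pow_one] at this
      omega
    have h2 := Nat.ModEq.add_right_cancel' 1 h1
    rw [Nat.ModEq, Nat.mod_eq_zero_of_dvd (Nat.pow_dvd_pow 2 hlt),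
      Nat.mod_eq_of_lt (Nat.pow_lt_pow_right (by norm_num) (Nat.lt_succ_self a))] at h2
    exact absurd h2.symm (pow_pos two_pos a).ne'

theorem main (q : ℕ) [Fact q.Prime] {V : Type*} [AddCommGroup V] [Module (ZMod q) V] [Finite V] [Nontrivial V]
    {G : Type*} [Group G] [Finite G] [Nontrivial G] (p : ℕ) [hpf : Fact p.Prime] (hG : IsPGroup p G)
    (ρ : G →* (V ≃ₗ[ZMod q] V)) (hρ : Function.Injective ρ)
    (htrans : ∀ v w : V, v ≠ 0 → w ≠ 0 → ∃ g : G, ρ g v = w) :
    (q = 2 ∧ p = Nat.card V - 1 ∧ Nat.card G = p) ∨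
    (p = 2 ∧ Nat.card V = q ∧ (∃ m : ℕ, q = 2 ^ m + 1 ∧ Nat.card G = 2 ^ m) ∧ IsCyclic G) ∨
    (p = 2 ∧ q = 3 ∧ Nat.card V = 9 ∧
      ((IsCyclic G ∧ Nat.card G = 8) ∨ Nonempty (G ≃* QuaternionGroup 2) ∨ (Cfsg.IsQuasiDihedral G ∧ Nat.card G = 16))) := by
  classical
  have hp := hpf.out
  have hq : q.Prime := Fact.out
  haveI : Module.Finite (ZMod q) V := Module.Finite.of_finite
  set k := Module.finrank (ZMod q) V with hkdef
  have hV : Nat.card V = q ^ k := by
    have h : Nat.card V = Nat.card (ZMod q) ^ Module.finrank (ZMod q) V := Module.natCard_eq_pow_finrank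
    rwa [Nat.card_zmod] at h
  have hk : 0 < k := by
    rcases Nat.eq_zero_or_pos k with h | h
    · rw [h, pow_zero] at hV
      have := Finite.one_lt_card (α := V)
      omega
    · exact h
  -- the action on nonzero vectors
  letI : MulAction G {v : V // v ≠ 0} :=
    { smul := fun g v => ⟨ρ g v.1, (LinearEquiv.map_ne_zero_iff _).2 v.2⟩
      one_smul := fun v => Subtype.ext (by change ρ 1 v.1 = v.1; rw [map_one]; rfl)
      mul_smul := fun g h v => Subtype.ext (by change ρ (g * h) v.1 = ρ g (ρ h v.1); rw [map_mul]; rfl) }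
  have hXcard : Nat.card {v : V // v ≠ 0} = Nat.card V - 1 := by
    haveI : Fintype V := Fintype.ofFinite V
    rw [Nat.card_eq_fintype_card, Fintype.card_subtype_compl, Fintype.card_subtype_eq, Nat.card_eq_fintype_card]
  obtain ⟨v₀, hv₀⟩ := exists_ne (0 : V)
  haveI : MulAction.IsPretransitive G {v : V // v ≠ 0} :=
    ⟨fun v w => by obtain ⟨g, hg⟩ := htrans v.1 w.1 v.2 w.2; exact ⟨g, Subtype.ext hg⟩⟩
  have hfaith : Function.Injective (MulAction.toPermHom G {v : V // v ≠ 0}) := by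
    intro g h e
    refine hρ (LinearEquiv.ext fun v => ?_)
    rcases eq_or_ne v 0 with rfl | hv
    · simp
    · exact congrArg Subtype.val (Equiv.congr_fun e ⟨v, hv⟩)
  obtain ⟨m, hm⟩ := hG.card_orbit (⟨v₀, hv₀⟩ : {v : V // v ≠ 0})
  rw [MulAction.orbit_eq_univ, Nat.card_congr (Equiv.Set.univ _), hXcard, hV] at hm
  have hGle : q ^ k - 1 ≤ Nat.card G := by
    rw [← hV, ← hXcard]
    exact Nat.card_le_card_of_surjective _ (MulAction.surjective_smul G (⟨v₀, hv₀⟩ : {v : V // v ≠ 0}))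
  obtain ⟨e, he⟩ := IsPGroup.iff_card.1 hG
  have he1 : 1 ≤ e := by
    rcases Nat.eq_zero_or_pos e with h | h
    · have := Finite.one_lt_card (α := G)
      rw [he, h, pow_zero] at this
      omega
    · exact h
  by_cases hq2 : q = 2
  · left
    have hm0 : 0 < m := by
      rcases Nat.eq_zero_or_pos m with h | h
      · exfalso
        haveI : Subsingleton {v : V // v ≠ 0} := Finite.card_le_one_iff_subsingleton.1 (by rw [hXcard, hV, hm, h, pow_zero])
        obtain ⟨g, hg⟩ := exists_ne (1 : G)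
        exact hg (hfaith (Equiv.ext fun v => Subsingleton.elim _ _))
      · exact h
    have hm1 : m = 1 := two_pow_sub_one_prime_pow hp hm0 (hq2 ▸ hm)
    rw [hm1, pow_one] at hm
    refine ⟨hq2, by rw [hV]; exact hm.symm, ?_⟩
    have hdvd : Nat.card G ∣ p.factorial := by
      have h1 := Subgroup.card_dvd_of_injective _ hfaith
      rwa [Nat.card_perm, hXcard, hV, hm] at h1
    have he1' : e = 1 := by
      by_contra hne
      have h2 : p * p ∣ p.factorial := by
        rw [← pow_two]; exact (Nat.pow_dvd_pow p (show 2 ≤ e by omega)).trans (he ▸ hdvd)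
      have h3 : p * p ∣ p * (p - 1).factorial := by rwa [Nat.mul_factorial_pred hp.ne_zero]
      have h4 : p ∣ (p - 1).factorial := Nat.dvd_of_mul_dvd_mul_left hp.pos h3
      have := hp.two_le
      have := (Nat.Prime.dvd_factorial hp).1 h4
      omega
    rw [he, he1', pow_one]
  -- q odd, so p = 2
  have hqodd : q % 2 = 1 := hq.mod_two_eq_one_iff_ne_two.2 hq2
  have hqk : q ^ k % 2 = 1 := Nat.odd_iff.1 ((Nat.odd_iff.2 hqodd).pow)
  have hq3 : 3 ≤ q ^ k := by
    have := hq.two_le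
    have := Nat.le_self_pow hk.ne' q
    omega
  have hm0 : 0 < m := by
    rcases Nat.eq_zero_or_pos m with h | h
    · rw [h, pow_zero] at hm; omega
    · exact h
  have hp2 : p = 2 := by
    have h2 : 2 ∣ p ^ m := hm ▸ (by omega)
    exact ((Nat.prime_dvd_prime_iff_eq Nat.prime_two hp).1 (Nat.prime_two.dvd_of_dvd_pow h2)).symm
  subst hp2
  right
  rcases odd_pow_eq_two_pow_add_one hq hq2 hk (m := m) (by omega) with hk1 | ⟨rfl, hk2⟩
  · left
    rw [hk1, pow_one] at hV hm hGle hq3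
    have hspan : ∀ v : V, ∃ c : ZMod q, c • v₀ = v := by
      have := (finrank_eq_one_iff_of_nonzero' v₀ hv₀).1 hk1
      exact this
    choose c hc using hspan
    have hcu : ∀ (a b : ZMod q), a • v₀ = b • v₀ → a = b := fun a b h => smul_left_injective (ZMod q) hv₀ h
    let φ : G →* ZMod q :=
      { toFun := fun g => c (ρ g v₀)
        map_one' := hcu _ _ (by rw [hc, map_one, one_smul]; rfl)
        map_mul' := fun g h => hcu _ _ (by
          rw [hc, map_mul, mul_comm, mul_smul, hc (ρ g v₀), ← map_smul, hc]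
          rfl) }
    have hφ : Function.Injective φ.toHomUnits := by
      intro g h e
      have e' : c (ρ g v₀) = c (ρ h v₀) := congrArg Units.val e
      refine hρ (LinearEquiv.ext fun v => ?_)
      rw [← hc v, map_smul, map_smul, ← hc (ρ g v₀), ← hc (ρ h v₀), e']
    haveI : IsCyclic G := isCyclic_of_injective φ.toHomUnits hφ
    refine ⟨rfl, hV, ⟨m, by omega, le_antisymm ?_ (hm ▸ hGle)⟩, inferInstance⟩
    have h1 := Nat.card_le_card_of_injective _ hφ
    rw [Nat.card_units, Nat.card_zmod, hm] at h1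
    exact h1
  · right
    rw [hk2] at hV hGle
    norm_num at hV hGle
    refine ⟨rfl, rfl, hV, ?_⟩
    have hrank : Module.finrank (ZMod 3) V = 2 := hk2
    haveI : Fact (Nat.Prime 3) := ⟨Nat.prime_three⟩
    let b := Module.finBasisOfFinrankEq (ZMod 3) V hrank
    let φ₀ : G →* Matrix (Fin 2) (Fin 2) (ZMod 3) :=
      { toFun := fun g => LinearMap.toMatrix b b (ρ g : V →ₗ[ZMod 3] V)
        map_one' := by
          rw [show ((ρ 1 : V ≃ₗ[ZMod 3] V) : V →ₗ[ZMod 3] V) = LinearMap.id from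
            LinearMap.ext fun v => by rw [map_one]; rfl, LinearMap.toMatrix_id]
        map_mul' := fun g h => by
          rw [show ((ρ (g * h) : V ≃ₗ[ZMod 3] V) : V →ₗ[ZMod 3] V) = (ρ g : V →ₗ[ZMod 3] V).comp (ρ h : V →ₗ[ZMod 3] V) from
            LinearMap.ext fun v => by rw [map_mul]; rfl, LinearMap.toMatrix_comp b b b] }
    have hψ : Function.Injective φ₀.toHomUnits := fun g h e =>
      hρ (LinearEquiv.ext fun v => LinearMap.congr_fun ((LinearMap.toMatrix b b).injective (congrArg Units.val e)) v)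
    have hGL : Nat.card (GL (Fin 2) (ZMod 3)) = 48 := by
      rw [Matrix.card_GL_field]
      simp [Fin.prod_univ_two]
    have hdvd := Subgroup.card_dvd_of_injective _ hψ
    rw [hGL, he] at hdvd
    have he4 : e ≤ 4 := by
      by_contra hlt
      have : 32 ∣ 48 := (Nat.pow_dvd_pow 2 (show 5 ≤ e by omega)).trans hdvd
      norm_num at this
    have he3 : 3 ≤ e := by
      by_contra hlt
      have : 2 ^ e ≤ 2 ^ 2 := Nat.pow_le_pow_right two_pos (by omega)
      rw [he] at hGle
      omega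
    obtain rfl | rfl : e = 3 ∨ e = 4 := by omega
    · norm_num at he
      have hreg : ∀ g : G, ∀ v : V, v ≠ 0 → ρ g v = v → g = 1 := by
        intro g v hv hgv
        have hbij : Function.Bijective fun g : G => g • (⟨v, hv⟩ : {v : V // v ≠ 0}) :=
          (Nat.bijective_iff_surjective_and_card _).2 ⟨MulAction.surjective_smul G _, by rw [he, hXcard, hV]⟩
        exact hbij.1 (Subtype.ext (by change ρ g v = ρ 1 v; rw [hgv, map_one]; rfl))
      have hinv : ∀ g : G, g * g = 1 → g ≠ 1 → ∀ v, ρ g v = -v := by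
        intro g hg hg1 v
        by_contra hne
        refine hg1 (hreg g (v + ρ g v) (fun h => hne (eq_neg_of_add_eq_zero_right h)) ?_)
        rw [map_add, show ρ g (ρ g v) = (ρ (g * g)) v by rw [map_mul]; rfl, hg, map_one, add_comm]
        rfl
      have huniq : ∀ H K : Subgroup G, Nat.card H = 2 → Nat.card K = 2 → H = K := by
        intro H K hH hK
        have key : ∀ L : Subgroup G, Nat.card L = 2 → ∃ x ∈ L, x * x = 1 ∧ x ≠ 1 ∧ Subgroup.zpowers x = L := by
          intro L hL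
          obtain ⟨⟨x, hx⟩, hxo⟩ := exists_prime_orderOf_dvd_card' (G := L) 2 (by rw [hL])
          rw [Subgroup.orderOf_mk] at hxo
          exact ⟨x, hx, by rw [← pow_two, ← hxo, pow_orderOf_eq_one], fun h => by rw [h, orderOf_one] at hxo; omega,
            Subgroup.eq_of_le_of_card_ge (Subgroup.zpowers_le.2 hx) (by rw [Nat.card_zpowers, hxo, hL])⟩
        obtain ⟨x, -, hx2, hx1, hxH⟩ := key H hH
        obtain ⟨y, -, hy2, hy1, hyK⟩ := key K hK
        rw [← hxH, ← hyK, hρ (LinearEquiv.ext fun v => (hinv x hx2 hx1 v).trans (hinv y hy2 hy1 v).symm)]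
      rcases S0016.result 2 hG huniq with hc | ⟨-, n, ⟨f⟩⟩
      · exact Or.inl ⟨hc, he⟩
      · refine Or.inr (Or.inl ?_)
        have hn := Nat.card_congr f.toEquiv
        rw [he, Nat.card_eq_fintype_card, QuaternionGroup.card] at hn
        have : 2 ^ n = 2 ^ 1 := by omega
        obtain rfl := Nat.pow_right_injective le_rfl this
        exact ⟨f⟩
    · refine Or.inr (Or.inr ⟨?_, by rw [he]; norm_num⟩)
      set R := φ₀.toHomUnits.range
      have hR : Nat.card R = 16 := by
        rw [← Nat.card_congr (MonoidHom.ofInjective hψ).toEquiv, he]; norm_num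
      obtain ⟨P, hP⟩ := (IsPGroup.of_card (n := 4) (by rw [hR]; norm_num) : IsPGroup 2 R).exists_le_sylow
      have hPR : R = (P : Subgroup (GL (Fin 2) (ZMod 3))) := by
        refine Subgroup.eq_of_le_of_card_ge hP ?_
        obtain ⟨j, hj⟩ := IsPGroup.iff_card.1 P.isPGroup'
        have h2 := Subgroup.card_subgroup_dvd_card (P : Subgroup (GL (Fin 2) (ZMod 3)))
        rw [hj, hGL] at h2
        rw [hj, hR]
        have : j ≤ 4 := by
          by_contra hlt
          have : 32 ∣ 48 := (Nat.pow_dvd_pow 2 (show 5 ≤ j by omega)).trans h2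
          norm_num at this
        calc 2 ^ j ≤ 2 ^ 4 := Nat.pow_le_pow_right two_pos this
          _ = 16 := by norm_num
      obtain ⟨n, hn, hncard, x, y, hx, hy, hxy⟩ :=
        Involutions.SylowGLTwo.isQuasiDihedral_GL (by rw [ZMod.card]) P
      let f : G ≃* (P : Subgroup (GL (Fin 2) (ZMod 3))) :=
        (MonoidHom.ofInjective hψ).trans (MulEquiv.subgroupCongr hPR)
      refine ⟨n, hn, by rw [Nat.card_congr f.toEquiv, hncard], f.symm x, f.symm y, ?_, ?_, ?_⟩
      · exact (orderOf_injective f.symm.toMonoidHom f.symm.injective x).trans hx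
      · exact (orderOf_injective f.symm.toMonoidHom f.symm.injective y).trans hy
      · rw [← map_inv, ← map_mul, ← map_mul, hxy, map_pow]

end Cfsg.Agent.Recognition.TransitiveLinearPGroup
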