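import Mathlib

/-!
# Products of two elements of order 3 of order 3

Two elements `x`, `y` with `x³ = y³ = (xy)³ = 1` generate an image of a Euclidean triangle group,
which is abelian by `C₃`.
-/

namespace Cfsg.Agent.Recognition.Triangle

variable {G : Type*} [Group G] [Finite G]

/-- If the 3-subgroups are abelian and elements of 3'-order centralized by an element `z` of order 3
behave as in a group with `C(z) ≤ N(T)` for the Sylow subgroups `T`, then nonconjugate `x`, `y` with
`x³ = y³ = (xy)³ = 1` commute. -/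
theorem commute_of_triangle {x y : G} (hx : orderOf x = 3) (hy : y ^ 3 = 1) (hxy : (x * y) ^ 3 = 1)
    (hP : ∀ Q : Subgroup G, IsPGroup 3 Q → ∀ g ∈ Q, ∀ h ∈ Q, g * h = h * g)
    (hc : ∀ z w m : G, orderOf z = 3 → w ^ 3 = 1 → w * z = z * w → m * z = z * m →
      (orderOf m).Coprime 3 → m * (w * m * w⁻¹) = w * m * w⁻¹ * m → m * w = w * m)
    (hne : ¬ IsConj x y) : x * y = y * x := by
  classical
  haveI : Fact (Nat.Prime 3) := ⟨Nat.prime_three⟩
  have hx3 : x ^ 3 = 1 := hx ▸ pow_orderOf_eq_one x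
  have hx' : x * x * x = 1 := by rw [← pow_two, ← pow_succ]; exact hx3
  have hy' : y * y * y = 1 := by rw [← hy, pow_succ, pow_two]
  have hxy' : x * y * (x * y) * (x * y) = 1 := by rw [← hxy, pow_succ, pow_two]
  set u := x * y⁻¹ with hu
  set v := y⁻¹ * x with hv
  have hinvx : x⁻¹ = x * x := inv_eq_of_mul_eq_one_right (by rw [← mul_assoc]; exact hx')
  have hinvy : y⁻¹ = y * y := inv_eq_of_mul_eq_one_right (by rw [← mul_assoc]; exact hy')
  have huv : u * v = x * y * x := by
    calc u * v = x * (y⁻¹ * y⁻¹) * x := by simp only [hu, hv]; group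
      _ = x * (y * y * (y * y)) * x := by rw [hinvy]
      _ = x * (y * y * y) * y * x := by group
      _ = x * y * x := by rw [hy', mul_one]
  have hvu : v * u = x * y * x := by
    calc v * u = y⁻¹ * (x * x) * y⁻¹ := by simp only [hu, hv]; group
      _ = y⁻¹ * x⁻¹ * y⁻¹ := by rw [hinvx]
      _ = (x * y * (x * y) * (x * y)) * (y⁻¹ * x⁻¹ * y⁻¹) := by rw [hxy', one_mul]
      _ = x * y * x := by group
  have hcuv : u * v = v * u := huv.trans hvu.symm
  set M := Subgroup.closure ({u, v} : Set G) with hM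
  have huM : u ∈ M := Subgroup.subset_closure (Set.mem_insert _ _)
  have hvM : v ∈ M := Subgroup.subset_closure (Set.mem_insert_of_mem _ rfl)
  have hMcomm : ∀ g ∈ M, ∀ h ∈ M, g * h = h * g := by
    have hle : M ≤ Subgroup.centralizer (M : Set G) := by
      rw [hM, Subgroup.centralizer_closure, Subgroup.closure_le]
      rintro g (rfl | rfl) h (rfl | rfl)
      · rfl
      · exact hcuv.symm
      · exact hcuv
      · rfl
    intro g hg h hh
    exact (hle hg h hh).symm
  have hxu : x * u * x⁻¹ = (u * v)⁻¹ := by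
    rw [huv]
    calc x * u * x⁻¹ = (x * x) * y⁻¹ * x⁻¹ := by simp only [hu]; group
      _ = (x * y * x)⁻¹ := by rw [← hinvx]; group
  have hxv : x * v * x⁻¹ = u := by simp only [hu, hv]; group
  have hxM : ∀ m ∈ M, x * m * x⁻¹ ∈ M := by
    intro m hm
    rw [hM] at hm
    induction hm using Subgroup.closure_induction with
    | mem g hg =>
      rcases hg with rfl | rfl
      · rw [hxu]; exact M.inv_mem (M.mul_mem huM hvM)
      · rw [hxv]; exact huM
    | one => simp
    | mul g h _ _ hg hh => rw [show x * (g * h) * x⁻¹ = (x * g * x⁻¹) * (x * h * x⁻¹) by group]; exact M.mul_mem hg hh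
    | inv g _ hg => rw [show x * g⁻¹ * x⁻¹ = (x * g * x⁻¹)⁻¹ by group]; exact M.inv_mem hg
  have hyx : y = u⁻¹ * x := by simp only [hu]; group
  have hcubex : ∀ g : G, x * (x * (x * g * x⁻¹) * x⁻¹) * x⁻¹ = g := fun g => by
    calc x * (x * (x * g * x⁻¹) * x⁻¹) * x⁻¹ = (x * x * x) * g * (x * x * x)⁻¹ := by group
      _ = g := by rw [hx']; group
  letI : CommGroup M := { (inferInstance : Group M) with
    mul_comm := fun a b => Subtype.ext (hMcomm a a.2 b b.2) }
  -- conjugation by `x` on `M`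
  let c : M →* M :=
    { toFun := fun m => ⟨x * (m : G) * x⁻¹, hxM m m.2⟩
      map_one' := Subtype.ext (by simp)
      map_mul' := fun a b => Subtype.ext (by simp only [Subgroup.coe_mul]; group) }
  have hcv : ∀ m : M, ((c m : M) : G) = x * (m : G) * x⁻¹ := fun m => rfl
  have hc3 : ∀ m : M, c (c (c m)) = m := fun m => Subtype.ext (hcubex m)
  set U : M := ⟨u, huM⟩
  set V : M := ⟨v, hvM⟩
  have hcU : c U = (U * V)⁻¹ := Subtype.ext hxu
  have hcV : c V = U := Subtype.ext hxv
  by_cases h3 : 3 ∣ Nat.card M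
  · obtain ⟨z₀, hz₀⟩ := exists_prime_orderOf_dvd_card' 3 h3
    obtain ⟨z, hz, hzx⟩ : ∃ z : M, orderOf z = 3 ∧ c z = z := by
      have hz3 : z₀ ^ 3 = 1 := hz₀ ▸ pow_orderOf_eq_one z₀
      have hz1 : z₀ ≠ 1 := fun h => by rw [h, orderOf_one] at hz₀; norm_num at hz₀
      by_cases hP1 : z₀ * c z₀ * c (c z₀) = 1
      · by_cases hd : z₀ * (c z₀)⁻¹ = 1
        · exact ⟨z₀, hz₀, (mul_inv_eq_one.1 hd).symm⟩
        · refine ⟨z₀ * (c z₀)⁻¹, orderOf_eq_prime ?_ hd, ?_⟩
          · rw [mul_pow, inv_pow, ← map_pow, hz3, map_one]; simp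
          · have h2 : c (c z₀) = (z₀ * c z₀)⁻¹ := eq_inv_of_mul_eq_one_right hP1
            have h3' : (c z₀) ^ 3 = 1 := by rw [← map_pow, hz3, map_one]
            calc c (z₀ * (c z₀)⁻¹) = c z₀ * (z₀ * c z₀) := by rw [map_mul, map_inv, h2, inv_inv]
              _ = z₀ * ((c z₀) ^ 3 * (c z₀)⁻¹) := by
                rw [pow_succ, mul_inv_cancel_right, pow_two]; ac_rfl
              _ = z₀ * (c z₀)⁻¹ := by rw [h3', one_mul]
      · refine ⟨z₀ * c z₀ * c (c z₀), orderOf_eq_prime ?_ hP1, ?_⟩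
        · rw [mul_pow, mul_pow, ← map_pow, ← map_pow, ← map_pow, hz3, map_one, map_one]; simp
        · rw [map_mul, map_mul, hc3]; ac_rfl
    have hzo : orderOf (z : G) = 3 := by rw [Subgroup.orderOf_coe, hz]
    have hzc : x * (z : G) = (z : G) * x := by
      have h := congrArg Subtype.val hzx
      rw [hcv] at h
      calc x * (z : G) = x * (z : G) * x⁻¹ * x := by group
        _ = (z : G) * x := by rw [h]
    obtain ⟨k, q, hq, hkq⟩ := Nat.exists_eq_pow_mul_and_not_dvd (Nat.card_pos (α := M)).ne' 3 (by norm_num)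
    have hfix : ∀ m : M, c (m ^ 3 ^ k) = m ^ 3 ^ k := by
      intro m
      set m₀ := m ^ 3 ^ k
      have ho : (orderOf (m₀ : G)).Coprime 3 := by
        rw [Subgroup.orderOf_coe]
        refine Nat.Coprime.coprime_dvd_left (orderOf_dvd_of_pow_eq_one ?_)
          (((Nat.prime_three.coprime_iff_not_dvd).2 hq).symm)
        rw [← pow_mul, ← hkq, pow_card_eq_one']
      have h := hc z x (m₀ : G) hzo hx3 hzc (hMcomm _ m₀.2 _ z.2) ho
        (hMcomm _ m₀.2 _ (hxM _ m₀.2))
      refine Subtype.ext ?_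
      rw [hcv, ← h]; group
    have hUV : V ^ 3 ^ k = U ^ 3 ^ k := by
      rw [← hfix V, map_pow, hcV]
    have hU : U ^ 3 ^ k = 1 := by
      have h1 := hfix U
      rw [map_pow, hcU, inv_pow, mul_pow, hUV] at h1
      have h2 : (U ^ 3 ^ k) ^ 3 = 1 := by
        rw [pow_succ, pow_two]
        calc U ^ 3 ^ k * U ^ 3 ^ k * U ^ 3 ^ k = U ^ 3 ^ k * U ^ 3 ^ k * (U ^ 3 ^ k * U ^ 3 ^ k)⁻¹ :=
              congrArg (U ^ 3 ^ k * U ^ 3 ^ k * ·) h1.symm
          _ = 1 := mul_inv_cancel _
      have h4 : (U ^ 3 ^ k) ^ q = 1 := by rw [← pow_mul, ← hkq, pow_card_eq_one']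
      have := (pow_gcd_eq_one).2 ⟨h2, h4⟩
      rwa [(Nat.prime_three.coprime_iff_not_dvd).2 hq, pow_one] at this
    have hM3 : IsPGroup 3 M := by
      have hall : ∀ g ∈ M, ∀ hg : g ∈ M, (⟨g, hg⟩ : M) ^ 3 ^ k = 1 := by
        intro g hg
        rw [hM] at hg
        induction hg using Subgroup.closure_induction with
        | mem g hg =>
          rcases hg with rfl | rfl
          · exact fun _ => hU
          · exact fun _ => hUV.trans hU
        | one => exact fun _ => one_pow _
        | mul g h hg' hh' hg hh =>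
          intro hgh
          rw [show (⟨g * h, hgh⟩ : M) = ⟨g, hg'⟩ * ⟨h, hh'⟩ from rfl, mul_pow, hg, hh, one_mul]
        | inv g hg' hg =>
          intro hgi
          rw [show (⟨g⁻¹, hgi⟩ : M) = (⟨g, hg'⟩ : M)⁻¹ from rfl, inv_pow, hg, inv_one]
      exact fun m => ⟨k, hall m m.2 m.2⟩
    have hzN : Subgroup.zpowers x ≤ Subgroup.normalizer (M : Set G) := by
      rw [Subgroup.zpowers_le, Subgroup.mem_normalizer_iff]
      intro m
      refine ⟨hxM m, fun h => ?_⟩
      have h2 := hxM _ (hxM _ h)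
      rwa [hcubex] at h2
    have hzp : IsPGroup 3 (Subgroup.zpowers x) :=
      IsPGroup.of_card (n := 1) (by rw [Nat.card_zpowers, hx, pow_one])
    have hQ : IsPGroup 3 ↥(M ⊔ Subgroup.zpowers x) := hM3.to_sup_of_normal_left' hzp hzN
    refine hP _ hQ x (Subgroup.mem_sup_right (Subgroup.mem_zpowers x)) y ?_
    rw [hyx]
    exact Subgroup.mul_mem _ (Subgroup.inv_mem _ (Subgroup.mem_sup_left huM))
      (Subgroup.mem_sup_right (Subgroup.mem_zpowers x))
  · exfalso
    have hcop : (Nat.card M).Coprime 3 := ((Nat.prime_three.coprime_iff_not_dvd).2 h3).symm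
    obtain ⟨s, hs⟩ := (powCoprime hcop).surjective U⁻¹
    have hs3 : s ^ 3 = U⁻¹ := hs
    have hnorm : s * c s * c (c s) = 1 := by
      have h : (s * c s * c (c s)) ^ 3 = 1 := by
        have hccU : c (c U) = V := by
          rw [hcU, map_inv, map_mul, hcU, hcV]; simp
        rw [mul_pow, mul_pow, ← map_pow, ← map_pow, ← map_pow, hs3, map_inv, map_inv, hccU, hcU, inv_inv,
          inv_mul_cancel_left, mul_inv_cancel]
      exact (powCoprime hcop).injective (by simpa using h)
    refine hne (isConj_iff.2 ⟨((s * s * c s : M) : G), ?_⟩)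
    have hkey : (s * s * c s) * (c (s * s * c s))⁻¹ = U⁻¹ := by
      rw [← hs3, map_mul, map_mul, show c (c s) = (s * c s)⁻¹ from eq_inv_of_mul_eq_one_right hnorm]
      simp only [mul_inv_rev, inv_inv, pow_succ, pow_zero, one_mul]
      calc s * s * c s * (s * c s * ((c s)⁻¹ * (c s)⁻¹)) = s * s * c s * (s * (c s)⁻¹) := by
            rw [mul_assoc s (c s), mul_inv_cancel_left]
        _ = s * s * s * (c s * (c s)⁻¹) := by ac_rfl
        _ = s * s * s := by rw [mul_inv_cancel, mul_one]
    have h := congrArg Subtype.val hkey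
    simp only [Subgroup.coe_mul, Subgroup.coe_inv, hcv] at h
    rw [hyx]
    calc _ = ((s * s * c s : M) : G) * (x * ((s * s * c s : M) : G) * x⁻¹)⁻¹ * x := by group
      _ = u⁻¹ * x := by
        simp only [Subgroup.coe_mul, hcv]
        rw [h]

end Cfsg.Agent.Recognition.Triangle
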