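import Mathlib

/-!
Coset enumeration for the triangle group (2, 3, 5): at most sixty elements.
-/

set_option autoImplicit false

namespace Cfsg.Agent.Recognition.TriangleTwoThreeFive

variable {Q : Type*} [Group Q]

theorem chain3_2_1 {c a b d u v : Q} (h : c * a * b * d = c) (e1 : c * a = u) (e2 : u * b = v) : v * d = c := by
  rw [e1, e2] at h; exact h

theorem chain3_1_1 {c a b d u : Q} (h : c * a * b * d = c) (e1 : c * a = u) : u * b * d = c := by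
  rw [e1] at h; exact h

theorem chain4_2_1 {c a b d f u v : Q} (h : c * a * b * d * f = c) (e1 : c * a = u) (e2 : u * b = v) :
    v * d * f = c := by
  rw [e1, e2] at h; exact h

theorem chain4_1_1 {c a b d f u : Q} (h : c * a * b * d * f = c) (e1 : c * a = u) : u * b * d * f = c := by
  rw [e1] at h; exact h

theorem chain5_4_1 {c a b d f g u v w z : Q} (h : c * a * b * d * f * g = c) (e1 : c * a = u) (e2 : u * b = v)
    (e3 : v * d = w) (e4 : w * f = z) : z * g = c := by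
  rw [e1, e2, e3, e4] at h; exact h

theorem chain5_3_1 {c a b d f g u v w : Q} (h : c * a * b * d * f * g = c) (e1 : c * a = u) (e2 : u * b = v)
    (e3 : v * d = w) : w * f * g = c := by
  rw [e1, e2, e3] at h; exact h

theorem chain5_2_1 {c a b d f g u v : Q} (h : c * a * b * d * f * g = c) (e1 : c * a = u) (e2 : u * b = v) :
    v * d * f * g = c := by
  rw [e1, e2] at h; exact h

theorem chain5_1_1 {c a b d f g u : Q} (h : c * a * b * d * f * g = c) (e1 : c * a = u) :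
    u * b * d * f * g = c := by
  rw [e1] at h; exact h

theorem cancel1 {A t b c : Q} (h : A * t = c) (e : b * t = c) : A = b := mul_right_cancel (h.trans e.symm)

theorem cancel2 {A s t b b' c : Q} (h : A * s * t = c) (e1 : b * s = b') (e2 : b' * t = c) : A = b :=
  cancel1 (cancel1 h e2) e1

theorem cancel3 {A r s t b b' b'' c : Q} (h : A * r * s * t = c) (e1 : b * r = b') (e2 : b' * s = b'')
    (e3 : b'' * t = c) : A = b :=
  cancel2 (cancel1 h e3) e1 e2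

theorem exists_closed (x y : Q) (hx : x * x * x = 1) (hy : y * y * y * y * y = 1) (hxy : x * y * x * y = 1) :
    ∃ S : Finset Q, S.card ≤ 60 ∧ (1 : Q) ∈ S ∧ ∀ s ∈ S, s * x ∈ S ∧ s * y ∈ S := by
  classical
  have hxc : ∀ c : Q, c * x * x * x = c := fun c => by rw [mul_assoc c x, mul_assoc c (x * x), hx, mul_one]
  have hyc : ∀ c : Q, c * y * y * y * y * y = c := fun c => by
    rw [show c * y * y * y * y * y = c * (y * y * y * y * y) by simp only [mul_assoc], hy, mul_one]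
  have hxyc : ∀ c : Q, c * x * y * x * y = c := fun c => by
    rw [show c * x * y * x * y = c * (x * y * x * y) by simp only [mul_assoc], hxy, mul_one]
  obtain ⟨r1, e1⟩ : ∃ r, (1 : Q) * x = r := ⟨_, rfl⟩
  obtain ⟨r2, e2⟩ : ∃ r, r1 * x = r := ⟨_, rfl⟩
  have e3 : r2 * x = (1 : Q) := (chain3_2_1 (hxc (1 : Q)) e1 e2)
  obtain ⟨r3, e4⟩ : ∃ r, (1 : Q) * y = r := ⟨_, rfl⟩
  obtain ⟨r4, e5⟩ : ∃ r, r3 * y = r := ⟨_, rfl⟩
  obtain ⟨r5, e6⟩ : ∃ r, r4 * y = r := ⟨_, rfl⟩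
  obtain ⟨r6, e7⟩ : ∃ r, r5 * y = r := ⟨_, rfl⟩
  have e8 : r6 * y = (1 : Q) := (chain5_4_1 (hyc (1 : Q)) e4 e5 e6 e7)
  obtain ⟨r7, e9⟩ : ∃ r, r1 * y = r := ⟨_, rfl⟩
  have e10 : r7 * x = r6 := cancel1 (chain4_2_1 (hxyc (1 : Q)) e1 e9) e8
  obtain ⟨r8, e11⟩ : ∃ r, r7 * y = r := ⟨_, rfl⟩
  obtain ⟨r9, e12⟩ : ∃ r, r8 * y = r := ⟨_, rfl⟩
  obtain ⟨r10, e13⟩ : ∃ r, r9 * y = r := ⟨_, rfl⟩
  have e14 : r10 * y = r1 := (chain5_4_1 (hyc r1) e9 e11 e12 e13)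
  obtain ⟨r11, e15⟩ : ∃ r, r2 * y = r := ⟨_, rfl⟩
  have e16 : r11 * x = r10 := cancel1 (chain4_2_1 (hxyc r1) e2 e15) e14
  obtain ⟨r12, e17⟩ : ∃ r, r11 * y = r := ⟨_, rfl⟩
  obtain ⟨r13, e18⟩ : ∃ r, r12 * y = r := ⟨_, rfl⟩
  obtain ⟨r14, e19⟩ : ∃ r, r13 * y = r := ⟨_, rfl⟩
  have e20 : r14 * y = r2 := (chain5_4_1 (hyc r2) e15 e17 e18 e19)
  have e21 : r3 * x = r14 := cancel1 (chain4_2_1 (hxyc r2) e3 e4) e20
  obtain ⟨r15, e22⟩ : ∃ r, r14 * x = r := ⟨_, rfl⟩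
  have e23 : r15 * x = r3 := (chain3_2_1 (hxc r3) e21 e22)
  obtain ⟨r16, e24⟩ : ∃ r, r4 * x = r := ⟨_, rfl⟩
  obtain ⟨r17, e25⟩ : ∃ r, r16 * x = r := ⟨_, rfl⟩
  have e26 : r17 * x = r4 := (chain3_2_1 (hxc r4) e24 e25)
  have e27 : r16 * y = r15 := cancel2 (chain4_1_1 (hxyc r4) e24) e23 e5
  obtain ⟨r18, e28⟩ : ∃ r, r5 * x = r := ⟨_, rfl⟩
  obtain ⟨r19, e29⟩ : ∃ r, r18 * x = r := ⟨_, rfl⟩
  have e30 : r19 * x = r5 := (chain3_2_1 (hxc r5) e28 e29)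
  have e31 : r18 * y = r17 := cancel2 (chain4_1_1 (hxyc r5) e28) e26 e6
  obtain ⟨r20, e32⟩ : ∃ r, r6 * x = r := ⟨_, rfl⟩
  have e33 : r20 * x = r7 := cancel1 (chain3_1_1 (hxc r6) e32) e10
  have e34 : r20 * y = r19 := cancel2 (chain4_1_1 (hxyc r6) e32) e30 e7
  obtain ⟨r21, e35⟩ : ∃ r, r8 * x = r := ⟨_, rfl⟩
  obtain ⟨r22, e36⟩ : ∃ r, r21 * x = r := ⟨_, rfl⟩
  have e37 : r22 * x = r8 := (chain3_2_1 (hxc r8) e35 e36)
  have e38 : r21 * y = r20 := cancel2 (chain4_1_1 (hxyc r8) e35) e33 e11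
  obtain ⟨r23, e39⟩ : ∃ r, r9 * x = r := ⟨_, rfl⟩
  obtain ⟨r24, e40⟩ : ∃ r, r23 * x = r := ⟨_, rfl⟩
  have e41 : r24 * x = r9 := (chain3_2_1 (hxc r9) e39 e40)
  have e42 : r23 * y = r22 := cancel2 (chain4_1_1 (hxyc r9) e39) e37 e12
  obtain ⟨r25, e43⟩ : ∃ r, r10 * x = r := ⟨_, rfl⟩
  have e44 : r25 * x = r11 := cancel1 (chain3_1_1 (hxc r10) e43) e16
  have e45 : r25 * y = r24 := cancel2 (chain4_1_1 (hxyc r10) e43) e41 e13
  obtain ⟨r26, e46⟩ : ∃ r, r12 * x = r := ⟨_, rfl⟩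
  obtain ⟨r27, e47⟩ : ∃ r, r26 * x = r := ⟨_, rfl⟩
  have e48 : r27 * x = r12 := (chain3_2_1 (hxc r12) e46 e47)
  have e49 : r26 * y = r25 := cancel2 (chain4_1_1 (hxyc r12) e46) e44 e17
  obtain ⟨r28, e50⟩ : ∃ r, r13 * x = r := ⟨_, rfl⟩
  obtain ⟨r29, e51⟩ : ∃ r, r28 * x = r := ⟨_, rfl⟩
  have e52 : r29 * x = r13 := (chain3_2_1 (hxc r13) e50 e51)
  have e53 : r28 * y = r27 := cancel2 (chain4_1_1 (hxyc r13) e50) e48 e18
  have e54 : r15 * y = r29 := cancel2 (chain4_1_1 (hxyc r14) e22) e52 e19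
  obtain ⟨r30, e55⟩ : ∃ r, r29 * y = r := ⟨_, rfl⟩
  obtain ⟨r31, e56⟩ : ∃ r, r30 * y = r := ⟨_, rfl⟩
  have e57 : r31 * y = r16 := cancel1 (chain5_3_1 (hyc r15) e54 e55 e56) e27
  obtain ⟨r32, e58⟩ : ∃ r, r17 * y = r := ⟨_, rfl⟩
  have e59 : r32 * x = r31 := cancel1 (chain4_2_1 (hxyc r16) e25 e58) e57
  obtain ⟨r33, e60⟩ : ∃ r, r32 * y = r := ⟨_, rfl⟩
  obtain ⟨r34, e61⟩ : ∃ r, r33 * y = r := ⟨_, rfl⟩
  have e62 : r34 * y = r18 := cancel1 (chain5_3_1 (hyc r17) e58 e60 e61) e31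
  obtain ⟨r35, e63⟩ : ∃ r, r19 * y = r := ⟨_, rfl⟩
  have e64 : r35 * x = r34 := cancel1 (chain4_2_1 (hxyc r18) e29 e63) e62
  obtain ⟨r36, e65⟩ : ∃ r, r35 * y = r := ⟨_, rfl⟩
  have e66 : r36 * y = r21 := cancel2 (chain5_2_1 (hyc r19) e63 e65) e38 e34
  obtain ⟨r37, e67⟩ : ∃ r, r22 * y = r := ⟨_, rfl⟩
  have e68 : r37 * x = r36 := cancel1 (chain4_2_1 (hxyc r21) e36 e67) e66
  obtain ⟨r38, e69⟩ : ∃ r, r37 * y = r := ⟨_, rfl⟩
  obtain ⟨r39, e70⟩ : ∃ r, r38 * y = r := ⟨_, rfl⟩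
  have e71 : r39 * y = r23 := cancel1 (chain5_3_1 (hyc r22) e67 e69 e70) e42
  obtain ⟨r40, e72⟩ : ∃ r, r24 * y = r := ⟨_, rfl⟩
  have e73 : r40 * x = r39 := cancel1 (chain4_2_1 (hxyc r23) e40 e72) e71
  obtain ⟨r41, e74⟩ : ∃ r, r40 * y = r := ⟨_, rfl⟩
  have e75 : r41 * y = r26 := cancel2 (chain5_2_1 (hyc r24) e72 e74) e49 e45
  obtain ⟨r42, e76⟩ : ∃ r, r27 * y = r := ⟨_, rfl⟩
  have e77 : r42 * x = r41 := cancel1 (chain4_2_1 (hxyc r26) e47 e76) e75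
  obtain ⟨r43, e78⟩ : ∃ r, r42 * y = r := ⟨_, rfl⟩
  obtain ⟨r44, e79⟩ : ∃ r, r43 * y = r := ⟨_, rfl⟩
  have e80 : r44 * y = r28 := cancel1 (chain5_3_1 (hyc r27) e76 e78 e79) e53
  have e81 : r30 * x = r44 := cancel1 (chain4_2_1 (hxyc r28) e51 e55) e80
  obtain ⟨r45, e82⟩ : ∃ r, r44 * x = r := ⟨_, rfl⟩
  have e83 : r45 * x = r30 := (chain3_2_1 (hxc r30) e81 e82)
  obtain ⟨r46, e84⟩ : ∃ r, r31 * x = r := ⟨_, rfl⟩
  have e85 : r46 * x = r32 := cancel1 (chain3_1_1 (hxc r31) e84) e59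
  have e86 : r46 * y = r45 := cancel2 (chain4_1_1 (hxyc r31) e84) e83 e56
  obtain ⟨r47, e87⟩ : ∃ r, r33 * x = r := ⟨_, rfl⟩
  obtain ⟨r48, e88⟩ : ∃ r, r47 * x = r := ⟨_, rfl⟩
  have e89 : r48 * x = r33 := (chain3_2_1 (hxc r33) e87 e88)
  have e90 : r47 * y = r46 := cancel2 (chain4_1_1 (hxyc r33) e87) e85 e60
  obtain ⟨r49, e91⟩ : ∃ r, r34 * x = r := ⟨_, rfl⟩
  have e92 : r49 * x = r35 := cancel1 (chain3_1_1 (hxc r34) e91) e64
  have e93 : r49 * y = r48 := cancel2 (chain4_1_1 (hxyc r34) e91) e89 e61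
  obtain ⟨r50, e94⟩ : ∃ r, r36 * x = r := ⟨_, rfl⟩
  have e95 : r50 * x = r37 := cancel1 (chain3_1_1 (hxc r36) e94) e68
  have e96 : r50 * y = r49 := cancel2 (chain4_1_1 (hxyc r36) e94) e92 e65
  obtain ⟨r51, e97⟩ : ∃ r, r38 * x = r := ⟨_, rfl⟩
  obtain ⟨r52, e98⟩ : ∃ r, r51 * x = r := ⟨_, rfl⟩
  have e99 : r52 * x = r38 := (chain3_2_1 (hxc r38) e97 e98)
  have e100 : r51 * y = r50 := cancel2 (chain4_1_1 (hxyc r38) e97) e95 e69
  obtain ⟨r53, e101⟩ : ∃ r, r39 * x = r := ⟨_, rfl⟩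
  have e102 : r53 * x = r40 := cancel1 (chain3_1_1 (hxc r39) e101) e73
  have e103 : r53 * y = r52 := cancel2 (chain4_1_1 (hxyc r39) e101) e99 e70
  obtain ⟨r54, e104⟩ : ∃ r, r41 * x = r := ⟨_, rfl⟩
  have e105 : r54 * x = r42 := cancel1 (chain3_1_1 (hxc r41) e104) e77
  have e106 : r54 * y = r53 := cancel2 (chain4_1_1 (hxyc r41) e104) e102 e74
  obtain ⟨r55, e107⟩ : ∃ r, r43 * x = r := ⟨_, rfl⟩
  obtain ⟨r56, e108⟩ : ∃ r, r55 * x = r := ⟨_, rfl⟩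
  have e109 : r56 * x = r43 := (chain3_2_1 (hxc r43) e107 e108)
  have e110 : r55 * y = r54 := cancel2 (chain4_1_1 (hxyc r43) e107) e105 e78
  have e111 : r45 * y = r56 := cancel2 (chain4_1_1 (hxyc r44) e82) e109 e79
  obtain ⟨r57, e112⟩ : ∃ r, r56 * y = r := ⟨_, rfl⟩
  have e113 : r57 * y = r47 := cancel2 (chain5_2_1 (hyc r45) e111 e112) e90 e86
  obtain ⟨r58, e114⟩ : ∃ r, r48 * y = r := ⟨_, rfl⟩
  have e115 : r58 * x = r57 := cancel1 (chain4_2_1 (hxyc r47) e88 e114) e113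
  have e116 : r58 * y = r51 := cancel3 (chain5_1_1 (hyc r48) e114) e100 e96 e93
  obtain ⟨r59, e117⟩ : ∃ r, r52 * y = r := ⟨_, rfl⟩
  have e118 : r59 * x = r58 := cancel1 (chain4_2_1 (hxyc r51) e98 e117) e116
  have e119 : r59 * y = r55 := cancel3 (chain5_1_1 (hyc r52) e117) e110 e106 e103
  have e120 : r57 * x = r59 := cancel1 (chain4_2_1 (hxyc r55) e108 e112) e119
  let T : List Q := [(1 : Q), r1, r2, r3, r4, r5, r6, r7, r8, r9, r10, r11, r12, r13, r14, r15, r16, r17, r18, r19, r20, r21, r22, r23, r24, r25, r26, r27, r28, r29, r30, r31, r32, r33, r34, r35, r36, r37, r38, r39, r40, r41, r42, r43, r44, r45, r46, r47, r48, r49, r50, r51, r52, r53, r54, r55, r56, r57, r58, r59]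
  have hT : ∀ n, n < 60 → T.getD n 1 ∈ T.toFinset := by
    intro n hn
    rw [List.mem_toFinset, List.getD_eq_getElem _ _ (by exact hn)]
    exact List.getElem_mem _
  refine ⟨T.toFinset, (List.toFinset_card_le _).trans (le_of_eq rfl), hT 0 (by norm_num), fun s hs => ?_⟩
  rw [List.mem_toFinset] at hs
  simp only [T, List.mem_cons, List.not_mem_nil, or_false] at hs
  rcases hs with h | h | h | h | h | h | h | h | h | h | h | h | h | h | h | h | h | h | h | h | h | h | h | h | h | h | h | h | h | h | h | h | h | h | h | h | h | h | h | h | h | h | h | h | h | h | h | h | h | h | h | h | h | h | h | h | h | h | h | h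
  · subst h; exact ⟨e1.symm ▸ hT 1 (by norm_num), e4.symm ▸ hT 3 (by norm_num)⟩
  · subst h; exact ⟨e2.symm ▸ hT 2 (by norm_num), e9.symm ▸ hT 7 (by norm_num)⟩
  · subst h; exact ⟨e3.symm ▸ hT 0 (by norm_num), e15.symm ▸ hT 11 (by norm_num)⟩
  · subst h; exact ⟨e21.symm ▸ hT 14 (by norm_num), e5.symm ▸ hT 4 (by norm_num)⟩
  · subst h; exact ⟨e24.symm ▸ hT 16 (by norm_num), e6.symm ▸ hT 5 (by norm_num)⟩
  · subst h; exact ⟨e28.symm ▸ hT 18 (by norm_num), e7.symm ▸ hT 6 (by norm_num)⟩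
  · subst h; exact ⟨e32.symm ▸ hT 20 (by norm_num), e8.symm ▸ hT 0 (by norm_num)⟩
  · subst h; exact ⟨e10.symm ▸ hT 6 (by norm_num), e11.symm ▸ hT 8 (by norm_num)⟩
  · subst h; exact ⟨e35.symm ▸ hT 21 (by norm_num), e12.symm ▸ hT 9 (by norm_num)⟩
  · subst h; exact ⟨e39.symm ▸ hT 23 (by norm_num), e13.symm ▸ hT 10 (by norm_num)⟩
  · subst h; exact ⟨e43.symm ▸ hT 25 (by norm_num), e14.symm ▸ hT 1 (by norm_num)⟩
  · subst h; exact ⟨e16.symm ▸ hT 10 (by norm_num), e17.symm ▸ hT 12 (by norm_num)⟩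
  · subst h; exact ⟨e46.symm ▸ hT 26 (by norm_num), e18.symm ▸ hT 13 (by norm_num)⟩
  · subst h; exact ⟨e50.symm ▸ hT 28 (by norm_num), e19.symm ▸ hT 14 (by norm_num)⟩
  · subst h; exact ⟨e22.symm ▸ hT 15 (by norm_num), e20.symm ▸ hT 2 (by norm_num)⟩
  · subst h; exact ⟨e23.symm ▸ hT 3 (by norm_num), e54.symm ▸ hT 29 (by norm_num)⟩
  · subst h; exact ⟨e25.symm ▸ hT 17 (by norm_num), e27.symm ▸ hT 15 (by norm_num)⟩
  · subst h; exact ⟨e26.symm ▸ hT 4 (by norm_num), e58.symm ▸ hT 32 (by norm_num)⟩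
  · subst h; exact ⟨e29.symm ▸ hT 19 (by norm_num), e31.symm ▸ hT 17 (by norm_num)⟩
  · subst h; exact ⟨e30.symm ▸ hT 5 (by norm_num), e63.symm ▸ hT 35 (by norm_num)⟩
  · subst h; exact ⟨e33.symm ▸ hT 7 (by norm_num), e34.symm ▸ hT 19 (by norm_num)⟩
  · subst h; exact ⟨e36.symm ▸ hT 22 (by norm_num), e38.symm ▸ hT 20 (by norm_num)⟩
  · subst h; exact ⟨e37.symm ▸ hT 8 (by norm_num), e67.symm ▸ hT 37 (by norm_num)⟩
  · subst h; exact ⟨e40.symm ▸ hT 24 (by norm_num), e42.symm ▸ hT 22 (by norm_num)⟩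
  · subst h; exact ⟨e41.symm ▸ hT 9 (by norm_num), e72.symm ▸ hT 40 (by norm_num)⟩
  · subst h; exact ⟨e44.symm ▸ hT 11 (by norm_num), e45.symm ▸ hT 24 (by norm_num)⟩
  · subst h; exact ⟨e47.symm ▸ hT 27 (by norm_num), e49.symm ▸ hT 25 (by norm_num)⟩
  · subst h; exact ⟨e48.symm ▸ hT 12 (by norm_num), e76.symm ▸ hT 42 (by norm_num)⟩
  · subst h; exact ⟨e51.symm ▸ hT 29 (by norm_num), e53.symm ▸ hT 27 (by norm_num)⟩
  · subst h; exact ⟨e52.symm ▸ hT 13 (by norm_num), e55.symm ▸ hT 30 (by norm_num)⟩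
  · subst h; exact ⟨e81.symm ▸ hT 44 (by norm_num), e56.symm ▸ hT 31 (by norm_num)⟩
  · subst h; exact ⟨e84.symm ▸ hT 46 (by norm_num), e57.symm ▸ hT 16 (by norm_num)⟩
  · subst h; exact ⟨e59.symm ▸ hT 31 (by norm_num), e60.symm ▸ hT 33 (by norm_num)⟩
  · subst h; exact ⟨e87.symm ▸ hT 47 (by norm_num), e61.symm ▸ hT 34 (by norm_num)⟩
  · subst h; exact ⟨e91.symm ▸ hT 49 (by norm_num), e62.symm ▸ hT 18 (by norm_num)⟩
  · subst h; exact ⟨e64.symm ▸ hT 34 (by norm_num), e65.symm ▸ hT 36 (by norm_num)⟩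
  · subst h; exact ⟨e94.symm ▸ hT 50 (by norm_num), e66.symm ▸ hT 21 (by norm_num)⟩
  · subst h; exact ⟨e68.symm ▸ hT 36 (by norm_num), e69.symm ▸ hT 38 (by norm_num)⟩
  · subst h; exact ⟨e97.symm ▸ hT 51 (by norm_num), e70.symm ▸ hT 39 (by norm_num)⟩
  · subst h; exact ⟨e101.symm ▸ hT 53 (by norm_num), e71.symm ▸ hT 23 (by norm_num)⟩
  · subst h; exact ⟨e73.symm ▸ hT 39 (by norm_num), e74.symm ▸ hT 41 (by norm_num)⟩
  · subst h; exact ⟨e104.symm ▸ hT 54 (by norm_num), e75.symm ▸ hT 26 (by norm_num)⟩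
  · subst h; exact ⟨e77.symm ▸ hT 41 (by norm_num), e78.symm ▸ hT 43 (by norm_num)⟩
  · subst h; exact ⟨e107.symm ▸ hT 55 (by norm_num), e79.symm ▸ hT 44 (by norm_num)⟩
  · subst h; exact ⟨e82.symm ▸ hT 45 (by norm_num), e80.symm ▸ hT 28 (by norm_num)⟩
  · subst h; exact ⟨e83.symm ▸ hT 30 (by norm_num), e111.symm ▸ hT 56 (by norm_num)⟩
  · subst h; exact ⟨e85.symm ▸ hT 32 (by norm_num), e86.symm ▸ hT 45 (by norm_num)⟩
  · subst h; exact ⟨e88.symm ▸ hT 48 (by norm_num), e90.symm ▸ hT 46 (by norm_num)⟩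
  · subst h; exact ⟨e89.symm ▸ hT 33 (by norm_num), e114.symm ▸ hT 58 (by norm_num)⟩
  · subst h; exact ⟨e92.symm ▸ hT 35 (by norm_num), e93.symm ▸ hT 48 (by norm_num)⟩
  · subst h; exact ⟨e95.symm ▸ hT 37 (by norm_num), e96.symm ▸ hT 49 (by norm_num)⟩
  · subst h; exact ⟨e98.symm ▸ hT 52 (by norm_num), e100.symm ▸ hT 50 (by norm_num)⟩
  · subst h; exact ⟨e99.symm ▸ hT 38 (by norm_num), e117.symm ▸ hT 59 (by norm_num)⟩
  · subst h; exact ⟨e102.symm ▸ hT 40 (by norm_num), e103.symm ▸ hT 52 (by norm_num)⟩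
  · subst h; exact ⟨e105.symm ▸ hT 42 (by norm_num), e106.symm ▸ hT 53 (by norm_num)⟩
  · subst h; exact ⟨e108.symm ▸ hT 56 (by norm_num), e110.symm ▸ hT 54 (by norm_num)⟩
  · subst h; exact ⟨e109.symm ▸ hT 43 (by norm_num), e112.symm ▸ hT 57 (by norm_num)⟩
  · subst h; exact ⟨e120.symm ▸ hT 59 (by norm_num), e113.symm ▸ hT 47 (by norm_num)⟩
  · subst h; exact ⟨e115.symm ▸ hT 57 (by norm_num), e116.symm ▸ hT 51 (by norm_num)⟩
  · subst h; exact ⟨e118.symm ▸ hT 58 (by norm_num), e119.symm ▸ hT 55 (by norm_num)⟩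

end Cfsg.Agent.Recognition.TriangleTwoThreeFive
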