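import Mathlib
import Cfsg.Agent.Recognition.Extension

/-!
The part of a regular module on which a given central element acts as `-1`.
-/

set_option autoImplicit false

namespace Cfsg.Agent.Recognition.TwistedModule

open Cfsg.Agent.Recognition.Extension

universe u

variable {L : Type u} [Group L] (z : L) (r : ℕ)

/-- Functions `f` with `f (z * x) = - f x`. -/
def twisted : AddSubgroup (L → ZMod r) where
  carrier := {f | ∀ x, f (z * x) = -f x}
  zero_mem' := fun x => by simp
  add_mem' := fun {f g} hf hg x => by simp [hf x, hg x, add_comm]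
  neg_mem' := fun {f} hf x => by simp [hf x]

variable {z r}

section delta

variable [DecidableEq L]

/-- The function `δ₁ - δ_z`. -/
def delta (hz2 : z * z = 1) (hz1 : z ≠ 1) : Multiplicative (twisted z r) :=
  Multiplicative.ofAdd ⟨fun x => if x = 1 then 1 else if x = z then -1 else 0, by
    intro x
    show (if z * x = 1 then (1 : ZMod r) else if z * x = z then -1 else 0) =
      -(if x = 1 then (1 : ZMod r) else if x = z then -1 else 0)
    by_cases h1 : x = 1
    · subst h1; simp [hz1]
    by_cases h2 : x = z
    · subst h2; simp [hz2, hz1]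
    have e1 : z * x ≠ 1 := fun h => h2 (by
      calc x = z * (z * x) := by rw [← mul_assoc, hz2, one_mul]
        _ = z := by rw [h, mul_one])
    have e2 : z * x ≠ z := fun h => h1 (mul_left_cancel (h.trans (mul_one z).symm))
    simp [h1, h2, e1, e2]⟩

theorem delta_one (hz2 : z * z = 1) (hz1 : z ≠ 1) :
    ((delta (r := r) hz2 hz1).toAdd : L → ZMod r) 1 = 1 := if_pos rfl

theorem delta_other (hz2 : z * z = 1) (hz1 : z ≠ 1) {x : L} (h1 : x ≠ 1) (h2 : x ≠ z) :
    ((delta (r := r) hz2 hz1).toAdd : L → ZMod r) x = 0 :=
  (if_neg h1).trans (if_neg h2)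

end delta

variable (hz : ∀ g : L, g * z = z * g)

include hz in
theorem translate_mem (g : L) (f : twisted z r) :
    (fun x => (f : L → ZMod r) (g⁻¹ * x)) ∈ twisted z r := by
  intro x
  show (f : L → ZMod r) (g⁻¹ * (z * x)) = -_
  rw [← mul_assoc, hz g⁻¹, mul_assoc]
  exact f.2 _

/-- Left translation. -/
def translate : L →* MulAut (Multiplicative (twisted z r)) where
  toFun g :=
    { toFun := fun f => Multiplicative.ofAdd ⟨_, translate_mem hz g f.toAdd⟩
      invFun := fun f => Multiplicative.ofAdd ⟨_, translate_mem hz g⁻¹ f.toAdd⟩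
      left_inv := fun f => by
        apply Multiplicative.toAdd.injective; apply Subtype.ext; funext x; simp [← mul_assoc]
      right_inv := fun f => by
        apply Multiplicative.toAdd.injective; apply Subtype.ext; funext x; simp [← mul_assoc]
      map_mul' := fun f f' => by
        apply Multiplicative.toAdd.injective; apply Subtype.ext; funext x; simp }
  map_one' := by
    apply MulEquiv.ext; intro f
    apply Multiplicative.toAdd.injective; apply Subtype.ext; funext x; simp
  map_mul' a b := by
    apply MulEquiv.ext; intro f
    apply Multiplicative.toAdd.injective; apply Subtype.ext; funext x; simp [mul_assoc]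

theorem translate_apply (g : L) (f : Multiplicative (twisted z r)) (x : L) :
    ((translate hz g f).toAdd : L → ZMod r) x = (f.toAdd : L → ZMod r) (g⁻¹ * x) := rfl

theorem pow_eq_one' (f : Multiplicative (twisted z r)) : f ^ r = 1 := by
  apply Multiplicative.toAdd.injective
  apply Subtype.ext
  funext x
  simp [toAdd_pow]

/-- If a power of `g` is `z`, then `g` has no non-trivial fixed points. -/
theorem fpf_of_pow_eq (hr : Nat.Coprime 2 r) {g : L} {k : ℕ} (hk : g ^ k = z) :
    Fpf (translate (r := r) hz) g := by
  refine Fpf.of_pow (n := k) ?_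
  rw [hk]
  intro f hf
  apply Multiplicative.toAdd.injective
  apply Subtype.ext
  funext x
  set y := z⁻¹ * x with hy
  have h1 := congrArg (fun t : Multiplicative (twisted z r) => (t.toAdd : L → ZMod r) x) hf
  simp only [translate_apply] at h1
  have h2 := f.toAdd.2 y
  rw [hy, mul_inv_cancel_left, ← hy, h1] at h2
  have h3 : ((2 : ℕ) : ZMod r) * (f.toAdd : L → ZMod r) x = 0 := by
    push_cast
    linear_combination h2
  have h4 := (ZMod.isUnit_iff_coprime 2 r).2 hr
  simpa using h4.mul_right_eq_zero.1 h3

end Cfsg.Agent.Recognition.TwistedModule
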